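import Mathlib
import Cfsg.Agent.Omega.TwoF.RowM12_m3
import Cfsg.Agent.OddHalf.Small.PSp43
import Cfsg.Agent.S0765
import Cfsg.Agent.ClassicalGeometry.SympBasic
import Cfsg.Agent.KFacts.MM.OutC_m3
import Cfsg.Agent.LargeExtra.W2.U43.CertAll_m3
import Cfsg.Agent.LargeExtra.W2.U43.Main
import Cfsg.Agent.OddHalf.D4.Small.LFourDef_m3
import Cfsg.Agent.OddHalf.Quat.Classical_m3
import Cfsg.Agent.OddHalf.D4.En2.Kill_mg_m3
import Cfsg.Agent.OddHalf.D4.Rk2.Row_m3
import Cfsg.Agent.OddHalf.CaseM.NIOf_m3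
import Cfsg.Agent.OddHalf.D4.Spor.MTwentyFour_m3
import Cfsg.Agent.TitsThree.KSideA
import Cfsg.Agent.OddHalf.D9.FFour.Out_m3
import Cfsg.Agent.OddHalf.D8.RuFam.PlaneRu_m3
import Cfsg.Agent.KFacts.SLRow.Psl
import Cfsg.Agent.OddHalf.SL.Index
import Cfsg.Agent.OddHalf.D7.RowSL_m3
import Cfsg.Agent.Doubling.Growth
import Cfsg.Agent.OddHalf.DblR.SheetTwE6_m3
import Cfsg.Agent.OddHalf.D6.Final_m3
import Cfsg.Agent.OddHalf.F4.EndOut_m3
import Cfsg.Agent.KFacts.RgdOwn_m3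
import Cfsg.Agent.Schreier.Chev
import Cfsg.Agent.OddHalf.Front.FE
import Cfsg.Agent.OddHalf.D7.Cases
import Cfsg.Agent.OddHalf.Quat.KTwoOf_m3
import Cfsg.Agent.KFacts.TwESix.Cent_m3
import Cfsg.Agent.OddHalf.MM.Main_m3
import Cfsg.Agent.OddHalf.D6.QThree.NIB.Two_mg_m3
import Cfsg.Agent.OddHalf.SpN.Start_m3
import Cfsg.Agent.Lib.Refl
import Cfsg.Agent.OddHalf.D6.Cut_m3
import Cfsg.Agent.ClassicalGeometry.AutPSL.Main
import Cfsg.Agent.OddHalf.D6.QThree.U43Tw
import Cfsg.Agent.OddHalf.Small.Sp_m3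
import Cfsg.Agent.LieClassical.SympCenter
import Cfsg.Agent.LieClassical.FieldTransfer
import Cfsg.Agent.Lib.FieldThree
import Cfsg.Agent.OddHalf.D4.Rk2.False_m3
import Cfsg.Agent.OddHalf.D6.QThree.TS.Ref_m3
import Cfsg.Agent.OddHalf.D6.QThree.NIB.End_mg
import Cfsg.Agent.OddHalf.D6.QThree.G23Out
import Cfsg.Agent.OddHalf.D8.HS.Elim_m3
import Cfsg.Agent.SignalizersComponents.CharP
import Cfsg.Agent.SignalizersComponents.PConstrained
import Cfsg.Agent.Transfer.PGroupNormal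
import Cfsg.Agent.FastGrp
import Cfsg.Agent.Prune
set_option linter.all false

section
prune_inst 0x7fbcb8fb2ff82ddfdfff7e7faed2dffdf9b81fffe6defdcbffe061ff0b9f03088dc56b850fe010ff0ed6621410b87853f97ee23fe26bdc7ffffd5ff45ffbee1fe5f6bd08519688340fbc0ff703f07f8e7f3fffffffffffffffffffffffffffbeffbfffffffff

-- part: OddHalf/D4/Final/Odd
section
prune_inst 0x404400c000100020000000512500020401e00019210000000d8a003460682742209022900b8200912180822040038006810cc00c04000000000000000011801a0900a40001300010426008f800000000000000000000000000000000000041004000000000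
set_option linter.all false
open scoped Cfsg.Agent.FastGrp

-- merged: Cfsg.Agent.OddHalf.D4.Small.KPSp43
section

/-!
# ODD, D4, small Lie odd: the facts on `PSp₄(3)`

`z = (1, -1)`, `C(z) = (SL₂(3) * SL₂(3)).2`, `R = Q₈ * Q₈`, `S = R⟨t⟩`, `A = 2⁴`. Normal form of the elements of
`C(z)`: `e p q` and `t * e p q`.
-/

set_option autoImplicit false

namespace Cfsg.Agent.OddHalf.D4.Small.KPSp43

open Matrix Subgroup Cfsg
open Cfsg.Agent.Lib.FieldThree (F3)
open Cfsg.Agent.SmallSimple.S1000.Order25920PSp (Mat Sp π π_mul π_one π_eq π_ne_one m1 m2 m3 m4 Q0 gens)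
open Cfsg.Agent.OddHalf.Small.PSp43 (bm bm_mul bm_inj exists_bm det_of_mem J_eq bm_transpose m4_conj m43 comm_or
  eq_or_of_π_eq inv_eq_of_mul bm_mul_inv m4_inv' m4_eq)

/-! ### pairs of `2 × 2` matrices -/

/-- `2 × 2` matrices -/
abbrev P4 := F3 × F3 × F3 × F3

/-- product -/
def ml (p q : P4) : P4 := (p.1 * q.1 + p.2.1 * q.2.2.1, p.1 * q.2.1 + p.2.1 * q.2.2.2,
  p.2.2.1 * q.1 + p.2.2.2 * q.2.2.1, p.2.2.1 * q.2.1 + p.2.2.2 * q.2.2.2)
/-- determinant -/
def dt (p : P4) : F3 := p.1 * p.2.2.2 - p.2.1 * p.2.2.1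
/-- negative -/
def ng (p : P4) : P4 := (-p.1, -p.2.1, -p.2.2.1, -p.2.2.2)
/-- inverse -/
def iv (p : P4) : P4 := (p.2.2.2, -p.2.1, -p.2.2.1, p.1)
/-- one -/
def o4 : P4 := (1, 0, 0, 1)
/-- `i` -/
def i4 : P4 := (0, -1, 1, 0)
/-- `j` -/
def j4 : P4 := (1, 1, 1, -1)
/-- `k` -/
def k4 : P4 := ml i4 j4
/-- order 3 -/
def d4 : P4 := (1, 1, 0, 1)

/-- `Q₈` -/
def L8 : List P4 := [o4, ng o4, i4, ng i4, j4, ng j4, k4, ng k4]

theorem dt_ml_aux : ∀ a b c d a' b' c' d' : F3, dt (a, b, c, d) = 1 → dt (a', b', c', d') = 1 →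
    dt (ml (a, b, c, d) (a', b', c', d')) = 1 := by
  intro a b c d a' b' c' d' h h'
  have h1 : a * d - b * c = 1 := h
  have h2 : a' * d' - b' * c' = 1 := h'
  show (a * a' + b * c') * (c * b' + d * d') - (a * b' + b * d') * (c * a' + d * c') = 1
  linear_combination (a' * d' - b' * c') * h1 + h2

theorem dt_ml {p q : P4} (hp : dt p = 1) (hq : dt q = 1) : dt (ml p q) = 1 := by
  obtain ⟨a, b, c, d⟩ := p
  obtain ⟨a', b', c', d'⟩ := q
  exact dt_ml_aux _ _ _ _ _ _ _ _ hp hq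

theorem dt_iv {p : P4} (hp : dt p = 1) : dt (iv p) = 1 := by
  obtain ⟨a, b, c, d⟩ := p
  have h1 : a * d - b * c = 1 := hp
  show d * a - -b * -c = 1
  linear_combination h1

theorem dt_ng {p : P4} (hp : dt p = 1) : dt (ng p) = 1 := by
  obtain ⟨a, b, c, d⟩ := p
  have h1 : a * d - b * c = 1 := hp
  show -a * -d - -b * -c = 1
  linear_combination h1

theorem ml_assoc (p q r : P4) : ml (ml p q) r = ml p (ml q r) := by
  simp only [ml, Prod.mk.injEq]
  refine ⟨?_, ?_, ?_, ?_⟩ <;> ring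

theorem ml_o (p : P4) : ml p o4 = p := by
  obtain ⟨a, b, c, d⟩ := p
  simp [ml, o4]

theorem o_ml (p : P4) : ml o4 p = p := by
  obtain ⟨a, b, c, d⟩ := p
  simp [ml, o4]

theorem ml_iv {p : P4} (hp : dt p = 1) : ml p (iv p) = o4 := by
  obtain ⟨a, b, c, d⟩ := p
  have h1 : a * d - b * c = 1 := hp
  simp only [ml, iv, o4, Prod.mk.injEq]
  refine ⟨?_, ?_, ?_, ?_⟩
  · linear_combination h1
  · ring
  · ring
  · linear_combination h1

theorem dt_o : dt o4 = 1 := by decide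
theorem dt_i : dt i4 = 1 := by decide
theorem dt_j : dt j4 = 1 := by decide
theorem dt_k : dt k4 = 1 := by decide
theorem dt_d : dt d4 = 1 := by decide

theorem L_dt : ∀ p ∈ L8, dt p = 1 := by decide +kernel
theorem L_ml : ∀ p ∈ L8, ∀ q ∈ L8, ml p q ∈ L8 := by decide +kernel
theorem L_iv : ∀ p ∈ L8, iv p ∈ L8 := by decide +kernel
theorem L_ng : ∀ p ∈ L8, ng p ∈ L8 := by decide +kernel
theorem L_o : o4 ∈ L8 := by decide +kernel
theorem L_i : i4 ∈ L8 := by decide +kernel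
theorem L_j : j4 ∈ L8 := by decide +kernel
theorem L_four : ∀ p ∈ L8, ml (ml p p) (ml p p) = o4 := by decide +kernel
set_option synthInstance.maxHeartbeats 400000 in
set_option synthInstance.maxSize 4000 in
theorem L_conj_aux : ∀ a b c d : F3, dt (a, b, c, d) = 1 → ∀ r ∈ L8,
    ml (ml (a, b, c, d) r) (iv (a, b, c, d)) ∈ L8 := by decide +kernel
theorem L_conj {p r : P4} (hp : dt p = 1) (hr : r ∈ L8) : ml (ml p r) (iv p) ∈ L8 := by
  obtain ⟨a, b, c, d⟩ := p
  exact L_conj_aux _ _ _ _ hp r hr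

theorem ng_ne_aux : ∀ a b c d : F3, dt (a, b, c, d) = 1 → (a, b, c, d) ≠ ng (a, b, c, d) := by decide +kernel
theorem ng_ne {p : P4} (hp : dt p = 1) : p ≠ ng p := by
  obtain ⟨a, b, c, d⟩ := p
  exact ng_ne_aux _ _ _ _ hp

theorem ng_ng (p : P4) : ng (ng p) = p := by
  obtain ⟨a, b, c, d⟩ := p
  simp [ng]

set_option synthInstance.maxHeartbeats 400000 in
set_option synthInstance.maxSize 4000 in
theorem sc_aux : ∀ a b c d : F3, dt (a, b, c, d) = 1 → ml (a, b, c, d) i4 = ml i4 (a, b, c, d) →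
    ml (a, b, c, d) j4 = ml j4 (a, b, c, d) → (a, b, c, d) = o4 ∨ (a, b, c, d) = ng o4 := by decide +kernel
theorem sc {p : P4} (hp : dt p = 1) (hi : ml p i4 = ml i4 p) (hj : ml p j4 = ml j4 p) : p = o4 ∨ p = ng o4 := by
  obtain ⟨a, b, c, d⟩ := p
  exact sc_aux _ _ _ _ hp hi hj

theorem mi_aux : ∀ a b c d : F3, dt (a, b, c, d) = 1 → ml (a, b, c, d) i4 ≠ (a, b, c, d) ∧
    ml (a, b, c, d) i4 ≠ ng (a, b, c, d) := by decide +kernel
theorem mi {p : P4} (hp : dt p = 1) : ml p i4 ≠ p ∧ ml p i4 ≠ ng p := by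
  obtain ⟨a, b, c, d⟩ := p
  exact mi_aux _ _ _ _ hp

set_option synthInstance.maxHeartbeats 400000 in
set_option synthInstance.maxSize 4000 in
theorem nq_aux : ∀ a b c d : F3, dt (a, b, c, d) = 1 →
    (ml (a, b, c, d) i4 = ml i4 (a, b, c, d) ∨ ml (a, b, c, d) i4 = ng (ml i4 (a, b, c, d))) →
    (ml (a, b, c, d) j4 = ml j4 (a, b, c, d) ∨ ml (a, b, c, d) j4 = ng (ml j4 (a, b, c, d))) →
    (a, b, c, d) ∈ L8 := by decide +kernel
theorem nq {p : P4} (hp : dt p = 1) (hi : ml p i4 = ml i4 p ∨ ml p i4 = ng (ml i4 p))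
    (hj : ml p j4 = ml j4 p ∨ ml p j4 = ng (ml j4 p)) : p ∈ L8 := by
  obtain ⟨a, b, c, d⟩ := p
  exact nq_aux _ _ _ _ hp hi hj

/-! ### the block matrices -/

/-- the block matrix -/
def mk (p q : P4) : Mat := bm ![p.1, q.1] ![p.2.1, q.2.1] ![p.2.2.1, q.2.2.1] ![p.2.2.2, q.2.2.2]

theorem mk_mul (p q p' q' : P4) : mk p q * mk p' q' = mk (ml p p') (ml q q') := by
  unfold mk
  rw [bm_mul]
  congr 1 <;> funext i <;> fin_cases i <;> rfl

theorem mk_inj {p q p' q' : P4} (h : mk p q = mk p' q') : p = p' ∧ q = q' := by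
  obtain ⟨h1, h2, h3, h4⟩ := bm_inj h
  refine ⟨?_, ?_⟩
  · exact Prod.ext (congrFun h1 0) (Prod.ext (congrFun h2 0) (Prod.ext (congrFun h3 0) (congrFun h4 0)))
  · exact Prod.ext (congrFun h1 1) (Prod.ext (congrFun h2 1) (Prod.ext (congrFun h3 1) (congrFun h4 1)))

theorem mk_neg (p q : P4) : -(mk p q) = mk (ng p) (ng q) := by
  unfold mk bm
  rw [fromBlocks_neg, diagonal_neg, diagonal_neg, diagonal_neg, diagonal_neg]
  congr 2 <;> funext i <;> fin_cases i <;> rfl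

theorem m4_mk (p q : P4) : (m4 : Mat) * mk p q * m4 = mk q p := by
  unfold mk
  rw [m4_conj]
  congr 1 <;> funext i <;> fin_cases i <;> rfl

theorem m3_mk : (m3 : Mat) = mk o4 (ng o4) := by decide +kernel
theorem m1_mk : (m1 : Mat) = mk i4 i4 := by decide +kernel
theorem m2_mk : (m2 : Mat) = mk j4 j4 := by decide +kernel
theorem one_mk : (1 : Mat) = mk o4 o4 := by decide +kernel

theorem block_of {g : Sp} (h : (g : Mat) * m3 = (m3 : Mat) * g) : ∃ p q : P4, (g : Mat) = mk p q ∧ dt p = 1 ∧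
    dt q = 1 := by
  obtain ⟨a, b, c, d, hg⟩ := exists_bm h
  have hd := det_of_mem (hg ▸ g.2)
  refine ⟨(a 0, b 0, c 0, d 0), (a 1, b 1, c 1, d 1), ?_, hd 0, hd 1⟩
  rw [hg]
  unfold mk
  congr 1 <;> funext i <;> fin_cases i <;> rfl

theorem bm_mem {a b c d : Fin 2 → F3} (h : ∀ i, a i * d i - b i * c i = 1) :
    bm a b c d ∈ Matrix.symplecticGroup (Fin 2) F3 := by
  rw [SymplecticGroup.mem_iff, J_eq, bm_transpose, bm_mul, bm_mul]
  congr 1 <;> funext i <;> have hi := h i <;>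
    simp only [Pi.add_apply, Pi.mul_apply, Pi.neg_apply, Pi.zero_apply, Pi.one_apply]
  · ring
  · linear_combination -hi
  · linear_combination hi
  · ring

theorem mk_mem {p q : P4} (hp : dt p = 1) (hq : dt q = 1) : mk p q ∈ Matrix.symplecticGroup (Fin 2) F3 := by
  apply bm_mem
  intro i
  fin_cases i
  · exact hp
  · exact hq

/-- the element of `Sp` -/
def el (p q : P4) (hp : dt p = 1) (hq : dt q = 1) : Sp := ⟨mk p q, mk_mem hp hq⟩

/-- the element of `K` -/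
noncomputable def e (p q : P4) : PSp 2 F3 :=
  open Classical in if h : dt p = 1 ∧ dt q = 1 then π (el p q h.1 h.2) else 1

theorem e_def {p q : P4} (hp : dt p = 1) (hq : dt q = 1) : e p q = π (el p q hp hq) := dif_pos ⟨hp, hq⟩

/-- `z` -/
noncomputable abbrev z : PSp 2 F3 := π m3
/-- `t` -/
noncomputable abbrev t : PSp 2 F3 := π m4

theorem e_mul {p q p' q' : P4} (hp : dt p = 1) (hq : dt q = 1) (hp' : dt p' = 1) (hq' : dt q' = 1) :
    e p q * e p' q' = e (ml p p') (ml q q') := by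
  rw [e_def hp hq, e_def hp' hq', e_def (dt_ml hp hp') (dt_ml hq hq'), ← π_mul]
  congr 1
  exact Subtype.ext (mk_mul _ _ _ _)

theorem e_one : e o4 o4 = 1 := by
  rw [e_def dt_o dt_o, ← π_one]
  congr 1
  exact Subtype.ext one_mk.symm

theorem e_inv {p q : P4} (hp : dt p = 1) (hq : dt q = 1) : (e p q)⁻¹ = e (iv p) (iv q) := by
  rw [inv_eq_iff_mul_eq_one, e_mul hp hq (dt_iv hp) (dt_iv hq), ml_iv hp, ml_iv hq, e_one]

theorem e_eq {p q p' q' : P4} (hp : dt p = 1) (hq : dt q = 1) (hp' : dt p' = 1) (hq' : dt q' = 1)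
    (h : e p q = e p' q') : (p = p' ∧ q = q') ∨ (p = ng p' ∧ q = ng q') := by
  rw [e_def hp hq, e_def hp' hq'] at h
  rcases eq_or_of_π_eq h with h1 | h1
  · exact Or.inl (mk_inj h1)
  · right
    have h2 : mk p q = -(mk p' q') := h1
    rw [mk_neg] at h2
    exact mk_inj h2

theorem e_ng {p q : P4} (hp : dt p = 1) (hq : dt q = 1) : e (ng p) (ng q) = e p q := by
  rw [e_def hp hq, e_def (dt_ng hp) (dt_ng hq)]
  exact π_eq (Or.inr (mk_neg p q).symm)

theorem m4_m4 : m4 * m4 = 1 := by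
  nth_rw 1 [← m4_inv']
  exact inv_mul_cancel _

theorem t_t : t * t = 1 := by
  rw [← π_mul, m4_m4, π_one]

theorem t_e {p q : P4} (hp : dt p = 1) (hq : dt q = 1) : t * e p q = e q p * t := by
  rw [e_def hp hq, e_def hq hp, ← π_mul, ← π_mul]
  congr 1
  apply Subtype.ext
  show (m4 : Mat) * mk p q = mk q p * m4
  have h4 : (m4 : Mat) * m4 = 1 := congrArg Subtype.val m4_m4
  rw [← m4_mk p q, mul_assoc, h4, mul_one]

theorem e_ne {p q p' q' : P4} (hp : dt p = 1) (hq : dt q = 1) (hp' : dt p' = 1) (hq' : dt q' = 1) :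
    e p q ≠ t * e p' q' := by
  intro h
  have h1 : t = e (ml p (iv p')) (ml q (iv q')) := by
    rw [← e_mul hp hq (dt_iv hp') (dt_iv hq'), ← e_inv hp' hq', h]
    group
  rw [e_def (dt_ml hp (dt_iv hp')) (dt_ml hq (dt_iv hq'))] at h1
  have key : ∀ p q : P4, mk p q * (m3 : Mat) = (m3 : Mat) * mk p q := by
    intro p q
    rw [m3_mk, mk_mul, mk_mul]
    congr 1
    · rw [ml_o, o_ml]
    · obtain ⟨a, b, c, d⟩ := q
      simp only [ml, ng, o4, _root_.neg_zero, _root_.mul_neg, _root_.mul_one, _root_.MulZeroClass.mul_zero, _root_.add_zero, _root_.zero_add, _root_.neg_mul, _root_.one_mul, _root_.MulZeroClass.zero_mul]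
  have h2 : (m4 : Mat) * m3 = (m3 : Mat) * m4 := by
    rcases eq_or_of_π_eq h1 with h3 | h3
    · rw [h3]; exact key _ _
    · rw [h3, neg_mul, mul_neg]
      congr 1
      exact key _ _
  rw [m43] at h2
  have h3 : ¬ (-((m3 : Mat) * m4) = (m3 : Mat) * m4) := by decide +kernel
  exact h3 h2

theorem z_eq : z = e o4 (ng o4) := by
  rw [e_def dt_o (dt_ng dt_o)]
  exact π_eq (Or.inl m3_mk)

theorem z_eq' : z = e (ng o4) o4 := by
  rw [z_eq, ← e_ng (dt_ng dt_o) dt_o, ng_ng]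

theorem z_comm {p q : P4} (hp : dt p = 1) (hq : dt q = 1) : e p q * z = z * e p q := by
  rw [z_eq, e_mul hp hq dt_o (dt_ng dt_o), e_mul dt_o (dt_ng dt_o) hp hq, ml_o, o_ml]
  congr 1
  obtain ⟨a, b, c, d⟩ := q
  simp only [ml, ng, o4, _root_.neg_zero, _root_.mul_neg, _root_.mul_one, _root_.MulZeroClass.mul_zero, _root_.add_zero, _root_.zero_add, _root_.neg_mul, _root_.one_mul, _root_.MulZeroClass.zero_mul]

theorem t_z : t * z = z * t := by
  rw [z_eq, t_e dt_o (dt_ng dt_o), ← z_eq, ← z_eq']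

/-- **normal form in `C(z)`** -/
theorem cent_z {x : PSp 2 F3} (hx : x * z = z * x) : ∃ p q : P4, dt p = 1 ∧ dt q = 1 ∧
    (x = e p q ∨ x = t * e p q) := by
  obtain ⟨g, rfl⟩ := QuotientGroup.mk_surjective x
  rcases comm_or (x := g) (y := m3) hx with h | h
  · obtain ⟨p, q, hg, hp, hq⟩ := block_of h
    refine ⟨p, q, hp, hq, Or.inl ?_⟩
    rw [e_def hp hq]
    exact π_eq (x := g) (Or.inl hg)
  · have h2 : ((m4 * g : Sp) : Mat) * m3 = m3 * ((m4 * g : Sp) : Mat) := by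
      show (m4 : Mat) * g * m3 = m3 * (m4 * g)
      rw [mul_assoc, h, mul_neg, ← mul_assoc, m43, neg_mul, neg_neg, mul_assoc]
    obtain ⟨p, q, hg, hp, hq⟩ := block_of h2
    refine ⟨p, q, hp, hq, Or.inr ?_⟩
    rw [e_def hp hq]
    have h3 : π (m4 * g) = π (el p q hp hq) := π_eq (Or.inl hg)
    rw [← h3, π_mul, ← mul_assoc, t_t, one_mul]
    rfl

/-! ### `R` and `S` -/

/-- `R` -/
noncomputable def R : Subgroup (PSp 2 F3) where
  carrier := {x | ∃ p ∈ L8, ∃ q ∈ L8, x = e p q}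
  mul_mem' := by
    rintro _ _ ⟨p, hp, q, hq, rfl⟩ ⟨p', hp', q', hq', rfl⟩
    exact ⟨_, L_ml p hp p' hp', _, L_ml q hq q' hq', e_mul (L_dt p hp) (L_dt q hq) (L_dt p' hp') (L_dt q' hq')⟩
  one_mem' := ⟨o4, L_o, o4, L_o, e_one.symm⟩
  inv_mem' := by
    rintro _ ⟨p, hp, q, hq, rfl⟩
    exact ⟨_, L_iv p hp, _, L_iv q hq, e_inv (L_dt p hp) (L_dt q hq)⟩

theorem e_R {p q : P4} (hp : p ∈ L8) (hq : q ∈ L8) : e p q ∈ R := ⟨p, hp, q, hq, rfl⟩

theorem t_R_t {x : PSp 2 F3} (hx : x ∈ R) : t * x * t ∈ R := by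
  obtain ⟨p, hp, q, hq, rfl⟩ := hx
  rw [t_e (L_dt p hp) (L_dt q hq), mul_assoc, t_t, mul_one]
  exact e_R hq hp

/-- `S` -/
noncomputable def S : Subgroup (PSp 2 F3) where
  carrier := {x | x ∈ R ∨ t * x ∈ R}
  mul_mem' := by
    rintro x y (hx | hx) (hy | hy)
    · exact Or.inl (R.mul_mem hx hy)
    · right
      have h1 : t * (x * y) = (t * x * t) * (t * y) := by
        calc t * (x * y) = t * x * 1 * y := by group
          _ = t * x * (t * t) * y := by rw [t_t]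
          _ = (t * x * t) * (t * y) := by group
      rw [h1]
      exact R.mul_mem (t_R_t hx) hy
    · right
      have h1 : t * (x * y) = (t * x) * y := by group
      rw [h1]
      exact R.mul_mem hx hy
    · left
      have h1 : x * y = (t * (t * x) * t) * (t * y) := by
        calc x * y = 1 * x * 1 * y := by group
          _ = (t * t) * x * (t * t) * y := by rw [t_t]
          _ = (t * (t * x) * t) * (t * y) := by group
      rw [h1]
      exact R.mul_mem (t_R_t hx) hy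
  one_mem' := Or.inl R.one_mem
  inv_mem' := by
    rintro x (hx | hx)
    · exact Or.inl (R.inv_mem hx)
    · right
      have h1 : t * x⁻¹ = t * (t * x)⁻¹ * t := by
        have h2 : t⁻¹ = t := inv_eq_of_mul_eq_one_left t_t
        calc t * x⁻¹ = t * x⁻¹ * (t * t) := by rw [t_t, mul_one]
          _ = t * (x⁻¹ * t⁻¹) * t := by rw [h2]; group
          _ = t * (t * x)⁻¹ * t := by group
      rw [h1]
      exact t_R_t (R.inv_mem hx)

theorem R_le_S : R ≤ S := fun _ hx => Or.inl hx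

theorem t_S : t ∈ S := by
  right
  rw [t_t]; exact R.one_mem

theorem R_z {x : PSp 2 F3} (hx : x ∈ R) : x * z = z * x := by
  obtain ⟨p, hp, q, hq, rfl⟩ := hx
  exact z_comm (L_dt p hp) (L_dt q hq)

theorem S_z {x : PSp 2 F3} (hx : x ∈ S) : x * z = z * x := by
  rcases hx with hx | hx
  · exact R_z hx
  · have h1 := R_z hx
    have h2 : t⁻¹ = t := inv_eq_of_mul_eq_one_left t_t
    calc x * z = t⁻¹ * (t * x * z) := by group
      _ = t * (z * (t * x)) := by rw [h1, h2]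
      _ = (t * z) * t * x := by group
      _ = z * (t * t) * x := by rw [t_z]; group
      _ = z * x := by rw [t_t, mul_one]

theorem R_four {x : PSp 2 F3} (hx : x ∈ R) : x * x * (x * x) = 1 := by
  obtain ⟨p, hp, q, hq, rfl⟩ := hx
  have hp' := L_dt p hp
  have hq' := L_dt q hq
  rw [e_mul hp' hq' hp' hq', e_mul (dt_ml hp' hp') (dt_ml hq' hq') (dt_ml hp' hp') (dt_ml hq' hq'), L_four p hp,
    L_four q hq, e_one]

theorem S_sq {x : PSp 2 F3} (hx : x ∈ S) : x * x ∈ R := by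
  rcases hx with hx | hx
  · exact R.mul_mem hx hx
  · have h1 : x * x = (t * (t * x) * t) * (t * x) := by
      calc x * x = 1 * x * 1 * x := by group
        _ = (t * t) * x * (t * t) * x := by rw [t_t]
        _ = (t * (t * x) * t) * (t * x) := by group
    rw [h1]
    exact R.mul_mem (t_R_t hx) hx

theorem isPGroup_S : IsPGroup 2 ↥S := by
  rintro ⟨x, hx⟩
  refine ⟨3, Subtype.ext ?_⟩
  show x ^ 8 = 1
  have h := R_four (S_sq hx)
  rw [← h]
  simp only [pow_succ, pow_zero, one_mul, mul_assoc]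

/-- representatives -/
def r4 (k : Fin 4) : P4 := ![o4, i4, j4, k4] k
/-- all elements -/
def r8 (k : Fin 8) : P4 := ![o4, ng o4, i4, ng i4, j4, ng j4, k4, ng k4] k

theorem r4_L : ∀ k, r4 k ∈ L8 := by decide +kernel
theorem r8_L : ∀ k, r8 k ∈ L8 := by decide +kernel
theorem r4_inj : ∀ k k', r4 k = r4 k' → k = k' := by decide +kernel
theorem r4_ng : ∀ k k', r4 k ≠ ng (r4 k') := by decide +kernel
theorem r8_inj : ∀ k k', r8 k = r8 k' → k = k' := by decide +kernel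

theorem card_S : 64 ≤ Nat.card ↥S := by
  have : Finite (PSp 2 F3) := Quotient.finite _
  let f : Fin 4 × Fin 8 × Bool → ↥S := fun x =>
    if x.2.2 then ⟨e (r4 x.1) (r8 x.2.1), R_le_S (e_R (r4_L _) (r8_L _))⟩
    else ⟨t * e (r4 x.1) (r8 x.2.1), S.mul_mem t_S (R_le_S (e_R (r4_L _) (r8_L _)))⟩
  have hf : Function.Injective f := by
    rintro ⟨k, l, s⟩ ⟨k', l', s'⟩ h
    have hk := L_dt _ (r4_L k)
    have hk' := L_dt _ (r4_L k')
    have hl := L_dt _ (r8_L l)
    have hl' := L_dt _ (r8_L l')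
    have key : e (r4 k) (r8 l) = e (r4 k') (r8 l') → k = k' ∧ l = l' := by
      intro h1
      rcases e_eq hk hl hk' hl' h1 with ⟨h2, h3⟩ | ⟨h2, -⟩
      · exact ⟨r4_inj _ _ h2, r8_inj _ _ h3⟩
      · exact absurd h2 (r4_ng _ _)
    cases s <;> cases s'
    · have h1 : t * e (r4 k) (r8 l) = t * e (r4 k') (r8 l') := congrArg Subtype.val h
      obtain ⟨h2, h3⟩ := key (mul_left_cancel h1)
      rw [h2, h3]
    · have h1 : t * e (r4 k) (r8 l) = e (r4 k') (r8 l') := congrArg Subtype.val h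
      exact absurd h1.symm (e_ne hk' hl' hk hl)
    · have h1 : e (r4 k) (r8 l) = t * e (r4 k') (r8 l') := congrArg Subtype.val h
      exact absurd h1 (e_ne hk hl hk' hl')
    · have h1 : e (r4 k) (r8 l) = e (r4 k') (r8 l') := congrArg Subtype.val h
      obtain ⟨h2, h3⟩ := key h1
      rw [h2, h3]
  have h1 := Nat.card_le_card_of_injective f hf
  have h2 : Nat.card (Fin 4 × Fin 8 × Bool) = 64 := by simp
  rwa [h2] at h1

theorem odd_S : Odd S.index := by
  have : Finite (PSp 2 F3) := Quotient.finite _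
  have h1 := Cfsg.Agent.SmallSimple.PSLFacts.card_psp_two_three (F := F3) F3.card
  exact odd_index_of isPGroup_S (n := 6) (m := 405) (by rw [h1]; norm_num) (by decide) card_S

/-- `C_P(R) = ⟨z⟩` -/
theorem cent_R {x : PSp 2 F3} (hx : x * z = z * x) (hr : ∀ r ∈ R, x * r = r * x) : x = 1 ∨ x = z := by
  obtain ⟨p, q, hp, hq, h | h⟩ := cent_z hx
  · have k1 : ∀ u ∈ L8, ml p u = ml u p := by
      intro u hu
      have hu' := L_dt u hu
      have h1 := hr _ (e_R hu L_o)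
      rw [h, e_mul hp hq hu' dt_o, e_mul hu' dt_o hp hq, ml_o, o_ml] at h1
      rcases e_eq (dt_ml hp hu') hq (dt_ml hu' hp) hq h1 with h2 | h2
      · exact h2.1
      · exact absurd h2.2 (ng_ne hq)
    have k2 : ∀ u ∈ L8, ml q u = ml u q := by
      intro u hu
      have hu' := L_dt u hu
      have h1 := hr _ (e_R L_o hu)
      rw [h, e_mul hp hq dt_o hu', e_mul dt_o hu' hp hq, ml_o, o_ml] at h1
      rcases e_eq hp (dt_ml hq hu') hp (dt_ml hu' hq) h1 with h2 | h2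
      · exact h2.2
      · exact absurd h2.1 (ng_ne hp)
    rcases sc hp (k1 _ L_i) (k1 _ L_j) with h3 | h3 <;> rcases sc hq (k2 _ L_i) (k2 _ L_j) with h4 | h4
    · left; rw [h, h3, h4, e_one]
    · right; rw [h, h3, h4, ← z_eq]
    · right; rw [h, h3, h4, ← z_eq']
    · left; rw [h, h3, h4, e_ng dt_o dt_o, e_one]
  · exfalso
    have h1 := hr _ (e_R L_i L_o)
    rw [h, mul_assoc, e_mul hp hq dt_i dt_o, ← mul_assoc] at h1
    have h2 : e i4 o4 * t = t * e o4 i4 := (t_e dt_o dt_i).symm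
    rw [h2, mul_assoc, e_mul dt_o dt_i hp hq, ml_o, o_ml] at h1
    rcases e_eq (dt_ml hp dt_i) hq hp (dt_ml dt_i hq) (mul_left_cancel h1) with h3 | h3
    · exact (mi hp).1 h3.1
    · exact (mi hp).2 h3.1

theorem e_conj_R {p q : P4} (hp : dt p = 1) (hq : dt q = 1) {r : PSp 2 F3} (hr : r ∈ R) :
    e p q * r * (e p q)⁻¹ ∈ R := by
  obtain ⟨u, hu, v, hv, rfl⟩ := hr
  rw [e_inv hp hq, e_mul hp hq (L_dt u hu) (L_dt v hv), e_mul (dt_ml hp (L_dt u hu)) (dt_ml hq (L_dt v hv))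
    (dt_iv hp) (dt_iv hq)]
  exact e_R (L_conj hp hu) (L_conj hq hv)

theorem t_inv : t⁻¹ = t := inv_eq_of_mul_eq_one_left t_t

theorem Rn {x : PSp 2 F3} (hx : x * z = z * x) {r : PSp 2 F3} (hr : r ∈ R) : x * r * x⁻¹ ∈ R := by
  obtain ⟨p, q, hp, hq, h | h⟩ := cent_z hx
  · rw [h]; exact e_conj_R hp hq hr
  · rw [h]
    have h1 : t * e p q * r * (t * e p q)⁻¹ = t * (e p q * r * (e p q)⁻¹) * t := by
      rw [_root_.mul_inv_rev, t_inv]; group
    rw [h1]
    exact t_R_t (e_conj_R hp hq hr)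

theorem core_aux : ∀ p ∈ L8, ml p (iv d4) ∉ L8 := by decide +kernel

theorem core {x : PSp 2 F3} (hx : x ∈ S) (h : e d4 o4 * x * (e d4 o4)⁻¹ ∈ S) : x ∈ R := by
  rcases hx with hx | hx
  · exact hx
  · exfalso
    obtain ⟨p, hp, q, hq, hpq⟩ := hx
    have hp' := L_dt p hp
    have hq' := L_dt q hq
    have hx' : x = t * e p q := by
      rw [← hpq, ← mul_assoc, t_t, one_mul]
    have h1 : e d4 o4 * x * (e d4 o4)⁻¹ = t * e (ml p (iv d4)) (ml d4 q) := by
      have h2 : e d4 o4 * t = t * e o4 d4 := (t_e dt_o dt_d).symm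
      rw [hx', e_inv dt_d dt_o, ← mul_assoc, h2]
      have h3 : iv o4 = o4 := by decide
      rw [h3, mul_assoc, mul_assoc, e_mul hp' hq' (dt_iv dt_d) dt_o,
        e_mul dt_o dt_d (dt_ml hp' (dt_iv dt_d)) (dt_ml hq' dt_o), o_ml, ml_o]
    rw [h1] at h
    rcases h with h | h
    · obtain ⟨u, hu, v, hv, huv⟩ := h
      exact e_ne (L_dt u hu) (L_dt v hv) (dt_ml hp' (dt_iv dt_d)) (dt_ml dt_d hq') huv.symm
    · rw [← mul_assoc, t_t, one_mul] at h
      obtain ⟨u, hu, v, hv, huv⟩ := h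
      rcases e_eq (dt_ml hp' (dt_iv dt_d)) (dt_ml dt_d hq') (L_dt u hu) (L_dt v hv) huv with h2 | h2
      · exact core_aux p hp (h2.1 ▸ hu)
      · exact core_aux p hp (h2.1 ▸ L_ng u hu)

theorem z_R : z ∈ R := by rw [z_eq]; exact e_R L_o (L_ng _ L_o)

theorem z2 : z * z = 1 := by
  rw [← π_mul, ← π_one]
  exact π_eq (by decide +kernel)

theorem z1 : z ≠ 1 := π_ne_one (x := m3) (by decide +kernel)

theorem coreS : Core (PSp 2 F3) S R z where
  two := isPGroup_S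
  odd := odd_S
  z2 := z2
  z1 := z1
  zR := z_R
  RS := R_le_S
  zc := fun s hs => S_z hs
  uniq := by
    intro x hx _ h1 hc
    exact (cent_R (S_z hx) (fun r hr => (hc r (R_le_S hr)).symm)).resolve_left h1
  Rn := fun p hp r hr => Rn hp hr
  core := fun x hx h => core hx (h _ (z_comm dt_d dt_o))

/-! ### the structure of `R` -/

/-- `Q₁` -/
noncomputable def Q1 : Subgroup (PSp 2 F3) where
  carrier := {x | ∃ p ∈ L8, x = e p o4}
  mul_mem' := by
    rintro _ _ ⟨p, hp, rfl⟩ ⟨p', hp', rfl⟩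
    refine ⟨_, L_ml p hp p' hp', ?_⟩
    rw [e_mul (L_dt p hp) dt_o (L_dt p' hp') dt_o, ml_o]
  one_mem' := ⟨o4, L_o, e_one.symm⟩
  inv_mem' := by
    rintro _ ⟨p, hp, rfl⟩
    refine ⟨_, L_iv p hp, ?_⟩
    rw [e_inv (L_dt p hp) dt_o]
    rfl

/-- `Q₂` -/
noncomputable def Q2 : Subgroup (PSp 2 F3) where
  carrier := {x | ∃ p ∈ L8, x = e o4 p}
  mul_mem' := by
    rintro _ _ ⟨p, hp, rfl⟩ ⟨p', hp', rfl⟩
    refine ⟨_, L_ml p hp p' hp', ?_⟩
    rw [e_mul dt_o (L_dt p hp) dt_o (L_dt p' hp'), ml_o]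
  one_mem' := ⟨o4, L_o, e_one.symm⟩
  inv_mem' := by
    rintro _ ⟨p, hp, rfl⟩
    refine ⟨_, L_iv p hp, ?_⟩
    rw [e_inv dt_o (L_dt p hp)]
    rfl

theorem ml_ngo (p : P4) : ml p (ng o4) = ng p := by
  obtain ⟨a, b, c, d⟩ := p
  simp [ml, ng, o4]

theorem ji : ml j4 i4 = ng (ml i4 j4) := by decide +kernel
theorem ii : ml i4 i4 = ng o4 := by decide +kernel
theorem jj : ml j4 j4 = ng o4 := by decide +kernel

theorem mul_z1 {p : P4} (hp : dt p = 1) : e p o4 * z = e (ng p) o4 := by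
  rw [z_eq', e_mul hp dt_o (dt_ng dt_o) dt_o, ml_o, ml_ngo]

theorem mul_z2 {p : P4} (hp : dt p = 1) : e o4 p * z = e o4 (ng p) := by
  rw [z_eq, e_mul dt_o hp dt_o (dt_ng dt_o), ml_o, ml_ngo]

theorem isQ1 : IsQ z Q1 := by
  refine IsQ.mk' (i := e i4 o4) (j := e j4 o4) z2 z1 ⟨_, L_i, rfl⟩ ⟨_, L_j, rfl⟩ ?_ ?_ ?_ ?_
  · rw [e_mul dt_i dt_o dt_i dt_o, ml_o, ii, ← z_eq']
  · rw [e_mul dt_j dt_o dt_j dt_o, ml_o, jj, ← z_eq']
  · rw [e_mul dt_j dt_o dt_i dt_o, e_mul dt_i dt_o dt_j dt_o, ml_o, mul_z1 (dt_ml dt_i dt_j), ji]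
  · rintro q ⟨p, hp, rfl⟩
    simp only [L8, List.mem_cons, List.not_mem_nil, or_false] at hp
    have hij : e i4 o4 * e j4 o4 = e k4 o4 := by rw [e_mul dt_i dt_o dt_j dt_o, ml_o]; rfl
    rw [hij, mul_z1 dt_i, mul_z1 dt_j, mul_z1 dt_k, z_eq', ← e_one]
    rcases hp with rfl | rfl | rfl | rfl | rfl | rfl | rfl | rfl <;> simp

theorem isQ2 : IsQ z Q2 := by
  refine IsQ.mk' (i := e o4 i4) (j := e o4 j4) z2 z1 ⟨_, L_i, rfl⟩ ⟨_, L_j, rfl⟩ ?_ ?_ ?_ ?_
  · rw [e_mul dt_o dt_i dt_o dt_i, ml_o, ii, ← z_eq]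
  · rw [e_mul dt_o dt_j dt_o dt_j, ml_o, jj, ← z_eq]
  · rw [e_mul dt_o dt_j dt_o dt_i, e_mul dt_o dt_i dt_o dt_j, ml_o, mul_z2 (dt_ml dt_i dt_j), ji]
  · rintro q ⟨p, hp, rfl⟩
    simp only [L8, List.mem_cons, List.not_mem_nil, or_false] at hp
    have hij : e o4 i4 * e o4 j4 = e o4 k4 := by rw [e_mul dt_o dt_i dt_o dt_j, ml_o]; rfl
    rw [hij, mul_z2 dt_i, mul_z2 dt_j, mul_z2 dt_k, z_eq, ← e_one]
    rcases hp with rfl | rfl | rfl | rfl | rfl | rfl | rfl | rfl <;> simp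

theorem isQQ : IsQQ z Q1 Q2 R where
  q1 := isQ1
  q2 := isQ2
  le1 := by rintro _ ⟨p, hp, rfl⟩; exact e_R hp L_o
  le2 := by rintro _ ⟨p, hp, rfl⟩; exact e_R L_o hp
  com := by
    rintro _ ⟨p, hp, rfl⟩ _ ⟨q, hq, rfl⟩
    rw [e_mul (L_dt p hp) dt_o dt_o (L_dt q hq), e_mul dt_o (L_dt q hq) (L_dt p hp) dt_o, ml_o, o_ml, o_ml, ml_o]
  inf := by
    rintro _ ⟨p, hp, rfl⟩ ⟨q, hq, h⟩
    rcases e_eq (L_dt p hp) dt_o dt_o (L_dt q hq) h with ⟨h1, -⟩ | ⟨h1, -⟩
    · left; rw [h1, e_one]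
    · right; rw [h1, z_eq']
  mem := by
    rintro _ ⟨p, hp, q, hq, rfl⟩
    refine ⟨e p o4, ⟨p, hp, rfl⟩, e o4 q, ⟨q, hq, rfl⟩, ?_⟩
    rw [e_mul (L_dt p hp) dt_o dt_o (L_dt q hq), ml_o, o_ml]

theorem hd_aux : ∀ p ∈ L8, p ≠ o4 → p ≠ ng o4 → ml (ml d4 p) (iv d4) ≠ p ∧ ml (ml d4 p) (iv d4) ≠ ng p := by
  decide +kernel

theorem d_cube : ml (ml d4 d4) d4 = o4 := by decide +kernel

theorem sheet : Sheet (PSp 2 F3) S R z := by
  have : Finite (PSp 2 F3) := Quotient.finite _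
  refine Sheet.of_QQ coreS.sheet0 isQQ (fun p hp hr => cent_R hp hr) (d := e d4 o4) (z_comm dt_d dt_o) ?_ ?_ ?_
  · rw [e_mul dt_d dt_o dt_d dt_o, e_mul (dt_ml dt_d dt_d) (dt_ml dt_o dt_o) dt_d dt_o, d_cube, ml_o, ml_o, e_one]
  · rintro _ ⟨q, hq, rfl⟩
    rw [e_mul dt_d dt_o dt_o (L_dt q hq), e_mul dt_o (L_dt q hq) dt_d dt_o, ml_o, o_ml, o_ml, ml_o]
  · rintro _ ⟨p, hp, rfl⟩ h1 hz
    have hp' := L_dt p hp
    have h3 : e d4 o4 * e p o4 * (e d4 o4)⁻¹ = e (ml (ml d4 p) (iv d4)) o4 := by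
      rw [e_inv dt_d dt_o, e_mul dt_d dt_o hp' dt_o, e_mul (dt_ml dt_d hp') (dt_ml dt_o dt_o) (dt_iv dt_d)
        (dt_iv dt_o)]
      rfl
    rw [h3]
    have hdt := dt_ml (dt_ml dt_d hp') (dt_iv dt_d)
    obtain ⟨a1, a2⟩ := hd_aux p hp (fun h => h1 (by rw [h, e_one])) (fun h => hz (by rw [h, z_eq']))
    have a3 := ng_ne dt_o
    refine ⟨?_, ?_⟩
    · intro h
      rcases e_eq hdt dt_o hp' dt_o h with h4 | h4
      · exact a1 h4.1
      · exact a3 h4.2
    · rw [mul_z1 hp']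
      intro h
      rcases e_eq hdt dt_o (dt_ng hp') dt_o h with h4 | h4
      · exact a2 h4.1
      · exact a3 h4.2

/-! ### the second local subgroup -/

theorem m1_e : π m1 = e i4 i4 := by
  rw [e_def dt_i dt_i]
  exact π_eq (Or.inl m1_mk)

theorem m2_e : π m2 = e j4 j4 := by
  rw [e_def dt_j dt_j]
  exact π_eq (Or.inl m2_mk)

open Cfsg.Agent.SmallSimple.S1000.Order25920PSp in
theorem Q0_comm {a b : PSp 2 F3} (ha : a ∈ Q0) (hb : b ∈ Q0) : a * b = b * a := by
  have h1 : Q0 ≤ centralizer ({a} : Set (PSp 2 F3)) := by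
    conv_lhs => rw [Q0]
    rw [closure_le]
    intro x hx
    show x ∈ centralizer ({a} : Set (PSp 2 F3))
    rw [mem_centralizer_singleton_iff]
    exact Q0_comm_gens x hx a ha
  exact (mem_centralizer_singleton_iff.mp (h1 hb)).symm

theorem z_Q0 : z ∈ Q0 := Cfsg.Agent.SmallSimple.S1000.Order25920PSp.m3_mem
theorem t_Q0 : t ∈ Q0 := Cfsg.Agent.SmallSimple.S1000.Order25920PSp.m4_mem
theorem i_Q0 : e i4 i4 ∈ Q0 := by rw [← m1_e]; exact Cfsg.Agent.SmallSimple.S1000.Order25920PSp.m1_mem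
theorem j_Q0 : e j4 j4 ∈ Q0 := by rw [← m2_e]; exact Cfsg.Agent.SmallSimple.S1000.Order25920PSp.m2_mem

theorem pp_Q0 {p : P4} (hp : p ∈ L8) : e p p ∈ Q0 := by
  have hij : e k4 k4 ∈ Q0 := by
    have h1 := Q0.mul_mem i_Q0 j_Q0
    rw [e_mul dt_i dt_i dt_j dt_j] at h1
    exact h1
  have ho : e o4 o4 ∈ Q0 := by rw [e_one]; exact one_mem _
  simp only [L8, List.mem_cons, List.not_mem_nil, or_false] at hp
  rcases hp with rfl | rfl | rfl | rfl | rfl | rfl | rfl | rfl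
  · exact ho
  · rw [e_ng dt_o dt_o]; exact ho
  · exact i_Q0
  · rw [e_ng dt_i dt_i]; exact i_Q0
  · exact j_Q0
  · rw [e_ng dt_j dt_j]; exact j_Q0
  · exact hij
  · rw [e_ng dt_k dt_k]; exact hij

theorem pq_Q0 {p q : P4} (hp : p ∈ L8) (h : q = p ∨ q = ng p) : e p q ∈ Q0 := by
  rcases h with rfl | rfl
  · exact pp_Q0 hp
  · have h1 := Q0.mul_mem (pp_Q0 hp) z_Q0
    rw [z_eq, e_mul (L_dt p hp) (L_dt p hp) dt_o (dt_ng dt_o), ml_o, ml_ngo] at h1
    exact h1

theorem Q0_le_S : Q0 ≤ S := by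
  rw [Q0, closure_le]
  rintro x (rfl | rfl | rfl | rfl)
  · show π m1 ∈ S
    rw [m1_e]; exact R_le_S (e_R L_i L_i)
  · show π m2 ∈ S
    rw [m2_e]; exact R_le_S (e_R L_j L_j)
  · exact R_le_S z_R
  · exact t_S

theorem cent_Q0' {x : PSp 2 F3} {p q : P4} (hp : dt p = 1) (hq : dt q = 1) (hx : x = e p q)
    (h : ∀ a ∈ Q0, x * a = a * x) : x ∈ Q0 := by
  have ht := h _ t_Q0
  rw [hx, t_e hp hq] at ht
  have h1 := e_eq hp hq hq hp (mul_right_cancel ht)
  have hq' : q = p ∨ q = ng p := by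
    rcases h1 with ⟨-, h2⟩ | ⟨-, h2⟩
    · exact Or.inl h2
    · exact Or.inr h2
  have hi := h _ i_Q0
  have hj := h _ j_Q0
  rw [hx, e_mul hp hq dt_i dt_i, e_mul dt_i dt_i hp hq] at hi
  rw [hx, e_mul hp hq dt_j dt_j, e_mul dt_j dt_j hp hq] at hj
  have hi' := e_eq (dt_ml hp dt_i) (dt_ml hq dt_i) (dt_ml dt_i hp) (dt_ml dt_i hq) hi
  have hj' := e_eq (dt_ml hp dt_j) (dt_ml hq dt_j) (dt_ml dt_j hp) (dt_ml dt_j hq) hj
  have hpL : p ∈ L8 := nq hp (hi'.imp And.left And.left) (hj'.imp And.left And.left)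
  rw [hx]
  exact pq_Q0 hpL hq'

theorem cent_Q0 (x : PSp 2 F3) : (∀ a ∈ Q0, x * a = a * x) ↔ x ∈ Q0 := by
  constructor
  · intro h
    obtain ⟨p, q, hp, hq, h1 | h1⟩ := cent_z (h _ z_Q0)
    · exact cent_Q0' hp hq h1 h
    · have h2 : t * x = e p q := by rw [h1, ← mul_assoc, t_t, one_mul]
      have h3 : t * x ∈ Q0 := by
        refine cent_Q0' hp hq h2 ?_
        intro a ha
        rw [mul_assoc, h a ha, ← mul_assoc, Q0_comm t_Q0 ha, mul_assoc]
      have h4 := Q0.mul_mem t_Q0 h3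
      rwa [← mul_assoc, t_t, one_mul] at h4
  · intro h a ha
    exact Q0_comm h ha

theorem ci_aux : ∀ p ∈ L8, ml (ml p i4) (iv p) = i4 ∨ ml (ml p i4) (iv p) = ng i4 := by decide +kernel
theorem cj_aux : ∀ p ∈ L8, ml (ml p j4) (iv p) = j4 ∨ ml (ml p j4) (iv p) = ng j4 := by decide +kernel
theorem cq_aux : ∀ p ∈ L8, ∀ q ∈ L8, ml p (iv q) = ml q (iv p) ∨ ml p (iv q) = ng (ml q (iv p)) := by
  decide +kernel

theorem iv_ml {p : P4} (hp : dt p = 1) : ml (iv p) p = o4 := by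
  obtain ⟨a, b, c, d⟩ := p
  have h1 : a * d - b * c = 1 := hp
  simp only [ml, iv, o4, Prod.mk.injEq]
  refine ⟨?_, ?_, ?_, ?_⟩
  · linear_combination h1
  · ring
  · ring
  · linear_combination h1

theorem ng_eq_cases {u p : P4} (h : p = u ∨ p = ng u) : ∀ {q : P4}, (q = u ∨ q = ng u) → q = p ∨ q = ng p := by
  intro q hq
  rcases h with rfl | rfl <;> rcases hq with rfl | rfl
  · exact Or.inl rfl
  · exact Or.inr rfl
  · exact Or.inr (ng_ng _).symm
  · exact Or.inl rfl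

theorem R_norm {s : PSp 2 F3} (hs : s ∈ R) : s ∈ normalizer (Q0 : Set (PSp 2 F3)) := by
  obtain ⟨p, hp, q, hq, rfl⟩ := hs
  have hp' := L_dt p hp
  have hq' := L_dt q hq
  apply Cfsg.Agent.SmallSimple.S1000.Order25920PSp.mem_normalizer
  have hconj : ∀ u v : P4, dt u = 1 → dt v = 1 → e p q * e u v = e (ml (ml p u) (iv p)) (ml (ml q v) (iv q)) * e p q := by
    intro u v hu hv
    rw [e_mul hp' hq' hu hv, e_mul (dt_ml (dt_ml hp' hu) (dt_iv hp')) (dt_ml (dt_ml hq' hv) (dt_iv hq')) hp' hq',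
      ml_assoc _ (iv p) p, ml_assoc _ (iv q) q, iv_ml hp', iv_ml hq', ml_o, ml_o]
  rintro x (rfl | rfl | rfl | rfl)
  · rw [m1_e]
    refine ⟨_, ?_, hconj i4 i4 dt_i dt_i⟩
    exact pq_Q0 (L_conj hp' L_i) (ng_eq_cases (ci_aux p hp) (ci_aux q hq))
  · rw [m2_e]
    refine ⟨_, ?_, hconj j4 j4 dt_j dt_j⟩
    exact pq_Q0 (L_conj hp' L_j) (ng_eq_cases (cj_aux p hp) (cj_aux q hq))
  · exact ⟨z, z_Q0, z_comm hp' hq'⟩
  · refine ⟨e (ml p (iv q)) (ml q (iv p)) * t, Q0.mul_mem (pq_Q0 (L_ml p hp _ (L_iv q hq)) ?_) t_Q0, ?_⟩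
    · rcases cq_aux q hq p hp with h | h
      · exact Or.inl h
      · exact Or.inr h
    · rw [mul_assoc, t_e hp' hq', ← mul_assoc, e_mul (dt_ml hp' (dt_iv hq')) (dt_ml hq' (dt_iv hp')) hq' hp',
        ml_assoc, ml_assoc, iv_ml hq', iv_ml hp', ml_o, ml_o]

theorem S_norm {s : PSp 2 F3} (hs : s ∈ S) : s ∈ normalizer (Q0 : Set (PSp 2 F3)) := by
  rcases hs with hs | hs
  · exact R_norm hs
  · have h1 := mul_mem (le_normalizer t_Q0) (R_norm hs)
    rwa [← mul_assoc, t_t, one_mul] at h1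

/-! ### generation -/

theorem comm_of_eigen {x y : Sp} {v : Fin 2 ⊕ Fin 2 → F3} {c : F3}
    (hy : (y : Mat) = sympTransvection 2 v c) {s : F3} (hs : s * s = 1) (hx : (x : Mat) *ᵥ v = s • v) :
    x * y = y * x := by
  have key : ∀ u : Fin 2 ⊕ Fin 2 → F3, ((x * y : Sp) : Mat) *ᵥ u = ((y * x : Sp) : Mat) *ᵥ u := by
    intro u
    have e1 : ((x * y : Sp) : Mat) = (x : Mat) * y := rfl
    have e2 : ((y * x : Sp) : Mat) = (y : Mat) * x := rfl
    rw [e1, e2, ← Matrix.mulVec_mulVec, ← Matrix.mulVec_mulVec, hy,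
      ClassicalGeometry.SympBasic.sympTransvection_mulVec, ClassicalGeometry.SympBasic.sympTransvection_mulVec,
      Matrix.mulVec_add, Matrix.mulVec_smul, hx]
    have h1 : sympForm 2 F3 ((x : Mat) *ᵥ u) v = s * sympForm 2 F3 u v := by
      have h2 : sympForm 2 F3 ((x : Mat) *ᵥ u) ((x : Mat) *ᵥ v) = sympForm 2 F3 u v :=
        ClassicalGeometry.SympBasic.sympForm_mulVec x.2 u v
      rw [hx, ClassicalGeometry.SympBasic.sympForm_smul_right] at h2
      calc sympForm 2 F3 ((x : Mat) *ᵥ u) v = (s * s) * sympForm 2 F3 ((x : Mat) *ᵥ u) v := by rw [hs, one_mul]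
        _ = s * sympForm 2 F3 u v := by rw [mul_assoc, h2]
    rw [h1, smul_smul]
    congr 2
    ring
  apply Subtype.ext
  refine Matrix.ext fun i j => ?_
  have h1 := congrFun (key (Pi.single j 1)) i
  simpa only [_root_.Submonoid.coe_mul, _root_.Matrix.mulVec_single, _root_.MulOpposite.op_one, _root_.Pi.smul_apply, _root_.Matrix.col_apply, _root_.one_smul] using h1

theorem mk_mulVec (p q : P4) (v : Fin 2 ⊕ Fin 2 → F3) : mk p q *ᵥ v =
    Sum.elim ![p.1 * v (.inl 0) + p.2.1 * v (.inr 0), q.1 * v (.inl 1) + q.2.1 * v (.inr 1)]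
      ![p.2.2.1 * v (.inl 0) + p.2.2.2 * v (.inr 0), q.2.2.1 * v (.inl 1) + q.2.2.2 * v (.inr 1)] := by
  unfold mk bm
  rw [fromBlocks_mulVec]
  funext i
  rcases i with i | i <;> (revert i; simp [mulVec_diagonal, _root_.Fin.forall_fin_succ])

theorem m4_mulVec (v : Fin 2 ⊕ Fin 2 → F3) : (m4 : Mat) *ᵥ v =
    Sum.elim ![v (.inl 1), v (.inl 0)] ![v (.inr 1), v (.inr 0)] := by
  rw [m4_eq, fromBlocks_mulVec]
  funext i
  rcases i with i | i <;> (revert i; simp [Cfsg.Agent.OddHalf.Small.PSp43.Pm, Matrix.mulVec, dotProduct, Fin.sum_univ_two, _root_.Fin.forall_fin_succ])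

theorem trans_aux : ∀ x y u v : F3, (x ≠ 0 ∨ y ≠ 0) → (u ≠ 0 ∨ v ≠ 0) → ∃ a b c d : F3, a * d - b * c = 1 ∧
    a * x + b * y = u ∧ c * x + d * y = v := by decide +kernel

theorem gen (H : Subgroup (PSp 2 F3)) (h1 : ∀ p, p * z = z * p → p ∈ H) (h2 : ∀ p, p * t = t * p → p ∈ H) :
    H = ⊤ := by
  have key : _root_.Subgroup.closure {A : Sp | ∃ (w : Fin 2 ⊕ Fin 2 → F3) (c : F3), (A : Mat) = sympTransvection 2 w c} ≤
      H.comap Cfsg.Agent.OddHalf.Small.PSp43.πh := by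
    rw [closure_le]
    rintro y ⟨v, c, hy⟩
    show π y ∈ H
    have s1 : (1 : F3) * 1 = 1 := by decide
    have s2 : (-1 : F3) * -1 = 1 := by decide
    have hz : ∀ s : F3, s * s = 1 → (m3 : Mat) *ᵥ v = s • v → π y ∈ H := by
      intro s hs hm
      apply h1
      have h3 := comm_of_eigen hy hs hm
      show π y * π m3 = π m3 * π y
      rw [← π_mul, ← π_mul, h3]
    by_cases hv0 : v (.inl 0) = 0 ∧ v (.inr 0) = 0
    · refine hz (-1) s2 ?_
      rw [m3_mk, mk_mulVec]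
      funext i
      rcases i with i | i <;> (revert i; simp only [hv0.1, hv0.2, o4, ng, _root_.Fin.forall_fin_succ, _root_.Nat.succ_eq_add_one, Nat.reduceAdd, Fin.isValue, _root_.MulZeroClass.mul_zero, _root_.add_zero, _root_.neg_zero, _root_.neg_mul, _root_.one_mul, _root_.MulZeroClass.zero_mul, _root_.zero_add, _root_.Sum.elim_inl, _root_.Pi.smul_apply, _root_.smul_eq_mul, _root_.Matrix.cons_val_zero, _root_.Matrix.cons_val_succ, _root_.Matrix.cons_val_fin_one, _root_.neg_inj, _root_.Fin.succ_zero_eq_one, _root_.IsEmpty.forall_iff, _root_.and_self, _root_.Sum.elim_inr])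
    by_cases hv1 : v (.inl 1) = 0 ∧ v (.inr 1) = 0
    · refine hz 1 s1 ?_
      rw [m3_mk, mk_mulVec]
      funext i
      rcases i with i | i <;> (revert i; simp only [hv1.1, hv1.2, o4, ng, _root_.Fin.forall_fin_succ, _root_.Nat.succ_eq_add_one, Nat.reduceAdd, Fin.isValue, _root_.one_mul, _root_.MulZeroClass.zero_mul, _root_.add_zero, _root_.neg_zero, _root_.MulZeroClass.mul_zero, _root_.zero_add, _root_.Sum.elim_inl, _root_.Pi.smul_apply, _root_.smul_eq_mul, _root_.Matrix.cons_val_zero, _root_.Matrix.cons_val_succ, _root_.Matrix.cons_val_fin_one, _root_.Fin.succ_zero_eq_one, _root_.IsEmpty.forall_iff, _root_.and_self, _root_.Sum.elim_inr])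
    · obtain ⟨a, b, c', d, hd, e1, e2⟩ := trans_aux (v (.inl 0)) (v (.inr 0)) (v (.inl 1)) (v (.inr 1))
        (by by_contra hcon; push Not at hcon; exact hv0 hcon) (by by_contra hcon; push Not at hcon; exact hv1 hcon)
      have hp : dt (a, b, c', d) = 1 := hd
      let h : Sp := el (a, b, c', d) o4 hp dt_o
      have hz' : π h ∈ H := by
        apply h1
        have h3 : π h = e (a, b, c', d) o4 := (e_def hp dt_o).symm
        rw [h3]
        exact z_comm hp dt_o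
      have hw : ((h⁻¹ * m4 * h : Sp) : Mat) *ᵥ v = (1 : F3) • v := by
        have e3 : ((h⁻¹ * m4 * h : Sp) : Mat) = ((h⁻¹ : Sp) : Mat) * (m4 : Mat) * (h : Mat) := rfl
        have e4 : (h : Mat) *ᵥ v = Sum.elim ![v (.inl 1), v (.inl 1)] ![v (.inr 1), v (.inr 1)] := by
          show mk (a, b, c', d) o4 *ᵥ v = _
          rw [mk_mulVec]
          funext i
          rcases i with i | i <;> (revert i; simp [e1, e2, o4, _root_.Fin.forall_fin_succ])
        have e5 : (m4 : Mat) *ᵥ ((h : Mat) *ᵥ v) = (h : Mat) *ᵥ v := by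
          rw [e4, m4_mulVec]
          funext i
          rcases i with i | i <;> (revert i; simp [_root_.Fin.forall_fin_succ])
        have e6 : ((h⁻¹ : Sp) : Mat) * (h : Mat) = 1 := congrArg Subtype.val (inv_mul_cancel h)
        rw [e3, ← Matrix.mulVec_mulVec, ← Matrix.mulVec_mulVec, e5, Matrix.mulVec_mulVec, e6, Matrix.one_mulVec,
          one_smul]
      have hcomm := comm_of_eigen hy s1 hw
      have h4 : π (h * y * h⁻¹) ∈ H := by
        apply h2
        have h5 : (h * y * h⁻¹) * m4 = m4 * (h * y * h⁻¹) := by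
          calc (h * y * h⁻¹) * m4 = h * (y * (h⁻¹ * m4 * h)) * h⁻¹ := by group
            _ = h * ((h⁻¹ * m4 * h) * y) * h⁻¹ := by rw [hcomm]
            _ = m4 * (h * y * h⁻¹) := by group
        show π (h * y * h⁻¹) * π m4 = π m4 * π (h * y * h⁻¹)
        rw [← π_mul, ← π_mul, h5]
      have h6 : π y = (π h)⁻¹ * π (h * y * h⁻¹) * π h := by
        rw [π_mul, π_mul]
        have h7 : π h⁻¹ = (π h)⁻¹ := rfl
        rw [h7]; group
      rw [h6]
      exact H.mul_mem (H.mul_mem (H.inv_mem hz') h4) hz'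
  rw [eq_top_iff]
  intro x _
  obtain ⟨g, rfl⟩ := QuotientGroup.mk_surjective x
  have h3 : g ∈ _root_.Subgroup.closure {A : Sp | ∃ (w : Fin 2 ⊕ Fin 2 → F3) (c : F3), (A : Mat) = sympTransvection 2 w c} := by
    rw [Cfsg.Agent.S0765.result (F := F3) 2]
    exact mem_top _
  exact key h3

/-- **`PSp₄(3)`** -/
theorem row : Row (PSp 2 F3) := by
  have : Finite (PSp 2 F3) := Quotient.finite _
  refine coreS.row sheet ?_ Q0_le_S cent_Q0 (fun s hs a ha => (mem_normalizer_iff.mp (S_norm hs) a).mp ha) ?_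
    (g := π Cfsg.Agent.SmallSimple.S1000.Order25920PSp.ga) (w := t)
    (fun a ha => (mem_normalizer_iff.mp Cfsg.Agent.SmallSimple.S1000.Order25920PSp.ga_mem a).mp ha) ?_ t_S gen
  · intro x hx hr
    rcases cent_R hx hr with h | h
    · rw [h]; exact ⟨one_mem _, fun p _ => by rw [one_mul, mul_one]⟩
    · rw [h]; exact ⟨z_R, fun p hp => hp.symm⟩
  · intro a ha hs p hp
    rcases cent_R (S_z (Q0_le_S ha)) (fun r hr => (hs r (R_le_S hr)).symm) with h | h
    · rw [h, one_mul, mul_one]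
    · rw [h]; exact hp.symm
  · have h : π Cfsg.Agent.SmallSimple.S1000.Order25920PSp.ga * z =
        t * π Cfsg.Agent.SmallSimple.S1000.Order25920PSp.ga := by
      rw [← π_mul, ← π_mul]
      exact π_eq (by decide +kernel)
    rw [h]; group

end Cfsg.Agent.OddHalf.D4.Small.KPSp43

namespace Cfsg.Agent.OddHalf.D4.Small

/-- the facts on `K ≅ PSp₄(3)` -/
theorem row_psp43 {K : Type*} [Group K] {F : Type*} [Field F] [Fintype F] (hF : Fintype.card F = 3)
    (e : K ≃* Cfsg.PSp 2 F) : Row K :=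
  KPSp43.row.of_equiv (e.trans
    (Cfsg.Agent.LieClassical.FieldTransfer.pspCongr 2 (Cfsg.Agent.Lib.FieldThree.equivOfCard hF))).symm

end Cfsg.Agent.OddHalf.D4.Small

end

-- merged: Cfsg.Agent.OddHalf.D4.Small.UFourLoc
section

/-!
# ODD, D4, small Lie odd, `U₄(3)`: the local facts (helper890)

For a finite group with the configuration `Tw` (helper893):
* `isQQ`: `Q = ⟨i, j⟩ * ⟨k, l⟩`;
* `syl`: `⟨i, j, k, l, y, s⟩` of order `2 ^ 7`;
* `abel`: `A = ⟨z, s, i k, j l⟩`, `C(A) = A`, normalised by `syl` and by `d`.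
-/

set_option autoImplicit false

namespace Cfsg.Agent.OddHalf.D4.Small.UFour

open Subgroup Cfsg.Agent.Co2Type.Quad Cfsg.Agent.LargeExtra.W2 Cfsg.Agent.LargeExtra.W2.CM
open Cfsg.Agent.LargeExtra.W2.U43 Cfsg.Agent.LargeExtra.W2.U43.ExistsD Cfsg.Agent.LargeExtra.W2.U43.InvClass
open Cfsg.Agent.OddHalf.D6.QThree.U43Facts

variable {G : Type*} [Group G] {Q : Subgroup G} {z i j k l x₁ x₂ y s d : G}

/-! ### `Q₁`, `Q₂` -/

/-- a finite multiplicatively closed set of elements is a subgroup -/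
def ofMul [Finite G] (S : Set G) (h1 : (1 : G) ∈ S) (hm : ∀ a ∈ S, ∀ b ∈ S, a * b ∈ S) : Subgroup G where
  carrier := S
  one_mem' := h1
  mul_mem' := fun ha hb => hm _ ha _ hb
  inv_mem' := by
    intro a ha
    have h2 : ∀ n : ℕ, a ^ n ∈ S := by
      intro n
      induction n with
      | zero => rw [pow_zero]; exact h1
      | succ n ih => rw [pow_succ]; exact hm _ ih _ ha
    have h3 : a⁻¹ = a ^ (orderOf a - 1) := by
      rw [inv_eq_iff_mul_eq_one, ← pow_succ', Nat.sub_add_cancel (orderOf_pos a), pow_orderOf_eq_one]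
    rw [h3]
    exact h2 _

variable [Finite G]

/-- `⟨i, j⟩` -/
def Q1 (R : Rules true false true z i j k l x₁ x₂ y s) : Subgroup G :=
  ofMul {x | ∃ σ a b : Bool, x = Qt.ev z i j k l ⟨σ, a, b, false, false⟩}
    ⟨false, false, false, by simp [Qt.ev, pw]⟩ (by
      rintro _ ⟨σ, a, b, rfl⟩ _ ⟨σ', a', b', rfl⟩
      rw [evQ_mul R]
      exact ⟨_, _, _, rfl⟩)

/-- `⟨k, l⟩` -/
def Q2 (R : Rules true false true z i j k l x₁ x₂ y s) : Subgroup G :=
  ofMul {x | ∃ σ a b : Bool, x = Qt.ev z i j k l ⟨σ, false, false, a, b⟩}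
    ⟨false, false, false, by simp [Qt.ev, pw]⟩ (by
      rintro _ ⟨σ, a, b, rfl⟩ _ ⟨σ', a', b', rfl⟩
      rw [evQ_mul R]
      exact ⟨_, _, _, rfl⟩)

theorem isQ1 (R : Rules true false true z i j k l x₁ x₂ y s) (z1 : z ≠ 1) : IsQ z (Q1 R) := by
  refine IsQ.mk' (i := i) (j := j) R.zz z1 ⟨false, true, false, by simp [Qt.ev, pw]⟩
    ⟨false, false, true, by simp [Qt.ev, pw]⟩ R.ii R.jj (by coll R) ?_
  rintro _ ⟨σ, a, b, rfl⟩
  have hz1 : z * i = i * z := R.zi.symm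
  have hz2 : z * j = j * z := R.zj.symm
  have hz3 : z * (i * j) = i * j * z := by rw [← mul_assoc, hz1, mul_assoc, hz2, mul_assoc]
  rcases σ with _ | _ <;> rcases a with _ | _ <;> rcases b with _ | _ <;>
    simp only [Qt.ev, pw, hz1, hz2, hz3, _root_.cond_false, _root_.mul_one, _root_.true_or, _root_.cond_true, _root_.one_mul, _root_.left_eq_mul, _root_.right_eq_mul, _root_.or_true, _root_.mul_eq_left, _root_.mul_right_inj, _root_.mul_eq_right, _root_.mul_left_inj]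

theorem isQ2 (R : Rules true false true z i j k l x₁ x₂ y s) (z1 : z ≠ 1) : IsQ z (Q2 R) := by
  refine IsQ.mk' (i := k) (j := l) R.zz z1 ⟨false, true, false, by simp [Qt.ev, pw]⟩
    ⟨false, false, true, by simp [Qt.ev, pw]⟩ R.kk R.ll (by coll R) ?_
  rintro _ ⟨σ, a, b, rfl⟩
  have hz1 : z * k = k * z := R.zk.symm
  have hz2 : z * l = l * z := R.zl.symm
  have hz3 : z * (k * l) = k * l * z := by rw [← mul_assoc, hz1, mul_assoc, hz2, mul_assoc]
  rcases σ with _ | _ <;> rcases a with _ | _ <;> rcases b with _ | _ <;>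
    simp only [Qt.ev, pw, hz1, hz2, hz3, _root_.cond_false, _root_.mul_one, _root_.true_or, _root_.cond_true, _root_.one_mul, _root_.left_eq_mul, _root_.right_eq_mul, _root_.or_true, _root_.mul_eq_left, _root_.mul_right_inj, _root_.mul_eq_right, _root_.mul_left_inj]

theorem ev_mem (h : Tw Q z i j k l x₁ x₂ y s) (w : Qt) : w.ev z i j k l ∈ Q := by
  have hz : z ∈ Q := h.large.z_mem
  have hi : i ∈ Q := by rw [h.gen]; exact _root_.Subgroup.subset_closure (by simp)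
  have hj : j ∈ Q := by rw [h.gen]; exact _root_.Subgroup.subset_closure (by simp)
  have hk : k ∈ Q := by rw [h.gen]; exact _root_.Subgroup.subset_closure (by simp)
  have hl : l ∈ Q := by rw [h.gen]; exact _root_.Subgroup.subset_closure (by simp)
  have key : ∀ (b : Bool) (g : G), g ∈ Q → pw b g ∈ Q := by
    intro b g hg
    cases b
    · exact one_mem _
    · exact hg
  exact mul_mem (key _ _ hz) (mul_mem (key _ _ hi) (mul_mem (key _ _ hj) (mul_mem (key _ _ hk) (key _ _ hl))))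

/-- `Q = Q₁ * Q₂` -/
theorem isQQ (h : Tw Q z i j k l x₁ x₂ y s) : IsQQ z (Q1 h.rules) (Q2 h.rules) Q where
  q1 := isQ1 h.rules h.large.z_ne
  q2 := isQ2 h.rules h.large.z_ne
  le1 := by
    rintro _ ⟨σ, a, b, rfl⟩
    exact ev_mem h _
  le2 := by
    rintro _ ⟨σ, a, b, rfl⟩
    exact ev_mem h _
  com := by
    rintro _ ⟨σ, a, b, rfl⟩ _ ⟨σ', a', b', rfl⟩
    rw [evQ_mul h.rules, evQ_mul h.rules]
    congr 1
    cases σ <;> cases σ' <;> cases a <;> cases b <;> cases a' <;> cases b' <;> rfl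
  inf := by
    rintro _ ⟨σ, a, b, rfl⟩ ⟨σ', a', b', h1⟩
    have h2 := evQ_inj h h1
    injection h2 with h3 h4 h5 h6 h7
    subst h4 h5
    cases σ
    · left; simp [Qt.ev, pw]
    · right; simp [Qt.ev, pw]
  mem := by
    intro r hr
    obtain ⟨w, rfl⟩ := exists_qt h hr
    refine ⟨_, ⟨w.s, w.a, w.b, rfl⟩, _, ⟨false, w.c, w.d, rfl⟩, ?_⟩
    rw [evQ_mul h.rules]
    congr 1
    obtain ⟨σ, a, b, c, d⟩ := w
    cases σ <;> cases a <;> cases b <;> cases c <;> cases d <;> rfl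

/-- the element `x₁` of order three -/
theorem x₁_facts (h : Tw Q z i j k l x₁ x₂ y s) :
    x₁ * z = z * x₁ ∧ x₁ * x₁ * x₁ = 1 ∧ (∀ r ∈ Q2 h.rules, x₁ * r = r * x₁) ∧
      ∀ x ∈ Q1 h.rules, x ≠ 1 → x ≠ z → x₁ * x * x₁⁻¹ ≠ x ∧ x₁ * x * x₁⁻¹ ≠ x * z := by
  have R := h.rules
  refine ⟨R.zx, by rw [mul_assoc]; exact R.xxx, ?_, ?_⟩
  · rintro _ ⟨σ, a, b, rfl⟩
    exact ax1 R _
  · rintro _ ⟨σ, a, b, rfl⟩ h1 h2
    have e : x₁ * Qt.ev z i j k l ⟨σ, a, b, false, false⟩ * x₁⁻¹ =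
        (Qt.x1 ⟨σ, a, b, false, false⟩).ev z i j k l := by
      rw [ax1 R, mul_inv_cancel_right]
    have ez : z = Qt.ev z i j k l ⟨true, false, false, false, false⟩ := by simp [Qt.ev, pw]
    constructor
    · intro h3
      rw [e] at h3
      have h4 := evQ_inj h h3
      injection h4 with h5 h6 h7 h8 h9
      have h6' : b = a := h6
      have h7' : xor a b = b := h7
      subst h6'
      cases b
      · cases σ
        · exact h1 (by simp [Qt.ev, pw])
        · exact h2 (by simp [Qt.ev, pw])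
      · exact absurd h7' (by decide)
    · intro h3
      rw [e] at h3
      nth_rewrite 3 [ez] at h3
      rw [evQ_mul R] at h3
      have h4 := evQ_inj h h3
      injection h4 with h5 h6 h7 h8 h9
      have h6' : b = xor a false := h6
      have h7' : xor a b = xor b false := h7
      subst h6'
      cases a
      · cases σ
        · exact h1 (by simp [Qt.ev, pw])
        · exact h2 (by simp [Qt.ev, pw])
      · exact absurd h7' (by decide)

/-! ### The Sylow 2-subgroup -/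

/-- `⟨i, j, k, l, y, s⟩` -/
def syl (R : Rules true false true z i j k l x₁ x₂ y s) : Subgroup G :=
  ofMul {x | ∃ t : T, t.m = C3.o ∧ t.n = C3.o ∧ x = t.ev z i j k l x₁ x₂ y s}
    ⟨T.one, rfl, rfl, ev_one.symm⟩ (by
      rintro _ ⟨t, h1, h2, rfl⟩ _ ⟨u, h3, h4, rfl⟩
      refine ⟨_, ?_, ?_, ev_mul R t u⟩
      · show t.m.add (ng t.e (bif t.f then u.n else u.m)) = C3.o
        rw [h1, h3, h4]
        cases t.e <;> cases t.f <;> rfl
      · show t.n.add (ng t.e (bif t.f then u.m else u.n)) = C3.o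
        rw [h2, h3, h4]
        cases t.e <;> cases t.f <;> rfl)

/-- `t ^ 16` -/
def p16 (t : T) : T :=
  let t2 := mu t t
  let t4 := mu t2 t2
  let t8 := mu t4 t4
  mu t8 t8

theorem chkP : allT (fun t => !(C3.eqb t.m C3.o && C3.eqb t.n C3.o) || T.beq (p16 t) T.one) = true := by
  decide +kernel

theorem syl_isPGroup (R : Rules true false true z i j k l x₁ x₂ y s) : IsPGroup 2 (syl R) := by
  rintro ⟨x, t, h1, h2, rfl⟩
  refine ⟨4, Subtype.ext ?_⟩
  show (t.ev z i j k l x₁ x₂ y s) ^ 2 ^ 4 = 1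
  have h3 := allT_spec chkP t
  rw [h1, h2, Bool.or_eq_true] at h3
  rcases h3 with h3 | h3
  · exact Bool.noConfusion h3
  · have h4 : p16 t = T.one := T.eq_of_beq h3
    have emul : ∀ t u : T, t.ev z i j k l x₁ x₂ y s * u.ev z i j k l x₁ x₂ y s =
        (mu t u).ev z i j k l x₁ x₂ y s := fun t u => ev_mul R t u
    have h5 : (t.ev z i j k l x₁ x₂ y s) ^ 2 ^ 4 = (p16 t).ev z i j k l x₁ x₂ y s := by
      have h6 : ∀ X : G, X ^ 2 ^ 4 = ((X * X) * (X * X) * ((X * X) * (X * X))) *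
          ((X * X) * (X * X) * ((X * X) * (X * X))) := fun X => by
        have e1 : X * X = X ^ 2 := (pow_two X).symm
        rw [e1, ← pow_add, ← pow_add, ← pow_add]; norm_num
      simp only [p16]
      rw [← emul, ← emul, ← emul, ← emul]
      exact h6 _
    rw [h5, h4, ev_one]

theorem syl_card (h : Tw Q z i j k l x₁ x₂ y s) : 2 ^ 7 ≤ Nat.card (syl h.rules) := by
  let f : (Bool × Bool × Bool × Bool × Bool) × Bool × Bool → syl h.rules := fun u =>
    ⟨T.ev z i j k l x₁ x₂ y s ⟨⟨u.1.1, u.1.2.1, u.1.2.2.1, u.1.2.2.2.1, u.1.2.2.2.2⟩, C3.o, C3.o, u.2.1, u.2.2⟩,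
      ⟨_, rfl, rfl, rfl⟩⟩
  have hf : Function.Injective f := by
    intro u v huv
    have h1 := ev_inj h.toCase9aa h.rules (congrArg Subtype.val huv)
    injection h1 with h2 h3 h4 h5 h6
    injection h2 with g1 g2 g3 g4 g5
    obtain ⟨⟨u1, u2, u3, u4, u5⟩, u6, u7⟩ := u
    obtain ⟨⟨v1, v2, v3, v4, v5⟩, v6, v7⟩ := v
    dsimp only at g1 g2 g3 g4 g5 h5 h6
    rw [g1, g2, g3, g4, g5, h5, h6]
  have h1 := Nat.card_le_card_of_injective f hf
  have h2 : Nat.card ((Bool × Bool × Bool × Bool × Bool) × Bool × Bool) = 2 ^ 7 := by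
    simp [Nat.card_prod, Nat.card_eq_fintype_card]
  rwa [h2] at h1

theorem syl_comm (R : Rules true false true z i j k l x₁ x₂ y s) {x : G} (hx : x ∈ syl R) : x * z = z * x := by
  obtain ⟨t, -, -, rfl⟩ := hx
  exact ev_comm R t

theorem le_syl (h : Tw Q z i j k l x₁ x₂ y s) : Q ≤ syl h.rules := by
  intro x hx
  obtain ⟨w, rfl⟩ := exists_qt h hx
  exact ⟨qt w, rfl, rfl, (ev_qt w).symm⟩

/-! ### The elementary abelian subgroup `A` -/

/-- the code of `z ^ σ (i k) ^ a (j l) ^ b s ^ f` -/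
def at' (σ a b f : Bool) : T := ⟨⟨σ, a, b, a, b⟩, C3.o, C3.o, false, f⟩

theorem at_mul (σ a b f σ' a' b' f' : Bool) : mu (at' σ a b f) (at' σ' a' b' f') =
    at' (xor σ σ') (xor a a') (xor b b') (xor f f') := by
  cases σ <;> cases a <;> cases b <;> cases f <;> cases σ' <;> cases a' <;> cases b' <;> cases f' <;> rfl

/-- `⟨z, s, i k, j l⟩` -/
def abel (R : Rules true false true z i j k l x₁ x₂ y s) : Subgroup G :=
  ofMul {x | ∃ σ a b f : Bool, x = (at' σ a b f).ev z i j k l x₁ x₂ y s}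
    ⟨false, false, false, false, ev_one.symm⟩ (by
      rintro _ ⟨σ, a, b, f, rfl⟩ _ ⟨σ', a', b', f', rfl⟩
      exact ⟨_, _, _, _, (ev_mul R _ _).trans (congrArg (T.ev z i j k l x₁ x₂ y s) (at_mul _ _ _ _ _ _ _ _))⟩)

theorem abel_le (R : Rules true false true z i j k l x₁ x₂ y s) : abel R ≤ syl R := by
  rintro _ ⟨σ, a, b, f, rfl⟩
  exact ⟨_, rfl, rfl, rfl⟩

theorem abel_comm (R : Rules true false true z i j k l x₁ x₂ y s) {a b : G} (ha : a ∈ abel R) (hb : b ∈ abel R) :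
    a * b = b * a := by
  obtain ⟨σ, a, b, f, rfl⟩ := ha
  obtain ⟨σ', a', b', f', rfl⟩ := hb
  rw [ev_mul R, ev_mul R]
  have h1 := at_mul σ a b f σ' a' b' f'
  have h2 := at_mul σ' a' b' f' σ a b f
  unfold mu at h1 h2
  rw [h1, h2, Bool.xor_comm σ', Bool.xor_comm a', Bool.xor_comm b', Bool.xor_comm f']

theorem abel_sq (R : Rules true false true z i j k l x₁ x₂ y s) {a : G} (ha : a ∈ abel R) : a * a = 1 := by
  obtain ⟨σ, a, b, f, rfl⟩ := ha
  rw [ev_mul R]
  have h1 := at_mul σ a b f σ a b f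
  unfold mu at h1
  rw [h1, Bool.xor_self, Bool.xor_self, Bool.xor_self, Bool.xor_self]
  exact ev_one

theorem z_mem (R : Rules true false true z i j k l x₁ x₂ y s) : z ∈ abel R :=
  ⟨true, false, false, false, ev_z.symm⟩

theorem s_mem (R : Rules true false true z i j k l x₁ x₂ y s) : s ∈ abel R :=
  ⟨false, false, false, true, ev_s.symm⟩

theorem ik_mem (R : Rules true false true z i j k l x₁ x₂ y s) : i * k ∈ abel R :=
  ⟨false, true, false, false, by simp [T.ev, Qt.ev, at', pw, pw3]⟩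

theorem jl_mem (R : Rules true false true z i j k l x₁ x₂ y s) : j * l ∈ abel R :=
  ⟨false, false, true, false, by simp [T.ev, Qt.ev, at', pw, pw3]⟩

theorem chkC : allT (fun t => !(T.beq (mu t ts) (mu ts t) && (T.beq (mu t tik) (mu tik t) &&
    T.beq (mu t tjl) (mu tjl t))) || T.beq t (at' t.w.s t.w.a t.w.b t.f)) = true := by
  decide +kernel

/-- `C(A) = A` -/
theorem abel_self (h : Tw Q z i j k l x₁ x₂ y s) {g : G} (hg : ∀ a ∈ abel h.rules, g * a = a * g) :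
    g ∈ abel h.rules := by
  have R := h.rules
  obtain ⟨t, rfl⟩ := exists_ev h.toCase9aa R (hg z (z_mem R))
  have emul : ∀ t u : T, t.ev z i j k l x₁ x₂ y s * u.ev z i j k l x₁ x₂ y s =
      (mu t u).ev z i j k l x₁ x₂ y s := fun t u => ev_mul R t u
  have key : ∀ u : T, u.ev z i j k l x₁ x₂ y s ∈ abel R → T.beq (mu t u) (mu u t) = true := by
    intro u hu
    have h1 := hg _ hu
    rw [emul, emul] at h1
    rw [T.beq_iff]
    exact ev_inj h.toCase9aa R h1
  have k1 := key ts (by rw [ev_s]; exact s_mem R)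
  have k2 := key tik (by
    rw [tik, ← emul, ev_i, ev_k]; exact ik_mem R)
  have k3 := key tjl (by
    rw [tjl, ← emul, ev_j, ev_l]; exact jl_mem R)
  have h3 := allT_spec chkC t
  rw [k1, k2, k3, Bool.or_eq_true] at h3
  rcases h3 with h3 | h3
  · exact Bool.noConfusion h3
  · exact ⟨_, _, _, _, congrArg (T.ev z i j k l x₁ x₂ y s) (T.eq_of_beq h3)⟩

theorem abel_gen (R : Rules true false true z i j k l x₁ x₂ y s) {H : Subgroup G} (hz : z ∈ H) (hs : s ∈ H)
    (hik : i * k ∈ H) (hjl : j * l ∈ H) : abel R ≤ H := by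
  rintro _ ⟨σ, a, b, f, rfl⟩
  have e : (at' σ a b f).ev z i j k l x₁ x₂ y s = pw σ z * (pw a (i * k) * (pw b (j * l) * pw f s)) := by
    have hkj := R.kj
    have h1 : k * (j * l) = j * (k * l) := by rw [← mul_assoc, hkj, mul_assoc]
    cases σ <;> cases a <;> cases b <;> cases f <;> simp only [T.ev, Qt.ev, at', pw, pw3, mul_assoc, _root_.cond_false, _root_.mul_one, _root_.cond_true, _root_.one_mul, _root_.mul_right_inj] <;>
      rw [← mul_assoc k j, hkj, mul_assoc]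
  rw [e]
  have key : ∀ (b : Bool) (g : G), g ∈ H → pw b g ∈ H := by
    intro b g hg
    cases b
    · exact one_mem _
    · exact hg
  exact mul_mem (key _ _ hz) (mul_mem (key _ _ hik) (mul_mem (key _ _ hjl) (key _ _ hs)))

/-- conjugation into `A` from the generators -/
theorem abel_conj (R : Rules true false true z i j k l x₁ x₂ y s) {g : G} (hz : g * z * g⁻¹ ∈ abel R)
    (hs : g * s * g⁻¹ ∈ abel R) (hik : g * (i * k) * g⁻¹ ∈ abel R) (hjl : g * (j * l) * g⁻¹ ∈ abel R) :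
    ∀ a ∈ abel R, g * a * g⁻¹ ∈ abel R := by
  have h1 : abel R ≤ (abel R).comap (MulAut.conj g).toMonoidHom := abel_gen R hz hs hik hjl
  intro a ha
  exact h1 ha

theorem chkN : allT (fun t => !(C3.eqb t.m C3.o && C3.eqb t.n C3.o) ||
    ([tz, ts, tik, tjl].all fun a => anyL [at' false false false false, at' true false false false,
      at' false true false false, at' true true false false, at' false false true false, at' true false true false,
      at' false true true false, at' true true true false, at' false false false true, at' true false false true,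
      at' false true false true, at' true true false true, at' false false true true, at' true false true true,
      at' false true true true, at' true true true true] fun b => T.beq (mu t a) (mu b t))) = true := by
  decide +kernel

/-- the Sylow 2-subgroup normalises `A` -/
theorem syl_norm (R : Rules true false true z i j k l x₁ x₂ y s) {g : G} (hg : g ∈ syl R) :
    ∀ a ∈ abel R, g * a * g⁻¹ ∈ abel R := by
  obtain ⟨t, h1, h2, rfl⟩ := hg
  have h3 := allT_spec chkN t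
  rw [h1, h2, Bool.or_eq_true] at h3
  have emul : ∀ t u : T, t.ev z i j k l x₁ x₂ y s * u.ev z i j k l x₁ x₂ y s =
      (mu t u).ev z i j k l x₁ x₂ y s := fun t u => ev_mul R t u
  rcases h3 with h3 | h3
  · exact Bool.noConfusion h3
  · rw [List.all_eq_true] at h3
    have key : ∀ a ∈ [tz, ts, tik, tjl], t.ev z i j k l x₁ x₂ y s * a.ev z i j k l x₁ x₂ y s *
        (t.ev z i j k l x₁ x₂ y s)⁻¹ ∈ abel R := by
      intro a ha
      obtain ⟨b, hb, h4⟩ := anyL_mem (h3 a ha)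
      have h5 := T.eq_of_beq h4
      have h6 : ∃ σ a b' f, b = at' σ a b' f := by
        simp only [List.mem_cons, List.not_mem_nil, or_false] at hb
        rcases hb with rfl | rfl | rfl | rfl | rfl | rfl | rfl | rfl | rfl | rfl | rfl | rfl | rfl | rfl | rfl | rfl <;>
          exact ⟨_, _, _, _, rfl⟩
      obtain ⟨σ, a', b', f, rfl⟩ := h6
      refine ⟨σ, a', b', f, ?_⟩
      rw [mul_inv_eq_iff_eq_mul, emul, emul, h5]
    have k1 := key tz (by simp)
    have k2 := key ts (by simp)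
    have k3 := key tik (by simp)
    have k4 := key tjl (by simp)
    rw [ev_z] at k1
    rw [ev_s] at k2
    rw [tik, ← emul, ev_i, ev_k] at k3
    rw [tjl, ← emul, ev_j, ev_l] at k4
    exact abel_conj R k1 k2 k3 k4

/-- `d` normalises `A` -/
theorem d_norm (R : Rules true false true z i j k l x₁ x₂ y s) (hd : Del z i j k l x₁ x₂ y s d) :
    ∀ a ∈ abel R, d * a * d⁻¹ ∈ abel R := by
  apply abel_conj R
  · rw [hd.dz]; exact s_mem R
  · rw [hd.ds]; exact mul_mem (s_mem R) (z_mem R)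
  · rw [hd.dik, mul_inv_cancel_right]; exact ik_mem R
  · rw [hd.djl, mul_inv_cancel_right]; exact jl_mem R

end Cfsg.Agent.OddHalf.D4.Small.UFour

end

-- merged: Cfsg.Agent.OddHalf.D4.Small.UFourRel
section

/-!
# ODD, D4, small Lie odd, `U₄(3)`: generation (helper890)

* `rel_of_perm`: the relations of the permutation model hold in every group with the rules of `U₄(3)`.
* `exists_gen`: a group `G` of order `|U₄(3)|` with the configuration `Tw` and `z ~ s ~ y s` is generated by `C(z)`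
  and an element `d` with `Del`.
-/

set_option autoImplicit false
set_option maxRecDepth 10000

namespace Cfsg.Agent.OddHalf.D4.Small.UFour

open Cfsg Cfsg.Agent.Co2Type.Quad Cfsg.Agent.LargeExtra.W2 Cfsg.Agent.LargeExtra.W2.CM
open Cfsg.Agent.LargeExtra.W2.U43 Cfsg.Agent.LargeExtra.W2.U43.Ident
open Cfsg.Agent.LargeExtra.W2.U43.ExistsD Cfsg.Agent.LargeExtra.W2.U43.ThreeLoc
open Cfsg.Agent.LargeExtra.W2.U43.ThreeLocJ Cfsg.Agent.LargeExtra.W2.U43.InvClass
open Cfsg.Agent.SporadicRecognition.CosetCert Cfsg.Agent.SporadicRecognition.CosetCertHyp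

variable {G : Type*} [Group G] {z i j k l x₁ x₂ y s d e : G}

theorem snd_inj (R : Rules true false true z i j k l x₁ x₂ y s) (hd : Del z i j k l x₁ x₂ y s d)
    (he : Del z i j (l * z) (k * z) x₁ x₂⁻¹ y (y * s) e) (j1 : x₁ * (d * x₁ * d⁻¹) = d * x₁ * d⁻¹ * x₁)
    (j2 : e * (x₁ * x₂) * e⁻¹ = d * (x₁ * x₂⁻¹) * d⁻¹ * (d⁻¹ * (x₁ * x₂⁻¹) * d)⁻¹) :
    Function.Injective ((MonoidHom.snd G (Equiv.Perm (Fin 280))).subgroupMap
      (Subgroup.closure ((fun t => (letters i z x₁ y s d e t, PermModel.P t)) '' {x | x < 12}))) := by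
  obtain ⟨hf, hc⟩ := card_pairs R hd he j1 j2
  set L := Subgroup.closure ((fun t => (letters i z x₁ y s d e t, PermModel.P t)) '' {x | x < 12}) with hL
  have h2 : M ≤ L.map (MonoidHom.snd G (Equiv.Perm (Fin 280))) := by
    rw [hL, Graph.map_snd_closure (letters i z x₁ y s d e) PermModel.P]
    exact PermModel.range_le
  have f2 : Function.Surjective ((MonoidHom.snd G (Equiv.Perm (Fin 280))).subgroupMap L) :=
    MonoidHom.subgroupMap_surjective _ _
  have : Finite (L.map (MonoidHom.snd G (Equiv.Perm (Fin 280)))) := Finite.of_surjective _ f2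
  have c1 : Nat.card (L.map (MonoidHom.snd G (Equiv.Perm (Fin 280)))) ≤ Nat.card L :=
    Nat.card_le_card_of_surjective _ f2
  have c2 : Nat.card M ≤ Nat.card (L.map (MonoidHom.snd G (Equiv.Perm (Fin 280)))) :=
    Subgroup.card_le_of_le h2
  have c3 : 3265920 ≤ Nat.card M := SporadicStructure.U43Perm.card_ge
  exact ((Nat.bijective_iff_surjective_and_card _).2 ⟨f2, by omega⟩).1

/-- The relations of the permutation model hold. -/
theorem rel_of_perm (R : Rules true false true z i j k l x₁ x₂ y s) (hd : Del z i j k l x₁ x₂ y s d)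
    (he : Del z i j (l * z) (k * z) x₁ x₂⁻¹ y (y * s) e) (j1 : x₁ * (d * x₁ * d⁻¹) = d * x₁ * d⁻¹ * x₁)
    (j2 : e * (x₁ * x₂) * e⁻¹ = d * (x₁ * x₂⁻¹) * d⁻¹ * (d⁻¹ * (x₁ * x₂⁻¹) * d)⁻¹)
    {w w' : List ℕ} (hw : ∀ t ∈ w, t < 12) (hw' : ∀ t ∈ w', t < 12) (h : PermModel.eqW w w' = true) :
    ev (letters i z x₁ y s d e) w = ev (letters i z x₁ y s d e) w' := by
  have inj := snd_inj R hd he j1 j2
  have mem : ∀ v : List ℕ, (∀ t ∈ v, t < 12) →
      (ev (letters i z x₁ y s d e) v, ev PermModel.P v) ∈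
        Subgroup.closure ((fun t => (letters i z x₁ y s d e t, PermModel.P t)) '' {x | x < 12}) := by
    intro v hv
    rw [← ev_prod]
    induction v with
    | nil => rw [ev_nil]; exact one_mem _
    | cons a v ih =>
      rw [ev_cons]
      exact mul_mem (Subgroup.subset_closure ⟨a, hv a (by simp), rfl⟩)
        (ih fun t ht => hv t (List.mem_cons_of_mem _ ht))
  have h1 : ev PermModel.P w = ev PermModel.P w' := PermModel.prod_eq_of_eqW h
  have h2 := @inj ⟨_, mem w hw⟩ ⟨_, mem w' hw'⟩ (Subtype.ext h1)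
  exact congrArg (fun u => u.1.1) h2

variable {Q : Subgroup G}

/-- `e` may be replaced by `z e z⁻¹` (helper893). -/
theorem conj_mirror (h : Tw Q z i j k l x₁ x₂ y s)
    (he : Del z i j (l * z) (k * z) x₁ x₂⁻¹ y (y * s) e) :
    Del z i j (l * z) (k * z) x₁ x₂⁻¹ y (y * s) (z * e * z⁻¹) := by
  have R := h.rules
  have R' := h.mirror.rules
  have iz : z⁻¹ = z := inv_eq_of_mul_eq_one_left R.zz
  have cz : ∀ {c c' w : G}, c * z = z * c → c' * z = z * c' → e * c * e⁻¹ = c' →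
      (z * e * z⁻¹) * c * (z * e * z⁻¹)⁻¹ = c' := by
    intro c c' w hc hc' h1
    calc (z * e * z⁻¹) * c * (z * e * z⁻¹)⁻¹ = z * e * z⁻¹ * (c * z) * e⁻¹ * z⁻¹ := by group
      _ = z * (e * c * e⁻¹) * z⁻¹ := by rw [hc]; group
      _ = c' * z * z⁻¹ := by rw [h1, hc']
      _ = c' := by group
  have cc : ∀ {c : G}, c * z = z * c → e * c = c * e → (z * e * z⁻¹) * c = c * (z * e * z⁻¹) := by
    intro c hc h1
    have h2 := cz (w := 1) hc hc (by rw [h1]; group)
    rwa [mul_inv_eq_iff_eq_mul] at h2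
  refine ⟨?_, ?_, ?_, ?_, ?_, ?_, ?_⟩
  · have := he.d3
    calc (z * e * z⁻¹) ^ 3 = z * e ^ 3 * z⁻¹ := conj_pow
      _ = 1 := by rw [this]; group
  · exact cz (w := 1) rfl (by coll R) he.dz
  · exact cz (w := 1) (by coll R) (by coll R) he.ds
  · exact cc (by coll R) he.dik
  · exact cc (by coll R) he.djl
  · exact cc (by rw [inv_x₂ R]; coll R) he.dr
  · have hy : y * z = z * y := by coll R
    calc y * (z * e * z⁻¹) * y⁻¹ = y * z * e * (y * z)⁻¹ := by group
      _ = z * (y * e * y⁻¹) * z⁻¹ := by rw [hy]; group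
      _ = z * (e⁻¹ * z) * z⁻¹ := by rw [he.dy]
      _ = (z * e * z⁻¹)⁻¹ * z := by group

/-- `z i j l` is conjugate to `i k` in `C(z)`. -/
theorem conj_zijl (h : Tw Q z i j k l x₁ x₂ y s) :
    ∃ c, c * z = z * c ∧ c * (z * i * j * l) = i * k * c := by
  have R := h.rules
  -- `x₁⁻¹ (i j) x₁ = j`, `x₁⁻¹ j x₁ = i`, `x₂⁻¹ l x₂ = k`
  refine ⟨z * j * (x₁ * x₁) * (x₁ * x₁) * (x₂ * x₂), ?_, ?_⟩ <;> coll R

/-- **Generation**: `C(z)` and `d` generate. -/
theorem exists_gen [Finite G] (h : Tw Q z i j k l x₁ x₂ y s) (hs : IsConj z s) (hys : IsConj z (y * s))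
    (hcard : Nat.card G = 3265920) :
    ∃ d, Del z i j k l x₁ x₂ y s d ∧
      ∀ H : Subgroup G, (∀ g, g * z = z * g → g ∈ H) → d ∈ H → H = ⊤ := by
  have R := h.rules
  obtain ⟨d, hd⟩ := exists_del h hs
  obtain ⟨e₀, he₀⟩ := exists_del h.mirror hys
  have h1 : x₁ * (d * x₁ * d⁻¹) = d * x₁ * d⁻¹ * x₁ := j1 h hd
  obtain ⟨e, he, h2⟩ : ∃ e, Del z i j (l * z) (k * z) x₁ x₂⁻¹ y (y * s) e ∧
      e * (x₁ * x₂) * e⁻¹ = d * (x₁ * x₂⁻¹) * d⁻¹ * (d⁻¹ * (x₁ * x₂⁻¹) * d)⁻¹ := by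
    rcases j2 h hd he₀ with h3 | h3
    · exact ⟨e₀, he₀, h3⟩
    · exact ⟨z * e₀ * z⁻¹, conj_mirror h he₀, h3⟩
  refine ⟨d, hd, ?_⟩
  -- the relation
  have h3 := rel_of_perm R hd he h1 h2 (w := [8, 0, 8, 3, 7, 3, 7, 5, 7])
    (w' := [2, 0, 3, 0, 4, 7, 3, 0, 4, 7, 8, 0, 8, 3, 7, 3, 7]) (by decide) (by decide) (by decide +kernel)
  simp only [ev, List.map_cons, List.map_nil, List.prod_cons, List.prod_nil, letters, mul_one] at h3
  have ss : s * s = 1 := by have := R.ss; simpa only [pw, cond_false] using this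
  have ew : s * (x₁ * s) = x₂ := by
    have h4 : s * x₁ = x₂ * s := R.sx
    rw [← mul_assoc, h4, mul_assoc, ss, mul_one]
  have ej : x₁ * (i * x₁⁻¹) = j := by
    have h4 : x₁ * i * x₁⁻¹ = j := h.x₁_act.i
    rw [← mul_assoc]; exact h4
  have el : s * (j * s) = l := by
    have h4 : s * j = l * s := R.sj
    rw [← mul_assoc, h4, mul_assoc, ss, mul_one]
  have e1 : d * (i * (d * (x₁ * (s * (x₁ * (s * (y * s))))))) = d * i * d * (x₁ * x₂) * (y * s) := by
    rw [← ew]; simp only [mul_assoc]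
  have e2 : z * (i * (x₁ * (i * (x₁⁻¹ * (s * (x₁ * (i * (x₁⁻¹ * (s * (d * (i * (d * (x₁ * (s * (x₁ * s)))))))))))))))
      = z * i * j * l * (d * i * d * (x₁ * x₂)) := by
    rw [← ew, ← el, ← ej]; simp only [mul_assoc]
  rw [e1, e2] at h3
  intro H hC hdH
  have mi : i ∈ H := hC i (by coll R)
  have mj : j ∈ H := hC j (by coll R)
  have mr : x₁ * x₂ ∈ H := hC _ (by coll R)
  have mw : d * i * d * (x₁ * x₂) ∈ H := mul_mem (mul_mem (mul_mem hdH mi) hdH) mr
  obtain ⟨c, hc, hcc⟩ := conj_zijl h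
  have mc : c ∈ H := hC c hc
  have hw := conj_ik h hd
  have mv : j⁻¹ * d⁻¹ * i * d * d ∈ H :=
    mul_mem (mul_mem (mul_mem (mul_mem (_root_.InvMemClass.inv_mem mj) (_root_.InvMemClass.inv_mem hdH)) mi) hdH) hdH
  obtain ⟨v, hv⟩ : ∃ v, v = j⁻¹ * d⁻¹ * i * d * d := ⟨_, rfl⟩
  obtain ⟨w, hw'⟩ : ∃ w, w = d * i * d * (x₁ * x₂) := ⟨_, rfl⟩
  rw [← hv] at hw mv
  rw [← hw'] at h3 mw
  -- `y s = (w⁻¹ c⁻¹ v) z (…)⁻¹`
  have h4 : (w⁻¹ * c⁻¹ * v) * z * (w⁻¹ * c⁻¹ * v)⁻¹ = y * s := by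
    calc (w⁻¹ * c⁻¹ * v) * z * (w⁻¹ * c⁻¹ * v)⁻¹ = w⁻¹ * c⁻¹ * (v * z * v⁻¹) * c * w := by group
      _ = w⁻¹ * c⁻¹ * (i * k * c) * w := by rw [hw]; group
      _ = w⁻¹ * (z * i * j * l * w) := by rw [← hcc]; group
      _ = y * s := by rw [← h3]; group
  have h5 : e * z * e⁻¹ = y * s := he.dz
  have mV : w⁻¹ * c⁻¹ * v ∈ H := mul_mem (mul_mem (_root_.InvMemClass.inv_mem mw) (_root_.InvMemClass.inv_mem mc)) mv
  obtain ⟨V, hV⟩ : ∃ V, V = w⁻¹ * c⁻¹ * v := ⟨_, rfl⟩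
  rw [← hV] at h4 mV
  have h6 : V⁻¹ * e * z = z * (V⁻¹ * e) := by
    calc V⁻¹ * e * z = V⁻¹ * (e * z * e⁻¹) * e := by group
      _ = V⁻¹ * (V * z * V⁻¹) * e := by rw [h5, h4]
      _ = z * (V⁻¹ * e) := by group
  have me : e ∈ H := by
    have h7 := mul_mem mV (hC _ h6)
    rwa [mul_inv_cancel_left] at h7
  have hle : Subgroup.closure ({i, j, k, l, x₁, x₂, y, s, d, e} : Set G) ≤ H := by
    rw [Subgroup.closure_le]
    intro g hg
    simp only [Set.mem_insert_iff, Set.mem_singleton_iff] at hg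
    rcases hg with rfl | rfl | rfl | rfl | rfl | rfl | rfl | rfl | rfl | rfl
    · exact mi
    · exact mj
    · exact hC _ (by coll R)
    · exact hC _ (by coll R)
    · exact hC _ (by coll R)
    · exact hC _ (by coll R)
    · exact hC _ (by coll R)
    · exact hC _ (by coll R)
    · exact hdH
    · exact me
  have hc := (card_simple R h.large.z_ne hd he h1 h2).1
  have h8 : Nat.card H = Nat.card G := by
    apply le_antisymm
    · exact Nat.card_le_card_of_injective _ H.subtype_injective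
    · rw [hcard, ← hc]
      exact Subgroup.card_le_of_le hle
  exact Subgroup.eq_top_of_card_eq H h8

end Cfsg.Agent.OddHalf.D4.Small.UFour

end

-- merged: Cfsg.Agent.OddHalf.D4.Small.UFour
section

/-!
# ODD, D4, small Lie odd: the row of `U₄(3)` (helper890)
-/

set_option autoImplicit false

namespace Cfsg.Agent.OddHalf.D4.Small.UFour

open Subgroup Cfsg.Agent.Co2Type.Quad Cfsg.Agent.LargeExtra.W2 Cfsg.Agent.LargeExtra.W2.CM
open Cfsg.Agent.LargeExtra.W2.U43 Cfsg.Agent.LargeExtra.W2.U43.ExistsD Cfsg.Agent.LargeExtra.W2.U43.InvClass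
open Cfsg.Agent.OddHalf.D6.QThree.U43Facts Cfsg.Agent.OddHalf.D6.QThree

universe u

variable {K : Type u} [Group K] [Finite K] {Q : Subgroup K} {z i j k l x₁ x₂ y s : K}

/-- `syl` is a Sylow 2-subgroup. -/
theorem exists_sylow (h : Tw Q z i j k l x₁ x₂ y s) (hcard : Nat.card K = 3265920) :
    ∃ S : Sylow 2 K, (S : Subgroup K) = syl h.rules := by
  have : Fact (Nat.Prime 2) := ⟨Nat.prime_two⟩
  have h1 : Nat.card (syl h.rules) ∣ 2 ^ 7 := by
    obtain ⟨n, hn⟩ := IsPGroup.iff_card.1 (syl_isPGroup h.rules)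
    have h2 : Nat.card (syl h.rules) ∣ Nat.card K := Subgroup.card_subgroup_dvd_card _
    rw [hcard, show (3265920 : ℕ) = 2 ^ 7 * 25515 by norm_num] at h2
    rw [hn] at h2 ⊢
    exact (Nat.Coprime.pow_left n (by decide : Nat.Coprime 2 25515)).dvd_of_dvd_mul_right h2
  have h2 : Nat.card (syl h.rules) = 2 ^ 7 :=
    le_antisymm (Nat.le_of_dvd (by norm_num) h1) (syl_card h)
  have h3 : Nat.card (syl h.rules) = 2 ^ (Nat.card K).factorization 2 := by
    rw [h2, hcard]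
    congr 1
    have : (3265920 : ℕ) = 2 ^ 7 * 25515 := by norm_num
    rw [this, Nat.factorization_mul (by norm_num) (by norm_num), Nat.Prime.factorization_pow Nat.prime_two]
    simp [Nat.factorization_eq_zero_of_not_dvd]
  exact ⟨Sylow.ofCard (syl h.rules) h3, rfl⟩

/-- `C_P(Q) = ⟨z⟩` -/
theorem self' (h : Tw Q z i j k l x₁ x₂ y s) (p : K) (hp : p * z = z * p) (hc : ∀ r ∈ Q, p * r = r * p) :
    p = 1 ∨ p = z := h.large.cent p (h.large.self p hp hc) hc

/-- the sheet -/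
theorem sheet (h : Tw Q z i j k l x₁ x₂ y s) : Sheet K (syl h.rules) Q z := by
  have R := h.rules
  obtain ⟨d1, d2, d3, d4⟩ := x₁_facts h
  refine Sheet.of_QQ (Q₁ := Q1 R) (Q₂ := Q2 R) ?_ (isQQ h) (self' h) d1 d2 d3 d4
  refine { z2 := R.zz, z1 := h.large.z_ne, zR := h.large.z_mem, RS := le_syl h,
           zc := fun x hx => syl_comm R hx, uniq := ?_, Rn := h.large.conj_mem, char := ?_ }
  · intro x hx _ hx1 hxc
    rcases self' h x (syl_comm R hx) (fun r hr => (hxc r (le_syl h hr)).symm) with h1 | h1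
    · exact absurd h1 hx1
    · exact h1
  · intro α hα r hr
    have hN : Q.map α.toMonoidHom ≤ Q := by
      refine U43Tw.le_of_act h.toPlus h.x₁_act h.x₂_act _ ?_ ?_ ?_
      · rintro _ ⟨q, hq, rfl⟩
        rw [mem_centralizer_singleton_iff]
        show α q * z = z * α q
        have h1 := congrArg α (h.large.comm_z q hq)
        rwa [map_mul, map_mul, hα] at h1
      · rintro c hc _ ⟨q, hq, rfl⟩
        rw [mem_centralizer_singleton_iff] at hc
        have hc' : α.symm c * z = z * α.symm c := by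
          have h1 := congrArg α.symm hc
          have h2 : α.symm z = z := by
            rw [MulEquiv.symm_apply_eq]; exact hα.symm
          rwa [map_mul, map_mul, h2] at h1
        refine ⟨_, h.large.conj_mem _ hc' q hq, ?_⟩
        show α (α.symm c * q * (α.symm c)⁻¹) = c * α q * c⁻¹
        rw [map_mul, map_mul, map_inv, MulEquiv.apply_symm_apply]
      · exact (LargeExtra.Base.isPGroup h.large).map _
    exact hN ⟨r, hr, rfl⟩

/-- **`U₄(3)`: the row.** -/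
theorem row_of_tw (h : Tw Q z i j k l x₁ x₂ y s) (hs : IsConj z s) (hys : IsConj z (y * s))
    (hcard : Nat.card K = 3265920) : Row K := by
  have R := h.rules
  obtain ⟨S, hS⟩ := exists_sylow h hcard
  obtain ⟨d, hd, hgen⟩ := exists_gen h hs hys hcard
  have hsh := sheet h
  rw [← hS] at hsh
  have hodd : Odd (S : Subgroup K).index := by
    rw [← Nat.not_even_iff_odd, even_iff_two_dvd]
    have : Fact (Nat.Prime 2) := ⟨Nat.prime_two⟩
    exact S.not_dvd_index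
  refine ⟨HasSheet.of_one hsh, FOneK.of_one S ?_, ?_⟩
  · -- the second local subgroup
    let L : Subgroup K := normalizer (abel R : Set K)
    have hSL : (S : Subgroup K) ≤ L := by
      intro g hg
      have hg' : g ∈ syl R := hS ▸ hg
      rw [mem_normalizer_iff]
      intro a
      constructor
      · exact fun ha => syl_norm R hg' a ha
      · intro ha
        have h1 := syl_norm R (inv_mem hg') _ ha
        have h2 : g⁻¹ * (g * a * g⁻¹) * g⁻¹⁻¹ = a := by group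
        rwa [h2] at h1
    have hdL : d ∈ L := by
      have h1 := d_norm R hd
      rw [mem_normalizer_iff]
      intro a
      constructor
      · exact fun ha => h1 a ha
      · intro ha
        have h2 := h1 _ (h1 _ ha)
        have h3 : d * (d * (d * a * d⁻¹) * d⁻¹) * d⁻¹ = d * d * d * a * (d * d * d)⁻¹ := by
          simp only [mul_inv_rev, mul_assoc]
        have h4 : d * d * d = 1 := by rw [← hd.d3, pow_succ, pow_two]
        rw [h3, h4] at h2
        simpa using h2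
    refine fOne_of_local (R := Q) (A := abel R) (L := L) (z := z) S.isPGroup' hodd hsh.RS hsh.zc hsh.Rn ?_ ?_ ?_ ?_
      ?_ ?_ ?_
    · intro x hx hxr
      refine ⟨h.large.self x hx hxr, ?_⟩
      intro p hp
      rcases self' h x hx hxr with h1 | h1
      · rw [h1]; simp
      · rw [h1, hp]
    · rw [hS]; exact abel_le R
    · intro x
      constructor
      · exact fun hx => abel_self h hx
      · exact fun hx a ha => abel_comm R hx ha
    · intro g hg a ha
      exact (mem_normalizer_iff.mp hg a).mp ha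
    · have h1 : (S : Subgroup K).relIndex L ∣ (S : Subgroup K).index := relIndex_dvd_index_of_le hSL
      exact Odd.of_dvd_nat hodd h1
    · intro a ha hac p hp
      have hac' : ∀ r ∈ Q, a * r = r * a := fun r hr =>
        (hac r (hsh.RS hr) (hSL (hsh.RS hr))).symm
      have haz : a * z = z * a := abel_comm R ha (z_mem R)
      rcases self' h a haz hac' with h1 | h1
      · rw [h1]; simp
      · rw [h1, hp]
    · intro H hP hLH
      exact hgen H hP (hLH hdL)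
  · -- `K = ⟨C(z), C(i k)⟩`
    have hik : i * k ∈ (S : Subgroup K) := by rw [hS]; exact abel_le R (ik_mem R)
    refine NoSEK.of_gen (z := z) (w := i * k) (hsh.RS hsh.zR) hik hsh.z2 hsh.z1 (abel_sq R (ik_mem R)) ?_ ?_
    · intro h1
      have h2 : j * (i * k) = (i * k) * j * z := by coll R
      rw [h1, mul_one, one_mul] at h2
      exact h.large.z_ne (by simpa using h2)
    · intro H h1 h2
      exact hgen H h1 (h2 d hd.dik)

/-- **`U₄(3)`** -/
theorem row {X : Type u} [Group X] {F : Type*} [Field F] [Fintype F] (hF : Fintype.card F = 9)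
    (f : X ≃* Cfsg.PSU 4 F 3) : Row X := by
  have : Fact (Nat.Prime 3) := ⟨Nat.prime_three⟩
  have : CharP F 3 := charP_of_card_eq_prime_pow (f := 2) (by rw [hF]; norm_num)
  have : Finite (Cfsg.PSU 4 F 3) := inferInstance
  obtain ⟨i, j, k, l, x₁, x₂, y, s, h, hs, hys⟩ := U43Tw.exists_tw (F := F) hF
  exact (row_of_tw h hs hys (by rw [U43Tw.card_K hF]; norm_num)).of_equiv f.symm

end Cfsg.Agent.OddHalf.D4.Small.UFour

end

-- merged: Cfsg.Agent.OddHalf.D4.Small.LFourG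
section

/-!
# ODD, D4, small Lie odd: `L₄(3)`, Theorem 1

`K`, `K'` two subgroups with the facts `BaseL`, no common involution in `C(K)`, `C(K')`. Then `C(K') ∩ N(K)` has
2-rank at most 1.
-/

set_option autoImplicit false

namespace Cfsg.Agent.OddHalf.D4.Small.LFour

open Subgroup Cfsg Basic

variable {G : Type*} [Group G]

/-- The facts on `K` used for every conjugate of `K`. -/
structure BaseL (K : Subgroup G) : Prop where
  te : TE K
  cen : ∀ x ∈ K, x ∈ centralizer (K : Set G) → x = 1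
  simp : ∀ N : Subgroup G, N ≤ K → (∀ a ∈ K, ∀ n ∈ N, a * n * a⁻¹ ∈ N) → N = ⊥ ∨ N = K
  sheet : HasSheetL ↥K
  /-- `m_2(C(K)) ≥ 2` -/
  rk : ∃ a ∈ centralizer (K : Set G), ∃ b ∈ centralizer (K : Set G), a * a = 1 ∧ b * b = 1 ∧ a ≠ 1 ∧ b ≠ 1 ∧
    a ≠ b ∧ a * b = b * a

theorem BaseL.toBase [Finite G] {K : Subgroup G} (h : BaseL K) : Base K :=
  ⟨h.te, h.cen, h.simp, fun _ hS => h.sheet.hasSheet.atS hS, h.rk⟩

section Pull

variable {K S : Subgroup G}

theorem atS_of {P R : Subgroup ↥K} {z : ↥K} (hS : IsSyl S (normalizer (K : Set G)))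
    (hP : ∀ x : ↥K, x ∈ P ↔ (x : G) ∈ S) (hs : Sheet ↥K P R z) : AtS K S (R.map K.subtype) (z : G) := by
  have hzP : z ∈ P := hs.RS hs.zR
  have hzS : (z : G) ∈ S := (hP z).mp hzP
  have huniq : ∀ x ∈ S, x ∈ K → x * x = 1 → x ≠ 1 → (∀ s ∈ S, s ∈ K → s * x = x * s) → x = (z : G) := by
    intro x hxS hxK hx2 hx1 hxc
    have h1 := hs.uniq ⟨x, hxK⟩ ((hP _).mpr hxS) (Subtype.ext hx2) (fun h1 => hx1 (congrArg Subtype.val h1))
      (fun s hs' => Subtype.ext (hxc s ((hP s).mp hs') s.2))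
    exact congrArg Subtype.val h1
  refine ⟨hs.toLocG, hzS, ?_, huniq⟩
  intro s hs'
  have hsN := hS.le hs'
  have h1 : s * (z : G) * s⁻¹ = z := by
    refine huniq _ (S.mul_mem (S.mul_mem hs' hzS) (S.inv_mem hs')) ((mem_normalizer_iff.mp hsN _).mp z.2) ?_ ?_ ?_
    · have h2 : (z : G) * z = 1 := congrArg Subtype.val hs.z2
      calc s * (z : G) * s⁻¹ * (s * z * s⁻¹) = s * ((z : G) * z) * s⁻¹ := by group
        _ = 1 := by rw [h2]; group
    · intro h2
      apply hs.z1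
      apply Subtype.ext
      have h3 : (z : G) = s⁻¹ * (s * z * s⁻¹) * s := by group
      rw [h3, h2]
      group
      rfl
    · intro t ht htK
      have h2 : s⁻¹ * t * s ∈ S := S.mul_mem (S.mul_mem (S.inv_mem hs') ht) hs'
      have h3 : s⁻¹ * t * s ∈ K := (mem_normalizer_iff''.mp hsN t).mp htK
      have h4 : (⟨s⁻¹ * t * s, h3⟩ : ↥K) * z = z * ⟨s⁻¹ * t * s, h3⟩ := hs.zc _ ((hP _).mpr h2)
      have h5 : s⁻¹ * t * s * (z : G) = z * (s⁻¹ * t * s) := congrArg Subtype.val h4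
      calc t * (s * (z : G) * s⁻¹) = s * (s⁻¹ * t * s * z) * s⁻¹ := by group
        _ = s * (z * (s⁻¹ * t * s)) * s⁻¹ := by rw [h5]
        _ = s * z * s⁻¹ * t := by group
  calc s * (z : G) = (s * z * s⁻¹) * s := by group
    _ = z * s := by rw [h1]

/-- the type of a 2-element centralizing the Sylow subgroup -/
def Ty (z : ↥K) (ρ : MulAut ↥K) (i : Fin 4) (x : ↥K) : ↥K :=
  if i = 0 then z * x * z⁻¹ else if i = 1 then ρ x else if i = 2 then ρ (z * x * z⁻¹) else x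

/-- A 2-element centralizing `S ∩ K` acts on `K` as one of the four automorphisms. -/
theorem act_four {P R : Subgroup ↥K} {z : ↥K} {ρ : MulAut ↥K} (hS : IsSyl S (normalizer (K : Set G)))
    (hP : ∀ x : ↥K, x ∈ P ↔ (x : G) ∈ S) (hs : SheetL ↥K P R z ρ) {c : G} (hc : c ∈ S)
    (hcc : ∀ s ∈ S, s ∈ K → c * s = s * c) : ∃ i : Fin 4, ∀ x : ↥K, c * x * c⁻¹ = (Ty z ρ i x : G) := by
  have hcN := hS.le hc
  obtain ⟨n, hn⟩ := hS.two ⟨c, hc⟩
  have hn' : c ^ 2 ^ n = 1 := congrArg Subtype.val hn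
  have h := hs.four (cAut hcN) ⟨n, by
    ext x
    rw [cAut_pow, hn']
    simp⟩ (fun s hs => (cAut_eq_iff hcN s).mpr (hcc s ((hP s).mp hs) s.2))
  rcases h with h | h | h | h
  · exact ⟨3, fun x => congrArg Subtype.val (h x)⟩
  · exact ⟨0, fun x => congrArg Subtype.val (h x)⟩
  · exact ⟨1, fun x => congrArg Subtype.val (h x)⟩
  · exact ⟨2, fun x => congrArg Subtype.val (h x)⟩

/-- two elements acting in the same way differ by an element of `C(K)` -/
theorem mem_centralizer_of_eq {c d : G} (hd : d ∈ normalizer (K : Set G))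
    (h : ∀ x : ↥K, c * x * c⁻¹ = d * x * d⁻¹) : c * d⁻¹ ∈ centralizer (K : Set G) := by
  rw [mem_centralizer_iff]
  intro x hx
  have h1 := h ⟨d⁻¹ * x * d, (mem_normalizer_iff''.mp hd x).mp hx⟩
  have h2 : c * (d⁻¹ * x * d) * c⁻¹ = d * (d⁻¹ * x * d) * d⁻¹ := h1
  calc x * (c * d⁻¹) = (d * (d⁻¹ * x * d) * d⁻¹) * (c * d⁻¹) := by group
    _ = (c * (d⁻¹ * x * d) * c⁻¹) * (c * d⁻¹) := by rw [h2]
    _ = c * d⁻¹ * x := by group

theorem le_of_subgroupOf {H : Subgroup G} (h : H.subgroupOf K = ⊤) : K ≤ H := by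
  intro x hx
  have h2 : (⟨x, hx⟩ : ↥K) ∈ H.subgroupOf K := by rw [h]; exact mem_top _
  exact mem_subgroupOf.mp h2

end Pull

/-- `K ≤ N(K')` is impossible when some element of `C(K') ∩ N(K)` is not in `C(K)`. -/
theorem inf_eq_bot {K K' : Subgroup G} (hK : BaseL K) (hcom : ¬ K ≤ centralizer (K' : Set G))
    (hle : K ≤ normalizer (K' : Set G)) : ∀ x ∈ K, x ∈ centralizer (K' : Set G) → x = 1 := by
  rcases hK.simp (K ⊓ centralizer (K' : Set G)) inf_le_left (by
    intro x hx n hn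
    exact ⟨K.mul_mem (K.mul_mem hx hn.1) (K.inv_mem hx), mem_centralizer_conj (hle hx) hn.2⟩) with h1 | h1
  · intro x hx hxC
    have h2 : x ∈ K ⊓ centralizer (K' : Set G) := ⟨hx, hxC⟩
    rw [h1, mem_bot] at h2
    exact h2
  · exfalso
    apply hcom
    intro x hx
    have h2 : x ∈ K ⊓ centralizer (K' : Set G) := by rw [h1]; exact hx
    exact h2.2

/-- Step A: `z ∈ C(K')`. -/
theorem z_mem {K K' S : Subgroup G} {P R : Subgroup ↥K} {z : ↥K} {ρ : MulAut ↥K} {a b : G} (hK : BaseL K)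
    (te' : TE K')
    (nc : ∀ x ∈ centralizer (K : Set G), x ∈ centralizer (K' : Set G) → x * x = 1 → x = 1)
    (hcom : ¬ K ≤ centralizer (K' : Set G))
    (hS : IsSyl S (normalizer (K : Set G))) (hP : ∀ x : ↥K, x ∈ P ↔ (x : G) ∈ S) (hs : SheetL ↥K P R z ρ)
    (haS : a ∈ S) (hbS : b ∈ S)
    (haC : a ∈ centralizer (K' : Set G)) (hbC : b ∈ centralizer (K' : Set G)) (ha2 : a * a = 1)
    (hb2 : b * b = 1) (ha1 : a ≠ 1) (hb1 : b ≠ 1) (hne : a ≠ b) (hab : a * b = b * a) :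
    (z : G) ∈ centralizer (K' : Set G) := by
  by_contra hz
  have hA := atS_of hS hP hs.toSheet
  have hT : Two K K' z a b := ⟨hS.le haS, hS.le hbS, haC, hbC, ha2, hb2, ha1, hb1, hne, hab, hA.zc a haS,
    hA.zc b hbS⟩
  obtain ⟨h1, h2⟩ := centralizes hA.loc te' hz hT
  obtain ⟨-, h3⟩ := centralizes hA.loc te' hz hT.right
  -- the types
  have ty : ∀ c ∈ S, (∀ p ∈ K, p * z = z * p → c * p = p * c) →
      ∃ i : Fin 4, ∀ x : ↥K, c * x * c⁻¹ = (Ty z ρ i x : G) := fun c hc hcP =>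
    act_four hS hP hs hc (fun s hsS hsK => hcP s hsK (hA.zc s hsS))
  obtain ⟨i, hi⟩ := ty a haS h1
  obtain ⟨j, hj⟩ := ty b hbS h2
  obtain ⟨k, hk⟩ := ty (a * b) (mul_mem haS hbS) h3
  have triv : ∀ c : G, c ∈ centralizer (K' : Set G) → c * c = 1 → c ≠ 1 →
      (∀ x : ↥K, c * x * c⁻¹ = (Ty z ρ 3 x : G)) → False := by
    intro c hcC hc2 hc1 hc
    apply hc1
    refine nc c ?_ hcC hc2
    rw [mem_centralizer_iff]
    intro x hx
    have h4 : c * x * c⁻¹ = x := hc ⟨x, hx⟩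
    calc x * c = (c * x * c⁻¹) * c := by rw [h4]
      _ = c * x := by group
  have same : ∀ c d : G, d ∈ normalizer (K : Set G) → c ∈ centralizer (K' : Set G) →
      d ∈ centralizer (K' : Set G) → c * c = 1 → d * d = 1 → c ≠ d → c * d = d * c →
      ∀ l : Fin 4, (∀ x : ↥K, c * x * c⁻¹ = (Ty z ρ l x : G)) → (∀ x : ↥K, d * x * d⁻¹ = (Ty z ρ l x : G)) →
      False := by
    intro c d hdN hcC hdC hc2 hd2 hcd hcomm l hc hd
    have h4 := mem_centralizer_of_eq hdN (fun x => (hc x).trans (hd x).symm)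
    have h5 : d⁻¹ = d := inv_eq_self_of hd2
    rw [h5] at h4
    apply hcd
    have h6 : c * d = 1 := by
      refine nc _ h4 (mul_mem hcC hdC) ?_
      calc c * d * (c * d) = c * (d * c) * d := by group
        _ = c * (c * d) * d := by rw [hcomm]
        _ = (c * c) * (d * d) := by group
        _ = 1 := by rw [hc2, hd2, mul_one]
    calc c = c * (d * d) := by rw [hd2, mul_one]
      _ = (c * d) * d := by group
      _ = d := by rw [h6, one_mul]
  have hr := hT.right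
  have hr' := hT.symm.right
  have hi3 : i ≠ 3 := by rintro rfl; exact triv a haC ha2 ha1 hi
  have hj3 : j ≠ 3 := by rintro rfl; exact triv b hbC hb2 hb1 hj
  have hk3 : k ≠ 3 := by rintro rfl; exact triv _ hr.bC hr.b2 hr.b1 hk
  have hij : i ≠ j := by
    rintro rfl
    exact same a b hT.bN haC hbC ha2 hb2 hne hab i hi hj
  have hik : i ≠ k := by
    rintro rfl
    exact same a (a * b) hr.bN haC hr.bC ha2 hr.b2 hr.ab hr.com i hi hk
  have hjk : j ≠ k := by
    rintro rfl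
    have h5 : b ≠ a * b := by
      intro h6
      exact ha1 (by simpa using h6.symm)
    refine same b (a * b) hr.bN hbC hr.bC hb2 hr.b2 h5 ?_ j hj hk
    calc b * (a * b) = (b * a) * b := by group
      _ = (a * b) * b := by rw [hab]
  have hall : ∀ l : Fin 4, l ≠ 3 → ∃ c ∈ centralizer (K' : Set G), c * c = 1 ∧ c ≠ 1 ∧
      ∀ x : ↥K, c * x * c⁻¹ = (Ty z ρ l x : G) := by
    intro l hl
    have key : ∀ i j k l : Fin 4, i ≠ 3 → j ≠ 3 → k ≠ 3 → i ≠ j → i ≠ k → j ≠ k → l ≠ 3 →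
        l = i ∨ l = j ∨ l = k := by decide +kernel
    rcases key i j k l hi3 hj3 hk3 hij hik hjk hl with rfl | rfl | rfl
    · exact ⟨a, haC, ha2, ha1, hi⟩
    · exact ⟨b, hbC, hb2, hb1, hj⟩
    · exact ⟨a * b, hr.bC, hr.b2, hr.b1, hk⟩
  -- `K ≤ N(K')`
  have hKN : K ≤ normalizer (K' : Set G) := by
    apply le_of_subgroupOf
    have key : ∀ l : Fin 4, l ≠ 3 → ∀ x : ↥K, Ty z ρ l x = x → x ∈ (normalizer (K' : Set G)).subgroupOf K := by
      intro l hl x hx
      obtain ⟨c, hcC, hc2, hc1, hc⟩ := hall l hl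
      rw [mem_subgroupOf]
      refine te' c hcC hc2 hc1 x ?_
      have h4 := hc x
      rw [hx] at h4
      calc (x : G) * c = (c * x * c⁻¹) * c := by rw [h4]
        _ = c * x := by group
    refine hs.gen1 _ ?_ ?_ ?_
    · intro x hx
      refine key 0 (by decide) x ?_
      show z * x * z⁻¹ = x
      rw [← hx]
      group
    · intro x hx
      exact key 1 (by decide) x hx
    · intro x hx
      exact key 2 (by decide) x hx
  have hbot := inf_eq_bot hK hcom hKN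
  apply ha1
  refine nc a ?_ haC ha2
  rw [mem_centralizer_iff]
  intro x hx
  have h4 : a * x * a⁻¹ * x⁻¹ = 1 := by
    refine hbot _ (K.mul_mem ((mem_normalizer_iff.mp hT.aN x).mp hx) (K.inv_mem hx)) ?_
    have h5 := mul_mem haC (mem_centralizer_conj (hKN hx) (inv_mem haC))
    have h6 : a * (x * a⁻¹ * x⁻¹) = a * x * a⁻¹ * x⁻¹ := by group
    rwa [h6] at h5
  calc x * a = (a * x * a⁻¹ * x⁻¹)⁻¹ * (a * x) := by group
    _ = a * x := by rw [h4, inv_one, one_mul]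

/-- conjugation as a homomorphism -/
def conjN (K : Subgroup G) : ↥(normalizer (K : Set G)) →* MulAut ↥K where
  toFun a := cAut a.2
  map_one' := by
    ext x
    rw [cAut_coe]
    simp
  map_mul' a b := by
    ext x
    rw [MulAut.mul_apply, cAut_coe, cAut_coe, cAut_coe, coe_mul]
    group

/-- **Theorem 1.** -/
theorem rank_le_one [Finite G] {K K' : Subgroup G} (hK : BaseL K) (hK' : BaseL K')
    (nc : ∀ x ∈ centralizer (K : Set G), x ∈ centralizer (K' : Set G) → x * x = 1 → x = 1)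
    (hcom : ¬ K ≤ centralizer (K' : Set G)) (hcom' : ¬ K' ≤ centralizer (K : Set G))
    {a b : G} (haN : a ∈ normalizer (K : Set G)) (hbN : b ∈ normalizer (K : Set G))
    (haC : a ∈ centralizer (K' : Set G)) (hbC : b ∈ centralizer (K' : Set G)) (ha2 : a * a = 1)
    (hb2 : b * b = 1) (ha1 : a ≠ 1) (hb1 : b ≠ 1) (hne : a ≠ b) (hab : a * b = b * a) : False := by
  have nc' : ∀ x ∈ centralizer (K' : Set G), x ∈ centralizer (K : Set G) → x * x = 1 → x = 1 :=
    fun x h1 h2 h3 => nc x h2 h1 h3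
  have mem_cl : ∀ a b : G, a ∈ _root_.Subgroup.closure ({a, b} : Set G) ∧ b ∈ closure ({a, b} : Set G) := fun a b =>
    ⟨_root_.Subgroup.subset_closure (by simp), _root_.Subgroup.subset_closure (by simp)⟩
  have cl_le : ∀ (a b : G) (H : Subgroup G), a ∈ H → b ∈ H → _root_.Subgroup.closure ({a, b} : Set G) ≤ H := by
    intro a b H ha hb
    rw [closure_le]
    rintro x (rfl | hx)
    · exact ha
    · rw [Set.mem_singleton_iff] at hx
      subst hx
      exact hb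
  -- the first Sylow subgroup
  obtain ⟨S, hS, hle⟩ := exists_isSyl (isPGroup_pair ha2 hb2 hab) (cl_le a b _ haN hbN)
  obtain ⟨P, hP⟩ := exists_sylow_inf hS
  obtain ⟨z, R, ρ, hs⟩ := hK.sheet P
  have hA := atS_of hS hP hs.toSheet
  have hz := z_mem hK hK'.te nc hcom hS hP hs (hle (mem_cl a b).1) (hle (mem_cl a b).2) haC hbC ha2 hb2 ha1
    hb1 hne hab
  -- the second one
  have hCN : centralizer (K : Set G) ≤ normalizer (K' : Set G) := by
    intro x hx
    exact hK'.te z hz hA.loc.z2 hA.loc.z1 x (comm_of_centralizer hx hA.loc.zK).symm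
  obtain ⟨c, hc, d, hd, hc2, hd2, hc1, hd1, hcd, hcdc⟩ := hK.rk
  obtain ⟨S', hS', hle'⟩ := exists_isSyl (isPGroup_pair hc2 hd2 hcdc) (cl_le c d _ (hCN hc) (hCN hd))
  obtain ⟨P', hP'⟩ := exists_sylow_inf hS'
  obtain ⟨z', R', ρ', hs'⟩ := hK'.sheet P'
  have hA' := atS_of hS' hP' hs'.toSheet
  have hz' := z_mem hK' hK.te nc' hcom' hS' hP' hs' (hle' (mem_cl c d).1) (hle' (mem_cl c d).2) hc hd hc2 hd2
    hc1 hd1 hcd hcdc
  -- the common Sylow subgroup
  obtain ⟨T, hT, -⟩ := exists_isSyl (M := normalizer (K : Set G) ⊓ normalizer (K' : Set G))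
    (Q := (⊥ : Subgroup G)) IsPGroup.of_bot bot_le
  obtain ⟨S₁, hS₁, hTS₁⟩ := exists_isSyl hT.two (hT.le.trans inf_le_left)
  obtain ⟨P₁, hP₁⟩ := exists_sylow_inf hS₁
  obtain ⟨z₁, R₁, ρ₁, hs₁⟩ := hK.sheet P₁
  have hA₁ := atS_of hS₁ hP₁ hs₁.toSheet
  obtain ⟨hTK, hz₁⟩ := sylow_inf hK'.te hS hA hz hT hS₁ hTS₁ hA₁
  have hT' : IsSyl T (normalizer (K' : Set G) ⊓ normalizer (K : Set G)) := by rw [inf_comm]; exact hT
  obtain ⟨S₂, hS₂, hTS₂⟩ := exists_isSyl hT'.two (hT'.le.trans inf_le_left)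
  obtain ⟨P₂, hP₂⟩ := exists_sylow_inf hS₂
  obtain ⟨z₂, R₂, ρ₂, hs₂⟩ := hK'.sheet P₂
  have hA₂ := atS_of hS₂ hP₂ hs₂.toSheet
  obtain ⟨hTK', hz₂⟩ := sylow_inf hK.te hS' hA' hz' hT' hS₂ hTS₂ hA₂
  -- `T ∩ K ∩ K' = 1`
  have hTKK : ∀ x ∈ T, x ∈ K → x ∈ K' → x = 1 := by
    intro x hxT hxK hxK'
    by_contra hx1
    obtain ⟨y, hyT, hyN, hy2, hyc⟩ := CommConj.exists_central_involution (S := T ⊓ K) (N := K ⊓ K')
      (hT.two.to_le inf_le_left) (by
        intro s hs n hn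
        refine ⟨K.mul_mem (K.mul_mem hs.2 hn.1) (K.inv_mem hs.2), ?_⟩
        exact (mem_normalizer_iff.mp (hT.le hs.1).2 n).mp hn.2)
      ⟨x, ⟨hxT, hxK⟩, ⟨hxK, hxK'⟩, hx1⟩
    have hy22 : y * y = 1 := sq_one hy2
    have hy1 : y ≠ 1 := by
      rintro rfl
      rw [orderOf_one] at hy2
      exact absurd hy2 (by norm_num)
    have h1 : y = z₁ := by
      refine hA₁.uniq y (hTS₁ hyT.1) hyT.2 hy22 hy1 ?_
      intro s hs hsK
      have h2 : s ∈ T ⊓ K := by rw [← hTK]; exact ⟨hs, hsK⟩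
      exact hyc s h2
    apply hy1
    refine hK'.cen y hyN.2 ?_
    rw [h1]
    exact hz₁
  -- `T ∩ K` acts on `K'` by the four automorphisms
  have hfour : ∀ s ∈ T ⊓ K, ∃ i : Fin 4, ∀ x : ↥K', s * x * s⁻¹ = (Ty z₂ ρ₂ i x : G) := by
    intro s hs
    refine act_four hS₂ hP₂ hs₂ (hTS₂ hs.1) ?_
    intro u hu huK
    have hu' : u ∈ T ⊓ K' := by rw [← hTK']; exact ⟨hu, huK⟩
    have h1 : u * s * u⁻¹ * s⁻¹ = 1 := by
      refine hTKK _ ?_ ?_ ?_
      · exact T.mul_mem (T.mul_mem (T.mul_mem hu'.1 hs.1) (T.inv_mem hu'.1)) (T.inv_mem hs.1)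
      · exact K.mul_mem ((mem_normalizer_iff.mp (hT.le hu'.1).1 s).mp hs.2) (K.inv_mem hs.2)
      · have h2 : u * s * u⁻¹ * s⁻¹ = u * (s * u⁻¹ * s⁻¹) := by group
        rw [h2]
        exact K'.mul_mem huK ((mem_normalizer_iff.mp (hT.le hs.1).2 u⁻¹).mp (K'.inv_mem huK))
    calc s * u = (u * s * u⁻¹ * s⁻¹)⁻¹ * (u * s) := by group
      _ = u * s := by rw [h1, inv_one, one_mul]
  -- `R₁ ≤ T ∩ K`
  have hR₁T : ∀ r ∈ R₁, (r : G) ∈ T ⊓ K := by
    intro r hr
    rw [← hTK]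
    exact ⟨(hP₁ r).mp (hs₁.RS hr), r.2⟩
  -- `R₁ ∩ C(K')` has index at most 4
  have hR₁N : ∀ r ∈ R₁, (r : G) ∈ normalizer (K' : Set G) := fun r hr => (hT.le (hR₁T r hr).1).2
  let f : ↥R₁ →* MulAut ↥K' :=
    { toFun := fun r => conjN K' ⟨(r : ↥K), hR₁N r r.2⟩
      map_one' := by
        rw [← map_one (conjN K')]
        rfl
      map_mul' := by
        intro r s
        rw [← map_mul]
        rfl }
  have hf : ∀ (r : ↥R₁) (x : ↥K'), ((f r x : ↥K') : G) = (r : ↥K) * x * ((r : ↥K) : G)⁻¹ := fun r x => rfl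
  have hcenK : (z₁ : G) ∈ centralizer (K' : Set G) := hz₁
  have hker : (∀ n ∈ f.ker.map R₁.subtype, n = 1 ∨ n = z₁) ∨ f.ker.map R₁.subtype = R₁ := by
    refine hs₁.irr _ (map_subtype_le _) ?_
    rintro p hp _ ⟨n, hn, rfl⟩
    have hpN : (p : G) ∈ normalizer (K' : Set G) := hK'.te z₁ hcenK (congrArg Subtype.val hs₁.z2)
      (fun h => hs₁.z1 (Subtype.ext h)) p (congrArg Subtype.val hp)
    have h1 : ((n : ↥K) : G) ∈ centralizer (K' : Set G) := by
      rw [mem_centralizer_iff]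
      intro x hx
      have h2 : f n = 1 := hn
      have h3 := hf n ⟨x, hx⟩
      rw [h2] at h3
      have h4 : x = (n : ↥K) * x * ((n : ↥K) : G)⁻¹ := h3
      calc x * ((n : ↥K) : G) = ((n : ↥K) * x * ((n : ↥K) : G)⁻¹) * (n : ↥K) := by rw [← h4]
        _ = (n : ↥K) * x := by group
    have h2 : (p : G) * (n : ↥K) * (p : G)⁻¹ ∈ centralizer (K' : Set G) := mem_centralizer_conj hpN h1
    refine ⟨⟨p * n * p⁻¹, hs₁.Rn p hp n n.2⟩, ?_, rfl⟩
    show f _ = 1
    ext x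
    rw [hf]
    have h3 := mem_centralizer_iff.mp h2 x x.2
    show (p : G) * (n : ↥K) * (p : G)⁻¹ * x * ((p : G) * (n : ↥K) * (p : G)⁻¹)⁻¹ = x
    rw [← h3]
    group
  have hR₁C : ∀ r ∈ R₁, (r : G) ∈ centralizer (K' : Set G) := by
    rcases hker with h1 | h1
    · exfalso
      -- the kernel has at most 2 elements, the range at most 4
      have hk2 : Nat.card ↥f.ker ≤ 2 := by
        have h2 : Set.InjOn (fun n : ↥R₁ => (n : ↥K)) (f.ker : Set ↥R₁) := fun a _ b _ h => Subtype.ext h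
        have h3 : (f.ker : Set ↥R₁).ncard ≤ ({1, z₁} : Set ↥K).ncard := by
          refine Set.ncard_le_ncard_of_injOn (fun n : ↥R₁ => (n : ↥K)) ?_ h2 (Set.toFinite _)
          intro n hn
          rcases h1 n ⟨n, hn, rfl⟩ with h4 | h4
          · exact Or.inl h4
          · exact Or.inr h4
        have h4 : ({1, z₁} : Set ↥K).ncard ≤ 2 := Set.ncard_insert_le _ _ |>.trans (by rw [Set.ncard_singleton])
        have h5 : Nat.card ↥f.ker = (f.ker : Set ↥R₁).ncard := rfl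
        omega
      have hr4 : Nat.card ↥f.range ≤ 4 := by
        have h3 : ∀ α : ↥f.range, ∃ i : Fin 4, ∀ x : ↥K', ((α : MulAut ↥K') x : G) = (Ty z₂ ρ₂ i x : G) := by
          rintro ⟨_, r, rfl⟩
          obtain ⟨i, hi⟩ := hfour _ (hR₁T r r.2)
          exact ⟨i, fun x => by rw [← hi]; exact hf r x⟩
        choose g hg using h3
        have h4 : Function.Injective g := by
          intro α β hαβ
          apply Subtype.ext
          ext x
          rw [hg, hg, hαβ]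
        have h5 := Nat.card_le_card_of_injective g h4
        rwa [Nat.card_fin] at h5
      have h2 : Nat.card ↥R₁ = Nat.card ↥f.range * Nat.card ↥f.ker := by
        rw [← index_ker f, mul_comm, card_mul_index]
      have h3 := hs₁.big
      rw [h2] at h3
      have h4 : Nat.card ↥f.range * Nat.card ↥f.ker ≤ 4 * 2 := Nat.mul_le_mul hr4 hk2
      omega
    · intro r hr
      have h2 : r ∈ f.ker.map R₁.subtype := by rw [h1]; exact hr
      obtain ⟨n, hn, rfl⟩ := h2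
      rw [mem_centralizer_iff]
      intro x hx
      have h2 : f n = 1 := hn
      have h3 := hf n ⟨x, hx⟩
      rw [h2] at h3
      have h4 : x = (n : ↥K) * x * ((n : ↥K) : G)⁻¹ := h3
      show x * ((n : ↥K) : G) = (n : ↥K) * x
      calc x * ((n : ↥K) : G) = ((n : ↥K) * x * ((n : ↥K) : G)⁻¹) * (n : ↥K) := by rw [← h4]
        _ = (n : ↥K) * x := by group
  have hKN : K ≤ normalizer (K' : Set G) := by
    apply le_of_subgroupOf
    refine hs₁.gen2 _ ?_
    intro r hr hr2 hr1 x hx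
    rw [mem_subgroupOf]
    exact hK'.te r (hR₁C r hr) (congrArg Subtype.val hr2) (fun h => hr1 (Subtype.ext h)) x
      (congrArg Subtype.val hx)
  exact hs₁.z1 (Subtype.ext (inf_eq_bot hK hcom hKN z₁ z₁.2 hz₁))

end Cfsg.Agent.OddHalf.D4.Small.LFour

end

-- merged: Cfsg.Agent.OddHalf.D4.Small.LFourEnd
section

/-!
# ODD, D4, small Lie odd: `L₄(3)`, the end

`𝒦` a family of subgroups closed under conjugation, with the facts `BaseL`. A reflection `u` on `X ∈ 𝒦` which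
centralizes `Y ∈ 𝒦` is impossible.
-/

set_option autoImplicit false

namespace Cfsg.Agent.OddHalf.D4.Small.LFour

open Subgroup Cfsg Basic CommConj

variable {G : Type*} [Group G]

structure FamL (F : Set (Subgroup G)) : Prop where
  base : ∀ X ∈ F, BaseL X
  cj : ∀ X ∈ F, ∀ g, cj g X ∈ F
  nc : ∀ X ∈ F, ∀ Y ∈ F, X ≠ Y → ∀ x ∈ centralizer (X : Set G), x ∈ centralizer (Y : Set G) → x * x = 1 → x = 1
  com : ∀ X ∈ F, ∀ Y ∈ F, X ≠ Y → ¬ X ≤ centralizer (Y : Set G)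

variable {F : Set (Subgroup G)} {X Y : Subgroup G}

/-- **Theorem 1.** -/
theorem thm1 [Finite G] (hF : FamL F) (hX : X ∈ F) (hY : Y ∈ F) (hne : X ≠ Y) {a b : G}
    (haN : a ∈ normalizer (X : Set G)) (hbN : b ∈ normalizer (X : Set G))
    (haC : a ∈ centralizer (Y : Set G)) (hbC : b ∈ centralizer (Y : Set G)) (ha2 : a * a = 1)
    (hb2 : b * b = 1) (ha1 : a ≠ 1) (hb1 : b ≠ 1) (hab : a ≠ b) (hc : a * b = b * a) : False :=
  rank_le_one (hF.base X hX) (hF.base Y hY) (hF.nc X hX Y hY hne) (hF.com X hX Y hY hne)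
    (hF.com Y hY X hX hne.symm) haN hbN haC hbC ha2 hb2 ha1 hb1 hab hc

theorem cl_pair_le {a b : G} {H : Subgroup G} (ha : a ∈ H) (hb : b ∈ H) : _root_.Subgroup.closure ({a, b} : Set G) ≤ H := by
  rw [closure_le]
  rintro x (rfl | hx)
  · exact ha
  · rw [Set.mem_singleton_iff] at hx
    subst hx
    exact hb

theorem conj_sq {m x : G} (h : x * x = 1) : m * x * m⁻¹ * (m * x * m⁻¹) = 1 := by
  calc m * x * m⁻¹ * (m * x * m⁻¹) = m * (x * x) * m⁻¹ := by group
    _ = 1 := by rw [h]; group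

theorem conj_ne_one {m x : G} (h : x ≠ 1) : m * x * m⁻¹ ≠ 1 := by
  intro h1
  apply h
  calc x = m⁻¹ * (m * x * m⁻¹) * m := by group
    _ = 1 := by rw [h1]; group

theorem conj_inj {m x y : G} (h : x ≠ y) : m * x * m⁻¹ ≠ m * y * m⁻¹ := by
  intro h1
  exact h (mul_left_cancel (mul_right_cancel h1))

theorem conj_comm {m x y : G} (h : x * y = y * x) : m * x * m⁻¹ * (m * y * m⁻¹) = m * y * m⁻¹ * (m * x * m⁻¹) := by
  calc m * x * m⁻¹ * (m * y * m⁻¹) = m * (x * y) * m⁻¹ := by group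
    _ = m * (y * x) * m⁻¹ := by rw [h]
    _ = m * y * m⁻¹ * (m * x * m⁻¹) := by group

theorem order_facts {x : G} (h : orderOf x = 2) : x * x = 1 ∧ x ≠ 1 := by
  refine ⟨sq_one h, ?_⟩
  rintro rfl
  rw [orderOf_one] at h
  exact absurd h (by norm_num)

/-- Two distinct commuting involutions of `C(X)` commuting with a given `b`. -/
theorem rank2 [Finite G] (hX : BaseL X) {b : G} (hb : b ∈ centralizer (X : Set G)) (hb2 : b * b = 1) :
    ∃ c ∈ centralizer (X : Set G), ∃ d ∈ centralizer (X : Set G), c * c = 1 ∧ d * d = 1 ∧ c ≠ 1 ∧ d ≠ 1 ∧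
      c ≠ d ∧ c * d = d * c ∧ b * c = c * b ∧ b * d = d * b := by
  obtain ⟨c, hc, d, hd, hc2, hd2, hc1, hd1, hcd, hcdc⟩ := hX.rk
  by_cases hb1 : b = 1
  · subst hb1
    exact ⟨c, hc, d, hd, hc2, hd2, hc1, hd1, hcd, hcdc, by simp, by simp⟩
  obtain ⟨T, hT, hbT⟩ := exists_isSyl (isPGroup_pair hb2 hb2 rfl) (cl_pair_le hb hb)
  have hbT' : b ∈ T := hbT (_root_.Subgroup.subset_closure (by simp))
  obtain ⟨z, hzT, hz, hzc⟩ := exists_central_invol hT.two le_rfl (by
    intro h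
    rw [h, mem_bot] at hbT'
    exact hb1 hbT') (fun t ht n hn => T.mul_mem (T.mul_mem ht hn) (T.inv_mem ht))
  obtain ⟨hz2, hz1⟩ := order_facts hz
  by_cases hbz : b = z
  · subst hbz
    obtain ⟨m, hm, hmT⟩ := hT.conj_into (isPGroup_pair hc2 hd2 hcdc) (cl_pair_le hc hd)
    have hcT := hmT c (_root_.Subgroup.subset_closure (by simp))
    have hdT := hmT d (_root_.Subgroup.subset_closure (by simp))
    exact ⟨_, hT.le hcT, _, hT.le hdT, conj_sq hc2, conj_sq hd2, conj_ne_one hc1, conj_ne_one hd1,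
      conj_inj hcd, conj_comm hcdc, (hzc _ hcT).symm, (hzc _ hdT).symm⟩
  · exact ⟨b, hb, z, hT.le hzT, hb2, hz2, hb1, hz1, hbz, hzc b hbT', rfl, hzc b hbT'⟩

/-- An involution of `C(Y)` is not in `X C(X)`. -/
theorem noIn [Finite G] (hF : FamL F) (hX : X ∈ F) (hY : Y ∈ F) (hne : X ≠ Y) {w k c : G}
    (hw : w ∈ centralizer (Y : Set G)) (hw2 : w * w = 1) (hw1 : w ≠ 1) (hk : k ∈ X)
    (hc : c ∈ centralizer (X : Set G)) (hwkc : w = k * c) : False := by
  have hkc : k * c = c * k := comm_of_centralizer hc hk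
  obtain ⟨hc2, hk2⟩ := mul_self_split (hF.base X hX).cen hc hk (by rw [← hkc, ← hwkc]; exact hw2)
  obtain ⟨a, ha, b, hb, ha2, hb2, ha1, hb1, hab, habc, hca, hcb⟩ := rank2 (hF.base X hX) hc hc2
  have key : ∀ x ∈ centralizer (X : Set G), c * x = x * c → x ∈ normalizer (Y : Set G) := by
    intro x hx hcx
    refine (hF.base Y hY).te w hw hw2 hw1 x ?_
    have h1 : k * x = x * k := comm_of_centralizer hx hk
    calc x * w = x * k * c := by rw [hwkc]; group
      _ = k * (x * c) := by rw [← h1]; group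
      _ = k * c * x := by rw [← hcx]; group
      _ = w * x := by rw [hwkc]
  exact thm1 hF hY hX hne.symm (key a ha hca) (key b hb hcb) ha hb ha2 hb2 ha1 hb1 hab habc

theorem syl_norm_cent {S : Subgroup G} (hS : IsSyl S (normalizer (X : Set G))) :
    ∀ t ∈ S, ∀ x ∈ S ⊓ centralizer (X : Set G), t * x * t⁻¹ ∈ S ⊓ centralizer (X : Set G) := by
  intro t ht x hx
  exact ⟨S.mul_mem (S.mul_mem ht hx.1) (S.inv_mem ht), mem_centralizer_conj (hS.le ht) hx.2⟩

/-- conjugating a pair of elements of `C(X)` into `S ∩ C(X)` -/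
theorem conj_pair [Finite G] {S : Subgroup G} (hS : IsSyl S (normalizer (X : Set G))) {c d : G}
    (hc : c ∈ centralizer (X : Set G)) (hd : d ∈ centralizer (X : Set G)) (hc2 : c * c = 1) (hd2 : d * d = 1)
    (hcd : c * d = d * c) : ∃ i : G, i * c * i⁻¹ ∈ S ⊓ centralizer (X : Set G) ∧
      i * d * i⁻¹ ∈ S ⊓ centralizer (X : Set G) := by
  obtain ⟨i, -, hiq⟩ := hS.conj_into_inf (I := centralizer (X : Set G)) (centralizer_le_normalizer' X)
    (by
      intro t ht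
      rw [mem_normalizer_iff]
      intro x
      constructor
      · intro hx
        exact mem_centralizer_conj (hS.le ht) hx
      · intro hx
        have h1 := mem_centralizer_conj' (hS.le ht) hx
        have h2 : t⁻¹ * (t * x * t⁻¹) * t = x := by group
        rwa [h2] at h1)
    (isPGroup_pair hc2 hd2 hcd) (cl_pair_le hc hd)
  exact ⟨i, hiq c (_root_.Subgroup.subset_closure (by simp)), hiq d (_root_.Subgroup.subset_closure (by simp))⟩

/-- Lemma A -/
theorem lemmaA [Finite G] (hX : BaseL X) {u : G} (hu : u ∈ normalizer (X : Set G)) (hu2 : u * u = 1) :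
    ∃ v ∈ centralizer (X : Set G), v * v = 1 ∧ v ≠ 1 ∧ u * v = v * u := by
  obtain ⟨S, hS, huS⟩ := exists_isSyl (isPGroup_pair hu2 hu2 rfl) (cl_pair_le hu hu)
  have huS' : u ∈ S := huS (_root_.Subgroup.subset_closure (by simp))
  obtain ⟨c, hc, d, hd, hc2, hd2, hc1, hd1, hcd, hcdc⟩ := hX.rk
  obtain ⟨i, hic, -⟩ := conj_pair hS hc hd hc2 hd2 hcdc
  obtain ⟨v, hv, hvo, hvc⟩ := exists_central_invol (N := S ⊓ centralizer (X : Set G)) hS.two inf_le_left (by
    intro h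
    rw [h, mem_bot] at hic
    exact conj_ne_one hc1 hic) (syl_norm_cent hS)
  obtain ⟨hv2, hv1⟩ := order_facts hvo
  exact ⟨v, hv.2, hv2, hv1, hvc u huS'⟩

/-- Two involutions in a 2-subgroup of `C(X) ∩ N(Y)` are equal. -/
theorem uniq_inv [Finite G] (hF : FamL F) (hX : X ∈ F) (hY : Y ∈ F) (hne : X ≠ Y) {D : Subgroup G} (hD : IsPGroup 2 ↥D)
    (hDC : ∀ x ∈ D, x ∈ centralizer (X : Set G)) (hDN : ∀ x ∈ D, x * x = 1 → x ∈ normalizer (Y : Set G))
    {s t : G} (hs : s ∈ D) (ht : t ∈ D) (hs2 : s * s = 1) (ht2 : t * t = 1) (hs1 : s ≠ 1) (ht1 : t ≠ 1) :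
    s = t := by
  obtain ⟨z, hzD, hz, hzc⟩ := exists_central_invol hD le_rfl (by
    intro h
    rw [h, mem_bot] at hs
    exact hs1 hs) (fun t ht n hn => D.mul_mem (D.mul_mem ht hn) (D.inv_mem ht))
  obtain ⟨hz2, hz1⟩ := order_facts hz
  have key : ∀ x ∈ D, x * x = 1 → x ≠ 1 → x = z := by
    intro x hx hx2 hx1
    by_contra hxz
    exact thm1 hF hY hX hne.symm (hDN x hx hx2) (hDN z hzD hz2) (hDC x hx) (hDC z hzD) hx2 hz2 hx1 hz1 hxz
      (hzc x hx)
  rw [key s hs hs2 hs1, key t ht ht2 ht1]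

/-- Lemma B -/
theorem lemmaB [Finite G] (hF : FamL F) (hX : X ∈ F) (hY : Y ∈ F) (hne : X ≠ Y) {u v : G}
    (huN : u ∈ normalizer (X : Set G)) (huC : u ∈ centralizer (Y : Set G)) (hu2 : u * u = 1) (hu1 : u ≠ 1)
    (hvC : v ∈ centralizer (X : Set G)) (hv2 : v * v = 1) (hv1 : v ≠ 1) (huv : u * v = v * u) :
    ∃ q ∈ centralizer (X : Set G), q⁻¹ * u * q = u * v ∧ q⁻¹ * v * q = v := by
  have hCN : centralizer (X : Set G) ≤ normalizer (X : Set G) := centralizer_le_normalizer' X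
  obtain ⟨S, hS, huvS⟩ := exists_isSyl (isPGroup_pair hu2 hv2 huv) (cl_pair_le huN (hCN hvC))
  have huS : u ∈ S := huvS (_root_.Subgroup.subset_closure (by simp))
  have hvS : v ∈ S := huvS (_root_.Subgroup.subset_closure (by simp))
  have hui : u⁻¹ = u := inv_eq_self_of hu2
  have huCX : u ∉ centralizer (X : Set G) := fun h => hu1 (hF.nc X hX Y hY hne u h huC hu2)
  -- `E = C_S(u) ∩ (C(X) ∪ C(X) u)`
  let E : Subgroup G :=
    { carrier := {x | x ∈ S ∧ x * u = u * x ∧ (x ∈ centralizer (X : Set G) ∨ x * u ∈ centralizer (X : Set G))}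
      one_mem' := ⟨S.one_mem, by simp, Or.inl (one_mem _)⟩
      mul_mem' := by
        rintro x y ⟨hxS, hxu, hx⟩ ⟨hyS, hyu, hy⟩
        refine ⟨S.mul_mem hxS hyS, ?_, ?_⟩
        · calc x * y * u = x * (y * u) := by group
            _ = x * u * y := by rw [hyu]; group
            _ = u * (x * y) := by rw [hxu]; group
        · rcases hx with hx | hx <;> rcases hy with hy | hy
          · exact Or.inl (mul_mem hx hy)
          · right
            rw [mul_assoc]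
            exact mul_mem hx hy
          · right
            have h1 : x * y * u = (x * u) * (u⁻¹ * y * u) := by group
            rw [h1]
            exact mul_mem hx (mem_centralizer_conj' huN hy)
          · left
            have h1 : x * y = (x * u) * (y * u) := by
              calc x * y = x * (u * u) * y := by rw [hu2, mul_one]
                _ = (x * u) * (u * y) := by group
                _ = (x * u) * (y * u) := by rw [hyu]
            rw [h1]
            exact mul_mem hx hy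
      inv_mem' := by
        rintro x ⟨hxS, hxu, hx⟩
        have h1 : x⁻¹ * u = u * x⁻¹ := by
          calc x⁻¹ * u = x⁻¹ * (u * x) * x⁻¹ := by group
            _ = x⁻¹ * (x * u) * x⁻¹ := by rw [hxu]
            _ = u * x⁻¹ := by group
        refine ⟨S.inv_mem hxS, h1, ?_⟩
        rcases hx with hx | hx
        · exact Or.inl (inv_mem hx)
        · right
          have h2 : x⁻¹ * u = (x * u)⁻¹ := by
            rw [mul_inv_rev, hui, h1]
          rw [h2]
          exact inv_mem hx }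
  have hE : ∀ x, x ∈ E ↔ x ∈ S ∧ x * u = u * x ∧
      (x ∈ centralizer (X : Set G) ∨ x * u ∈ centralizer (X : Set G)) := fun x => Iff.rfl
  have hES : E ≤ S := fun x hx => hx.1
  have huE : u ∈ E := ⟨huS, rfl, Or.inr (by rw [hu2]; exact one_mem _)⟩
  -- elements of `C(X)` commuting with `u` are in `N(Y)`
  have hNY : ∀ x, x * u = u * x → x ∈ normalizer (Y : Set G) := fun x hx => (hF.base Y hY).te u huC hu2 hu1 x hx
  -- `D = E ∩ C(X)`
  have hDtwo : IsPGroup 2 ↥(E ⊓ centralizer (X : Set G)) := hS.two.to_le (inf_le_left.trans hES)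
  have huniq : ∀ x ∈ E, x ∈ centralizer (X : Set G) → x * x = 1 → x ≠ 1 → x = v := by
    intro x hx hxC hx2 hx1
    exact uniq_inv hF hX hY hne hDtwo (fun x hx => hx.2) (fun x hx _ => hNY x hx.1.2.1) ⟨hx, hxC⟩
      (mem_inf.mpr ⟨⟨hvS, huv.symm, Or.inl hvC⟩, hvC⟩) hx2 hv2 hx1 hv1
  obtain ⟨c, hc, d, hd, hc2, hd2, hc1, hd1, hcd, hcdc⟩ := (hF.base X hX).rk
  obtain ⟨i, hic, hid⟩ := conj_pair hS hc hd hc2 hd2 hcdc
  have hnle : ¬ S ⊓ centralizer (X : Set G) ≤ E := by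
    intro hle
    have h1 := huniq _ (hle hic) hic.2 (conj_sq hc2) (conj_ne_one hc1)
    have h2 := huniq _ (hle hid) hid.2 (conj_sq hd2) (conj_ne_one hd1)
    exact conj_inj hcd (h1.trans h2.symm)
  obtain ⟨b, hb, hbE, -, hbn⟩ := exists_norm_elt hS.two hES inf_le_left (syl_norm_cent hS) hnle
  have hbu : ¬ b * u = u * b := fun h => hbE ⟨hb.1, h, Or.inl hb.2⟩
  have h1 : b⁻¹ * u * b ∈ E := (mem_normalizer_iff''.mp hbn u).mp huE
  have hbuC : b⁻¹ * u * b ∉ centralizer (X : Set G) := by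
    intro h
    apply huCX
    have hbC : b ∈ centralizer (X : Set G) := hb.2
    have h2 := mul_mem (mul_mem hbC h) (inv_mem hbC)
    have h3 : b * (b⁻¹ * u * b) * b⁻¹ = u := by group
    rwa [h3] at h2
  have hdC : b⁻¹ * u * b * u ∈ centralizer (X : Set G) := by
    rcases h1.2.2 with h2 | h2
    · exact absurd h2 hbuC
    · exact h2
  have hdu := h1.2.1
  have hdE : b⁻¹ * u * b * u ∈ E := E.mul_mem h1 huE
  have hd2' : b⁻¹ * u * b * u * (b⁻¹ * u * b * u) = 1 := by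
    calc b⁻¹ * u * b * u * (b⁻¹ * u * b * u) = b⁻¹ * u * b * (u * (b⁻¹ * u * b)) * u := by group
      _ = b⁻¹ * u * b * (b⁻¹ * u * b * u) * u := by rw [hdu]
      _ = b⁻¹ * (u * u) * b * (u * u) := by group
      _ = 1 := by rw [hu2]; group
  have hd1' : b⁻¹ * u * b * u ≠ 1 := by
    intro h2
    apply hbu
    have h3 : b⁻¹ * u * b = u := by
      have h4 := eq_inv_of_mul_eq_one_left h2
      rwa [hui] at h4
    calc b * u = b * (b⁻¹ * u * b) := by rw [h3]
      _ = u * b := by group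
  have hdv := huniq _ hdE hdC hd2' hd1'
  refine ⟨b, hb.2, ?_, ?_⟩
  · calc b⁻¹ * u * b = (b⁻¹ * u * b * u) * u⁻¹ := by group
      _ = v * u := by rw [hdv, hui]
      _ = u * v := huv.symm
  · have hvE : v ∈ E := ⟨hvS, huv.symm, Or.inl hvC⟩
    have h2 : b⁻¹ * v * b ∈ E := (mem_normalizer_iff''.mp hbn v).mp hvE
    have hbC : b ∈ centralizer (X : Set G) := hb.2
    refine huniq _ h2 (mul_mem (mul_mem (inv_mem hbC) hvC) hbC) ?_ ?_
    · have h3 := conj_sq (m := b⁻¹) hv2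
      rwa [inv_inv] at h3
    · have h3 := conj_ne_one (m := b⁻¹) hv1
      rwa [inv_inv] at h3

/-- **The end.** -/
theorem false_of_refl [Finite G] (hF : FamL F) (hX : X ∈ F) (hY : Y ∈ F) (hne : X ≠ Y) {u : G}
    (huN : u ∈ normalizer (X : Set G)) (huC : u ∈ centralizer (Y : Set G)) (hu2 : u * u = 1) (hu1 : u ≠ 1)
    (hρ : IsRefl ↥X (cAut huN)) : False := by
  obtain ⟨v, hvC, hv2, hv1, huv⟩ := lemmaA (hF.base X hX) huN hu2
  have hui : u⁻¹ = u := inv_eq_self_of hu2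
  have hvi : v⁻¹ = v := inv_eq_self_of hv2
  have hvN : v ∈ normalizer (Y : Set G) := (hF.base Y hY).te u huC hu2 hu1 v huv.symm
  obtain ⟨q, hqC, hqu, hqv⟩ := lemmaB hF hX hY hne huN huC hu2 hu1 hvC hv2 hv1 huv
  obtain ⟨q', hqC', hqv', hqu'⟩ := lemmaB hF hY hX hne.symm hvN hvC hv2 hv1 huC hu2 hu1 huv.symm
  -- the swap
  obtain ⟨s, hsu, hsv⟩ : ∃ s : G, s⁻¹ * u * s = v ∧ s⁻¹ * v * s = u := by
    have e1 : q⁻¹ * (u * v) * q = u := by
      calc q⁻¹ * (u * v) * q = (q⁻¹ * u * q) * (q⁻¹ * v * q) := by group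
        _ = u * (v * v) := by rw [hqu, hqv]; group
        _ = u := by rw [hv2, mul_one]
    have e2 : q'⁻¹ * (u * v) * q' = v := by
      calc q'⁻¹ * (u * v) * q' = (q'⁻¹ * u * q') * (q'⁻¹ * v * q') := by group
        _ = u * (v * u) := by rw [hqu', hqv']
        _ = (u * u) * v := by rw [← huv]; group
        _ = v := by rw [hu2, one_mul]
    refine ⟨q * q' * q, ?_, ?_⟩
    · calc (q * q' * q)⁻¹ * u * (q * q' * q) = q⁻¹ * (q'⁻¹ * (q⁻¹ * u * q) * q') * q := by group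
        _ = q⁻¹ * v * q := by rw [hqu, e2]
        _ = v := hqv
    · calc (q * q' * q)⁻¹ * v * (q * q' * q) = q⁻¹ * (q'⁻¹ * (q⁻¹ * v * q) * q') * q := by group
        _ = q⁻¹ * (v * u) * q := by rw [hqv, hqv']
        _ = q⁻¹ * (u * v) * q := by rw [huv]
        _ = u := e1
  -- `X^s = Y`
  have hXY : cj s⁻¹ X = Y := by
    by_contra h
    have h1 : u ∈ centralizer ((cj s⁻¹ X : Subgroup G) : Set G) := by
      rw [mem_centralizer_cj, inv_inv]
      have h2 : s * u * s⁻¹ = v := by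
        rw [← hsv]; group
      rw [h2]
      exact hvC
    exact hu1 (hF.nc _ (hF.cj X hX s⁻¹) Y hY h u h1 huC hu2)
  -- `v` acts on `Y` as a reflection
  have hρv : IsRefl ↥Y (cAut hvN) := by
    let e : ↥X ≃* ↥Y :=
      (X.equivMapOfInjective (MulAut.conj s⁻¹).toMonoidHom (MulAut.conj s⁻¹).injective).trans
        (MulEquiv.subgroupCongr hXY)
    have he : ∀ x : ↥X, ((e x : ↥Y) : G) = s⁻¹ * x * s⁻¹⁻¹ := fun x => rfl
    refine hρ.map e ?_
    intro x
    apply Subtype.ext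
    rw [cAut_coe, he, he, cAut_coe, ← hsu]
    group
  -- the involution `i`
  obtain ⟨l, hl1, hl2, hl3⟩ := hρ.inv
  obtain ⟨i, hi⟩ : ∃ i : ↥X, i = (cAut huN l)⁻¹ * l := ⟨_, rfl⟩
  rw [← hi] at hl1 hl2 hl3
  have hiG : (i : G) = u * (l : G)⁻¹ * u * l := by
    rw [hi]
    show (u * (l : G) * u⁻¹)⁻¹ * l = _
    rw [mul_inv_rev, mul_inv_rev, inv_inv, hui]
    group
  have hi2 : (i : G) * i = 1 := congrArg Subtype.val hl1
  have hi1 : (i : G) ≠ 1 := fun h => hl2 (Subtype.ext h)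
  have hiu : u * i = i * u := (cAut_eq_iff huN i).mp hl3
  have hiv : (i : G) * v = v * i := comm_of_centralizer hvC i.2
  have huil : u * i = (l : G)⁻¹ * u * l := by
    rw [hiG]
    calc u * (u * (l : G)⁻¹ * u * l) = (u * u) * ((l : G)⁻¹ * u * l) := by group
      _ = (l : G)⁻¹ * u * l := by rw [hu2, one_mul]
  have hui2 : (u * i) * (u * i) = 1 := by
    calc (u * i) * (u * i) = u * (i * u) * i := by group
      _ = u * (u * i) * i := by rw [hiu]
      _ = (u * u) * (i * i) := by group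
      _ = 1 := by rw [hu2, hi2, mul_one]
  have hui1 : u * i ≠ 1 := by
    intro h
    rw [huil] at h
    apply hu1
    calc u = l * ((l : G)⁻¹ * u * l) * (l : G)⁻¹ := by group
      _ = 1 := by rw [h]; group
  -- `Y' = Y^l`
  have huiC : u * i ∈ centralizer ((cj (l : G)⁻¹ Y : Subgroup G) : Set G) := by
    rw [mem_centralizer_cj, inv_inv, huil]
    have h1 : (l : G) * ((l : G)⁻¹ * u * l) * (l : G)⁻¹ = u := by group
    rwa [h1]
  have hY' : cj (l : G)⁻¹ Y ∈ F := hF.cj Y hY _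
  have hYY' : Y ≠ cj (l : G)⁻¹ Y := by
    intro h
    rw [← h] at huiC
    have h1 : (i : G) ∈ centralizer (Y : Set G) := by
      have h2 := mul_mem (inv_mem huC) huiC
      have h3 : u⁻¹ * (u * i) = i := by group
      rwa [h3] at h2
    exact noIn hF hX hY hne h1 hi2 hi1 i.2 (one_mem _) (mul_one _).symm
  have hiN : (i : G) ∈ normalizer (Y : Set G) := (hF.base Y hY).te u huC hu2 hu1 i hiu.symm
  -- `i` is not inner on `Y`, `v i` is
  obtain ⟨k, hk⟩ : ∃ k : ↥Y, ∀ x, cAut hiN (cAut hvN x) = k * x * k⁻¹ := by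
    rcases hρv.cent (cAut hiN) (by
      intro x
      rw [cAut_mul, cAut_mul]
      exact cAut_congr hiv _ _ x) with h | h
    · exfalso
      obtain ⟨k, hk⟩ := h
      have h1 : (i : G) * (k : G)⁻¹ ∈ centralizer (Y : Set G) :=
        mem_centralizer_of_eq (le_normalizer k.2) (fun x => congrArg Subtype.val (hk x))
      have h2 : (k : G) * (u * ((k : G)⁻¹ * ((i : G) * (k : G)⁻¹) * k)) = u * i := by
        have h3 : (k : G) * u = u * k := comm_of_centralizer huC k.2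
        calc (k : G) * (u * ((k : G)⁻¹ * ((i : G) * (k : G)⁻¹) * k)) = (k * u) * (k : G)⁻¹ * i := by group
          _ = u * i := by rw [h3]; group
      exact noIn hF hY hY' hYY' huiC hui2 hui1 k.2
        (mul_mem huC (mem_centralizer_conj' (le_normalizer k.2) h1)) h2.symm
    · exact h
  have hvik : (i : G) * v * (k : G)⁻¹ ∈ centralizer (Y : Set G) :=
    mem_centralizer_of_eq (le_normalizer k.2) (fun x => by
      have h1 : (i : G) * (v * x * v⁻¹) * (i : G)⁻¹ = k * x * (k : G)⁻¹ := congrArg Subtype.val (hk x)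
      rw [← h1]
      group)
  -- `x = u i v`
  have hx : u * (i * v) = (l : G)⁻¹ * (u * v) * l := by
    have h1 : (l : G) * v = v * l := comm_of_centralizer hvC l.2
    calc u * (i * v) = (u * i) * v := by group
      _ = (l : G)⁻¹ * u * (l * v) := by rw [huil]; group
      _ = (l : G)⁻¹ * (u * v) * l := by rw [h1]; group
  have hxC : u * (i * v) ∈ centralizer ((cj (l : G)⁻¹ (cj q⁻¹ Y) : Subgroup G) : Set G) := by
    rw [mem_centralizer_cj, mem_centralizer_cj, inv_inv, inv_inv, hx, ← hqu]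
    have h1 : q * ((l : G) * ((l : G)⁻¹ * (q⁻¹ * u * q) * l) * (l : G)⁻¹) * q⁻¹ = u := by group
    rwa [h1]
  have huv1 : u * v ≠ 1 := by
    rw [← hqu]
    intro h
    apply hu1
    calc u = q * (q⁻¹ * u * q) * q⁻¹ := by group
      _ = 1 := by rw [h]; group
  have huv2 : (u * v) * (u * v) = 1 := by
    calc (u * v) * (u * v) = u * (v * u) * v := by group
      _ = u * (u * v) * v := by rw [huv]
      _ = (u * u) * (v * v) := by group
      _ = 1 := by rw [hu2, hv2, mul_one]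
  have hx2 : u * (i * v) * (u * (i * v)) = 1 := by
    rw [hx]
    have h3 := conj_sq (m := (l : G)⁻¹) huv2
    rwa [inv_inv] at h3
  have hx1 : u * (i * v) ≠ 1 := by
    rw [hx]
    have h3 := conj_ne_one (m := (l : G)⁻¹) huv1
    rwa [inv_inv] at h3
  have hY'' : Y = cj (l : G)⁻¹ (cj q⁻¹ Y) := by
    by_contra h
    refine noIn hF hY (hF.cj _ (hF.cj Y hY q⁻¹) _) h hxC hx2 hx1 k.2
      (mul_mem huC (mem_centralizer_conj' (le_normalizer k.2) hvik)) ?_
    have h3 : (k : G) * u = u * k := comm_of_centralizer huC k.2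
    calc u * ((i : G) * v) = u * (k * (k : G)⁻¹) * (i * v) := by group
      _ = (u * k) * (k : G)⁻¹ * (i * v) := by group
      _ = (k * u) * (k : G)⁻¹ * (i * v) := by rw [h3]
      _ = k * (u * ((k : G)⁻¹ * ((i : G) * v * (k : G)⁻¹) * k)) := by group
  rw [← hY''] at hxC
  have hivC : (i : G) * v ∈ centralizer (Y : Set G) := by
    have h2 := mul_mem (inv_mem huC) hxC
    have h3 : u⁻¹ * (u * ((i : G) * v)) = i * v := by group
    rwa [h3] at h2
  have hCNX : centralizer (X : Set G) ≤ normalizer (X : Set G) := centralizer_le_normalizer' X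
  refine thm1 hF hX hY hne huN (mul_mem (le_normalizer i.2) (hCNX hvC)) huC hivC hu2 ?_ hu1 ?_ ?_ ?_
  · calc (i : G) * v * (i * v) = i * (v * i) * v := by group
      _ = i * (i * v) * v := by rw [hiv]
      _ = (i * i) * (v * v) := by group
      _ = 1 := by rw [hi2, hv2, mul_one]
  · intro h
    have h1 : (i : G) = v⁻¹ := eq_inv_of_mul_eq_one_left h
    exact hi1 ((hF.base X hX).cen i i.2 (by rw [h1]; exact inv_mem hvC))
  · intro h
    exact noIn hF hX hY hne huC hu2 hu1 i.2 hvC h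
  · calc u * ((i : G) * v) = (u * i) * v := by group
      _ = i * (u * v) := by rw [hiu]; group
      _ = i * v * u := by rw [huv]; group

end Cfsg.Agent.OddHalf.D4.Small.LFour

end

-- merged: Cfsg.Agent.OddHalf.D4.Small.LFourRow
section

/-!
# ODD, D4, small Lie odd: `L₄(3)`, the row theorem
-/

set_option autoImplicit false

namespace Cfsg.Agent.OddHalf.D4.Small.LFour

open Subgroup Cfsg Basic CommConj

universe u v

variable {G : Type u} [Group G]

theorem mem_normalizer_cj' {K : Subgroup G} (g x : G) :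
    x ∈ normalizer ((cj g K : Subgroup G) : Set G) ↔ g⁻¹ * x * g ∈ normalizer (K : Set G) := by
  rw [mem_normalizer_iff, mem_normalizer_iff]
  constructor
  · intro h y
    have h1 := h (g * y * g⁻¹)
    rw [mem_cj, mem_cj] at h1
    have e1 : g⁻¹ * (g * y * g⁻¹) * g = y := by group
    have e2 : g⁻¹ * (x * (g * y * g⁻¹) * x⁻¹) * g = g⁻¹ * x * g * y * (g⁻¹ * x * g)⁻¹ := by group
    rw [e1, e2] at h1
    exact h1
  · intro h y
    rw [mem_cj, mem_cj]
    have h1 := h (g⁻¹ * y * g)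
    have e2 : g⁻¹ * (x * y * x⁻¹) * g = g⁻¹ * x * g * (g⁻¹ * y * g) * (g⁻¹ * x * g)⁻¹ := by group
    rw [e2]
    exact h1

/-- the conjugates of `K` -/
def Conjs (K : Subgroup G) : Set (Subgroup G) := {X | ∃ g : G, X = cj g K}

theorem famL [Finite G] [IsSimpleGroup G] {K : Subgroup G} (hK : IsStandardSubgroup K)
    (hs : IsSimpleGroup ↥K) (hcen : center ↥K = ⊥) (hm : ¬ PRankLE 2 1 ↥(centralizer (K : Set G)))
    (hr : HasSheetL ↥K) : FamL (Conjs K) := by
  have T := EvenPair.tight_of_standard hK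
  have cen : ∀ x ∈ K, x ∈ centralizer (K : Set G) → x = 1 := by
    intro x hx hxC
    have h1 : (⟨x, hx⟩ : ↥K) ∈ center ↥K := by
      rw [mem_center_iff]
      intro y
      apply Subtype.ext
      exact (mem_centralizer_iff.mp hxC) y y.2
    rw [hcen, mem_bot] at h1
    exact congrArg Subtype.val h1
  have simp' : ∀ N : Subgroup G, N ≤ K → (∀ a ∈ K, ∀ n ∈ N, a * n * a⁻¹ ∈ N) → N = ⊥ ∨ N = K := by
    intro N hN hn
    have hnorm : (N.subgroupOf K).Normal := ⟨by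
      intro n hn' a
      rw [mem_subgroupOf] at hn' ⊢
      exact hn a a.2 n hn'⟩
    rcases hnorm.eq_bot_or_eq_top with h1 | h1
    · left
      rw [eq_bot_iff]
      intro x hx
      have h2 : (⟨x, hN hx⟩ : ↥K) ∈ N.subgroupOf K := mem_subgroupOf.mpr hx
      rw [h1, mem_bot] at h2
      rw [mem_bot]
      exact congrArg Subtype.val h2
    · right
      apply le_antisymm hN
      rw [subgroupOf_eq_top] at h1
      exact h1
  obtain ⟨a, b, ha, hb, ha2, hb2, hab, hne⟩ := EvenPair.exists_two_of_not_pRankLE hm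
  have conjcomm : ∀ g x y : G, x * y = y * x → (g⁻¹ * x * g) * (g⁻¹ * y * g) = (g⁻¹ * y * g) * (g⁻¹ * x * g) := by
    intro g x y h
    calc (g⁻¹ * x * g) * (g⁻¹ * y * g) = g⁻¹ * (x * y) * g := by group
      _ = g⁻¹ * (y * x) * g := by rw [h]
      _ = (g⁻¹ * y * g) * (g⁻¹ * x * g) := by group
  have te : TE K := te_of_tight T
  refine ⟨?_, ?_, ?_, ?_⟩
  · rintro _ ⟨g, rfl⟩
    have e : ↥K ≃* ↥(cj g K) := K.equivMapOfInjective (MulAut.conj g).toMonoidHom (MulAut.conj g).injective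
    refine ⟨?_, ?_, ?_, hr.of_equiv e, ?_⟩
    · intro y hy hy2 hy1 x hxy
      rw [mem_centralizer_cj] at hy
      rw [mem_normalizer_cj']
      refine te (g⁻¹ * y * g) hy ?_ ?_ (g⁻¹ * x * g) (conjcomm g x y hxy)
      · have h1 := conj_sq (m := g⁻¹) hy2
        rwa [inv_inv] at h1
      · have h1 := conj_ne_one (m := g⁻¹) hy1
        rwa [inv_inv] at h1
    · intro x hx hxC
      rw [mem_cj] at hx
      rw [mem_centralizer_cj] at hxC
      have h1 := cen _ hx hxC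
      calc x = g * (g⁻¹ * x * g) * g⁻¹ := by group
        _ = 1 := by rw [h1]; group
    · intro N hN hn
      rcases simp' (cj g⁻¹ N) (by
        intro x hx
        rw [mem_cj, inv_inv] at hx
        have h1 := hN hx
        rw [mem_cj] at h1
        have e1 : g⁻¹ * (g * x * g⁻¹) * g = x := by group
        rwa [e1] at h1) (by
        intro a ha n hn'
        rw [mem_cj, inv_inv] at hn' ⊢
        have h1 := hn (g * a * g⁻¹) (mem_cj_mul ha) _ hn'
        have e1 : g * a * g⁻¹ * (g * n * g⁻¹) * (g * a * g⁻¹)⁻¹ = g * (a * n * a⁻¹) * g⁻¹ := by group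
        rwa [e1] at h1) with h1 | h1
      · left
        rw [eq_bot_iff]
        intro x hx
        have h2 : g⁻¹ * x * g ∈ cj g⁻¹ N := by
          rw [mem_cj, inv_inv]
          have e1 : g * (g⁻¹ * x * g) * g⁻¹ = x := by group
          rwa [e1]
        rw [h1, mem_bot] at h2
        rw [mem_bot]
        calc x = g * (g⁻¹ * x * g) * g⁻¹ := by group
          _ = 1 := by rw [h2]; group
      · right
        apply le_antisymm hN
        intro x hx
        rw [mem_cj, ← h1, mem_cj, inv_inv] at hx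
        have e1 : g * (g⁻¹ * x * g) * g⁻¹ = x := by group
        rwa [e1] at hx
    · obtain ⟨ha22, ha11⟩ := order_facts ha2
      obtain ⟨hb22, hb11⟩ := order_facts hb2
      have mc : ∀ x ∈ centralizer (K : Set G), g * x * g⁻¹ ∈ centralizer ((cj g K : Subgroup G) : Set G) := by
        intro x hx
        rw [mem_centralizer_cj]
        have e1 : g⁻¹ * (g * x * g⁻¹) * g = x := by group
        rwa [e1]
      exact ⟨g * a * g⁻¹, mc a ha, g * b * g⁻¹, mc b hb, conj_sq ha22, conj_sq hb22, conj_ne_one ha11,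
        conj_ne_one hb11, conj_inj hne, conj_comm hab⟩
  · rintro _ ⟨g, rfl⟩ h
    exact ⟨h * g, (cj_mul h g K).symm⟩
  · rintro _ ⟨g, rfl⟩ _ ⟨h, rfl⟩ hne' x hx hxC hx2
    by_contra hx1
    rw [mem_centralizer_cj] at hx hxC
    refine T.inf_odd (a := g⁻¹ * h) (x := g⁻¹ * x * g) ?_ hx ?_ (orderOf_two_of ?_ ?_)
    · intro h1
      apply hne'
      have h2 := cj_eq_of_mem_normalizer h1
      have h3 : h = g * (g⁻¹ * h) := by group
      rw [h3, cj_mul, h2]
    · have e1 : (g⁻¹ * h)⁻¹ * (g⁻¹ * x * g) * (g⁻¹ * h) = h⁻¹ * x * h := by group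
      rwa [e1]
    · have h1 := conj_sq (m := g⁻¹) hx2
      rwa [inv_inv] at h1
    · have h1 := conj_ne_one (m := g⁻¹) hx1
      rwa [inv_inv] at h1
  · rintro _ ⟨g, rfl⟩ _ ⟨h, rfl⟩ hne' hle
    refine hK.2.2.1 (g⁻¹ * h) ?_ ?_
    · intro h2
      apply hne'
      have h2' : cj (g⁻¹ * h) K = K := h2
      have h3 : h = g * (g⁻¹ * h) := by group
      rw [h3, cj_mul, h2']
    · rw [commutator_eq_bot_iff_le_centralizer]
      intro x hx
      have h1 := hle (mem_cj_mul (g := g) hx)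
      have h2 : x ∈ centralizer ((cj (g⁻¹ * h) K : Subgroup G) : Set G) := by
        rw [mem_centralizer_cj] at h1 ⊢
        have e1 : (g⁻¹ * h)⁻¹ * x * (g⁻¹ * h) = h⁻¹ * (g * x * g⁻¹) * h := by group
        rwa [e1]
      exact h2

/-- **The row, inside `G`.** -/
theorem false_of_rowL [Finite G] [IsSimpleGroup G] (h1173 : EvenPair.H1173 G)
    {K : Subgroup G} (hK : IsStandardSubgroup K) (hs : IsSimpleGroup ↥K) (hcen : center ↥K = ⊥)
    (hm : ¬ PRankLE 2 1 ↥(centralizer (K : Set G))) (hr : HasSheetL ↥K) : False := by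
  have hF := famL hK hs hcen hm hr
  have h1K : cj 1 K = K := by
    ext x
    rw [mem_cj]
    simp
  have hKF : K ∈ Conjs K := ⟨1, h1K.symm⟩
  have hBK := hF.base K hKF
  obtain ⟨S, hS, a, haN, h⟩ := EvenPair.theoremA_std h1173 hK (fun x hx hxC h2 => by
    have h3 := hBK.cen x hx hxC
    rw [h3, orderOf_one] at h2
    exact absurd h2 (by norm_num))
  have hSyl : IsSyl S (normalizer (K : Set G)) := by
    obtain ⟨P, hP⟩ := hS
    rw [← hP]
    exact isSyl_of_sylow P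
  have haF : cj a K ∈ Conjs K := ⟨a, rfl⟩
  have hne : K ≠ cj a K := fun h2 => haN (mem_normalizer_of_cj_eq h2.symm)
  rcases h with h | ⟨r, hrS, hr2, hrC, hrK, hrne⟩
  · -- a full conjugate: contradiction with Theorem 1
    obtain ⟨c, hc, d, hd, hc2, hd2, hc1, hd1, hcd, hcdc⟩ := hBK.rk
    obtain ⟨i, hcm, hdm⟩ := conj_pair hSyl hc hd hc2 hd2 hcdc
    have mem_conj : ∀ y : G, i * y * i⁻¹ ∈ S ⊓ centralizer (K : Set G) →
        a * (i * y * i⁻¹) * a⁻¹ ∈ normalizer (K : Set G) ∧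
        a * (i * y * i⁻¹) * a⁻¹ ∈ centralizer ((cj a K : Subgroup G) : Set G) := by
      intro y hy
      refine ⟨hSyl.le (h _ hy), ?_⟩
      rw [mem_centralizer_cj]
      have h1 : a⁻¹ * (a * (i * y * i⁻¹) * a⁻¹) * a = i * y * i⁻¹ := by group
      rw [h1]
      exact hy.2
    exact thm1 hF hKF haF hne (mem_conj c hcm).1 (mem_conj d hdm).1 (mem_conj c hcm).2 (mem_conj d hdm).2
      (conj_sq (conj_sq hc2)) (conj_sq (conj_sq hd2)) (conj_ne_one (conj_ne_one hc1))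
      (conj_ne_one (conj_ne_one hd1)) (conj_inj (conj_inj hcd)) (conj_comm (conj_comm hcdc))
  · -- an outer involution centralizing a Sylow subgroup: a reflection
    obtain ⟨P, hP⟩ := exists_sylow_inf hSyl
    obtain ⟨z, R, ρ, hsh⟩ := hr P
    obtain ⟨hr22, hr11⟩ := order_facts hr2
    have hrN := hSyl.le hrS
    have hrC' : r ∈ centralizer ((cj a K : Subgroup G) : Set G) := by
      rw [mem_centralizer_cj]
      exact hrC
    have haut : ∀ {α β : MulAut ↥K}, (∀ x, α x = β x) → IsRefl ↥K β → IsRefl ↥K α := by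
      intro α β hαβ hβ
      have h1 : α = β := by
        ext x
        rw [hαβ]
      rw [h1]
      exact hβ
    have hzS : (z : G) ∈ S := (hP z).mp (hsh.RS hsh.zR)
    obtain ⟨i, hi⟩ := act_four hSyl hP hsh hrS (fun s hsS hsK => hrK s ⟨hsS, hsK⟩)
    have hsplit : ∀ k ∈ S ⊓ K, (∀ x : ↥K, r * x * r⁻¹ = k * x * k⁻¹) → False := by
      intro k hk hx
      have h1 := mem_centralizer_of_eq (le_normalizer hk.2) hx
      exact hrne (r * k⁻¹) ⟨S.mul_mem hrS (S.inv_mem hk.1), h1⟩ k hk (by group)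
    fin_cases i
    · exact hsplit z ⟨hzS, z.2⟩ hi
    · exact false_of_refl hF hKF haF hne hrN hrC' hr22 hr11
        (haut (β := ρ) (fun x => Subtype.ext (hi x)) hsh.refl)
    · exact false_of_refl hF hKF haF hne hrN hrC' hr22 hr11
        (haut (β := ρ * MulAut.conj z) (fun x => Subtype.ext (hi x)) hsh.refl')
    · refine hsplit 1 (one_mem _) (fun x => ?_)
      have h1 : r * x * r⁻¹ = x := hi x
      rw [h1]
      group

end Cfsg.Agent.OddHalf.D4.Small.LFour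

end

-- merged: Cfsg.Agent.OddHalf.D4.Final.Odd
section

/-!
# ODD half, D4: the rows of Lie type in odd characteristic with `Z(K) = 1` (helper228, integrator)

Open: `NoBig` (node NI, `q ≥ 5`), Ree, node NI over `F_3` (`NoThree`, `F13`), the sheet of `L₄(3)`, the rows `Ω₇(3)`,
`PΩ₈^±(3)`.
-/

set_option autoImplicit false

namespace Cfsg.Agent.OddHalf.D4.Final.Odd

open Subgroup Cfsg Cfsg.Agent.OddHalf.Iface Cfsg.Agent.OddHalf.LieOddFam Cfsg.Agent.OddHalf.D4
  Cfsg.Agent.OddHalf.D4.Cut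

universe u

/-- the open rows -/
structure Open : Prop where
  /-- node NI over `F_q`, `q ≥ 5` -/
  big : NI.NoBig.{u}
  ree : Row1.{u} (fun K _ => Reeo K)
  /-- node NI over `F_3` -/
  noThree : NI3.NoThree.{u}
  f13 : NI3.F13.{u}
  /-- the sheet of `L₄(3)` -/
  l4 : ∀ (K : Type u) [Group K] (F : Type) [Field F] [Fintype F], Fintype.card F = 3 →
    (K ≃* Matrix.ProjectiveSpecialLinearGroup (Fin 4) F) → Small.LFour.HasSheetL K
  o7 : Row1.{u} (fun K _ => ∃ (F : Type) (_ : Field F) (_ : Fintype F), Fintype.card F = 3 ∧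
    Nonempty (K ≃* POmega F (quadFormOdd 3 F)))
  o8p : Row1.{u} (fun K _ => ∃ (F : Type) (_ : Field F) (_ : Fintype F), Fintype.card F = 3 ∧
    Nonempty (K ≃* POmega F (quadFormPlus 4 F)))
  o8m : Row1.{u} (fun K _ => ∃ (F : Type) (_ : Field F) (_ : Fintype F) (b c : F), Fintype.card F = 3 ∧
    (∀ z₁ z₂ : F, z₁ ^ 2 + b * z₁ * z₂ + c * z₂ ^ 2 = 0 → z₁ = 0 ∧ z₂ = 0) ∧
    Nonempty (K ≃* POmega F (quadFormMinus 3 F b c)))

/-- a row from the facts `Small.Row` -/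
theorem row_of_small (h1173 : Start.P1173.{u}) {P : (K : Type u) → [Group K] → Prop}
    (h : ∀ (K : Type u) [Group K], P K → Small.Row K) : Row1.{u} P := by
  intro G _ C K S hr hz hP
  have := C.fin
  have := C.simple
  obtain ⟨x, y, hx, hy, hx2, hy2, hxy, hne⟩ := EvenPair.exists_two_of_not_pRankLE hr
  exact Small.false_of_row (h1173 G (Start.oddCore_eq_bot hx2)) S.std (Start.isSimple_of_center S.simple hz) hz hr
    (h ↥K hP)

/-- a row from `HasSheetL` -/
theorem row_of_sheetL (h1173 : Start.P1173.{u}) {P : (K : Type u) → [Group K] → Prop}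
    (h : ∀ (K : Type u) [Group K], P K → Small.LFour.HasSheetL K) : Row1.{u} P := by
  intro G _ C K S hr hz hP
  have := C.fin
  have := C.simple
  obtain ⟨x, y, hx, hy, hx2, hy2, hxy, hne⟩ := EvenPair.exists_two_of_not_pRankLE hr
  exact Small.LFour.false_of_rowL (h1173 G (Start.oddCore_eq_bot hx2)) S.std (Start.isSimple_of_center S.simple hz)
    hz hr (h ↥K hP)

/-- the groups of rank at least 2 over the field with 3 elements -/
theorem three (h1173 : Start.P1173.{u}) (o : Open.{u}) : Row1.{u} (fun K _ => Rk K 3) := by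
  intro G _ C K S hr hz hP
  rcases NI3.Final.small_of_rk o.noThree o.f13 C S.toStd0 hz hP with h | h | h | h | h | h | h | h | h
  · exact row_of_small h1173 (P := fun K _ => ∃ (F : Type) (_ : Field F) (_ : Fintype F), Fintype.card F = 3 ∧
      Nonempty (K ≃* Matrix.ProjectiveSpecialLinearGroup (Fin 3) F))
      (fun K _ ⟨F, _, _, hF, ⟨e⟩⟩ => Small.row_l33 hF e) G C K S hr hz h
  · exact row_of_small h1173 (P := fun K _ => ∃ (F : Type) (_ : Field F) (_ : Fintype F), Fintype.card F = 9 ∧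
      Nonempty (K ≃* PSU 3 F 3))
      (fun K _ ⟨F, _, _, hF, ⟨e⟩⟩ => Small.row_u33 hF e) G C K S hr hz h
  · exact row_of_sheetL h1173 (P := fun K _ => ∃ (F : Type) (_ : Field F) (_ : Fintype F), Fintype.card F = 3 ∧
      Nonempty (K ≃* Matrix.ProjectiveSpecialLinearGroup (Fin 4) F))
      (fun K _ ⟨F, _, _, hF, ⟨e⟩⟩ => o.l4 K F hF e) G C K S hr hz h
  · exact row_of_small h1173 (P := fun K _ => ∃ (F : Type) (_ : Field F) (_ : Fintype F), Fintype.card F = 9 ∧
      Nonempty (K ≃* PSU 4 F 3))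
      (fun K _ ⟨F, _, _, hF, ⟨e⟩⟩ => Small.UFour.row hF e) G C K S hr hz h
  · exact row_of_small h1173 (P := fun K _ => ∃ (F : Type) (_ : Field F) (_ : Fintype F), Fintype.card F = 3 ∧
      Nonempty (K ≃* PSp 2 F))
      (fun K _ ⟨F, _, _, hF, ⟨e⟩⟩ => Small.row_psp43 hF e) G C K S hr hz h
  · exact row_of_small h1173 (P := fun K _ => FG2 K 3)
      (fun K _ ⟨F, _, _, hF, ⟨e⟩⟩ => Small.row_g23 F hF e) G C K S hr hz h
  · exact o.o7 G C K S hr hz h
  · exact o.o8p G C K S hr hz h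
  · exact o.o8m G C K S hr hz h

/-- **The rows of Lie type in odd characteristic.** -/
theorem rowsOdd (h1173 : Start.P1173.{u}) (o : Open.{u}) : Cut.RowsOdd.{u} :=
  NI.RowsD4.rowsOdd_of o.big (LThreeTwo.row h1173) (RowL2o.row h1173) o.ree (three h1173 o)

end Cfsg.Agent.OddHalf.D4.Final.Odd

end

private theorem dce_e73c59982f7f : _root_.True := by
  try have : _root_.True := by simp only [_root_.Cfsg.Agent.OddHalf.D4.Small.UFour.p16.eq_1]
  try have : _root_.True := by simp only [_root_.Cfsg.Agent.OddHalf.D4.Small.KPSp43.iv.eq_1]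
  try have : _root_.True := by simp only [_root_.Cfsg.Agent.OddHalf.D4.Small.KPSp43.ng.eq_1]
  try have : _root_.True := by simp only [_root_.Cfsg.Agent.OddHalf.D4.Small.UFour.abel.congr_simp]
  try have : _root_.True := by simp only [_root_.Cfsg.Agent.OddHalf.D4.Small.KPSp43.ml.eq_1]
  try have : _root_.True := by simp only [_root_.Cfsg.Agent.OddHalf.D4.Small.UFour.at'.eq_1]
  try have : _root_.True := by simp only [_root_.Cfsg.Agent.OddHalf.D4.Small.KPSp43.L8.eq_1]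
  try have : _root_.True := by simp only [_root_.Cfsg.Agent.OddHalf.D4.Small.KPSp43.o4.eq_1]
  exact _root_.True.intro
end

-- part: OddHalf/D4/Sp2/Main_mg
section

end

-- part: OddHalf/D7/RowL_mg
section
prune_inst 0x4004000000800000000000500000000000000000000030000000000040000000000008600000000001008800000000000008800800000000000000000000000000000020080480000000000000000000000000000000000000000000000000004000000000
set_option linter.all false
open scoped Cfsg.Agent.FastGrp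

-- part: OddHalf/D7An/LocOf
section
-- merged: Cfsg.Agent.OddHalf.D7An.Mat
section

/-!
# Transvections in `SL ι F` in coordinate-free form (ODD D7, type `A_n`; helper991)

* `Tr u φ = 1 + u φ` (`φ(u) = 0`), `conj_Tr`, `Tr_mul`, `Tr_mul'`;
* `emb` : `SL` of the complement of `{a, b}`; `emb_mem` : it is generated by root elements.
-/

set_option autoImplicit false
set_option linter.unusedSectionVars false

namespace Cfsg.Agent.OddHalf.D7An.Mat

open Matrix Cfsg.Agent.LieClassical.SLGen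
open Cfsg.Agent.TitsThree.KSideA (tv tv_of_ne tv_add tv_zero tv_neg)

variable {ι F : Type*} [Field F] [DecidableEq ι] [Fintype ι]

theorem det_one_add_vecMulVec (u φ : ι → F) : (1 + vecMulVec u φ).det = 1 + φ ⬝ᵥ u := by
  rw [vecMulVec_eq Unit, det_one_add_replicateCol_mul_replicateRow]

theorem slext {A B : _root_.Matrix.SpecialLinearGroup ι F} (h : A.1 = B.1) : A = B := Subtype.ext h

theorem mulv (A B : _root_.Matrix.SpecialLinearGroup ι F) : (A * B).1 = A.1 * B.1 := rfl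

/-- The transvection `1 + u φ`. -/
def Tr' (u φ : ι → F) (h : φ ⬝ᵥ u = 0) : _root_.Matrix.SpecialLinearGroup ι F :=
  ⟨1 + vecMulVec u φ, by rw [det_one_add_vecMulVec, h, add_zero]⟩

open Classical in
/-- The transvection `1 + u φ` (`1` if `φ(u) ≠ 0`). -/
noncomputable def Tr (u φ : ι → F) : _root_.Matrix.SpecialLinearGroup ι F :=
  if h : φ ⬝ᵥ u = 0 then Tr' u φ h else 1

theorem Tr_val {u φ : ι → F} (h : φ ⬝ᵥ u = 0) : (Tr u φ).1 = 1 + vecMulVec u φ := by
  have : Tr u φ = Tr' u φ h := dif_pos h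
  rw [this]; rfl

theorem Tr_apply {u φ : ι → F} (h : φ ⬝ᵥ u = 0) (i j : ι) : (Tr u φ).1 i j = (1 : Matrix ι ι F) i j + u i * φ j := by
  rw [Tr_val h]; rfl

theorem vecMulVec_mul_self {u φ φ' : ι → F} {u' : ι → F} (h : φ ⬝ᵥ u' = 0) :
    vecMulVec u φ * vecMulVec u' φ' = 0 := by
  rw [vecMulVec_mul_vecMulVec, h, zero_smul]
  ext i j
  simp [vecMulVec_apply]

theorem Tr_mul {u φ φ' : ι → F} (h : φ ⬝ᵥ u = 0) (h' : φ' ⬝ᵥ u = 0) : Tr u φ * Tr u φ' = Tr u (φ + φ') := by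
  apply slext
  have h'' : (φ + φ') ⬝ᵥ u = 0 := by rw [add_dotProduct, h, h', add_zero]
  rw [mulv, Tr_val h, Tr_val h', Tr_val h'', add_mul, mul_add, mul_add, vecMulVec_mul_self h,
    vecMulVec_add]
  simp only [one_mul, mul_one, add_zero]
  abel

theorem Tr_mul' {u u' φ : ι → F} (h : φ ⬝ᵥ u = 0) (h' : φ ⬝ᵥ u' = 0) : Tr u φ * Tr u' φ = Tr (u + u') φ := by
  apply slext
  have h'' : φ ⬝ᵥ (u + u') = 0 := by rw [dotProduct_add, h, h', add_zero]
  rw [mulv, Tr_val h, Tr_val h', Tr_val h'', add_mul, mul_add, mul_add, vecMulVec_mul_self h',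
    add_vecMulVec]
  simp only [one_mul, mul_one, add_zero]
  abel

theorem Tr_zero (u : ι → F) : Tr u 0 = 1 := by
  apply slext
  rw [Tr_val (zero_dotProduct u)]
  ext i j
  simp

theorem Tr_zero' (φ : ι → F) : Tr 0 φ = 1 := by
  apply slext
  rw [Tr_val (dotProduct_zero φ)]
  ext i j
  simp

theorem Tr_neg {u φ : ι → F} (h : φ ⬝ᵥ u = 0) : Tr u (-φ) = (Tr u φ)⁻¹ := by
  rw [eq_inv_iff_mul_eq_one, Tr_mul (by rw [neg_dotProduct, h, neg_zero]) h, neg_add_cancel, Tr_zero]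

theorem Tr_neg' {u φ : ι → F} (h : φ ⬝ᵥ u = 0) : Tr (-u) φ = (Tr u φ)⁻¹ := by
  rw [eq_inv_iff_mul_eq_one, Tr_mul' (by rw [dotProduct_neg, h, neg_zero]) h, neg_add_cancel, Tr_zero']

theorem Tr_mulVec {u φ : ι → F} (h : φ ⬝ᵥ u = 0) (v : ι → F) : (Tr u φ).1 *ᵥ v = v + (φ ⬝ᵥ v) • u := by
  rw [Tr_val h, add_mulVec, one_mulVec, vecMulVec_mulVec]
  congr 1
  funext i
  simp only [mul_comm, _root_.Pi.smul_apply, _root_.MulOpposite.smul_eq_mul_unop, _root_.MulOpposite.unop_op, _root_.smul_eq_mul]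

theorem vecMul_Tr {u φ : ι → F} (h : φ ⬝ᵥ u = 0) (ψ : ι → F) : ψ ᵥ* (Tr u φ).1 = ψ + (ψ ⬝ᵥ u) • φ := by
  rw [Tr_val h, vecMul_add, vecMul_one, vecMul_vecMulVec]

theorem coe_inv_mul (g : _root_.Matrix.SpecialLinearGroup ι F) : (g⁻¹).1 * g.1 = 1 :=
  congrArg (fun g : _root_.Matrix.SpecialLinearGroup ι F => g.1) (inv_mul_cancel g)

theorem coe_mul_inv (g : _root_.Matrix.SpecialLinearGroup ι F) : g.1 * (g⁻¹).1 = 1 :=
  congrArg (fun g : _root_.Matrix.SpecialLinearGroup ι F => g.1) (mul_inv_cancel g)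

theorem inv_dot (g : _root_.Matrix.SpecialLinearGroup ι F) (φ u : ι → F) : (φ ᵥ* (g⁻¹).1) ⬝ᵥ (g.1 *ᵥ u) = φ ⬝ᵥ u := by
  rw [← dotProduct_mulVec, mulVec_mulVec, coe_inv_mul, one_mulVec]

/-- Conjugation. -/
theorem conj_Tr (g : _root_.Matrix.SpecialLinearGroup ι F) {u φ : ι → F} (h : φ ⬝ᵥ u = 0) :
    g * Tr u φ * g⁻¹ = Tr (g.1 *ᵥ u) (φ ᵥ* (g⁻¹).1) := by
  apply slext
  have h' : (φ ᵥ* (g⁻¹).1) ⬝ᵥ (g.1 *ᵥ u) = 0 := by rw [inv_dot, h]
  rw [mulv, mulv, Tr_val h, Tr_val h', mul_add, mul_one, add_mul,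
    coe_mul_inv, mul_vecMulVec, vecMulVec_mul]

theorem Tr_inj {u φ φ' : ι → F} {i : ι} (hu : u i ≠ 0) (h : φ ⬝ᵥ u = 0) (h' : φ' ⬝ᵥ u = 0) (e : Tr u φ = Tr u φ') :
    φ = φ' := by
  funext j
  have := congrArg (fun g : _root_.Matrix.SpecialLinearGroup ι F => g.1 i j) e
  simp only [Tr_apply h, Tr_apply h'] at this
  exact mul_left_cancel₀ hu (add_left_cancel this)

/-- Root elements. -/
theorem tv_eq {i j : ι} (hij : i ≠ j) (c : F) : tv i j c = Tr (Pi.single i 1) (Pi.single j c) := by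
  apply slext
  have h : (Pi.single j c : ι → F) ⬝ᵥ (Pi.single i 1) = 0 := by
    rw [single_dotProduct, Pi.single_eq_of_ne hij.symm, mul_zero]
  rw [Tr_val h, tv_of_ne hij]
  ext k l
  show (1 + Matrix.single i j c) k l = (1 + vecMulVec (Pi.single i 1) (Pi.single j c)) k l
  simp only [Matrix.add_apply, vecMulVec_apply, Matrix.single_apply, Pi.single_apply]
  congr 1
  by_cases h1 : i = k
  · subst h1
    by_cases h2 : j = l
    · subst h2; simp
    · have h2' : ¬ l = j := fun h => h2 h.symm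
      simp [h2, h2']
  · have h1' : ¬ k = i := fun h => h1 h.symm
    simp [h1, h1']

/-- A transvection with center `e_i` is a product of root elements. -/
theorem Tr_single_mem {H : Subgroup (_root_.Matrix.SpecialLinearGroup ι F)} {i : ι} {S : Finset ι} (hi : i ∉ S)
    (hH : ∀ j ∈ S, ∀ c, tv i j c ∈ H) {φ : ι → F} (hφ : ∀ j, j ∉ S → φ j = 0) : Tr (Pi.single i 1) φ ∈ H := by
  have key : ∀ T : Finset ι, T ⊆ S → Tr (Pi.single i 1) (∑ j ∈ T, Pi.single j (φ j)) ∈ H := by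
    intro T
    induction T using Finset.induction_on with
    | empty => intro _; rw [Finset.sum_empty, Tr_zero]; exact one_mem _
    | insert j T hj ih =>
      intro hT
      rw [Finset.insert_subset_iff] at hT
      have hji : j ≠ i := fun h => hi (h ▸ hT.1)
      rw [Finset.sum_insert hj, ← Tr_mul]
      · rw [← tv_eq hji.symm]
        exact mul_mem (hH j hT.1 _) (ih hT.2)
      · rw [single_dotProduct, Pi.single_eq_of_ne hji, mul_zero]
      · rw [dotProduct_single, mul_one, Finset.sum_apply]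
        refine Finset.sum_eq_zero fun l hl => ?_
        rw [Pi.single_eq_of_ne]
        rintro rfl
        exact hi (hT.2 hl)
  have h1 := key S subset_rfl
  have h2 : ∑ j ∈ S, Pi.single j (φ j) = φ := by
    funext k
    rw [Finset.sum_apply]
    by_cases hk : k ∈ S
    · rw [Finset.sum_eq_single k]
      · rw [Pi.single_eq_same]
      · intro l _ hl; rw [Pi.single_eq_of_ne hl.symm]
      · intro h; exact absurd hk h
    · rw [hφ k hk]
      refine Finset.sum_eq_zero fun l hl => ?_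
      rw [Pi.single_eq_of_ne]
      rintro rfl
      exact hk hl
  rwa [h2] at h1

/-- A transvection with axis `e_j*` is a product of root elements. -/
theorem Tr_single_mem' {H : Subgroup (_root_.Matrix.SpecialLinearGroup ι F)} {j : ι} {S : Finset ι} (hj : j ∉ S)
    (hH : ∀ i ∈ S, ∀ c, tv i j c ∈ H) {u : ι → F} (hu : ∀ i, i ∉ S → u i = 0) : Tr u (Pi.single j 1) ∈ H := by
  have e1 : ∀ i (c : F), i ≠ j → Tr (Pi.single i c) (Pi.single j 1) = tv i j c := by
    intro i c hij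
    rw [tv_eq hij]
    apply slext
    rw [Tr_val, Tr_val]
    · ext k l
      simp only [Matrix.add_apply, vecMulVec_apply, Pi.single_apply]
      by_cases h1 : k = i <;> by_cases h2 : l = j <;> simp [h1, h2]
    · rw [single_dotProduct, Pi.single_eq_of_ne hij.symm, mul_zero]
    · rw [single_dotProduct, Pi.single_eq_of_ne hij.symm, mul_zero]
  have key : ∀ T : Finset ι, T ⊆ S → Tr (∑ i ∈ T, Pi.single i (u i)) (Pi.single j 1) ∈ H := by
    intro T
    induction T using Finset.induction_on with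
    | empty => intro _; rw [Finset.sum_empty, Tr_zero']; exact one_mem _
    | insert i T hi ih =>
      intro hT
      rw [Finset.insert_subset_iff] at hT
      have hij : i ≠ j := fun h => hj (h ▸ hT.1)
      rw [Finset.sum_insert hi, ← Tr_mul']
      · rw [e1 i _ hij]
        exact mul_mem (hH i hT.1 _) (ih hT.2)
      · rw [single_dotProduct, Pi.single_eq_of_ne hij.symm, mul_zero]
      · rw [single_dotProduct, one_mul, Finset.sum_apply]
        refine Finset.sum_eq_zero fun l hl => ?_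
        rw [Pi.single_eq_of_ne]
        rintro rfl
        exact hj (hT.2 hl)
  have h1 := key S subset_rfl
  have h2 : ∑ i ∈ S, Pi.single i (u i) = u := by
    funext k
    rw [Finset.sum_apply]
    by_cases hk : k ∈ S
    · rw [Finset.sum_eq_single k]
      · rw [Pi.single_eq_same]
      · intro l _ hl; rw [Pi.single_eq_of_ne hl.symm]
      · intro h; exact absurd hk h
    · rw [hu k hk]
      refine Finset.sum_eq_zero fun l hl => ?_
      rw [Pi.single_eq_of_ne]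
      rintro rfl
      exact hk hl
  rwa [h2] at h1

/-! ### The Levi complement -/

section Emb

variable (p : ι → Prop) [DecidablePred p]

/-- The block matrix `D ⊕ 1`. -/
def embM (D : Matrix {i // p i} {i // p i} F) : Matrix ι ι F :=
  (fromBlocks D 0 0 (1 : Matrix {i // ¬ p i} {i // ¬ p i} F)).submatrix (Equiv.sumCompl p).symm (Equiv.sumCompl p).symm

theorem embM_mul (D D' : Matrix {i // p i} {i // p i} F) : embM p (D * D') = embM p D * embM p D' := by
  unfold embM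
  rw [submatrix_mul_equiv, fromBlocks_multiply]
  simp only [_root_.Matrix.mul_zero, _root_.add_zero, _root_.Matrix.mul_one, _root_.Matrix.zero_mul, _root_.mul_one, _root_.zero_add]

theorem embM_one : embM p (1 : Matrix {i // p i} {i // p i} F) = 1 := by
  unfold embM
  rw [fromBlocks_one, submatrix_one_equiv]

theorem det_embM (D : Matrix {i // p i} {i // p i} F) : (embM p D).det = D.det := by
  unfold embM
  rw [det_submatrix_equiv_self, det_fromBlocks_zero₂₁, det_one, mul_one]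

theorem embM_apply (D : Matrix {i // p i} {i // p i} F) (i j : ι) :
    embM p D i j = if h : p i ∧ p j then D ⟨i, h.1⟩ ⟨j, h.2⟩ else (1 : Matrix ι ι F) i j := by
  unfold embM
  rw [submatrix_apply]
  by_cases hi : p i <;> by_cases hj : p j
  · rw [Equiv.sumCompl_symm_apply_of_pos hi, Equiv.sumCompl_symm_apply_of_pos hj, fromBlocks_apply₁₁, dif_pos ⟨hi, hj⟩]
  · rw [Equiv.sumCompl_symm_apply_of_pos hi, Equiv.sumCompl_symm_apply_of_neg hj, fromBlocks_apply₁₂,
      dif_neg (fun h => hj h.2), one_apply_ne]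
    · rfl
    · rintro rfl; exact hj hi
  · rw [Equiv.sumCompl_symm_apply_of_neg hi, Equiv.sumCompl_symm_apply_of_pos hj, fromBlocks_apply₂₁,
      dif_neg (fun h => hi h.1), one_apply_ne]
    · rfl
    · rintro rfl; exact hi hj
  · rw [Equiv.sumCompl_symm_apply_of_neg hi, Equiv.sumCompl_symm_apply_of_neg hj, fromBlocks_apply₂₂,
      dif_neg (fun h => hi h.1)]
    by_cases hij : i = j
    · subst hij; rw [one_apply_eq, one_apply_eq]
    · rw [one_apply_ne hij, one_apply_ne]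
      intro h; exact hij (congrArg Subtype.val h)

/-- The Levi complement. -/
def emb : _root_.Matrix.SpecialLinearGroup {i // p i} F →* _root_.Matrix.SpecialLinearGroup ι F where
  toFun D := ⟨embM p D.1, by rw [det_embM, D.2]⟩
  map_one' := Subtype.ext (embM_one p)
  map_mul' D D' := Subtype.ext (embM_mul p D.1 D'.1)

theorem emb_val (D : _root_.Matrix.SpecialLinearGroup {i // p i} F) : (emb p D).1 = embM p D.1 := rfl

theorem emb_transvection {i j : {i // p i}} (hij : i ≠ j) (c : F) :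
    emb p (SpecialLinearGroup.transvection hij c) = tv i.1 j.1 c := by
  have hij' : i.1 ≠ j.1 := fun h => hij (Subtype.ext h)
  apply slext
  rw [tv_of_ne hij']
  ext k l
  rw [emb_val, embM_apply]
  show (if h : p k ∧ p l then (1 + Matrix.single i j c) ⟨k, h.1⟩ ⟨l, h.2⟩ else (1 : Matrix ι ι F) k l) =
    (1 + Matrix.single i.1 j.1 c) k l
  simp only [Matrix.add_apply, Matrix.single_apply]
  split_ifs with h1 h2 h3 h3 h4 h4
  · rw [one_apply, one_apply]
    simp only [Subtype.mk.injEq]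
  · exfalso; apply h3
    exact ⟨congrArg Subtype.val h2.1, congrArg Subtype.val h2.2⟩
  · exfalso; apply h2
    exact ⟨Subtype.ext h3.1, Subtype.ext h3.2⟩
  · rw [one_apply, one_apply]
    simp only [Subtype.mk.injEq]
  · exfalso; apply h1
    rw [← h4.1, ← h4.2]
    exact ⟨i.2, j.2⟩
  · rw [add_zero]

/-- The Levi complement is generated by root elements. -/
theorem emb_mem {H : Subgroup (_root_.Matrix.SpecialLinearGroup ι F)} (hH : ∀ i j, p i → p j → i ≠ j → ∀ c, tv i j c ∈ H)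
    (D : _root_.Matrix.SpecialLinearGroup {i // p i} F) : emb p D ∈ H := by
  have h1 : (⊤ : Subgroup (_root_.Matrix.SpecialLinearGroup {i // p i} F)) ≤ H.comap (emb p) := by
    rw [← closure_transvections, Subgroup.closure_le]
    rintro _ ⟨i, j, hij, c, rfl⟩
    rw [SetLike.mem_coe, Subgroup.mem_comap, emb_transvection]
    exact hH i.1 j.1 i.2 j.2 (fun h => hij (Subtype.ext h)) c
  exact h1 (Subgroup.mem_top D)

end Emb

end Cfsg.Agent.OddHalf.D7An.Mat

end

-- merged: Cfsg.Agent.OddHalf.D7An.Two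
section

/-!
# `SL_m(2)`: the parabolic of a transvection (ODD D7, `K = L_m(2)`; helper991)

`a ≠ b` in `ι`; `AM a = {1 + e_a φ}`, `BM b = {1 + u e_b*}`, `z = 1 + e_a e_b*`.

* `trA`, `trB` : the stabiliser of `AM` (`BM`) is transitive on its transvections;
* `le_of_mem` : a subgroup containing `z`, invariant under the Levi complement and containing an element
  `(1 + e_a φ)(1 + u e_b*)` outside `AM ∪ BM` contains `AM` and `BM`.
-/

set_option autoImplicit false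
set_option linter.unusedSectionVars false

namespace Cfsg.Agent.OddHalf.D7An.Two

open Matrix Cfsg.Agent.OddHalf.D7An.Mat
open Cfsg.Agent.TitsThree.KSideA (tv tv_of_ne tv_add tv_zero tv_neg)

variable {ι F : Type*} [Field F] [DecidableEq ι] [Fintype ι]

theorem dot_single (φ : ι → F) (a : ι) : φ ⬝ᵥ Pi.single a 1 = φ a := by rw [dotProduct_single, mul_one]

theorem single_dot (u : ι → F) (b : ι) : (Pi.single b 1 : ι → F) ⬝ᵥ u = u b := by rw [single_dotProduct, one_mul]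

/-- `{1 + e_a φ}` -/
def AM (F : Type*) [Field F] (a : ι) : Subgroup (_root_.Matrix.SpecialLinearGroup ι F) where
  carrier := {g | ∃ φ : ι → F, φ a = 0 ∧ g = Tr (Pi.single a 1) φ}
  one_mem' := ⟨0, rfl, (Tr_zero _).symm⟩
  mul_mem' := by
    rintro _ _ ⟨φ, h, rfl⟩ ⟨φ', h', rfl⟩
    refine ⟨φ + φ', by rw [Pi.add_apply, h, h', add_zero], Tr_mul ?_ ?_⟩ <;> rw [dot_single] <;> assumption
  inv_mem' := by
    rintro _ ⟨φ, h, rfl⟩
    exact ⟨-φ, by rw [Pi.neg_apply, h, neg_zero], (Tr_neg (by rw [dot_single]; exact h)).symm⟩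

/-- `{1 + u e_b*}` -/
def BM (F : Type*) [Field F] (b : ι) : Subgroup (_root_.Matrix.SpecialLinearGroup ι F) where
  carrier := {g | ∃ u : ι → F, u b = 0 ∧ g = Tr u (Pi.single b 1)}
  one_mem' := ⟨0, rfl, (Tr_zero' _).symm⟩
  mul_mem' := by
    rintro _ _ ⟨u, h, rfl⟩ ⟨u', h', rfl⟩
    refine ⟨u + u', by rw [Pi.add_apply, h, h', add_zero], Tr_mul' ?_ ?_⟩ <;> rw [single_dot] <;> assumption
  inv_mem' := by
    rintro _ ⟨u, h, rfl⟩
    exact ⟨-u, by rw [Pi.neg_apply, h, neg_zero], (Tr_neg' (by rw [single_dot]; exact h)).symm⟩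

/-- An element fixing `e_a` normalises `AM a`. -/
theorem conj_AM {a : ι} {g : _root_.Matrix.SpecialLinearGroup ι F} (hg : g.1 *ᵥ Pi.single a 1 = Pi.single a 1) {φ : ι → F}
    (h : φ a = 0) : g * Tr (Pi.single a 1) φ * g⁻¹ = Tr (Pi.single a 1) (φ ᵥ* (g⁻¹).1) ∧ (φ ᵥ* (g⁻¹).1) a = 0 := by
  have h0 : φ ⬝ᵥ (Pi.single a 1 : ι → F) = 0 := by rw [dot_single, h]
  refine ⟨by rw [conj_Tr g h0, hg], ?_⟩
  have := inv_dot g φ (Pi.single a 1)
  rw [hg, dot_single, dot_single, h] at this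
  exact this

/-- An element fixing `e_b*` normalises `BM b`. -/
theorem conj_BM {b : ι} {g : _root_.Matrix.SpecialLinearGroup ι F} (hg : (Pi.single b 1 : ι → F) ᵥ* (g⁻¹).1 = Pi.single b 1)
    {u : ι → F} (h : u b = 0) : g * Tr u (Pi.single b 1) * g⁻¹ = Tr (g.1 *ᵥ u) (Pi.single b 1) ∧
      (g.1 *ᵥ u) b = 0 := by
  have h0 : (Pi.single b 1 : ι → F) ⬝ᵥ u = 0 := by rw [single_dot, h]
  refine ⟨by rw [conj_Tr g h0, hg], ?_⟩
  have := inv_dot g (Pi.single b 1) u
  rw [hg, single_dot, single_dot, h] at this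
  exact this

variable (hF : ∀ x : F, x = 0 ∨ x = 1)

include hF

theorem eq_one {x : F} (h : x ≠ 0) : x = 1 := (hF x).resolve_left h

theorem one_add_one : (1 : F) + 1 = 0 := by
  rcases hF (1 + 1) with h | h
  · exact h
  · exact absurd (add_eq_left.1 h) one_ne_zero

theorem trA {a b : ι} (hab : a ≠ b) {φ : ι → F} (h : φ a = 0) (h0 : φ ≠ 0) : ∃ g : _root_.Matrix.SpecialLinearGroup ι F,
    g.1 *ᵥ Pi.single a 1 = Pi.single a 1 ∧ (Pi.single b 1 : ι → F) ᵥ* (g⁻¹).1 = φ := by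
  by_cases hb : ∃ i, i ≠ b ∧ φ i ≠ 0
  · obtain ⟨i, hi, hφi⟩ := hb
    have hφi := eq_one hF hφi
    -- `w b = 1`, `φ w = 1`
    let w : ι → F := Pi.single b 1 + (1 - φ b) • Pi.single i 1
    have hw1 : φ ⬝ᵥ w = 1 := by
      simp only [w]
      rw [dotProduct_add, dotProduct_smul, dot_single, dot_single, hφi, smul_eq_mul]; ring
    have hw2 : w b = 1 := by
      simp only [w]
      rw [Pi.add_apply, Pi.smul_apply, Pi.single_eq_same, Pi.single_eq_of_ne hi.symm, smul_zero, add_zero]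
    have hχ : (φ - Pi.single b 1) ⬝ᵥ w = 0 := by rw [sub_dotProduct, hw1, single_dot, hw2, sub_self]
    have hχ' : (-(φ - Pi.single b 1)) ⬝ᵥ w = 0 := by rw [neg_dotProduct, hχ, neg_zero]
    refine ⟨Tr w (-(φ - Pi.single b 1)), ?_, ?_⟩
    · rw [Tr_mulVec hχ', dot_single, Pi.neg_apply, Pi.sub_apply, h, Pi.single_eq_of_ne hab, sub_zero, neg_zero,
        zero_smul, add_zero]
    · rw [Tr_neg hχ, inv_inv, vecMul_Tr hχ, single_dot, hw2, one_smul]
      abel
  · push Not at hb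
    have e : φ = Pi.single b 1 := by
      have hφb : φ b ≠ 0 := by
        intro h1
        apply h0
        funext i
        by_cases hi : i = b
        · rw [hi, h1]; rfl
        · exact hb i hi
      funext i
      by_cases hi : i = b
      · rw [hi, Pi.single_eq_same]; exact eq_one hF hφb
      · rw [hb i hi, Pi.single_eq_of_ne hi]
    refine ⟨1, ?_, ?_⟩
    · show (1 : Matrix ι ι F) *ᵥ _ = _
      rw [one_mulVec]
    · rw [inv_one]
      show _ ᵥ* (1 : Matrix ι ι F) = _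
      rw [vecMul_one, e]

theorem trB {a b : ι} (hab : a ≠ b) {u : ι → F} (h : u b = 0) (h0 : u ≠ 0) : ∃ g : _root_.Matrix.SpecialLinearGroup ι F,
    (Pi.single b 1 : ι → F) ᵥ* (g⁻¹).1 = Pi.single b 1 ∧ g.1 *ᵥ Pi.single a 1 = u := by
  by_cases hb : ∃ i, i ≠ a ∧ u i ≠ 0
  · obtain ⟨i, hi, hui⟩ := hb
    have hui := eq_one hF hui
    let χ : ι → F := Pi.single a 1 + (1 - u a) • Pi.single i 1
    have hw1 : χ ⬝ᵥ u = 1 := by
      simp only [χ]
      rw [add_dotProduct, smul_dotProduct, single_dot, single_dot, hui, smul_eq_mul]; ring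
    have hw2 : χ a = 1 := by
      simp only [χ]
      rw [Pi.add_apply, Pi.smul_apply, Pi.single_eq_same, Pi.single_eq_of_ne hi.symm, smul_zero, add_zero]
    have hχ : χ ⬝ᵥ (u - Pi.single a 1) = 0 := by rw [dotProduct_sub, hw1, dot_single, hw2, sub_self]
    refine ⟨Tr (u - Pi.single a 1) χ, ?_, ?_⟩
    · rw [← Tr_neg hχ, vecMul_Tr (by rw [neg_dotProduct, hχ, neg_zero]), single_dot, Pi.sub_apply, h,
        Pi.single_eq_of_ne hab.symm, sub_zero, zero_smul, add_zero]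
    · rw [Tr_mulVec hχ, dot_single, hw2, one_smul]
      abel
  · push Not at hb
    have e : u = Pi.single a 1 := by
      have hφb : u a ≠ 0 := by
        intro h1
        apply h0
        funext i
        by_cases hi : i = a
        · rw [hi, h1]; rfl
        · exact hb i hi
      funext i
      by_cases hi : i = a
      · rw [hi, Pi.single_eq_same]; exact eq_one hF hφb
      · rw [hb i hi, Pi.single_eq_of_ne hi]
    refine ⟨1, ?_, ?_⟩
    · rw [inv_one]
      show _ ᵥ* (1 : Matrix ι ι F) = _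
      rw [vecMul_one]
    · show (1 : Matrix ι ι F) *ᵥ _ = _
      rw [one_mulVec, e]

/-- `w` is supported outside `{a, b}`. -/
def Off (a b : ι) (w : ι → F) : Prop := w a = 0 ∧ w b = 0

omit hF in
theorem Off.add {a b : ι} {w w' : ι → F} (h : Off a b w) (h' : Off a b w') : Off a b (w + w') :=
  ⟨by rw [Pi.add_apply, h.1, h'.1, add_zero], by rw [Pi.add_apply, h.2, h'.2, add_zero]⟩

omit hF in
theorem off_single {a b i : ι} (ha : i ≠ a) (hb : i ≠ b) : Off a b (Pi.single i (1 : F)) :=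
  ⟨Pi.single_eq_of_ne ha.symm _, Pi.single_eq_of_ne hb.symm _⟩

/-- Separation. -/
theorem sepk {a b : ι} {φ χ : ι → F} (h1 : ∃ i, i ≠ a ∧ i ≠ b ∧ φ i ≠ χ i) (h2 : ∃ i, i ≠ a ∧ i ≠ b ∧ φ i ≠ 0) :
    ∃ w : ι → F, Off a b w ∧ φ ⬝ᵥ w = 1 ∧ χ ⬝ᵥ w = 0 := by
  by_cases h3 : ∃ i, i ≠ a ∧ i ≠ b ∧ φ i ≠ 0 ∧ χ i = 0
  · obtain ⟨i, ha, hb, hφ, hχ⟩ := h3
    exact ⟨Pi.single i 1, off_single ha hb, by rw [dot_single]; exact eq_one hF hφ, by rw [dot_single, hχ]⟩
  · push Not at h3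
    obtain ⟨j, hja, hjb, hj⟩ := h1
    obtain ⟨i, hia, hib, hi⟩ := h2
    have hφj : φ j = 0 := by
      by_contra h4
      exact hj (by rw [eq_one hF h4, eq_one hF (h3 j hja hjb h4)])
    have hχj : χ j = 1 := eq_one hF (fun h4 => hj (by rw [hφj, h4]))
    refine ⟨Pi.single i 1 + Pi.single j 1, (off_single hia hib).add (off_single hja hjb), ?_, ?_⟩
    · rw [dotProduct_add, dot_single, dot_single, eq_one hF hi, hφj, add_zero]
    · rw [dotProduct_add, dot_single, dot_single, eq_one hF (h3 i hia hib hi), hχj, one_add_one hF]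

theorem sep1 {a b : ι} {φ χ : ι → F} (h1 : ∃ i, i ≠ a ∧ i ≠ b ∧ φ i ≠ 0) (h2 : ∃ i, i ≠ a ∧ i ≠ b ∧ χ i ≠ 0) :
    ∃ w : ι → F, Off a b w ∧ φ ⬝ᵥ w = 1 ∧ χ ⬝ᵥ w = 1 := by
  by_cases h3 : ∃ i, i ≠ a ∧ i ≠ b ∧ φ i ≠ χ i
  · obtain ⟨w, hw, e1, e2⟩ := sepk hF h3 h1
    obtain ⟨w', hw', e1', e2'⟩ := sepk hF (φ := χ) (χ := φ) (by
      obtain ⟨i, ha, hb, hi⟩ := h3; exact ⟨i, ha, hb, hi.symm⟩) h2
    refine ⟨w + w', hw.add hw', ?_, ?_⟩
    · rw [dotProduct_add, e1, e2', add_zero]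
    · rw [dotProduct_add, e2, e1', zero_add]
  · push Not at h3
    obtain ⟨i, ha, hb, hi⟩ := h1
    exact ⟨Pi.single i 1, off_single ha hb, by rw [dot_single]; exact eq_one hF hi, by
      rw [dot_single, ← h3 i ha hb]; exact eq_one hF hi⟩

theorem exists_pair {a b : ι} {φ u : ι → F} {i j l : ι} (hi : i ≠ a ∧ i ≠ b) (hj : j ≠ a ∧ j ≠ b) (hl : l ≠ a ∧ l ≠ b)
    (hij : i ≠ j) (hil : i ≠ l) (hjl : j ≠ l) (hu : u i ≠ 0) (h2 : ∃ i, i ≠ a ∧ i ≠ b ∧ φ i ≠ 0) :
    ∃ χ w : ι → F, Off a b χ ∧ Off a b w ∧ (∃ i, i ≠ a ∧ i ≠ b ∧ χ i ≠ 0) ∧ χ ⬝ᵥ u = 0 ∧ χ ⬝ᵥ w = 0 ∧ φ ⬝ᵥ w = 1 := by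
  have hui := eq_one hF hu
  have h11 := one_add_one hF
  have key : ∀ k, k ≠ a ∧ k ≠ b → i ≠ k → Off a b (Pi.single k 1 + u k • Pi.single i 1 : ι → F) ∧
      (Pi.single k 1 + u k • Pi.single i 1 : ι → F) k = 1 ∧ (Pi.single k 1 + u k • Pi.single i 1 : ι → F) ⬝ᵥ u = 0 := by
    intro k hk hik
    refine ⟨(off_single hk.1 hk.2).add ⟨?_, ?_⟩, ?_, ?_⟩
    · rw [Pi.smul_apply, Pi.single_eq_of_ne hi.1.symm, smul_zero]
    · rw [Pi.smul_apply, Pi.single_eq_of_ne hi.2.symm, smul_zero]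
    · rw [Pi.add_apply, Pi.smul_apply, Pi.single_eq_same, Pi.single_eq_of_ne hik.symm, smul_zero, add_zero]
    · rw [add_dotProduct, smul_dotProduct, single_dot, single_dot, hui, smul_eq_mul, mul_one]
      rcases hF (u k) with e | e <;> rw [e]
      · rw [add_zero]
      · exact h11
  have fin : ∀ χ : ι → F, Off a b χ → (∃ i, i ≠ a ∧ i ≠ b ∧ χ i ≠ 0) → χ ⬝ᵥ u = 0 → (∃ i, i ≠ a ∧ i ≠ b ∧ φ i ≠ χ i) →
      ∃ χ w : ι → F, Off a b χ ∧ Off a b w ∧ (∃ i, i ≠ a ∧ i ≠ b ∧ χ i ≠ 0) ∧ χ ⬝ᵥ u = 0 ∧ χ ⬝ᵥ w = 0 ∧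
        φ ⬝ᵥ w = 1 := by
    intro χ h3 h4 h5 h6
    obtain ⟨w, hw, e1, e2⟩ := sepk hF h6 h2
    exact ⟨χ, w, h3, hw, h4, h5, e2, e1⟩
  obtain ⟨j1, j2, j3⟩ := key j hj hij
  obtain ⟨l1, l2, l3⟩ := key l hl hil
  by_cases h3 : ∃ k, k ≠ a ∧ k ≠ b ∧ φ k ≠ (Pi.single j 1 + u j • Pi.single i 1 : ι → F) k
  · exact fin _ j1 ⟨j, hj.1, hj.2, by rw [j2]; exact one_ne_zero⟩ j3 h3
  · push Not at h3
    refine fin _ l1 ⟨l, hl.1, hl.2, by rw [l2]; exact one_ne_zero⟩ l3 ⟨j, hj.1, hj.2, ?_⟩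
    rw [h3 j hj.1 hj.2, j2, Pi.add_apply, Pi.smul_apply, Pi.single_eq_of_ne hjl, Pi.single_eq_of_ne hij.symm, smul_zero,
      add_zero]
    exact one_ne_zero

/-- The parabolic subgroup: invariant subgroups. -/
theorem AM_le {a b : ι} (hab : a ≠ b) {S : Subgroup (_root_.Matrix.SpecialLinearGroup ι F)}
    (hX : Tr (Pi.single a 1) (Pi.single b (1 : F)) ∈ S)
    (hS : ∀ w χ : ι → F, Off a b w → Off a b χ → χ ⬝ᵥ w = 0 → ∀ g ∈ S, Tr w χ * g * (Tr w χ)⁻¹ ∈ S)
    {χ : ι → F} (hχ : Off a b χ) (hχ0 : ∃ i, i ≠ a ∧ i ≠ b ∧ χ i ≠ 0) (hmem : Tr (Pi.single a 1) χ ∈ S) :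
    AM F a ≤ S := by
  -- supported outside `b`
  have h1 : ∀ ψ : ι → F, Off a b ψ → Tr (Pi.single a 1) ψ ∈ S := by
    intro ψ hψ
    by_cases h0 : ∃ i, i ≠ a ∧ i ≠ b ∧ ψ i ≠ 0
    · obtain ⟨w, hw, e1, e2⟩ := sep1 hF hχ0 h0
      have hd : (ψ - χ) ⬝ᵥ w = 0 := by rw [sub_dotProduct, e1, e2, sub_self]
      have hd' : (-(ψ - χ)) ⬝ᵥ w = 0 := by rw [neg_dotProduct, hd, neg_zero]
      have hoff : Off a b (-(ψ - χ)) := ⟨by
        rw [Pi.neg_apply, Pi.sub_apply, hψ.1, hχ.1, sub_zero, neg_zero], by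
        rw [Pi.neg_apply, Pi.sub_apply, hψ.2, hχ.2, sub_zero, neg_zero]⟩
      have h2 := hS w (-(ψ - χ)) hw hoff hd' _ hmem
      have hfix : (Tr w (-(ψ - χ))).1 *ᵥ Pi.single a 1 = Pi.single a 1 := by
        rw [Tr_mulVec hd', dot_single, hoff.1, zero_smul, add_zero]
      rw [(conj_AM hfix hχ.1).1, Tr_neg hd, inv_inv, vecMul_Tr hd, e1, one_smul] at h2
      have e : χ + (ψ - χ) = ψ := by abel
      rwa [e] at h2
    · push Not at h0
      have e : ψ = 0 := by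
        funext i
        by_cases ha : i = a
        · rw [ha, hψ.1]; rfl
        by_cases hb : i = b
        · rw [hb, hψ.2]; rfl
        exact h0 i ha hb
      rw [e, Tr_zero]; exact one_mem _
  rintro _ ⟨φ, hφ, rfl⟩
  have e : φ = (fun i => if i = b then 0 else φ i) + φ b • Pi.single b 1 := by
    funext i
    rw [Pi.add_apply, Pi.smul_apply]
    by_cases hi : i = b
    · subst hi; rw [if_pos rfl, Pi.single_eq_same, smul_eq_mul, mul_one, zero_add]
    · rw [if_neg hi, Pi.single_eq_of_ne hi, smul_zero, add_zero]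
  have hoff : Off a b (fun i => if i = b then 0 else φ i) := ⟨by
    show (if a = b then 0 else φ a) = 0
    rw [if_neg hab, hφ], by
    show (if b = b then 0 else φ b) = 0
    rw [if_pos rfl]⟩
  rw [e, ← Tr_mul (by rw [dot_single]; exact hoff.1) (by
    rw [dot_single, Pi.smul_apply, Pi.single_eq_of_ne hab, smul_zero])]
  refine mul_mem (h1 _ hoff) ?_
  rcases hF (φ b) with h2 | h2 <;> rw [h2]
  · rw [zero_smul, Tr_zero]; exact one_mem _
  · rw [one_smul]; exact hX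

theorem BM_le {a b : ι} (hab : a ≠ b) {S : Subgroup (_root_.Matrix.SpecialLinearGroup ι F)}
    (hX : Tr (Pi.single a 1) (Pi.single b (1 : F)) ∈ S)
    (hS : ∀ w χ : ι → F, Off a b w → Off a b χ → χ ⬝ᵥ w = 0 → ∀ g ∈ S, Tr w χ * g * (Tr w χ)⁻¹ ∈ S)
    {x : ι → F} (hx : Off a b x) (hx0 : ∃ i, i ≠ a ∧ i ≠ b ∧ x i ≠ 0) (hmem : Tr x (Pi.single b 1) ∈ S) :
    BM F b ≤ S := by
  have h1 : ∀ y : ι → F, Off a b y → Tr y (Pi.single b 1) ∈ S := by
    intro y hy
    by_cases h0 : ∃ i, i ≠ a ∧ i ≠ b ∧ y i ≠ 0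
    · obtain ⟨w, hw, e1, e2⟩ := sep1 hF hx0 h0
      rw [dotProduct_comm] at e1 e2
      have hd : w ⬝ᵥ (y - x) = 0 := by rw [dotProduct_sub, e1, e2, sub_self]
      have hoff : Off a b (y - x) := ⟨by
        rw [Pi.sub_apply, hy.1, hx.1, sub_zero], by
        rw [Pi.sub_apply, hy.2, hx.2, sub_zero]⟩
      have h2 := hS (y - x) w hoff hw hd _ hmem
      have hfix : (Pi.single b 1 : ι → F) ᵥ* ((Tr (y - x) w)⁻¹).1 = Pi.single b 1 := by
        rw [← Tr_neg' hd, vecMul_Tr (by rw [dotProduct_neg, hd, neg_zero]), single_dot, Pi.neg_apply, hoff.2,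
          neg_zero, zero_smul, add_zero]
      rw [(conj_BM hfix hx.2).1, Tr_mulVec hd, e1, one_smul] at h2
      have e : x + (y - x) = y := by abel
      rwa [e] at h2
    · push Not at h0
      have e : y = 0 := by
        funext i
        by_cases ha : i = a
        · rw [ha, hy.1]; rfl
        by_cases hb : i = b
        · rw [hb, hy.2]; rfl
        exact h0 i ha hb
      rw [e, Tr_zero']; exact one_mem _
  rintro _ ⟨u, hu, rfl⟩
  have e : u = (fun i => if i = a then 0 else u i) + u a • Pi.single a 1 := by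
    funext i
    rw [Pi.add_apply, Pi.smul_apply]
    by_cases hi : i = a
    · subst hi; rw [if_pos rfl, Pi.single_eq_same, smul_eq_mul, mul_one, zero_add]
    · rw [if_neg hi, Pi.single_eq_of_ne hi, smul_zero, add_zero]
  have hoff : Off a b (fun i => if i = a then 0 else u i) := ⟨by
    show (if a = a then 0 else u a) = 0
    rw [if_pos rfl], by
    show (if b = a then 0 else u b) = 0
    rw [if_neg hab.symm, hu]⟩
  rw [e, ← Tr_mul' (by rw [single_dot]; exact hoff.2) (by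
    rw [single_dot, Pi.smul_apply, Pi.single_eq_of_ne hab.symm, smul_zero])]
  refine mul_mem (h1 _ hoff) ?_
  rcases hF (u a) with h2 | h2 <;> rw [h2]
  · rw [zero_smul, Tr_zero']; exact one_mem _
  · rw [one_smul]; exact hX

/-- **The invariant subgroups of `Q = AM BM` containing `z`.** -/
theorem le_of_mem {a b : ι} (hab : a ≠ b) {S : Subgroup (_root_.Matrix.SpecialLinearGroup ι F)}
    (hX : Tr (Pi.single a 1) (Pi.single b (1 : F)) ∈ S)
    (hS : ∀ w χ : ι → F, Off a b w → Off a b χ → χ ⬝ᵥ w = 0 → ∀ g ∈ S, Tr w χ * g * (Tr w χ)⁻¹ ∈ S)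
    (h3 : ∀ i, i ≠ a → i ≠ b → ∃ j l, j ≠ a ∧ j ≠ b ∧ l ≠ a ∧ l ≠ b ∧ i ≠ j ∧ i ≠ l ∧ j ≠ l)
    {φ u : ι → F} (hφ : φ a = 0) (hu : u b = 0) (hφ0 : ∃ i, i ≠ a ∧ i ≠ b ∧ φ i ≠ 0)
    (hu0 : ∃ i, i ≠ a ∧ i ≠ b ∧ u i ≠ 0)
    (hmem : Tr (Pi.single a 1) φ * Tr u (Pi.single b 1) ∈ S) : AM F a ≤ S ∧ BM F b ≤ S := by
  constructor
  · obtain ⟨i, hia, hib, hi⟩ := hu0
    obtain ⟨j, l, hja, hjb, hla, hlb, hij, hil, hjl⟩ := h3 i hia hib
    obtain ⟨χ, w, hχ, hw, hχ0, e1, e2, e3⟩ := exists_pair hF (φ := φ) ⟨hia, hib⟩ ⟨hja, hjb⟩ ⟨hla, hlb⟩ hij hil hjl hi hφ0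
    refine AM_le hF hab hX hS (χ := -χ) ⟨by rw [Pi.neg_apply, hχ.1, neg_zero], by rw [Pi.neg_apply, hχ.2, neg_zero]⟩
      (by obtain ⟨i, h4, h5, h6⟩ := hχ0; exact ⟨i, h4, h5, by rw [Pi.neg_apply]; exact neg_ne_zero.2 h6⟩) ?_
    have h2 := hS w χ hw hχ e2 _ hmem
    have hfix : (Tr w χ).1 *ᵥ Pi.single a 1 = Pi.single a 1 := by
      rw [Tr_mulVec e2, dot_single, hχ.1, zero_smul, add_zero]
    have hfix' : (Pi.single b 1 : ι → F) ᵥ* ((Tr w χ)⁻¹).1 = Pi.single b 1 := by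
      rw [← Tr_neg' e2, vecMul_Tr (by rw [dotProduct_neg, e2, neg_zero]), single_dot, Pi.neg_apply, hw.2,
        neg_zero, zero_smul, add_zero]
    have e : Tr w χ * (Tr (Pi.single a 1) φ * Tr u (Pi.single b 1)) * (Tr w χ)⁻¹ =
        Tr (Pi.single a 1) (-χ) * (Tr (Pi.single a 1) φ * Tr u (Pi.single b 1)) := by
      calc Tr w χ * (Tr (Pi.single a 1) φ * Tr u (Pi.single b 1)) * (Tr w χ)⁻¹
          = (Tr w χ * Tr (Pi.single a 1) φ * (Tr w χ)⁻¹) * (Tr w χ * Tr u (Pi.single b 1) * (Tr w χ)⁻¹) := by group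
        _ = Tr (Pi.single a 1) (-χ + φ) * Tr u (Pi.single b 1) := by
          rw [(conj_AM hfix hφ).1, (conj_BM hfix' hu).1, Tr_mulVec e2, e1, zero_smul, add_zero, ← Tr_neg e2,
            vecMul_Tr (by rw [neg_dotProduct, e2, neg_zero]), e3, one_smul, add_comm φ]
        _ = _ := by
          rw [← Tr_mul (by rw [dot_single, Pi.neg_apply, hχ.1, neg_zero]) (by rw [dot_single, hφ]), mul_assoc]
    rw [e] at h2
    have h4 := mul_mem h2 (inv_mem hmem)
    rwa [mul_inv_cancel_right] at h4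
  · obtain ⟨i, hia, hib, hi⟩ := hφ0
    obtain ⟨j, l, hja, hjb, hla, hlb, hij, hil, hjl⟩ := h3 i hia hib
    obtain ⟨w, χ, hw, hχ, hw0, e1, e2, e3⟩ := exists_pair hF (φ := u) ⟨hia, hib⟩ ⟨hja, hjb⟩ ⟨hla, hlb⟩ hij hil hjl hi hu0
    rw [dotProduct_comm] at e1 e2 e3
    refine BM_le hF hab hX hS (x := w) hw hw0 ?_
    have h2 := hS w χ hw hχ e2 _ hmem
    have hfix : (Tr w χ).1 *ᵥ Pi.single a 1 = Pi.single a 1 := by
      rw [Tr_mulVec e2, dot_single, hχ.1, zero_smul, add_zero]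
    have hfix' : (Pi.single b 1 : ι → F) ᵥ* ((Tr w χ)⁻¹).1 = Pi.single b 1 := by
      rw [← Tr_neg' e2, vecMul_Tr (by rw [dotProduct_neg, e2, neg_zero]), single_dot, Pi.neg_apply, hw.2,
        neg_zero, zero_smul, add_zero]
    have e : Tr w χ * (Tr (Pi.single a 1) φ * Tr u (Pi.single b 1)) * (Tr w χ)⁻¹ =
        (Tr (Pi.single a 1) φ * Tr u (Pi.single b 1)) * Tr w (Pi.single b 1) := by
      calc Tr w χ * (Tr (Pi.single a 1) φ * Tr u (Pi.single b 1)) * (Tr w χ)⁻¹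
          = (Tr w χ * Tr (Pi.single a 1) φ * (Tr w χ)⁻¹) * (Tr w χ * Tr u (Pi.single b 1) * (Tr w χ)⁻¹) := by group
        _ = Tr (Pi.single a 1) φ * Tr (u + w) (Pi.single b 1) := by
          rw [(conj_AM hfix hφ).1, (conj_BM hfix' hu).1, Tr_mulVec e2, e3, one_smul, ← Tr_neg e2,
            vecMul_Tr (by rw [neg_dotProduct, e2, neg_zero]), e1, zero_smul, add_zero]
        _ = _ := by
          rw [← Tr_mul' (by rw [single_dot, hu]) (by rw [single_dot, hw.2]), mul_assoc]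
    rw [e] at h2
    have h4 := mul_mem (inv_mem hmem) h2
    rwa [inv_mul_cancel_left] at h4

end Cfsg.Agent.OddHalf.D7An.Two

end

-- merged: Cfsg.Agent.OddHalf.D7Ex.TwoA
section

/-!
# ODD D7, `q = 2`, type `A_n` (`n ≥ 4`): no swap (helper57; text: helper991 #8439 (III)(e)(f))

`X = {1, z}`, `P = QL`, `Q/X = R₁/X ⊕ R₂/X`. If `n` maps `t` to `tz` and interchanges `R₁` and `R₂`, then some element of
`C_G(t)` maps `R₁` to `R₂` (`exists_fuse`); so some `n` mapping `t` to `tz` fixes `R₁` and `R₂` (`exists_fix`), and acts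
on `P/Q` like an element of `P` (`exists_inner`). Together with `Setup.exists_cent_of_inner`: `exists_cent`.
-/

set_option autoImplicit false

namespace Cfsg.Agent.OddHalf.D7Ex.TwoA

open Subgroup

variable {G : Type*} [Group G]

/-- the conjugate subgroup `g R g⁻¹` -/
def cj (g : G) (R : Subgroup G) : Subgroup G := R.map (MulAut.conj g).toMonoidHom

theorem mem_cj {g a : G} {R : Subgroup G} : a ∈ cj g R ↔ g⁻¹ * a * g ∈ R := by
  constructor
  · rintro ⟨b, hb, rfl⟩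
    have : g⁻¹ * (g * b * g⁻¹) * g = b := by group
    show g⁻¹ * (g * b * g⁻¹) * g ∈ R
    rw [this]; exact hb
  · intro h
    refine ⟨_, h, ?_⟩
    show g * (g⁻¹ * a * g) * g⁻¹ = a
    group

theorem conj_mem_cj {g a : G} {R : Subgroup G} (ha : a ∈ R) : g * a * g⁻¹ ∈ cj g R := ⟨a, ha, rfl⟩

theorem cj_mul (g h : G) (R : Subgroup G) : cj (g * h) R = cj g (cj h R) := by
  ext a
  rw [mem_cj, mem_cj, mem_cj]
  have : (g * h)⁻¹ * a * (g * h) = h⁻¹ * (g⁻¹ * a * g) * h := by group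
  rw [this]

theorem cj_one (R : Subgroup G) : cj 1 R = R := by
  ext a
  rw [mem_cj]
  simp

theorem cj_inv {g : G} {R R' : Subgroup G} (h : cj g R = R') : cj g⁻¹ R' = R := by
  rw [← h, ← cj_mul, inv_mul_cancel, cj_one]

/-- **no swap**: if `n` (`t ↦ tz`) interchanges `R₁` and `R₂`, they are fused in `C_G(t)` -/
theorem exists_fuse {t z n : G} {R1 R2 : Subgroup G} (hnt : n * t * n⁻¹ = t * z)
    (h12 : cj n R1 = R2) (h21 : cj n R2 = R1) (hz1 : z ∈ R1)
    {z' : G} (hz' : z' ∈ R1) (hz'1 : z' ≠ 1) (hz'z : z' ≠ z)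
    (tr1 : ∀ x ∈ R1, x ≠ 1 → ∃ k, k * t = t * k ∧ k * z * k⁻¹ = x ∧ cj k R1 = R1)
    (tr2 : ∀ x ∈ R2, x ≠ 1 → ∃ k, k * t = t * k ∧ k * z * k⁻¹ = x ∧ cj k R2 = R2) :
    ∃ m, m * t = t * m ∧ cj m R1 = R2 := by
  obtain ⟨k1, hk1t, hk1z, hk1R⟩ := tr1 z' hz' hz'1
  have hz'' : n⁻¹ * (z⁻¹ * z') * n ∈ R2 := by
    rw [← mem_cj, h21]
    exact R1.mul_mem (R1.inv_mem hz1) hz'
  have hz''1 : n⁻¹ * (z⁻¹ * z') * n ≠ 1 := by
    intro h
    apply hz'z
    have h1 : z⁻¹ * z' = 1 := by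
      calc z⁻¹ * z' = n * (n⁻¹ * (z⁻¹ * z') * n) * n⁻¹ := by group
        _ = 1 := by rw [h]; group
    exact (inv_mul_eq_one.1 h1).symm
  obtain ⟨k2, hk2t, hk2z, hk2R⟩ := tr2 _ hz'' hz''1
  have hk1 : k1 * t * k1⁻¹ = t := by rw [hk1t]; group
  have hk2 : k2 * t * k2⁻¹ = t := by rw [hk2t]; group
  -- `h = k1 n`
  have hh : (k1 * n) * t * (k1 * n)⁻¹ = t * z' := by
    calc (k1 * n) * t * (k1 * n)⁻¹ = k1 * (n * t * n⁻¹) * k1⁻¹ := by group
      _ = (k1 * t * k1⁻¹) * (k1 * z * k1⁻¹) := by rw [hnt]; group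
      _ = t * z' := by rw [hk1, hk1z]
  have hhR : cj (k1 * n) R2 = R1 := by rw [cj_mul, h21, hk1R]
  -- `g = n k2 n`
  have hg : (n * k2 * n) * t * (n * k2 * n)⁻¹ = t * z' := by
    calc (n * k2 * n) * t * (n * k2 * n)⁻¹ = n * (k2 * (n * t * n⁻¹) * k2⁻¹) * n⁻¹ := by group
      _ = n * ((k2 * t * k2⁻¹) * (k2 * z * k2⁻¹)) * n⁻¹ := by rw [hnt]; group
      _ = (n * t * n⁻¹) * (z⁻¹ * z') := by rw [hk2, hk2z]; group
      _ = t * z' := by rw [hnt]; group
  have hgR : cj (n * k2 * n) R1 = R1 := by rw [cj_mul, cj_mul, h12, hk2R, h21]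
  refine ⟨(k1 * n)⁻¹ * (n * k2 * n), ?_, ?_⟩
  · rw [← mul_inv_eq_iff_eq_mul]
    calc (k1 * n)⁻¹ * (n * k2 * n) * t * ((k1 * n)⁻¹ * (n * k2 * n))⁻¹
        = (k1 * n)⁻¹ * ((n * k2 * n) * t * (n * k2 * n)⁻¹) * (k1 * n) := by group
      _ = (k1 * n)⁻¹ * ((k1 * n) * t * (k1 * n)⁻¹) * (k1 * n) := by rw [hg, hh]
      _ = t := by group
  · rw [cj_mul, hgR]
    exact cj_inv hhR

/-- The facts on `P = C_K(z)`, `K = L_m(2)`. -/
structure Two (t z : G) (X Q P R1 R2 : Subgroup G) : Prop where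
  hX : ∀ x ∈ X, x = 1 ∨ x = z
  zX : z ∈ X
  X1 : X ≤ R1
  X2 : X ≤ R2
  R1Q : R1 ≤ Q
  R2Q : R2 ≤ Q
  ne : R1 ≠ R2
  /-- `R₁/X` and `R₂/X` are the only proper `P`-submodules of `Q/X` -/
  only : ∀ R : Subgroup G, X ≤ R → R ≤ Q → (∀ p ∈ P, ∀ r ∈ R, p * r * p⁻¹ ∈ R) → R = X ∨ R = R1 ∨ R = R2 ∨ R = Q
  P1 : ∀ p ∈ P, ∀ r ∈ R1, p * r * p⁻¹ ∈ R1
  P2 : ∀ p ∈ P, ∀ r ∈ R2, p * r * p⁻¹ ∈ R2
  X1' : R1 ≠ X
  X2' : R2 ≠ X
  Q1' : R1 ≠ Q
  Q2' : R2 ≠ Q
  tr1 : ∀ x ∈ R1, x ≠ 1 → ∃ k, k * t = t * k ∧ k * z * k⁻¹ = x ∧ cj k R1 = R1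
  tr2 : ∀ x ∈ R2, x ≠ 1 → ∃ k, k * t = t * k ∧ k * z * k⁻¹ = x ∧ cj k R2 = R2
  /-- `P` induces all automorphisms of `R₁/X` -/
  gl : ∀ f : G → G, (∀ r ∈ R1, f r ∈ R1) → (∀ r ∈ R1, ∀ s ∈ R1, f (r * s) = f r * f s) →
    (∀ r ∈ R1, f r ∈ X ↔ r ∈ X) → ∃ p ∈ P, ∀ r ∈ R1, f r * (p * r * p⁻¹)⁻¹ ∈ X
  /-- `P/Q` is faithful on `R₁/X` -/
  faith : ∀ p ∈ P, (∀ r ∈ R1, p * r * p⁻¹ * r⁻¹ ∈ X) → p ∈ Q

namespace Two

variable {t z : G} {X Q P R1 R2 H : Subgroup G}

theorem cj_Q (S : Setup t X Q P H) {n : G} (hn : n ∈ S.N) : cj n Q = Q := by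
  ext a
  rw [mem_cj]
  constructor
  · intro h
    have h1 := S.N_Q hn h
    have h2 : n * (n⁻¹ * a * n) * n⁻¹ = a := by group
    rwa [h2] at h1
  · intro h
    have h1 := S.N_Q (inv_mem hn) h
    rwa [inv_inv] at h1

theorem cj_X (S : Setup t X Q P H) {n : G} (hn : n ∈ S.N) : cj n X = X := by
  ext a
  rw [mem_cj]
  constructor
  · intro h
    have h1 := hn.1 _ h
    have h2 : n * (n⁻¹ * a * n) * n⁻¹ = a := by group
    rwa [h2] at h1
  · intro h
    exact hn.2.1 _ h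

theorem cj_inj {g : G} {R R' : Subgroup G} (h : cj g R = cj g R') : R = R' := by
  rw [← cj_inv (g := g) (R := R) rfl, h, cj_inv rfl]

/-- an element of `N` permutes `R₁`, `R₂` -/
theorem image (F : Two t z X Q P R1 R2) (S : Setup t X Q P H) {n : G} (hn : n ∈ S.N) {R : Subgroup G}
    (hX : X ≤ R) (hQ : R ≤ Q) (hP : ∀ p ∈ P, ∀ r ∈ R, p * r * p⁻¹ ∈ R) (hX' : R ≠ X) (hQ' : R ≠ Q) :
    cj n R = R1 ∨ cj n R = R2 := by
  have h1 : X ≤ cj n R := by
    rw [← cj_X S hn]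
    exact map_mono hX
  have h2 : cj n R ≤ Q := by
    rw [← cj_Q S hn]
    exact map_mono hQ
  have h3 : ∀ p ∈ P, ∀ r ∈ cj n R, p * r * p⁻¹ ∈ cj n R := by
    intro p hp r hr
    rw [mem_cj] at hr ⊢
    have h4 := hP _ (S.N_P (inv_mem hn) hp) _ hr
    have h5 : n⁻¹ * p * n⁻¹⁻¹ * (n⁻¹ * r * n) * (n⁻¹ * p * n⁻¹⁻¹)⁻¹ = n⁻¹ * (p * r * p⁻¹) * n := by group
    rwa [h5] at h4
  rcases F.only _ h1 h2 h3 with h | h | h | h
  · exact absurd (cj_inj (h.trans (cj_X S hn).symm)) hX'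
  · exact Or.inl h
  · exact Or.inr h
  · exact absurd (cj_inj (h.trans (cj_Q S hn).symm)) hQ'

theorem dich (F : Two t z X Q P R1 R2) (S : Setup t X Q P H) {n : G} (hn : n ∈ S.N) :
    (cj n R1 = R1 ∧ cj n R2 = R2) ∨ (cj n R1 = R2 ∧ cj n R2 = R1) := by
  have h1 := F.image S hn F.X1 F.R1Q F.P1 F.X1' F.Q1'
  have h2 := F.image S hn F.X2 F.R2Q F.P2 F.X2' F.Q2'
  rcases h1 with h1 | h1
  · rcases h2 with h2 | h2
    · exact absurd (cj_inj (h1.trans h2.symm)) F.ne
    · exact Or.inl ⟨h1, h2⟩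
  · rcases h2 with h2 | h2
    · exact Or.inr ⟨h1, h2⟩
    · exact absurd (cj_inj (h1.trans h2.symm)) F.ne

/-- some element of `N` moves `t` and fixes `R₁`, `R₂` -/
theorem exists_fix (F : Two t z X Q P R1 R2) (S : Setup t X Q P H) {n : G} (hn : n ∈ S.N)
    (hnt : n * t * n⁻¹ ≠ t) : ∃ m ∈ S.N, m * t * m⁻¹ ≠ t ∧ cj m R1 = R1 ∧ cj m R2 = R2 := by
  rcases F.dich S hn with ⟨h1, h2⟩ | ⟨h12, h21⟩
  · exact ⟨n, hn, hnt, h1, h2⟩
  have hnt' : n * t * n⁻¹ = t * z := by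
    have h1 := hn.2.2
    rcases F.hX _ h1 with h2 | h2
    · exfalso
      apply hnt
      calc n * t * n⁻¹ = (t * t) * (n * t * n⁻¹) := by rw [S.tt, one_mul]
        _ = t * (t * (n * t * n⁻¹)) := by group
        _ = t := by rw [h2, mul_one]
    · calc n * t * n⁻¹ = (t * t) * (n * t * n⁻¹) := by rw [S.tt, one_mul]
        _ = t * (t * (n * t * n⁻¹)) := by group
        _ = t * z := by rw [h2]
  -- a third element of `R₁`
  obtain ⟨z', hz', hz'X⟩ : ∃ z' ∈ R1, z' ∉ X := by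
    by_contra hcon
    push Not at hcon
    exact F.X1' (le_antisymm hcon F.X1)
  obtain ⟨m, hmt, hmR⟩ := exists_fuse hnt' h12 h21 (F.X1 F.zX) hz' (fun h => hz'X (by rw [h]; exact X.one_mem))
    (fun h => hz'X (by rw [h]; exact F.zX)) F.tr1 F.tr2
  -- adjust `m` so that it centralises `z`
  have hz1 : z ≠ 1 := by
    rintro rfl
    exact hnt (by rw [hnt', mul_one])
  obtain ⟨k, hkt, hkz, hkR⟩ := F.tr2 (m * z * m⁻¹) (by rw [← hmR]; exact conj_mem_cj (F.X1 F.zX)) (by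
    intro h
    apply hz1
    calc z = m⁻¹ * (m * z * m⁻¹) * m := by group
      _ = 1 := by rw [h]; group)
  set y := k⁻¹ * m with hy
  have hyz : y * z * y⁻¹ = z := by
    rw [hy]
    calc k⁻¹ * m * z * (k⁻¹ * m)⁻¹ = k⁻¹ * (m * z * m⁻¹) * k := by group
      _ = z := by rw [← hkz]; group
  have hyt : y * t * y⁻¹ = t := by
    have h1 : k⁻¹ * t * k = t := by
      calc k⁻¹ * t * k = k⁻¹ * (t * k) := by group
        _ = t := by rw [← hkt]; group
    calc y * t * y⁻¹ = k⁻¹ * (m * t * m⁻¹) * k := by rw [hy]; group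
      _ = k⁻¹ * t * k := by rw [hmt]; group
      _ = t := h1
  have hyN : y ∈ S.N := by
    refine ⟨fun x hx => ?_, fun x hx => ?_, ?_⟩
    · rcases F.hX x hx with h | h
      · rw [h]; simp
      · rw [h, hyz]; exact F.zX
    · rcases F.hX x hx with h | h
      · rw [h]; simp
      · have h1 : y⁻¹ * z * y = z := by
          calc y⁻¹ * z * y = y⁻¹ * (y * z * y⁻¹) * y := by rw [hyz]
            _ = z := by group
        rw [h, h1]; exact F.zX
    · rw [hyt, S.tt]; exact X.one_mem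
  have hyR : cj y R1 = R2 := by
    rw [hy, cj_mul, hmR]
    exact cj_inv hkR
  have hyR' : cj y R2 = R1 := by
    rcases F.dich S hyN with ⟨h1, -⟩ | ⟨-, h2⟩
    · exact absurd (h1.symm.trans hyR) F.ne
    · exact h2
  refine ⟨n * y, mul_mem hn hyN, ?_, ?_, ?_⟩
  · have : n * y * t * (n * y)⁻¹ = n * (y * t * y⁻¹) * n⁻¹ := by group
    rw [this, hyt]; exact hnt
  · rw [cj_mul, hyR, h21]
  · rw [cj_mul, hyR', h12]

/-- an element of `N` fixing `R₁` acts on `P/Q` like an element of `P` -/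
theorem exists_inner (F : Two t z X Q P R1 R2) (S : Setup t X Q P H) {m : G} (hm : m ∈ S.N)
    (hmR : cj m R1 = R1) : ∃ p0 ∈ P, ∀ p ∈ P, m * p * m⁻¹ * (p0 * p * p0⁻¹)⁻¹ ∈ Q := by
  have hR : ∀ r ∈ R1, m * r * m⁻¹ ∈ R1 := fun r hr => by rw [← hmR]; exact conj_mem_cj hr
  obtain ⟨p0, hp0, h0⟩ := F.gl (fun r => m * r * m⁻¹) hR (fun r _ s _ => by group) (fun r _ => by
    constructor
    · intro h
      have h1 := hm.2.1 _ h
      have h2 : m⁻¹ * (m * r * m⁻¹) * m = r := by group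
      rwa [h2] at h1
    · exact hm.1 r)
  refine ⟨p0, hp0, ?_⟩
  set y := p0⁻¹ * m with hy
  have hXn : ∀ p ∈ P, ∀ x ∈ X, p * x * p⁻¹ = x := fun p hp x hx => by rw [← S.XP x hx p hp]; group
  have hyN : y ∈ S.N := by
    refine mul_mem (inv_mem ?_) hm
    refine ⟨fun x hx => by rw [hXn p0 hp0 x hx]; exact hx, fun x hx => ?_, ?_⟩
    · have := hXn p0⁻¹ (inv_mem hp0) x hx
      rw [inv_inv] at this
      rw [this]; exact hx
    · rw [← S.tP p0 hp0, mul_inv_cancel_right, S.tt]; exact X.one_mem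
  -- `y` is trivial on `R₁/X`
  have hyR : ∀ r ∈ R1, y * r * y⁻¹ * r⁻¹ ∈ X := by
    intro r hr
    have h1 := h0 r hr
    have h2 : y * r * y⁻¹ * r⁻¹ = p0⁻¹ * (m * r * m⁻¹ * (p0 * r * p0⁻¹)⁻¹) * p0⁻¹⁻¹ := by rw [hy]; group
    rw [h2, hXn p0⁻¹ (inv_mem hp0) _ h1]
    exact h1
  -- so `[y, p]` is trivial on `R₁/X`
  have hc : ∀ p ∈ P, y * p * y⁻¹ * p⁻¹ ∈ Q := by
    intro p hp
    refine F.faith _ (P.mul_mem (S.N_P hyN hp) (P.inv_mem hp)) fun r hr => ?_
    have e1 : ∀ r ∈ R1, ∃ x ∈ X, y * r * y⁻¹ = x * r := fun r hr =>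
      ⟨_, hyR r hr, by group⟩
    have e2 : ∀ r ∈ R1, ∃ x ∈ X, y⁻¹ * r * y = x * r := by
      intro r hr
      have hr' : y⁻¹ * r * y ∈ R1 := by
        have h3 : cj y R1 = R1 := by
          ext a
          constructor
          · rintro ⟨b, hb, rfl⟩
            obtain ⟨x, hx, h⟩ := e1 b hb
            show y * b * y⁻¹ ∈ R1
            rw [h]; exact R1.mul_mem (F.X1 hx) hb
          · intro ha
            rw [hy, cj_mul, hmR, mem_cj]
            have := F.P1 p0 hp0 a ha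
            rwa [inv_inv]
        rw [← mem_cj, h3]; exact hr
      obtain ⟨x, hx, h⟩ := e1 _ hr'
      refine ⟨x⁻¹, X.inv_mem hx, ?_⟩
      have h2 : y * (y⁻¹ * r * y) * y⁻¹ = r := by group
      rw [h2] at h
      rw [eq_inv_mul_iff_mul_eq]
      exact h.symm
    -- compute `c r c⁻¹`, `c = y p y⁻¹ p⁻¹`
    obtain ⟨x1, hx1, h1⟩ := e2 _ (F.P1 p⁻¹ (P.inv_mem hp) r hr)
    rw [inv_inv] at h1
    -- `y⁻¹ (p⁻¹ r p) y = x1 (p⁻¹ r p)`
    obtain ⟨x2, hx2, h2⟩ := e1 r hr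
    have h3 : p * (y⁻¹ * (p⁻¹ * r * p) * y) * p⁻¹ = x1 * r := by
      rw [h1]
      calc p * (x1 * (p⁻¹ * r * p)) * p⁻¹ = (p * x1 * p⁻¹) * r := by group
        _ = x1 * r := by rw [hXn p hp x1 hx1]
    have h4 : y * p * y⁻¹ * p⁻¹ * r * (y * p * y⁻¹ * p⁻¹)⁻¹ =
        y * (p * (y⁻¹ * (p⁻¹ * r * p) * y) * p⁻¹) * y⁻¹ := by group
    rw [h4, h3]
    have h5 : y * (x1 * r) * y⁻¹ * r⁻¹ = (y * x1 * y⁻¹) * (y * r * y⁻¹ * r⁻¹) := by group
    rw [h5]
    exact X.mul_mem (hyN.1 _ hx1) (hyR r hr)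
  intro p hp
  have h1 : m * p * m⁻¹ * (p0 * p * p0⁻¹)⁻¹ = p0 * (y * p * y⁻¹ * p⁻¹) * p0⁻¹ := by rw [hy]; group
  rw [h1]
  exact S.PQ p0 hp0 _ (hc p hp)

/-- **`C_G(P)` moves `t`** (`q = 2`, type `A`) -/
theorem exists_cent [Finite G] (F : Two t z X Q P R1 R2) (S : Setup t X Q P H) (hlin : Lin X Q P) {n : G}
    (hn : n ∈ S.N)
    (hnt : n * t * n⁻¹ ≠ t) {x : G} (hx : x ∈ X) :
    ∃ b : G, (∀ p ∈ P, b * p = p * b) ∧ b * t * b⁻¹ = t * x := by
  obtain ⟨m, hm, hmt, hmR, -⟩ := F.exists_fix S hn hnt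
  obtain ⟨p0, hp0, hin⟩ := F.exists_inner S hm hmR
  exact S.exists_cent_of_inner hlin F.hX hm hmt hp0 hin hx

end Two

end Cfsg.Agent.OddHalf.D7Ex.TwoA

end

-- merged: Cfsg.Agent.OddHalf.D7An.TwoInst
section

/-!
# The facts `TwoA.Two` for `K = SL_m(2)`, `m ≥ 5` (ODD D7; helper991)

`f : SL ι F →* G` injective, `|F| = 2`, `K = f(SL)` centralised by `t`; `a ≠ b`, `X = f{1, 1 + e_a e_b*}`,
`Q = f(AM BM)`, `P` between the group generated by the root elements fixing `e_a`, `e_b*` and their stabiliser.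
-/

set_option autoImplicit false
set_option linter.unusedSectionVars false

namespace Cfsg.Agent.OddHalf.D7An.TwoInst

open Matrix Cfsg.Agent.OddHalf.D7An.Mat Cfsg.Agent.OddHalf.D7An.Two
open Cfsg.Agent.TitsThree.KSideA (tv tv_of_ne tv_add tv_zero tv_neg)

variable {ι F G : Type*} [Field F] [DecidableEq ι] [Fintype ι] [Group G]

/-- The groups `X`, `Q`, `P`. -/
structure Loc (f : _root_.Matrix.SpecialLinearGroup ι F →* G) (a b : ι) (X Q P : Subgroup G) : Prop where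
  X : ∀ x, x ∈ X ↔ x = 1 ∨ x = f (Tr (Pi.single a 1) (Pi.single b 1))
  Q : ∀ q, q ∈ Q ↔ ∃ φ u : ι → F, φ a = 0 ∧ u b = 0 ∧ q = f (Tr (Pi.single a 1) φ * Tr u (Pi.single b 1))
  P1 : ∀ i j, i ≠ j → j ≠ a → i ≠ b → ∀ c, f (tv i j c) ∈ P
  P2 : ∀ p ∈ P, ∃ g : _root_.Matrix.SpecialLinearGroup ι F, p = f g ∧ g.1 *ᵥ Pi.single a 1 = Pi.single a 1 ∧
    (Pi.single b 1 : ι → F) ᵥ* g.1 = Pi.single b 1

variable {f : _root_.Matrix.SpecialLinearGroup ι F →* G} {a b : ι} {X Q P : Subgroup G}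

theorem inv_fix {g : _root_.Matrix.SpecialLinearGroup ι F} (h : (Pi.single b 1 : ι → F) ᵥ* g.1 = Pi.single b 1) :
    (Pi.single b 1 : ι → F) ᵥ* (g⁻¹).1 = Pi.single b 1 := by
  have : (Pi.single b 1 : ι → F) ᵥ* (g.1 * (g⁻¹).1) = Pi.single b 1 := by rw [coe_mul_inv, vecMul_one]
  rwa [← vecMul_vecMul, h] at this

theorem inv_fix' {g : _root_.Matrix.SpecialLinearGroup ι F} (h : g.1 *ᵥ (Pi.single a 1 : ι → F) = Pi.single a 1) :
    (g⁻¹).1 *ᵥ (Pi.single a 1 : ι → F) = Pi.single a 1 := by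
  have : ((g⁻¹).1 * g.1) *ᵥ (Pi.single a 1 : ι → F) = Pi.single a 1 := by rw [coe_inv_mul, one_mulVec]
  rwa [← mulVec_mulVec, h] at this

variable (hF : ∀ x : F, x = 0 ∨ x = 1)

include hF

theorem tr_e_mem (L : Loc f a b X Q P) {φ : ι → F} (h : ∀ i, i ≠ b → φ i = 0) :
    f (Tr (Pi.single a 1) φ) ∈ X := by
  rw [L.X]
  by_cases hb : φ b = 0
  · left
    have : φ = 0 := by
      funext i
      by_cases hi : i = b
      · rw [hi, hb]; rfl
      · exact h i hi
    rw [this, Tr_zero, map_one]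
  · right
    have : φ = Pi.single b 1 := by
      funext i
      by_cases hi : i = b
      · rw [hi, Pi.single_eq_same]; exact eq_one hF hb
      · rw [h i hi, Pi.single_eq_of_ne hi]
    rw [this]

theorem tr_e_mem' (L : Loc f a b X Q P) {u : ι → F} (h : ∀ i, i ≠ a → u i = 0) :
    f (Tr u (Pi.single b 1)) ∈ X := by
  rw [L.X]
  by_cases hb : u a = 0
  · left
    have : u = 0 := by
      funext i
      by_cases hi : i = a
      · rw [hi, hb]; rfl
      · exact h i hi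
    rw [this, Tr_zero', map_one]
  · right
    have : u = Pi.single a 1 := by
      funext i
      by_cases hi : i = a
      · rw [hi, Pi.single_eq_same]; exact eq_one hF hb
      · rw [h i hi, Pi.single_eq_of_ne hi]
    rw [this]

omit hF in
theorem of_mem_X (L : Loc f a b X Q P) (hf : Function.Injective f) {φ : ι → F} (hφ : φ a = 0) (hab : a ≠ b)
    (h : f (Tr (Pi.single a 1) φ) ∈ X) {i : ι} (hi : i ≠ b) : φ i = 0 := by
  have h0 : φ ⬝ᵥ (Pi.single a 1 : ι → F) = 0 := by rw [dot_single, hφ]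
  have h1 : (Pi.single b 1 : ι → F) ⬝ᵥ (Pi.single a 1 : ι → F) = 0 := by rw [dot_single, Pi.single_eq_of_ne hab]
  have ha : (Pi.single a 1 : ι → F) a ≠ 0 := by rw [Pi.single_eq_same]; exact one_ne_zero
  rw [L.X] at h
  rcases h with h | h
  · rw [← map_one f, ← Tr_zero (Pi.single a 1)] at h
    rw [Tr_inj ha h0 (zero_dotProduct _) (hf h)]; rfl
  · rw [Tr_inj ha h0 h1 (hf h), Pi.single_eq_of_ne hi]

theorem emb_P (L : Loc f a b X Q P) (D : _root_.Matrix.SpecialLinearGroup {i // i ≠ a ∧ i ≠ b} F) :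
    f (emb (fun i => i ≠ a ∧ i ≠ b) D) ∈ P := by
  have := emb_mem (H := P.comap f) (fun i => i ≠ a ∧ i ≠ b) (fun i j hi hj hij c => L.P1 i j hij hj.1 hi.2 c) D
  exact this

/-- **The facts `Two`.** -/
theorem two {t : G} (hf : Function.Injective f) (hab : a ≠ b) (L : Loc f a b X Q P)
    (ht : ∀ g, f g * t = t * f g)
    (h3 : ∀ i, i ≠ a → i ≠ b → ∃ j l, j ≠ a ∧ j ≠ b ∧ l ≠ a ∧ l ≠ b ∧ i ≠ j ∧ i ≠ l ∧ j ≠ l)
    (hex : ∃ i, i ≠ a ∧ i ≠ b) :
    D7Ex.TwoA.Two t (f (Tr (Pi.single a 1) (Pi.single b 1))) X Q P ((AM F a).map f) ((BM F b).map f) := by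
  have h11 := one_add_one hF
  have hone : ∀ c : ι → F, c ⬝ᵥ (0 : ι → F) = 0 := fun c => dotProduct_zero c
  have dab : (Pi.single b 1 : ι → F) a = 0 := Pi.single_eq_of_ne hab _
  have dba : (Pi.single a 1 : ι → F) b = 0 := Pi.single_eq_of_ne hab.symm _
  have hzX : f (Tr (Pi.single a 1) (Pi.single b 1)) ∈ X := (L.X _).2 (Or.inr rfl)
  have hX1 : X ≤ (AM F a).map f := by
    intro x hx
    rcases (L.X x).1 hx with rfl | rfl
    · exact one_mem _
    · exact ⟨_, ⟨_, dab, rfl⟩, rfl⟩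
  have hX2 : X ≤ (BM F b).map f := by
    intro x hx
    rcases (L.X x).1 hx with rfl | rfl
    · exact one_mem _
    · exact ⟨_, ⟨_, dba, rfl⟩, rfl⟩
  have hAQ : (AM F a).map f ≤ Q := by
    rintro _ ⟨_, ⟨φ, hφ, rfl⟩, rfl⟩
    rw [L.Q]
    exact ⟨φ, 0, hφ, rfl, by rw [Tr_zero', mul_one]⟩
  have hBQ : (BM F b).map f ≤ Q := by
    rintro _ ⟨_, ⟨u, hu, rfl⟩, rfl⟩
    rw [L.Q]
    exact ⟨0, u, rfl, hu, by rw [Tr_zero, one_mul]⟩
  obtain ⟨i0, hi0a, hi0b⟩ := hex
  -- an element of `AM` outside `X`, `BM`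
  have hsi : (Pi.single i0 1 : ι → F) a = 0 := Pi.single_eq_of_ne hi0a.symm _
  have hsi' : (Pi.single i0 1 : ι → F) b = 0 := Pi.single_eq_of_ne hi0b.symm _
  have d1 : (Pi.single i0 1 : ι → F) ⬝ᵥ (Pi.single a 1 : ι → F) = 0 := by rw [dot_single, hsi]
  have d2 : (Pi.single b 1 : ι → F) ⬝ᵥ (Pi.single i0 1 : ι → F) = 0 := by rw [single_dot, hsi']
  have hAmem : f (Tr (Pi.single a 1) (Pi.single i0 1)) ∈ (AM F a).map f := ⟨_, ⟨_, hsi, rfl⟩, rfl⟩
  have hBmem : f (Tr (Pi.single i0 1) (Pi.single b 1)) ∈ (BM F b).map f := ⟨_, ⟨_, hsi', rfl⟩, rfl⟩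
  have hAB : f (Tr (Pi.single a 1) (Pi.single i0 1)) ∉ (BM F b).map f := by
    rintro ⟨_, ⟨u, hu, rfl⟩, e⟩
    have e1 := congrArg (fun g : _root_.Matrix.SpecialLinearGroup ι F => g.1 a i0) (hf e)
    simp only [Tr_apply d1, Tr_apply (show (Pi.single b 1 : ι → F) ⬝ᵥ u = 0 by rw [single_dot, hu])] at e1
    rw [Pi.single_eq_same, Pi.single_eq_same, Pi.single_eq_of_ne hi0b, mul_zero, mul_one, add_zero,
      one_apply_ne hi0a.symm, zero_add] at e1
    exact zero_ne_one e1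
  have hBA : f (Tr (Pi.single i0 1) (Pi.single b 1)) ∉ (AM F a).map f := by
    rintro ⟨_, ⟨φ, hφ, rfl⟩, e⟩
    have e1 := congrArg (fun g : _root_.Matrix.SpecialLinearGroup ι F => g.1 i0 b) (hf e)
    simp only [Tr_apply d2, Tr_apply (show φ ⬝ᵥ (Pi.single a 1 : ι → F) = 0 by rw [dot_single, hφ])] at e1
    rw [Pi.single_eq_same, Pi.single_eq_same, Pi.single_eq_of_ne hi0a, zero_mul, mul_one, add_zero,
      one_apply_ne hi0b, zero_add] at e1
    exact zero_ne_one e1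
  have hP1 : ∀ p ∈ P, ∀ r ∈ (AM F a).map f, p * r * p⁻¹ ∈ (AM F a).map f := by
    rintro p hp _ ⟨_, ⟨φ, hφ, rfl⟩, rfl⟩
    obtain ⟨g, rfl, hg1, hg2⟩ := L.P2 p hp
    obtain ⟨e1, e2⟩ := conj_AM hg1 hφ
    exact ⟨_, ⟨_, e2, rfl⟩, by rw [← e1, map_mul, map_mul, map_inv]⟩
  have hP2 : ∀ p ∈ P, ∀ r ∈ (BM F b).map f, p * r * p⁻¹ ∈ (BM F b).map f := by
    rintro p hp _ ⟨_, ⟨u, hu, rfl⟩, rfl⟩
    obtain ⟨g, rfl, hg1, hg2⟩ := L.P2 p hp
    obtain ⟨e1, e2⟩ := conj_BM (inv_fix hg2) hu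
    exact ⟨_, ⟨_, e2, rfl⟩, by rw [← e1, map_mul, map_mul, map_inv]⟩
  -- the Levi transvections lie in `P`
  have hLevi : ∀ w χ : ι → F, Off a b w → Off a b χ → χ ⬝ᵥ w = 0 → f (Tr w χ) ∈ P := by
    intro w χ hw hχ h0
    let D : Matrix {i // i ≠ a ∧ i ≠ b} {i // i ≠ a ∧ i ≠ b} F :=
      1 + vecMulVec (fun i : {i // i ≠ a ∧ i ≠ b} => w i.1) (fun i : {i // i ≠ a ∧ i ≠ b} => χ i.1)
    have hDe : embM (fun i => i ≠ a ∧ i ≠ b) D = (Tr w χ).1 := by
      ext i j
      rw [embM_apply, Tr_apply h0]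
      split_ifs with hc
      · show (1 + vecMulVec (fun i : {i // i ≠ a ∧ i ≠ b} => w i.1) (fun i : {i // i ≠ a ∧ i ≠ b} => χ i.1))
          ⟨i, hc.1⟩ ⟨j, hc.2⟩ = _
        rw [Matrix.add_apply, vecMulVec_apply, one_apply, one_apply]
        simp only [Subtype.mk.injEq]
      · have : w i * χ j = 0 := by
          by_contra h5
          apply hc
          refine ⟨⟨?_, ?_⟩, ⟨?_, ?_⟩⟩
          · rintro rfl; apply h5; rw [hw.1, zero_mul]
          · rintro rfl; apply h5; rw [hw.2, zero_mul]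
          · rintro rfl; apply h5; rw [hχ.1, mul_zero]
          · rintro rfl; apply h5; rw [hχ.2, mul_zero]
        rw [this, add_zero]
    have hDdet : D.det = 1 := by
      rw [← det_embM (fun i => i ≠ a ∧ i ≠ b) D, hDe]
      exact (Tr w χ).2
    have := emb_P hF L ⟨D, hDdet⟩
    have e : emb (fun i => i ≠ a ∧ i ≠ b) ⟨D, hDdet⟩ = Tr w χ := slext hDe
    rwa [e] at this
  have hS : ∀ R : Subgroup G, (∀ p ∈ P, ∀ r ∈ R, p * r * p⁻¹ ∈ R) → ∀ w χ : ι → F, Off a b w → Off a b χ →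
      χ ⬝ᵥ w = 0 → ∀ g ∈ R.comap f, Tr w χ * g * (Tr w χ)⁻¹ ∈ R.comap f := by
    intro R hR w χ hw hχ h0 g hg
    rw [Subgroup.mem_comap, map_mul, map_mul, map_inv]
    exact hR _ (hLevi w χ hw hχ h0) _ hg
  refine
    { hX := fun x hx => (L.X x).1 hx
      zX := hzX
      X1 := hX1
      X2 := hX2
      R1Q := hAQ
      R2Q := hBQ
      ne := fun e => hAB (by rw [← e]; exact hAmem)
      only := ?_
      P1 := hP1
      P2 := hP2
      X1' := fun e => hAB (hX2 (by rw [← e]; exact hAmem))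
      X2' := fun e => hBA (hX1 (by rw [← e]; exact hBmem))
      Q1' := fun e => hBA (by rw [e]; exact hBQ hBmem)
      Q2' := fun e => hAB (by rw [e]; exact hAQ hAmem)
      tr1 := ?_
      tr2 := ?_
      gl := ?_
      faith := ?_ }
  · -- only
    intro R hXR hRQ hRP
    have hXR' : Tr (Pi.single a 1) (Pi.single b (1 : F)) ∈ R.comap f := hXR hzX
    by_cases hout : ∃ φ u : ι → F, φ a = 0 ∧ u b = 0 ∧ (∃ i, i ≠ a ∧ i ≠ b ∧ φ i ≠ 0) ∧ (∃ i, i ≠ a ∧ i ≠ b ∧ u i ≠ 0) ∧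
        f (Tr (Pi.single a 1) φ * Tr u (Pi.single b 1)) ∈ R
    · obtain ⟨φ, u, hφ, hu, hφ0, hu0, hm⟩ := hout
      obtain ⟨hA, hB⟩ := le_of_mem hF hab hXR' (hS R hRP) h3 hφ hu hφ0 hu0 hm
      right; right; right
      refine le_antisymm hRQ ?_
      intro q hq
      obtain ⟨φ', u', hφ', hu', rfl⟩ := (L.Q q).1 hq
      rw [map_mul]
      exact mul_mem (hA ⟨φ', hφ', rfl⟩) (hB ⟨u', hu', rfl⟩)
    · push Not at hout
      -- every element lies in `R₁ ∪ R₂`
      have hun : ∀ r ∈ R, r ∈ (AM F a).map f ∨ r ∈ (BM F b).map f := by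
        intro r hr
        obtain ⟨φ, u, hφ, hu, rfl⟩ := (L.Q r).1 (hRQ hr)
        by_cases h5 : ∃ i, i ≠ a ∧ i ≠ b ∧ φ i ≠ 0
        · by_cases h6 : ∃ i, i ≠ a ∧ i ≠ b ∧ u i ≠ 0
          · exact absurd hr (hout φ u hφ hu h5 h6)
          · left
            push Not at h6
            rw [map_mul]
            refine mul_mem ⟨_, ⟨φ, hφ, rfl⟩, rfl⟩ (hX1 (tr_e_mem' hF L fun i hi => ?_))
            by_cases hib : i = b
            · rw [hib, hu]
            · exact h6 i hi hib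
        · right
          push Not at h5
          rw [map_mul]
          refine mul_mem (hX2 (tr_e_mem hF L fun i hi => ?_)) ⟨_, ⟨u, hu, rfl⟩, rfl⟩
          by_cases hia : i = a
          · rw [hia, hφ]
          · exact h5 i hia hi
      have hor : R ≤ (AM F a).map f ∨ R ≤ (BM F b).map f := by
        by_contra hcon
        rw [not_or, SetLike.not_le_iff_exists, SetLike.not_le_iff_exists] at hcon
        obtain ⟨⟨x, hx, hxA⟩, ⟨y, hy, hyB⟩⟩ := hcon
        have hxB := (hun x hx).resolve_left hxA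
        have hyA := (hun y hy).resolve_right hyB
        rcases hun _ (mul_mem hx hy) with h5 | h5
        · apply hxA
          have := mul_mem h5 (inv_mem hyA)
          rwa [mul_inv_cancel_right] at this
        · apply hyB
          have := mul_mem (inv_mem hxB) h5
          rwa [inv_mul_cancel_left] at this
      rcases hor with hle | hle
      · by_cases hRX : R ≤ X
        · exact Or.inl (le_antisymm hRX hXR)
        · right; left
          refine le_antisymm hle ?_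
          obtain ⟨r, hr, hrX⟩ := Set.not_subset.1 hRX
          obtain ⟨_, ⟨φ, hφ, rfl⟩, rfl⟩ := hle hr
          have h6 : ∃ i, i ≠ a ∧ i ≠ b ∧ φ i ≠ 0 := by
            by_contra h7
            push Not at h7
            apply hrX
            refine tr_e_mem hF L fun i hi => ?_
            by_cases hia : i = a
            · rw [hia, hφ]
            · exact h7 i hia hi
          -- remove the `b` component
          let χ : ι → F := fun i => if i = b then 0 else φ i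
          have hχ : Off a b χ := ⟨by
            show (if a = b then 0 else φ a) = 0
            rw [if_neg hab, hφ], by
            show (if b = b then 0 else φ b) = 0
            rw [if_pos rfl]⟩
          have hχ0 : ∃ i, i ≠ a ∧ i ≠ b ∧ χ i ≠ 0 := by
            obtain ⟨i, h7, h8, h9⟩ := h6
            exact ⟨i, h7, h8, by
              show (if i = b then 0 else φ i) ≠ 0
              rwa [if_neg h8]⟩
          have hd : (φ - χ) ⬝ᵥ (Pi.single a 1 : ι → F) = 0 := by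
            rw [dot_single, Pi.sub_apply, hφ, hχ.1, sub_zero]
          have hm : Tr (Pi.single a 1) χ ∈ R.comap f := by
            have h7 : f (Tr (Pi.single a 1) (φ - χ)) ∈ X := by
              refine tr_e_mem hF L fun i hi => ?_
              show φ i - (if i = b then 0 else φ i) = 0
              rw [if_neg hi, sub_self]
            have h8 := mul_mem (inv_mem (hXR h7)) hr
            rw [← map_inv, ← map_mul, ← Tr_neg hd, Tr_mul (by rw [neg_dotProduct, hd, neg_zero]) (by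
              rw [dot_single, hφ])] at h8
            have e : -(φ - χ) + φ = χ := by abel
            rwa [e] at h8
          have := AM_le hF hab hXR' (hS R hRP) hχ hχ0 hm
          rintro _ ⟨g, hg, rfl⟩
          exact this hg
      · by_cases hRX : R ≤ X
        · exact Or.inl (le_antisymm hRX hXR)
        · right; right; left
          refine le_antisymm hle ?_
          obtain ⟨r, hr, hrX⟩ := Set.not_subset.1 hRX
          obtain ⟨_, ⟨u, hu, rfl⟩, rfl⟩ := hle hr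
          have h6 : ∃ i, i ≠ a ∧ i ≠ b ∧ u i ≠ 0 := by
            by_contra h7
            push Not at h7
            apply hrX
            refine tr_e_mem' hF L fun i hi => ?_
            by_cases hib : i = b
            · rw [hib, hu]
            · exact h7 i hi hib
          let x : ι → F := fun i => if i = a then 0 else u i
          have hx : Off a b x := ⟨by
            show (if a = a then 0 else u a) = 0
            rw [if_pos rfl], by
            show (if b = a then 0 else u b) = 0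
            rw [if_neg hab.symm, hu]⟩
          have hx0 : ∃ i, i ≠ a ∧ i ≠ b ∧ x i ≠ 0 := by
            obtain ⟨i, h7, h8, h9⟩ := h6
            exact ⟨i, h7, h8, by
              show (if i = a then 0 else u i) ≠ 0
              rwa [if_neg h7]⟩
          have hd : (Pi.single b 1 : ι → F) ⬝ᵥ (u - x) = 0 := by
            rw [single_dot, Pi.sub_apply, hu, hx.2, sub_zero]
          have hm : Tr x (Pi.single b 1) ∈ R.comap f := by
            have h7 : f (Tr (u - x) (Pi.single b 1)) ∈ X := by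
              refine tr_e_mem' hF L fun i hi => ?_
              show u i - (if i = a then 0 else u i) = 0
              rw [if_neg hi, sub_self]
            have h8 := mul_mem (inv_mem (hXR h7)) hr
            rw [← map_inv, ← map_mul, ← Tr_neg' hd, Tr_mul' (by rw [dotProduct_neg, hd, neg_zero]) (by
              rw [single_dot, hu])] at h8
            have e : -(u - x) + u = x := by abel
            rwa [e] at h8
          have := BM_le hF hab hXR' (hS R hRP) hx hx0 hm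
          rintro _ ⟨g, hg, rfl⟩
          exact this hg
  · -- tr1
    rintro _ ⟨_, ⟨φ, hφ, rfl⟩, rfl⟩ hne
    have hφ0 : φ ≠ 0 := by
      rintro rfl
      exact hne (by rw [Tr_zero, map_one])
    obtain ⟨g, hg1, hg2⟩ := trA hF hab hφ hφ0
    refine ⟨f g, ht g, ?_, ?_⟩
    · rw [← map_mul, ← map_inv, ← map_mul, (conj_AM hg1 dab).1, hg2]
    · apply le_antisymm
      · rintro _ ⟨_, ⟨_, ⟨ψ, hψ, rfl⟩, rfl⟩, rfl⟩
        obtain ⟨e1, e2⟩ := conj_AM hg1 hψ
        refine ⟨_, ⟨_, e2, rfl⟩, ?_⟩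
        rw [← e1, map_mul, map_mul, map_inv]; rfl
      · rintro _ ⟨_, ⟨ψ, hψ, rfl⟩, rfl⟩
        obtain ⟨e1, e2⟩ := conj_AM (inv_fix' hg1) hψ
        rw [D7Ex.TwoA.mem_cj]
        refine ⟨_, ⟨_, e2, rfl⟩, ?_⟩
        rw [← e1, inv_inv, map_mul, map_mul, map_inv]
  · -- tr2
    rintro _ ⟨_, ⟨u, hu, rfl⟩, rfl⟩ hne
    have hu0 : u ≠ 0 := by
      rintro rfl
      exact hne (by rw [Tr_zero', map_one])
    obtain ⟨g, hg1, hg2⟩ := trB hF hab hu hu0
    refine ⟨f g, ht g, ?_, ?_⟩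
    · rw [← map_mul, ← map_inv, ← map_mul, (conj_BM hg1 dba).1, hg2]
    · apply le_antisymm
      · rintro _ ⟨_, ⟨_, ⟨y, hy, rfl⟩, rfl⟩, rfl⟩
        obtain ⟨e1, e2⟩ := conj_BM hg1 hy
        refine ⟨_, ⟨_, e2, rfl⟩, ?_⟩
        rw [← e1, map_mul, map_mul, map_inv]; rfl
      · rintro _ ⟨_, ⟨y, hy, rfl⟩, rfl⟩
        have hg1' : (Pi.single b 1 : ι → F) ᵥ* (g⁻¹⁻¹).1 = Pi.single b 1 := inv_fix hg1
        obtain ⟨e1, e2⟩ := conj_BM hg1' hy
        rw [D7Ex.TwoA.mem_cj]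
        refine ⟨_, ⟨_, e2, rfl⟩, ?_⟩
        rw [← e1, inv_inv, map_mul, map_mul, map_inv]
  · -- gl
    intro h hR hmul hX
    have hrow : ∀ i : ι, i ≠ a → ∃ φ : ι → F, φ a = 0 ∧ h (f (Tr (Pi.single a 1) (Pi.single i 1))) =
        f (Tr (Pi.single a 1) φ) := by
      intro i hi
      obtain ⟨_, ⟨φ, hφ, rfl⟩, e⟩ := hR _ ⟨_, ⟨Pi.single i 1, Pi.single_eq_of_ne hi.symm _, rfl⟩, rfl⟩
      exact ⟨φ, hφ, e.symm⟩
    choose! ρ hρ hρe using hrow
    -- `h` in coordinates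
    have h1 : h 1 = 1 := by
      have := hmul 1 (one_mem _) 1 (one_mem _)
      rw [one_mul] at this
      exact left_eq_mul.1 this
    have hlin : ∀ (S : Finset ι) (c : ι → F), a ∉ S →
        h (f (Tr (Pi.single a 1) (∑ i ∈ S, c i • Pi.single i 1))) = f (Tr (Pi.single a 1) (∑ i ∈ S, c i • ρ i)) := by
      intro S c
      induction S using Finset.induction_on with
      | empty => intro _; rw [Finset.sum_empty, Finset.sum_empty, Tr_zero, map_one, h1]
      | insert i S hi ih =>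
        intro ha
        have hia : i ≠ a := fun e => ha (e ▸ Finset.mem_insert_self i S)
        have haS : a ∉ S := fun e => ha (Finset.mem_insert_of_mem e)
        have z1 : (c i • (Pi.single i 1 : ι → F)) ⬝ᵥ (Pi.single a 1 : ι → F) = 0 := by
          rw [dot_single, Pi.smul_apply, Pi.single_eq_of_ne hia.symm, smul_zero]
        have z2 : (∑ i ∈ S, c i • (Pi.single i 1 : ι → F)) ⬝ᵥ (Pi.single a 1 : ι → F) = 0 := by
          rw [dot_single, Finset.sum_apply]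
          refine Finset.sum_eq_zero fun l hl => ?_
          rw [Pi.smul_apply, Pi.single_eq_of_ne, smul_zero]
          rintro rfl; exact haS hl
        have z3 : (c i • ρ i) ⬝ᵥ (Pi.single a 1 : ι → F) = 0 := by
          rw [dot_single, Pi.smul_apply, hρ i hia, smul_zero]
        have z4 : (∑ i ∈ S, c i • ρ i) ⬝ᵥ (Pi.single a 1 : ι → F) = 0 := by
          rw [dot_single, Finset.sum_apply]
          refine Finset.sum_eq_zero fun l hl => ?_
          rw [Pi.smul_apply, hρ l (by rintro rfl; exact haS hl), smul_zero]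
        have z1' : (c i • (Pi.single i 1 : ι → F)) a = 0 := (dot_single _ _).symm.trans z1
        have z2' : (∑ i ∈ S, c i • (Pi.single i 1 : ι → F)) a = 0 := (dot_single _ _).symm.trans z2
        rw [Finset.sum_insert hi, Finset.sum_insert hi, ← Tr_mul z1 z2, ← Tr_mul z3 z4, map_mul, map_mul,
          hmul _ ⟨_, ⟨_, z1', rfl⟩, rfl⟩ _ ⟨_, ⟨_, z2', rfl⟩, rfl⟩, ih haS]
        congr 1
        rcases hF (c i) with e | e <;> rw [e]
        · rw [zero_smul, zero_smul, Tr_zero, map_one, h1]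
        · rw [one_smul, one_smul]; exact hρe i hia
    have hφsum : ∀ φ : ι → F, φ a = 0 → φ = ∑ i ∈ Finset.univ.erase a, φ i • Pi.single i 1 := by
      intro φ hφ
      funext k
      rw [Finset.sum_apply]
      by_cases hk : k = a
      · rw [hk, hφ]
        symm
        refine Finset.sum_eq_zero fun l hl => ?_
        rw [Pi.smul_apply, Pi.single_eq_of_ne, smul_zero]
        exact (Finset.ne_of_mem_erase hl).symm
      · rw [Finset.sum_eq_single k]
        · rw [Pi.smul_apply, Pi.single_eq_same, smul_eq_mul, mul_one]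
        · intro l _ hl; rw [Pi.smul_apply, Pi.single_eq_of_ne hl.symm, smul_zero]
        · intro h; exact absurd (Finset.mem_erase.2 ⟨hk, Finset.mem_univ k⟩) h
    have hval : ∀ φ : ι → F, φ a = 0 → h (f (Tr (Pi.single a 1) φ)) =
        f (Tr (Pi.single a 1) (∑ i ∈ Finset.univ.erase a, φ i • ρ i)) := by
      intro φ hφ
      conv_lhs => rw [hφsum φ hφ]
      exact hlin _ _ (Finset.notMem_erase a _)
    -- `ρ b` is supported at `b`
    have hρb : ∀ i, i ≠ b → ρ b i = 0 := by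
      intro i hi
      refine of_mem_X L hf (hρ b hab.symm) hab ?_ hi
      rw [← hρe b hab.symm]
      exact (hX _ ⟨_, ⟨_, dab, rfl⟩, rfl⟩).2 hzX
    -- the matrix
    let N : Matrix {i // i ≠ a ∧ i ≠ b} {i // i ≠ a ∧ i ≠ b} F := fun i j => ρ i.1 j.1
    have hN : N.det ≠ 0 := by
      intro hdet
      obtain ⟨v, hv0, hv⟩ := exists_vecMul_eq_zero_iff.2 hdet
      apply hv0
      let φ : ι → F := fun i => if hc : i ≠ a ∧ i ≠ b then v ⟨i, hc⟩ else 0
      have hφa : φ a = 0 := dif_neg (fun hc => hc.1 rfl)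
      have hφb : φ b = 0 := dif_neg (fun hc => hc.2 rfl)
      have hin : f (Tr (Pi.single a 1) (∑ i ∈ Finset.univ.erase a, φ i • ρ i)) ∈ X := by
        refine tr_e_mem hF L fun j hj => ?_
        rw [Finset.sum_apply]
        by_cases hja : j = a
        · refine Finset.sum_eq_zero fun i hi => ?_
          rw [Pi.smul_apply, hja, hρ i (Finset.ne_of_mem_erase hi), smul_zero]
        · have hvj := congrFun hv ⟨j, hja, hj⟩
          rw [vecMul, dotProduct] at hvj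
          have e1 : ∑ i ∈ Finset.univ.erase a, (φ i • ρ i) j = ∑ i : ι, φ i * ρ i j := by
            rw [← Finset.add_sum_erase _ _ (Finset.mem_univ a), hφa, zero_mul, zero_add]
            rfl
          rw [e1]
          have e2 : ∑ i : ι, φ i * ρ i j = ∑ i : {i // i ≠ a ∧ i ≠ b}, v i * ρ i.1 j := by
            have e3 : ∑ i : ι, φ i * ρ i j = ∑ i ∈ Finset.univ.filter (fun i => i ≠ a ∧ i ≠ b), φ i * ρ i j := by
              symm
              refine Finset.sum_subset (Finset.filter_subset _ _) fun i _ hi => ?_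
              have : φ i = 0 := dif_neg (fun hc => hi (Finset.mem_filter.2 ⟨Finset.mem_univ i, hc⟩))
              rw [this, zero_mul]
            rw [e3, Finset.sum_subtype (p := fun i => i ≠ a ∧ i ≠ b) _ (fun x => by simp only [_root_.ne_eq, _root_.Finset.mem_filter, _root_.Finset.mem_univ, _root_.true_and]) (fun i => φ i * ρ i j)]
            refine Finset.sum_congr rfl fun i _ => ?_
            have : φ i.1 = v i := dif_pos i.2
            rw [this]
          rw [e2]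
          exact hvj
      have h5 := (hX _ ⟨_, ⟨φ, hφa, rfl⟩, rfl⟩).1 (by rw [hval φ hφa]; exact hin)
      funext i
      have h6 := of_mem_X L hf hφa hab h5 i.2.2
      have h7 : φ i.1 = v i := dif_pos i.2
      rw [← h7, h6]; rfl
    have hN1 : N.det = 1 := eq_one hF hN
    let D : _root_.Matrix.SpecialLinearGroup {i // i ≠ a ∧ i ≠ b} F := ⟨N, hN1⟩
    refine ⟨f (emb _ D⁻¹), emb_P hF L _, ?_⟩
    rintro _ ⟨_, ⟨φ, hφ, rfl⟩, rfl⟩
    have hfix : (emb (fun i => i ≠ a ∧ i ≠ b) D⁻¹).1 *ᵥ (Pi.single a 1 : ι → F) = Pi.single a 1 := by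
      funext k
      rw [mulVec_single_one]
      show embM _ _ k a = _
      rw [embM_apply, dif_neg (fun hc => hc.2.1 rfl), Pi.single_apply, one_apply]
    obtain ⟨e1, e2⟩ := conj_AM hfix hφ
    have e3 : (emb (fun i => i ≠ a ∧ i ≠ b) D⁻¹)⁻¹ = emb (fun i => i ≠ a ∧ i ≠ b) D := by rw [map_inv, inv_inv]
    rw [e3] at e1 e2
    have e4 : f (emb (fun i => i ≠ a ∧ i ≠ b) D⁻¹) * f (Tr (Pi.single a 1) φ) *
        (f (emb (fun i => i ≠ a ∧ i ≠ b) D⁻¹))⁻¹ =
        f (Tr (Pi.single a 1) (φ ᵥ* (emb (fun i => i ≠ a ∧ i ≠ b) D).1)) := by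
      rw [← map_inv, e3, ← map_mul, ← map_mul, e1]
    have z1 : (φ ᵥ* (emb (fun i => i ≠ a ∧ i ≠ b) D).1) ⬝ᵥ (Pi.single a 1 : ι → F) = 0 := by
      rw [dot_single]; exact e2
    have z4 : (∑ i ∈ Finset.univ.erase a, φ i • ρ i) ⬝ᵥ (Pi.single a 1 : ι → F) = 0 := by
      rw [dot_single, Finset.sum_apply]
      refine Finset.sum_eq_zero fun l hl => ?_
      rw [Pi.smul_apply, hρ l (Finset.ne_of_mem_erase hl), smul_zero]
    rw [hval φ hφ, e4, ← map_inv, ← map_mul, ← Tr_neg z1, Tr_mul z4 (by rw [neg_dotProduct, z1, neg_zero])]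
    refine tr_e_mem hF L fun j hj => ?_
    rw [Pi.add_apply, Pi.neg_apply]
    by_cases hja : j = a
    · rw [hja, e2, (dot_single _ a).symm.trans z4, neg_zero, add_zero]
    · have e5 : (∑ i ∈ Finset.univ.erase a, φ i • ρ i) j = (φ ᵥ* (emb (fun i => i ≠ a ∧ i ≠ b) D).1) j := by
        rw [Finset.sum_apply, vecMul, dotProduct, ← Finset.add_sum_erase _ _ (Finset.mem_univ a), hφ, zero_mul,
          zero_add]
        refine Finset.sum_congr rfl fun i hi => ?_
        rw [Pi.smul_apply, smul_eq_mul]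
        congr 1
        show ρ i j = embM _ N i j
        rw [embM_apply]
        by_cases hib : i = b
        · subst hib
          rw [dif_neg (fun hc => hc.1.2 rfl), hρb j hj, one_apply_ne hj.symm]
        · rw [dif_pos ⟨⟨Finset.ne_of_mem_erase hi, hib⟩, ⟨hja, hj⟩⟩]
      rw [e5, add_neg_cancel]
  · -- faith
    intro p hp hpr
    obtain ⟨g, rfl, hg1, hg2⟩ := L.P2 p hp
    have hN1 : ∀ i, i ≠ a → i ≠ b → ∀ j, j ≠ b → (g⁻¹).1 i j = (1 : Matrix ι ι F) i j := by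
      intro i hia hib j hj
      have hsa : (Pi.single i 1 : ι → F) a = 0 := Pi.single_eq_of_ne hia.symm _
      obtain ⟨e1, e2⟩ := conj_AM hg1 hsa
      have h5 := hpr _ ⟨_, ⟨_, hsa, rfl⟩, rfl⟩
      have z1 : (Pi.single i 1 : ι → F) ⬝ᵥ (Pi.single a 1 : ι → F) = 0 := by rw [dot_single, hsa]
      have z2 : ((Pi.single i 1 : ι → F) ᵥ* (g⁻¹).1) ⬝ᵥ (Pi.single a 1 : ι → F) = 0 := by rw [dot_single, e2]
      rw [← map_inv, ← map_inv, ← map_mul, ← map_mul, ← map_mul, e1, ← Tr_neg z1,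
        Tr_mul z2 (by rw [neg_dotProduct, z1, neg_zero])] at h5
      have h6 := of_mem_X L hf (by rw [Pi.add_apply, Pi.neg_apply, e2, hsa, neg_zero, add_zero]) hab h5 hj
      rw [Pi.add_apply, Pi.neg_apply, add_neg_eq_zero, single_one_vecMul] at h6
      rw [one_apply]
      have h7 : (g⁻¹).1 i j = (Pi.single i 1 : ι → F) j := h6
      rw [h7, Pi.single_apply]
      by_cases hij : i = j
      · rw [if_pos hij, if_pos hij.symm]
      · rw [if_neg hij, if_neg (fun h => hij h.symm)]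
    have hN2 : ∀ j, (g⁻¹).1 b j = (1 : Matrix ι ι F) b j := by
      intro j
      have := congrFun (inv_fix hg2) j
      rw [single_one_vecMul] at this
      have h7 : (g⁻¹).1 b j = (Pi.single b 1 : ι → F) j := this
      rw [h7, Pi.single_apply, one_apply]
      by_cases hij : b = j
      · rw [if_pos hij, if_pos hij.symm]
      · rw [if_neg hij, if_neg (fun h => hij h.symm)]
    have hN3 : (g⁻¹).1 a a = 1 := by
      have := congrFun (inv_fix' hg1) a
      rw [mulVec_single_one, Pi.single_eq_same] at this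
      exact this
    let u : ι → F := fun i => if i = a ∨ i = b then 0 else (g⁻¹).1 i b
    let s : F := (fun j => (g⁻¹).1 a j - (1 : Matrix ι ι F) a j) ⬝ᵥ u
    let φ : ι → F := (fun j => (g⁻¹).1 a j - (1 : Matrix ι ι F) a j) - s • Pi.single b 1
    have hua : u a = 0 := if_pos (Or.inl rfl)
    have hub : u b = 0 := if_pos (Or.inr rfl)
    have hφa : φ a = 0 := by
      show (g⁻¹).1 a a - (1 : Matrix ι ι F) a a - (s • (Pi.single b 1 : ι → F)) a = 0
      rw [hN3, one_apply_eq, Pi.smul_apply, dab, smul_zero, sub_self, sub_zero]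
    have hφu : φ ⬝ᵥ u = s := by
      show ((fun j => (g⁻¹).1 a j - (1 : Matrix ι ι F) a j) - s • Pi.single b 1) ⬝ᵥ u = s
      rw [sub_dotProduct, smul_dotProduct, single_dot, hub, smul_zero, sub_zero]
    have z1 : φ ⬝ᵥ (Pi.single a 1 : ι → F) = 0 := by rw [dot_single, hφa]
    have z2 : (Pi.single b 1 : ι → F) ⬝ᵥ u = 0 := by rw [single_dot, hub]
    have key : g⁻¹ = Tr (Pi.single a 1) φ * Tr u (Pi.single b 1) := by
      apply slext
      rw [mulv, Tr_val z1, Tr_val z2, add_mul, mul_add, mul_add, one_mul, one_mul, mul_one, vecMulVec_mul_vecMulVec,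
        hφu]
      ext i j
      simp only [Matrix.add_apply, vecMulVec_apply, Pi.smul_apply, smul_eq_mul]
      by_cases hia : i = a
      · subst hia
        rw [hua, zero_mul, add_zero, Pi.single_eq_same, one_mul, one_mul]
        show _ = (1 : Matrix ι ι F) i j + (((g⁻¹).1 i j - (1 : Matrix ι ι F) i j - (s • (Pi.single b 1 : ι → F)) j) +
          s * (Pi.single b 1 : ι → F) j)
        rw [Pi.smul_apply, smul_eq_mul]
        ring
      · rw [Pi.single_eq_of_ne hia, zero_mul, zero_mul, add_zero, add_zero]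
        by_cases hib : i = b
        · subst hib
          rw [hub, zero_mul, add_zero, hN2]
        · have hui : u i = (g⁻¹).1 i b := if_neg (by push Not; exact ⟨hia, hib⟩)
          by_cases hj : j = b
          · subst hj
            rw [hui, Pi.single_eq_same, mul_one, one_apply_ne hib, zero_add]
          · rw [hN1 i hia hib j hj, Pi.single_eq_of_ne hj, mul_zero, add_zero]
    have h8 : f g⁻¹ ∈ Q := (L.Q _).2 ⟨φ, u, hφa, hub, by rw [key]⟩
    have h9 := inv_mem h8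
    rwa [map_inv, inv_inv] at h9

end Cfsg.Agent.OddHalf.D7An.TwoInst

end

-- merged: Cfsg.Agent.OddHalf.D7An.LocOf
section

/-!
# `L_n(2)`, `n ≥ 5`: the doubled root group at one root (ODD D7; helper991)

`e : PSL_{n+1}(F) →* G` injective, `|F| = 2`, `n ≥ 4`, root groups `XG e x`, root `rtA a b`.
-/

set_option autoImplicit false
set_option linter.unusedSectionVars false

namespace Cfsg.Agent.OddHalf.D7An.LocOf

open Matrix Subgroup CoxeterSystem Cfsg.Agent.ChevalleyStructure.CoxeterGeom Cfsg.Agent.Tits.Roots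
  Cfsg.Agent.Tits.Core Cfsg.Agent.Nodes.Reps Cfsg.Agent.Nodes.BNOf Cfsg.Agent.Nodes.Coroot
  Cfsg.Agent.Nodes.RootsA Cfsg.Agent.Nodes.RGDTypeA Cfsg.Agent.Nodes.CommA
  Cfsg.Agent.OddHalf.SL.Index Cfsg.Agent.OddHalf.SL.Defs
  Cfsg.Agent.OddHalf.D7Ex Cfsg.Agent.OddHalf.D7An.Mat Cfsg.Agent.OddHalf.D7An.Two
  Cfsg.Agent.OddHalf.D7An.TwoInst
open Cfsg.Agent.LieRecognition.BNCox (cA)
open Cfsg.Agent.TitsThree.KSideA (tv tv_of_ne tv_add tv_zero tv_neg)

section AB

variable {ι F : Type*} [Field F] [DecidableEq ι] [Fintype ι]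

/-- `B e_a = e_a` for `B = 1 + u e_b*`. -/
theorem BM_fix {a b : ι} (hab : a ≠ b) {u : ι → F} (hu : u b = 0) :
    (Tr u (Pi.single b 1)).1 *ᵥ (Pi.single a 1 : ι → F) = Pi.single a 1 := by
  rw [Tr_mulVec (by rw [single_dot, hu]), single_dot, Pi.single_eq_of_ne hab.symm, zero_smul, add_zero]

/-- `{(1 + e_a φ)(1 + u e_b*)}` -/
def AB (F : Type*) [Field F] {a b : ι} (hab : a ≠ b) : Subgroup (_root_.Matrix.SpecialLinearGroup ι F) where
  carrier := {g | ∃ φ u : ι → F, φ a = 0 ∧ u b = 0 ∧ g = Tr (Pi.single a 1) φ * Tr u (Pi.single b 1)}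
  one_mem' := ⟨0, 0, rfl, rfl, by rw [Tr_zero, Tr_zero', one_mul]⟩
  mul_mem' := by
    rintro _ _ ⟨φ, u, h1, h2, rfl⟩ ⟨φ', u', h1', h2', rfl⟩
    obtain ⟨e1, e2⟩ := conj_AM (BM_fix hab h2) h1'
    refine ⟨φ + φ' ᵥ* ((Tr u (Pi.single b 1))⁻¹).1, u + u', by rw [Pi.add_apply, h1, e2, add_zero],
      by rw [Pi.add_apply, h2, h2', add_zero], ?_⟩
    rw [← Tr_mul (by rw [dot_single, h1]) (by rw [dot_single, e2]), ← e1,
      ← Tr_mul' (by rw [single_dot, h2]) (by rw [single_dot, h2'])]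
    group
  inv_mem' := by
    rintro _ ⟨φ, u, h1, h2, rfl⟩
    have h1' : (-φ) a = 0 := by rw [Pi.neg_apply, h1, neg_zero]
    have h2' : (-u) b = 0 := by rw [Pi.neg_apply, h2, neg_zero]
    obtain ⟨e1, e2⟩ := conj_AM (BM_fix hab h2') h1'
    refine ⟨_, -u, e2, h2', ?_⟩
    rw [← e1, Tr_neg (by rw [dot_single, h1]), Tr_neg' (by rw [single_dot, h2])]
    group

theorem tv_mem_AB {a b : ι} (hab : a ≠ b) {j : ι} (hj : a ≠ j) (c : F) : tv a j c ∈ AB F hab :=
  ⟨Pi.single j c, 0, Pi.single_eq_of_ne hj _, rfl, by rw [Tr_zero', mul_one, tv_eq hj]⟩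

theorem tv_eq' {i b : ι} (hib : i ≠ b) (c : F) : tv i b c = Tr (Pi.single i c) (Pi.single b 1) := by
  rw [tv_eq hib]
  apply slext
  rw [Tr_val, Tr_val]
  · ext k l
    simp only [Matrix.add_apply, vecMulVec_apply, Pi.single_apply]
    by_cases h1 : k = i <;> by_cases h2 : l = b <;> simp [h1, h2]
  · rw [single_dotProduct, Pi.single_eq_of_ne hib.symm, mul_zero]
  · rw [single_dotProduct, Pi.single_eq_of_ne hib.symm, mul_zero]

theorem tv_mem_AB' {a b : ι} (hab : a ≠ b) {i : ι} (hi : i ≠ b) (c : F) : tv i b c ∈ AB F hab :=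
  ⟨0, Pi.single i c, rfl, Pi.single_eq_of_ne hi.symm _, by rw [Tr_zero, one_mul, tv_eq' hi]⟩

end AB

variable {n : ℕ} {F : Type*} [Field F] {G : Type*} [Group G]

/-- The root groups in `G`. -/
def XG (e : ProjectiveSpecialLinearGroup (Fin (n + 1)) F →* G) (x : Fin n → ℤ) : Subgroup G :=
  ((Cfsg.Agent.Nodes.RGDTypeA.X F x).map (pr n F)).map e

theorem mem_XG {e : ProjectiveSpecialLinearGroup (Fin (n + 1)) F →* G} {a b : Fin (n + 1)} (hab : a ≠ b) {g : G} :
    g ∈ XG e (rtA a b) ↔ ∃ c : F, g = e.comp (pr n F) (tv a b c) := by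
  unfold XG
  rw [X_rtA hab]
  constructor
  · rintro ⟨_, ⟨_, ⟨c, rfl⟩, rfl⟩, rfl⟩
    exact ⟨c, rfl⟩
  · rintro ⟨c, rfl⟩
    exact ⟨_, ⟨_, ⟨c, rfl⟩, rfl⟩, rfl⟩

variable {W : Type*} [Group W] [Finite W] (cs : CoxeterSystem (cA n) W) {A : Fin n → Fin n → ℤ}
  (h : IsCartan (cA n) A)

include cs in
theorem bf_rtA (h : IsCartan (cA n) A) (a b : Fin (n + 1)) {c d : Fin (n + 1)} (hcd : c ≠ d) :
    Bf A (rtA a b) (rtA c d) = (if a = c then 1 else 0) - (if a = d then 1 else 0) -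
      ((if b = c then 1 else 0) - (if b = d then 1 else 0)) := by
  rw [bf_eq_cpr (cs := cs) (h := h) (fun i j => (KFacts.SLRow.Psl.cA_ne i j).1)
    (fun i j => (KFacts.SLRow.Psl.cA_ne i j).2) _ (isRoot_rtA cs h hcd), cpr_rtA cs h a b hcd]

include cs h in
/-- `(rtA i j, rtA a b) ≥ 0` -/
theorem bf_nonneg {i j a b : Fin (n + 1)} (hij : i ≠ j) (hab : a ≠ b) :
    0 ≤ Bf A (rtA i j) (rtA a b) ↔ j ≠ a ∧ i ≠ b := by
  rw [bf_rtA cs h i j hab]
  simp only [Fin.ext_iff, ne_eq] at *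
  split_ifs <;> omega

include cs h in
/-- `(rtA i j, rtA a b) = 1` -/
theorem bf_one {i j a b : Fin (n + 1)} (hij : i ≠ j) (hab : a ≠ b) :
    Bf A (rtA i j) (rtA a b) = 1 ↔ (i = a ∧ j ≠ b) ∨ (i ≠ a ∧ j = b) := by
  rw [bf_rtA cs h i j hab]
  simp only [Fin.ext_iff, ne_eq] at *
  split_ifs <;> omega

variable (hF : ∀ x : F, x = 0 ∨ x = 1)

include hF in
theorem pr_injective : Function.Injective (pr n F) := by
  rw [injective_iff_map_eq_one]
  intro g hg
  rw [← MonoidHom.mem_ker, ker_pr, Matrix.SpecialLinearGroup.mem_center_iff] at hg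
  obtain ⟨c, hc, e⟩ := hg
  have hc0 : c ≠ 0 := by
    rintro rfl
    rw [zero_pow (by simp)] at hc
    exact zero_ne_one hc
  have hc1 := (hF c).resolve_left hc0
  apply slext
  have e' : Matrix.scalar (Fin (n + 1)) c = g.1 := e
  rw [← e', hc1, map_one]
  rfl

section

variable {e : ProjectiveSpecialLinearGroup (Fin (n + 1)) F →* G} {a b : Fin (n + 1)} (hab : a ≠ b)

include hab

include h in
theorem Q_le : QS (XG e) (Ph1 (Bf A) {x | IsRoot cs h x} (rtA a b)) (rtA a b) ≤ (AB F hab).map (e.comp (pr n F)) := by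
  refine QS_le ?_ ?_
  · intro x hx
    obtain ⟨c, rfl⟩ := (mem_XG hab).1 hx
    exact ⟨_, tv_mem_AB hab hab c, rfl⟩
  · rintro x ⟨hx, hx1⟩ y hy
    obtain ⟨i, j, hij, rfl⟩ := exists_of_isRoot cs h hx
    obtain ⟨c, rfl⟩ := (mem_XG hij).1 hy
    rcases (bf_one cs h hij hab).1 hx1 with ⟨rfl, -⟩ | ⟨-, rfl⟩
    · exact ⟨_, tv_mem_AB hab hij c, rfl⟩
    · exact ⟨_, tv_mem_AB' hab hij c, rfl⟩

include h in
theorem mem_Q {φ : Fin (n + 1) → F} (h1 : φ a = 0) :
    e.comp (pr n F) (Tr (Pi.single a 1) φ) ∈ QS (XG e) (Ph1 (Bf A) {x | IsRoot cs h x} (rtA a b)) (rtA a b) := by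
  have : Tr (Pi.single a 1) φ ∈ (QS (XG e) (Ph1 (Bf A) {x | IsRoot cs h x} (rtA a b)) (rtA a b)).comap
      (e.comp (pr n F)) := by
    refine Tr_single_mem (S := Finset.univ.erase a) (Finset.notMem_erase a _) ?_ ?_
    · intro j hj c
      have hja := (Finset.ne_of_mem_erase hj).symm
      rw [mem_comap]
      by_cases hjb : j = b
      · rw [hjb]
        exact X_le_QS _ _ _ ((mem_XG hab).2 ⟨c, rfl⟩)
      · exact le_QS (XG e) (S := Ph1 (Bf A) {x | IsRoot cs h x} (rtA a b)) _ (b := rtA a j) ⟨isRoot_rtA cs h hja,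
          (bf_one cs h hja hab).2 (Or.inl ⟨rfl, hjb⟩)⟩ ((mem_XG hja).2 ⟨c, rfl⟩)
    · intro j hj
      have : j = a := by
        by_contra hne
        exact hj (Finset.mem_erase.2 ⟨hne, Finset.mem_univ j⟩)
      rw [this, h1]
  exact this

include h in
theorem mem_Q' {u : Fin (n + 1) → F} (h2 : u b = 0) :
    e.comp (pr n F) (Tr u (Pi.single b 1)) ∈ QS (XG e) (Ph1 (Bf A) {x | IsRoot cs h x} (rtA a b)) (rtA a b) := by
  have : Tr u (Pi.single b 1) ∈ (QS (XG e) (Ph1 (Bf A) {x | IsRoot cs h x} (rtA a b)) (rtA a b)).comap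
      (e.comp (pr n F)) := by
    refine Tr_single_mem' (S := Finset.univ.erase b) (Finset.notMem_erase b _) ?_ ?_
    · intro i hi c
      have hib := Finset.ne_of_mem_erase hi
      rw [mem_comap]
      by_cases hia : i = a
      · rw [hia]
        exact X_le_QS _ _ _ ((mem_XG hab).2 ⟨c, rfl⟩)
      · exact le_QS (XG e) (S := Ph1 (Bf A) {x | IsRoot cs h x} (rtA a b)) _ (b := rtA i b) ⟨isRoot_rtA cs h hib,
          (bf_one cs h hib hab).2 (Or.inr ⟨hia, rfl⟩)⟩ ((mem_XG hib).2 ⟨c, rfl⟩)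
    · intro j hj
      have : j = b := by
        by_contra hne
        exact hj (Finset.mem_erase.2 ⟨hne, Finset.mem_univ j⟩)
      rw [this, h2]
  exact this

end

/-- The stabiliser of `e_a` and `e_b*`. -/
def St (F : Type*) [Field F] (a b : Fin (n + 1)) : Subgroup (_root_.Matrix.SpecialLinearGroup (Fin (n + 1)) F) where
  carrier := {g | g.1 *ᵥ (Pi.single a 1 : Fin (n + 1) → F) = Pi.single a 1 ∧
    (Pi.single b 1 : Fin (n + 1) → F) ᵥ* g.1 = Pi.single b 1}
  one_mem' := ⟨by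
    show (1 : Matrix (Fin (n + 1)) (Fin (n + 1)) F) *ᵥ _ = _
    rw [one_mulVec], by
    show _ ᵥ* (1 : Matrix (Fin (n + 1)) (Fin (n + 1)) F) = _
    rw [vecMul_one]⟩
  mul_mem' := by
    rintro g k ⟨h1, h2⟩ ⟨h3, h4⟩
    refine ⟨?_, ?_⟩
    · rw [mulv, ← mulVec_mulVec, h3, h1]
    · rw [mulv, ← vecMul_vecMul, h2, h4]
  inv_mem' := by
    rintro g ⟨h1, h2⟩
    exact ⟨inv_fix' h1, inv_fix h2⟩

theorem tv_mem_St {a b i j : Fin (n + 1)} (hij : i ≠ j) (hja : j ≠ a) (hib : i ≠ b) (c : F) :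
    tv i j c ∈ St F a b := by
  constructor
  · have h0 : (Pi.single j c : Fin (n + 1) → F) ⬝ᵥ Pi.single i 1 = 0 := by
      rw [dot_single, Pi.single_eq_of_ne hij]
    have h1 : (Pi.single j c : Fin (n + 1) → F) a = 0 := Pi.single_eq_of_ne hja.symm _
    rw [tv_eq hij, Tr_mulVec h0, dot_single, h1, zero_smul, add_zero]
  · have h0 : (Pi.single j 1 : Fin (n + 1) → F) ⬝ᵥ Pi.single i c = 0 := by
      rw [single_dot, Pi.single_eq_of_ne hij.symm]
    have h1 : (Pi.single i c : Fin (n + 1) → F) b = 0 := Pi.single_eq_of_ne hib.symm _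
    rw [tv_eq' hij, vecMul_Tr h0, single_dot, h1, zero_smul, add_zero]

include h in
theorem P_le {e : ProjectiveSpecialLinearGroup (Fin (n + 1)) F →* G} {a b : Fin (n + 1)} (hab : a ≠ b) :
    PR (Bf A) {x | IsRoot cs h x} (XG e) (rtA a b) ≤ (St F a b).map (e.comp (pr n F)) := by
  refine PR_le ?_
  intro x hx hx0 y hy
  obtain ⟨i, j, hij, rfl⟩ := exists_of_isRoot cs h hx
  obtain ⟨c, rfl⟩ := (mem_XG hij).1 hy
  obtain ⟨hja, hib⟩ := (bf_nonneg cs h hij hab).1 hx0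
  exact ⟨_, tv_mem_St hij hja hib c, rfl⟩

include hF in
/-- The groups of `TwoInst.Loc`. -/
theorem loc {e : ProjectiveSpecialLinearGroup (Fin (n + 1)) F →* G} {a b : Fin (n + 1)} (hab : a ≠ b) :
    Loc (e.comp (pr n F)) a b (XG e (rtA a b))
      (QS (XG e) (Ph1 (Bf A) {x | IsRoot cs h x} (rtA a b)) (rtA a b))
      (PR (Bf A) {x | IsRoot cs h x} (XG e) (rtA a b)) := by
  refine ⟨fun x => ?_, fun q => ⟨fun hq => ?_, ?_⟩, fun i j hij hja hib c => ?_, fun p hp => ?_⟩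
  · rw [mem_XG hab]
    constructor
    · rintro ⟨c, rfl⟩
      rcases hF c with rfl | rfl
      · left; rw [tv_zero, map_one]
      · right; rw [tv_eq hab]
    · rintro (rfl | rfl)
      · exact ⟨0, by rw [tv_zero, map_one]⟩
      · exact ⟨1, by rw [tv_eq hab]⟩
  · obtain ⟨_, ⟨φ, u, h1, h2, rfl⟩, rfl⟩ := Q_le cs h hab hq
    exact ⟨φ, u, h1, h2, rfl⟩
  · rintro ⟨φ, u, h1, h2, rfl⟩
    rw [map_mul]
    exact mul_mem (mem_Q cs h hab h1) (mem_Q' cs h hab h2)
  · exact le_PR (XG e) (isRoot_rtA cs h hij) ((bf_nonneg cs h hij hab).2 ⟨hja, hib⟩) ((mem_XG hij).2 ⟨c, rfl⟩)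
  · obtain ⟨g, ⟨h1, h2⟩, rfl⟩ := P_le cs h hab hp
    exact ⟨g, rfl, h1, h2⟩

/-! ### Combinatorics -/

theorem exists_avoid (hn : 4 ≤ n) (a b c d : Fin (n + 1)) : ∃ i : Fin (n + 1), i ≠ a ∧ i ≠ b ∧ i ≠ c ∧ i ≠ d := by
  by_contra hcon
  push Not at hcon
  have h1 : (Finset.univ : Finset (Fin (n + 1))) ⊆ {a, b, c, d} := by
    intro i _
    simp only [Finset.mem_insert, Finset.mem_singleton]
    by_contra h2
    push Not at h2
    exact h2.2.2.2 (hcon i h2.1 h2.2.1 h2.2.2.1)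
  have h2 := Finset.card_le_card h1
  have h3 : ({a, b, c, d} : Finset (Fin (n + 1))).card ≤ 4 := Finset.card_le_four
  rw [Finset.card_univ, Fintype.card_fin] at h2
  omega

include hF h in
theorem pt (hn : 4 ≤ n) {e : ProjectiveSpecialLinearGroup (Fin (n + 1)) F →* G} {a b : Fin (n + 1)} (hab : a ≠ b) :
    PT (Bf A) {x | IsRoot cs h x} (XG e) (rtA a b) (PR (Bf A) {x | IsRoot cs h x} (XG e) (rtA a b)) where
  sep := by
    rintro x ⟨hx, hx1⟩ x' ⟨hx', hx1'⟩ hne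
    obtain ⟨i, j, hij, rfl⟩ := exists_of_isRoot cs h hx
    obtain ⟨i', j', hij', rfl⟩ := exists_of_isRoot cs h hx'
    have key : ∀ k l : Fin (n + 1), k ≠ l → k ≠ a → k ≠ b → l ≠ a → l ≠ b →
        Bf A (rtA i j) (rtA k l) = 1 → Bf A (rtA i' j') (rtA k l) ≠ 1 →
        ∃ d ∈ {x | IsRoot cs h x}, XG e d ≤ PR (Bf A) {x | IsRoot cs h x} (XG e) (rtA a b) ∧ Bf A d (rtA a b) = 0 ∧
          Bf A (rtA i j) d = 1 ∧ Bf A (rtA i' j') d ≠ 1 := by
      intro k l hkl h1 h2 h3 h4 h5 h6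
      refine ⟨rtA k l, isRoot_rtA cs h hkl, ?_, ?_, h5, h6⟩
      · exact le_PR (XG e) (isRoot_rtA cs h hkl) ((bf_nonneg cs h hkl hab).2 ⟨h3, h2⟩)
      · rw [bf_rtA cs h k l hab, if_neg h1, if_neg h2, if_neg h3, if_neg h4]
        norm_num
    have hne' : ¬ (i' = i ∧ j' = j) := by
      rintro ⟨rfl, rfl⟩
      exact hne rfl
    rcases (bf_one cs h hij hab).1 hx1 with ⟨rfl, hj⟩ | ⟨hi, rfl⟩
    · obtain ⟨k, hk1, hk2, hk3, hk4⟩ := exists_avoid hn i b j i'
      refine key k j hk3 hk1 hk2 hij.symm hj ?_ ?_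
      · rw [bf_rtA cs h i j hk3, if_neg hk1.symm, if_neg hij, if_neg hk3.symm, if_pos rfl]
        norm_num
      · rw [bf_rtA cs h i' j' hk3, if_neg hk4.symm]
        rcases (bf_one cs h hij' hab).1 hx1' with ⟨rfl, hj'⟩ | ⟨hi', rfl⟩
        · rw [if_neg (show ¬ j' = j from fun e => hne' ⟨rfl, e⟩), if_neg hij]
          split_ifs <;> norm_num
        · rw [if_neg hk2.symm, if_neg hj.symm]
          split_ifs <;> norm_num
    · obtain ⟨k, hk1, hk2, hk3, hk4⟩ := exists_avoid hn a j i j'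
      refine key i k hk3.symm hi hij hk1 hk2 ?_ ?_
      · rw [bf_rtA cs h i j hk3.symm, if_pos rfl, if_neg hk3.symm, if_neg hij.symm, if_neg hk2.symm]
        norm_num
      · rw [bf_rtA cs h i' j' hk3.symm, if_neg hk4.symm]
        rcases (bf_one cs h hij' hab).1 hx1' with ⟨rfl, hj'⟩ | ⟨hi', rfl⟩
        · rw [if_neg hi.symm, if_neg hk1.symm]
          split_ifs <;> norm_num
        · rw [if_neg (show ¬ i' = i from fun e => hne' ⟨e, rfl⟩), if_neg hij.symm]
          split_ifs <;> norm_num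
  tor := by
    rintro x ⟨hx, hx1⟩ y hy z hz hy1 hz1
    refine ⟨1, one_mem _, ?_⟩
    obtain ⟨i, j, hij, rfl⟩ := exists_of_isRoot cs h hx
    obtain ⟨c, rfl⟩ := (mem_XG hij).1 hy
    obtain ⟨d, rfl⟩ := (mem_XG hij).1 hz
    have hc : c ≠ 0 := by
      rintro rfl
      exact hy1 (by rw [tv_zero, map_one])
    have hd : d ≠ 0 := by
      rintro rfl
      exact hz1 (by rw [tv_zero, map_one])
    rw [(hF c).resolve_left hc, (hF d).resolve_left hd, one_mul, inv_one, mul_one]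

include hF h in
/-- **The doubled root group of `L_{n+1}(2)`, `n ≥ 4`.** -/
theorem exists_two (hn : 4 ≤ n) {e : ProjectiveSpecialLinearGroup (Fin (n + 1)) F →* G} (he : Function.Injective e)
    [Finite G] {t : G} (het : ∀ g, e g * t = t * e g) {a b : Fin (n + 1)} (hab : a ≠ b) {T : Subgroup G}
    (K : KR t (Bf A) {x | IsRoot cs h x} (XG e) (rtA a b) (PR (Bf A) {x | IsRoot cs h x} (XG e) (rtA a b)) T)
    {m : G} (hX : ∀ x ∈ XG e (rtA a b), m * x * m⁻¹ ∈ XG e (rtA a b)) (ht : t * (m * t * m⁻¹) ∈ XG e (rtA a b))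
    (hnt : m * t * m⁻¹ ≠ t) :
    ∃ W, KR.Out t (XG e (rtA a b)) (PR (Bf A) {x | IsRoot cs h x} (XG e) (rtA a b)) T W ∧ (∀ w ∈ W, w * w = 1) ∧
      ∀ k, Nice t (XG e (rtA a b)) (PR (Bf A) {x | IsRoot cs h x} (XG e) (rtA a b)) 1 k → ∀ w ∈ W,
        k * w * k⁻¹ ∈ W := by
  have hz : ∀ x ∈ XG e (rtA a b), x = 1 ∨ x = e.comp (pr n F) (Tr (Pi.single a 1) (Pi.single b 1)) :=
    fun x hx => ((loc cs h hF hab).X x).1 hx
  have hf : Function.Injective (e.comp (pr n F)) := by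
    rw [MonoidHom.coe_comp]
    exact he.comp (pr_injective hF)
  have Tw := two hF (t := t) hf hab (loc cs h hF (e := e) hab) (fun g => het _) ?_ ?_
  · have S := K.setup
    have hn : m ∈ S.N := by
      refine ⟨hX, fun x hx => ?_, ht⟩
      have := (K.inv_norm hX ht).1 x hx
      rwa [inv_inv] at this
    obtain ⟨m', hm', hmt', hmR, -⟩ := Tw.exists_fix S hn hnt
    obtain ⟨p0, hp0, hin⟩ := Tw.exists_inner S hm' hmR
    exact K.exists_two (pt cs h hF ‹4 ≤ n› hab) hz hm'.1 hm'.2.2 hmt' hp0 hin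
  · intro i hi1 hi2
    obtain ⟨j, h1, h2, h3, -⟩ := exists_avoid hn a b i i
    obtain ⟨l, h4, h5, h6, h7⟩ := exists_avoid hn a b i j
    exact ⟨j, l, h1, h2, h4, h5, h3.symm, h6.symm, h7.symm⟩
  · obtain ⟨j, h1, h2, h3, -⟩ := exists_avoid hn a b a a
    exact ⟨j, h1, h2⟩

end Cfsg.Agent.OddHalf.D7An.LocOf

end
end

-- part: OddHalf/D7/RowL
section
-- merged: Cfsg.Agent.OddHalf.D7Out.ExA2
section

/-!
# `L_{n+1}(2)`, `n ≥ 4`: existence of the doubled root group (helper875; `LocOf` of helper991, `KTwo` of helper57)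

`hasEx` : `HasEx D e t v` for every datum of `K ≅ PSL_{n+1}(F)`, `|F| = 2`, with the standard root groups.
-/

set_option autoImplicit false
set_option linter.unusedSectionVars false

namespace Cfsg.Agent.OddHalf.D7Out.ExA2

open Matrix CoxeterSystem Cfsg.Agent.ChevalleyStructure.CoxeterGeom Cfsg.Agent.Tits.Roots Cfsg.Agent.Tits.Core
  Cfsg.Agent.Tits.RootComb Cfsg.Agent.Nodes.Reps Cfsg.Agent.Nodes.BNOf Cfsg.Agent.Nodes.Coroot
  Cfsg.Agent.Nodes.RootsA Cfsg.Agent.Nodes.RGDTypeA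
  Cfsg.Agent.OddHalf.SL.Index Cfsg.Agent.OddHalf.SL.OfRGD Cfsg.Agent.KFacts.SLRow.Def
  Cfsg.Agent.OddHalf.D7Ex Cfsg.Agent.OddHalf.SL.PreOf Cfsg.Agent.OddHalf.SL Cfsg.Agent.OddHalf.D7Out.MainSL
  Cfsg.Agent.OddHalf.D7An.LocOf
open Cfsg.Agent.LieRecognition.BNCox (cA)

variable {n : ℕ} {F : Type*} [Field F] {W : Type*} [Group W] {cs : CoxeterSystem (cA n) W}
  {A : Fin n → Fin n → ℤ} {h : IsCartan (cA n) A} {G : Type*} [Group G] {K : Subgroup G} {t : G}

/-- every root orthogonal to `r` has a neighbour orthogonal to `r` -/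
theorem hirr [Finite W] (cs : CoxeterSystem (cA n) W) (h : IsCartan (cA n) A) (hn : 4 ≤ n) (r : Fin n → ℤ) (hr : IsRoot cs h r) (b : Fin n → ℤ) (hb : IsRoot cs h b) (h0 : Bf A b r = 0) :
    ∃ d, IsRoot cs h d ∧ Bf A d r = 0 ∧ Bf A b d = 1 := by
  obtain ⟨x, y, hxy, rfl⟩ := exists_of_isRoot cs h hr
  obtain ⟨i, j, hij, rfl⟩ := exists_of_isRoot cs h hb
  obtain ⟨k, hk1, hk2, hk3, hk4⟩ := exists_avoid hn x y i j
  rw [bf_rtA cs h i j hxy] at h0
  have hd : i ≠ x ∧ i ≠ y ∧ j ≠ x ∧ j ≠ y := by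
    simp only [Fin.ext_iff, ne_eq] at *
    split_ifs at h0 <;> omega
  refine ⟨rtA i k, isRoot_rtA cs h hk3.symm, ?_, ?_⟩
  · rw [bf_rtA cs h i k hxy, if_neg hd.1, if_neg hd.2.1, if_neg hk1, if_neg hk2]
    norm_num
  · rw [bf_rtA cs h i j hk3.symm, if_pos rfl, if_neg hk3.symm, if_neg hij.symm, if_neg hk4.symm]
    norm_num

theorem aux [Finite W] [Finite G] (hF : ∀ x : F, x = 0 ∨ x = 1) (hn : 4 ≤ n)
    {e : ProjectiveSpecialLinearGroup (Fin (n + 1)) F →* G} (he : Function.Injective e) (heK : ∀ g, e g ∈ K)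
    {T : Subgroup G} {n' : Fin n → G} {X : (Fin n → ℤ) → Subgroup G} (hX : X = XG e)
    (D : Datum K 2 cs h T n' X) (C : KFull.CT t K) {ρ : Fin n → ℤ} (hρ : IsRoot cs h ρ) {m z : G}
    (hz : z ∈ X ρ) (hz1 : z ≠ 1) (mt : m * t * m⁻¹ = t * z) (mz : m⁻¹ * z * m ∈ X ρ) :
    ∃ V, Base0.Base0 D.rgd t ρ V := by
  subst hX
  obtain ⟨a, b, hab, rfl⟩ := exists_of_isRoot cs h hρ
  have Fl : KTwo.Fl t K := ⟨C.tt, C.tK, C.Kt, C.nrm, C.cK⟩
  have KR := KTwo.krTwo D Fl (fun P h1 h2 => C.perf P (fun x hx =>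
    Subgroup.mem_centralizer_singleton_iff.2 (h1 x hx)) h2) hρ fun b hb h0 => hirr cs h hn _ hρ b hb h0
  have hmz : m⁻¹ * z * m = z := by
    refine KTwo.eq_of_ne D hρ mz hz (fun h1 => hz1 ?_) hz1
    calc z = m * (m⁻¹ * z * m) * m⁻¹ := by group
      _ = 1 := by rw [h1]; group
  have hX : ∀ x ∈ XG e (rtA a b), m * x * m⁻¹ ∈ XG e (rtA a b) := by
    intro x hx
    by_cases hx1 : x = 1
    · rw [hx1, mul_one, mul_inv_cancel]; exact one_mem _
    · rw [KTwo.eq_of_ne D hρ hx hz hx1 hz1]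
      have h1 : m * z * m⁻¹ = z := by
        calc m * z * m⁻¹ = m * (m⁻¹ * z * m) * m⁻¹ := by rw [hmz]
          _ = z := by group
      rw [h1]; exact hz
  obtain ⟨V, O, -, -⟩ := exists_two cs h hF hn he (t := t) (fun g => (C.Kt _ (heK g)).symm) hab KR hX
    (by rw [mt, ← mul_assoc, C.tt, one_mul]; exact hz) (by rw [mt]; exact fun h => hz1 (mul_eq_left.1 h))
  exact ⟨V, OutBase.base0 D C hρ O⟩

/-- **Existence for `L_{n+1}(2)`, `n ≥ 4`.** -/
theorem hasEx [Finite W] [Finite G] (hF : ∀ x : F, x = 0 ∨ x = 1) (hn : 4 ≤ n)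
    (f : ProjectiveSpecialLinearGroup (Fin (n + 1)) F →* ↥K) (hf : Function.Injective f)
    {T₀ : Subgroup ↥K} {n₀ : Fin n → ↥K}
    (D : Datum (⊤ : Subgroup ↥K) 2 cs h T₀ n₀ (fun x => ((X F x).map (pr n F)).map f))
    {F' : Type*} [Field F'] {e : (Fin n → ℤ) → F' → ↥K} {v : G} : HasEx D e t v := by
  intro ρ T g m z O C
  refine aux (e := K.subtype.comp f) hF hn (K.subtype_injective.comp hf) (fun g => (f g).2) ?_ (OutBase.dm D) C
    O.root O.zX O.z1 O.mt (OfFront.conj_z O.fr.toFr O.mT O.zX O.zT O.mt)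
  funext x
  exact Subgroup.map_map _ _ _

end Cfsg.Agent.OddHalf.D7Out.ExA2

end

-- merged: Cfsg.Agent.OddHalf.D7Out.RowA2
section

/-!
# Node D7 for `K = L_{n+1}(2)`, `n ≥ 4` (helper875)
-/

set_option autoImplicit false
set_option linter.unusedSectionVars false

namespace Cfsg.Agent.OddHalf.D7Out.RowA2

open Cfsg
open Matrix CoxeterSystem Cfsg.Agent.ChevalleyStructure.CoxeterGeom Cfsg.Agent.Tits.Roots Cfsg.Agent.Tits.Core
  Cfsg.Agent.Tits.RootComb Cfsg.Agent.Nodes.Reps Cfsg.Agent.Nodes.BNOf Cfsg.Agent.Nodes.Coroot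
  Cfsg.Agent.Nodes.RootsA Cfsg.Agent.Nodes.RGDTypeA Cfsg.Agent.KFacts Cfsg.Agent.KFacts.SLRow.Def
  Cfsg.Agent.KFacts.SLRow Cfsg.Agent.KFacts.ChevTwo Cfsg.Agent.KFacts.SLRow.Diag Cfsg.Agent.KFacts.SLRow.Row
  Cfsg.Agent.OddHalf.Iface Cfsg.Agent.OddHalf.D7.Cases Cfsg.Agent.OddHalf.Front.FE Cfsg.Agent.Schreier.Basic
open Cfsg.Agent.LieRecognition.BNCox (cA)

universe u

/-- a field with two elements -/
theorem zero_or_one {F : Type*} [Field F] [Finite F] (hF : Nat.card F = 2) (x : F) : x = 0 ∨ x = 1 := by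
  rw [Nat.card_eq_two_iff' (0 : F)] at hF
  obtain ⟨y, -, hy⟩ := hF
  by_cases h0 : x = 0
  · exact Or.inl h0
  · right
    rw [hy x h0, hy 1 one_ne_zero]

/-- **`L_{n+1}(2)`, `n ≥ 4`.** -/
theorem false_of {G : Type u} [Group G] (C : Ctx G) {K : Subgroup G} (S : Std G K) (hcyc : Cyc K) {n : ℕ}
    (hn : 4 ≤ n) (F : Type) [Field F] [Finite F] [CharP F 2] (hF : Nat.card F = 2)
    (f : ProjectiveSpecialLinearGroup (Fin (n + 1)) F ≃* ↥K) (hs : Sch ↥K) : False := by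
  have hfin := C.fin
  have : Fact (Nat.Prime 2) := ⟨Nat.prime_two⟩
  have h2 : ∀ t : F, t + t = 0 := CharTwo.add_self_eq_zero
  have hW : Finite (cA n).Group := finite_W (cA n).toCoxeterSystem (isCartan n)
  have D₀ : Datum (⊤ : Subgroup (ProjectiveSpecialLinearGroup (Fin (n + 1)) F)) 2 (cA n).toCoxeterSystem
      (isCartan n) _ _ _ :=
    ⟨rgd_psl (F := F) (cA n).toCoxeterSystem (isCartan n), le_top, G1_psl_eq_top _ _, Psl.noCent h2 _ _,
      Psl.conn_cA, by simpa only [_root_.Fintype.card_fin] using (show 3 ≤ n by omega), fun i j => (Psl.cA_ne i j).1,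
      fun i j => (Psl.cA_ne i j).2, fun x hx => by rw [Psl.card_X h2 _ _ hx, hF]⟩
  have Sy₀ : Sys D₀.rgd _ := SysA.sys_PSL (cA n).toCoxeterSystem (isCartan n)
  have D := D₀.map f.toMonoidHom f.injective
  have h1 : (⊤ : Subgroup (ProjectiveSpecialLinearGroup (Fin (n + 1)) F)).map f.toMonoidHom = ⊤ :=
    Subgroup.map_top_of_surjective _ f.surjective
  rw [h1] at D
  have Sy := sys_map Sy₀ f.toMonoidHom f.injective D.rgd
  obtain ⟨t, v, hst⟩ := exists_start C S hcyc (D7.StartSL.center_eq_bot D Sy)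
  exact GrSL.false_of_two (commutator_eq_top C) hst hs D Sy (dTwo_A n) (HasPTwo.hasP_path4 D (HasPTwo.path4_A hn))
    (ExA2.hasEx (zero_or_one hF) hn f.toMonoidHom f.injective D)

end Cfsg.Agent.OddHalf.D7Out.RowA2

end

-- merged: Cfsg.Agent.OddHalf.D7.RowL
section

/-!
# Node D7, the family `L_n(q)` (helper158; `q = 2`: `RowA2` of helper875)

`node_L` : `Node @FamL`.
-/

set_option autoImplicit false
set_option linter.unusedSectionVars false

namespace Cfsg.Agent.OddHalf.D7.RowL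

open Cfsg
open Cfsg.Agent.KFacts.SLRow.Row Cfsg.Agent.OddHalf.D7.Cases Cfsg.Agent.OddHalf.D7.StartSL

universe u

/-- **Node D7 for the family `L_n(q)`.** -/
theorem node_L : Node.{u} @FamL.{u} := by
  intro G _ C K S hcyc hK
  have hs := sch_L hK
  obtain ⟨F, i1, i2, a, m, ha, hF, hm, h4, ⟨e⟩⟩ := hK
  have := charTwo_of_card hF
  obtain ⟨n, rfl⟩ : ∃ n, m = n + 1 := ⟨m - 1, by omega⟩
  have hc : Nat.card F = 2 ^ a := by rw [Nat.card_eq_fintype_card, hF]
  rcases Nat.lt_or_ge 1 a with h1 | h1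
  · exact false_of C S hcyc ((isSLC_PSL (by omega) F).of_equiv e.symm) hs
      (RowSL.impossible_big (by rw [hc]; exact RowSL.two_lt_pow h1))
  · obtain rfl : a = 1 := le_antisymm h1 ha
    have hn : 4 ≤ n := by
      rcases Nat.lt_or_ge n 4 with h5 | h5
      · have := h4 (by omega)
        omega
      · exact h5
    exact Cfsg.Agent.OddHalf.D7Out.RowA2.false_of C S hcyc hn F (by rw [hc, pow_one]) e.symm hs

end Cfsg.Agent.OddHalf.D7.RowL

end
end

-- part: OddHalf/Out/Grow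
section
/-!
# Complements to `Doubling/Growth.lean`

Directness of the doubled groups, the same doubled groups for another involution `v`, `W` is a 2-group, the number of
fixed points of a free involution.
-/

set_option autoImplicit false

namespace Cfsg.Agent.OddHalf.Out.Grow

open Cfsg.Agent.Doubling Cfsg.Agent.Doubling.Growth Subgroup

variable {G : Type*} [Group G] {t : G} {V X : ℕ → Subgroup G} {n : ℕ}

theorem comm_of_sq {A : Subgroup G} (h : ∀ v ∈ A, v * v = 1) {a b : G} (ha : a ∈ A) (hb : b ∈ A) :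
    a * b = b * a := by
  have e1 := h (a * b) (mul_mem ha hb)
  have e2 := h a ha
  have e3 := h b hb
  calc a * b = a * ((a * b) * (a * b)) * b := by rw [e1, mul_one]
    _ = (a * a) * (b * a) * (b * b) := by group
    _ = b * a := by rw [e2, e3, one_mul, mul_one]

/-- The doubled groups are independent. -/
theorem disj (h : Growth.Dbl t V X n) {k : ℕ} (hk : k < n) : V k ⊓ Growth.W V k = ⊥ := by
  rw [eq_bot_iff]
  rintro v ⟨hv, hw⟩
  rw [mem_bot]
  have hX : ∀ v ∈ V k, v ∈ Growth.W V k → t * v * t = v → v = 1 := by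
    intro v hv hw hf
    have h3 : v ∈ X k ⊓ Growth.W X k := ⟨h.fix k hk v hv hf, (h.mem_U_iff hk.le).2 ⟨hw, hf⟩⟩
    rw [h.indep k hk] at h3
    exact mem_bot.1 h3
  have hv' := h.conj k hk v hv
  have hw' := h.conj_W hk.le hw
  have e : v * (t * v * t) = 1 := by
    apply hX _ (mul_mem hv hv') (mul_mem hw hw')
    rw [h.conj_mul, h.conj_conj]
    exact comm_of_sq (h.sq k hk) hv' hv
  have e1 : t * v * t = v := by
    have e2 := h.sq k hk v hv
    exact mul_left_cancel (e.trans e2.symm)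
  exact hX v hv hw e1

/-- The same doubled groups for another involution. -/
theorem change (h : Growth.Dbl t V X n) {v : G} (vv : v * v = 1) (conj : ∀ i < n, ∀ w ∈ V i, v * w * v ∈ V i)
    (free : ∀ i < n, ∀ w ∈ V i, v * w * v = w → ∃ c ∈ V i, w = v * c * v * c⁻¹) :
    Growth.Dbl v V (fun i => V i ⊓ centralizer ({v} : Set G)) n := by
  have key : ∀ w : G, v * w * v = w ↔ w * v = v * w := by
    intro w
    constructor
    · intro h1
      calc w * v = v * w * v * v := by rw [h1]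
        _ = v * w * (v * v) := by group
        _ = v * w := by rw [vv, mul_one]
    · intro h1
      rw [mul_assoc, h1, ← mul_assoc, vv, one_mul]
  exact {
    tt := vv
    conj := conj
    sq := h.sq
    fix := fun i hi w hw h1 => ⟨hw, mem_centralizer_singleton_iff.2 ((key w).1 h1)⟩
    X_le := fun i hi => inf_le_left
    X_fix := fun i hi w hw => (key w).2 (mem_centralizer_singleton_iff.1 hw.2)
    free := fun i hi w hw => free i hi w hw.1 ((key w).2 (mem_centralizer_singleton_iff.1 hw.2))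
    comm := h.comm
    indep := fun k hk => by
      rw [eq_bot_iff, ← disj h hk]
      refine inf_le_inf inf_le_left ?_
      exact iSup₂_le fun i hi => le_trans inf_le_left (le_W V hi) }

/-- `W` is a 2-group. -/
theorem isPGroup (h : Growth.Dbl t V X n) {k : ℕ} (hk : k ≤ n) : IsPGroup 2 (Growth.W V k) := by
  induction k with
  | zero =>
    rw [W_zero]
    exact IsPGroup.of_bot
  | succ k ih =>
    rw [W_succ, sup_comm]
    have h1 : IsPGroup 2 (V k) := by
      intro v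
      refine ⟨1, ?_⟩
      apply Subtype.ext
      change (v : G) ^ (2 ^ 1) = 1
      rw [pow_one, pow_two]
      exact h.sq k hk v v.2
    refine IsPGroup.to_sup_of_normal_right' h1 (ih (Nat.le_of_succ_le hk)) ?_
    intro v hv
    rw [mem_normalizer_iff]
    intro w
    refine ⟨fun hw => h.normal le_rfl hk hv hw, fun hw => ?_⟩
    have h2 := h.normal le_rfl hk (inv_mem hv) hw
    have h3 : v⁻¹ * (v * w * v⁻¹) * v⁻¹⁻¹ = w := by group
    rwa [h3] at h2

/-- The fixed points of a free involution. -/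
theorem card_eq_sq [Finite G] {A : Subgroup G} (hA : ∀ a ∈ A, ∀ b ∈ A, a * b = b * a) {v : G} (vv : v * v = 1)
    (conj : ∀ w ∈ A, v * w * v ∈ A) (free : ∀ w ∈ A, v * w * v = w → ∃ c ∈ A, w = v * c * v * c⁻¹)
    (sq : ∀ w ∈ A, w * w = 1) :
    Nat.card A = Nat.card (A ⊓ centralizer ({v} : Set G) : Subgroup G) ^ 2 := by
  have key : ∀ w : G, v * w * v = w ↔ w * v = v * w := by
    intro w
    constructor
    · intro h1
      calc w * v = v * w * v * v := by rw [h1]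
        _ = v * w * (v * v) := by group
        _ = v * w := by rw [vv, mul_one]
    · intro h1
      rw [mul_assoc, h1, ← mul_assoc, vv, one_mul]
  let f : A →* A :=
    { toFun := fun w => ⟨v * w * v * (w : G)⁻¹, mul_mem (conj w w.2) (inv_mem w.2)⟩
      map_one' := Subtype.ext (by
        change v * 1 * v * 1⁻¹ = 1
        rw [mul_one, vv]; group)
      map_mul' := fun a b => Subtype.ext (by
        change v * ((a : G) * b) * v * ((a : G) * b)⁻¹ = v * a * v * (a : G)⁻¹ * (v * b * v * (b : G)⁻¹)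
        have h1 : v * ((a : G) * b) * v = (v * a * v) * (v * b * v) := by
          calc v * ((a : G) * b) * v = v * a * (v * v) * b * v := by rw [vv]; group
            _ = _ := by group
        have h2 := hA _ (inv_mem a.2) _ (mul_mem (conj b b.2) (inv_mem b.2))
        rw [h1, mul_inv_rev]
        calc v * a * v * (v * b * v) * ((b : G)⁻¹ * (a : G)⁻¹)
            = (v * a * v) * ((v * b * v * (b : G)⁻¹) * (a : G)⁻¹) := by group
          _ = (v * a * v) * ((a : G)⁻¹ * (v * b * v * (b : G)⁻¹)) := by rw [h2]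
          _ = _ := by group) }
  have hf : ∀ w : A, ((f w : A) : G) = v * w * v * (w : G)⁻¹ := fun w => rfl
  have hker : Nat.card f.ker = Nat.card (A ⊓ centralizer ({v} : Set G) : Subgroup G) := by
    refine Nat.card_congr ⟨fun w => ⟨w.1.1, w.1.2, mem_centralizer_singleton_iff.2 ?_⟩,
      fun w => ⟨⟨w.1, w.2.1⟩, ?_⟩, fun w => rfl, fun w => rfl⟩
    · have h1 := congrArg Subtype.val (MonoidHom.mem_ker.1 w.2)
      rw [hf] at h1
      exact (key _).1 (mul_inv_eq_one.1 h1)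
    · rw [MonoidHom.mem_ker]
      apply Subtype.ext
      rw [hf]
      exact mul_inv_eq_one.2 ((key _).2 (mem_centralizer_singleton_iff.1 w.2.2))
  have hrange : Nat.card f.range = Nat.card (A ⊓ centralizer ({v} : Set G) : Subgroup G) := by
    refine Nat.card_congr ⟨fun w => ⟨w.1.1, w.1.2, mem_centralizer_singleton_iff.2 ?_⟩,
      fun w => ⟨⟨w.1, w.2.1⟩, ?_⟩, fun w => rfl, fun w => rfl⟩
    · obtain ⟨c, hc⟩ := w.2
      have h1 : (w.1 : G) = v * c * v * (c : G)⁻¹ := by rw [← hc, hf]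
      rw [h1, ← key]
      have h2 := sq _ c.2
      have h3 := sq _ (conj _ c.2)
      have ci : (c : G)⁻¹ = c := inv_eq_of_mul_eq_one_left h2
      rw [ci]
      have h4 := hA _ c.2 _ (conj _ c.2)
      calc v * (v * c * v * (c : G)) * v = (v * v) * c * (v * c * v) := by group
        _ = c * (v * c * v) := by rw [vv, one_mul]
        _ = v * c * v * c := h4
    · obtain ⟨c, hc, hwc⟩ := free w.1 w.2.1 ((key _).2 (mem_centralizer_singleton_iff.1 w.2.2))
      exact ⟨⟨c, hc⟩, Subtype.ext hwc.symm⟩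
  have h1 : Nat.card f.ker * f.ker.index = Nat.card A := card_mul_index _
  rw [index_ker, hrange, hker] at h1
  rw [← h1, pow_two]

end Cfsg.Agent.OddHalf.Out.Grow
end

-- part: OddHalf/D7F4/CCOut
section
-- merged: Cfsg.Agent.OddHalf.D7F4.OutEnm
section

/-!
# Enumerations of the positive roots of `F₄` and the doubled root groups (helper84)

* `Cm`: sequences of subgroups with `[V i, V j] ≤ ⟨V k : k < i⟩` for `i < j`; `Cm.indep_of_card`;
* `Enm`: enumerations of the positive roots compatible with the cones, `Enm.growth`;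
* `canon`: an element of `C_G(t)` permuting the root groups permutes the doubled root groups;
* `free_of_free`: an involution acting freely on `X` acts freely on `W`.
-/

set_option autoImplicit false

namespace Cfsg.Agent.OddHalf.D7F4.OutEnm

open Cfsg.Agent.Doubling Cfsg.Agent.Doubling.Growth Cfsg.Agent.OddHalf.D7F4.TypeC Cfsg.Agent.OddHalf.D7F4.CC Subgroup

variable {G : Type*} [Group G]

/-! ### Sequences -/

/-- `[V i, V j] ≤ ⟨V k : k < i⟩` for `i < j` -/
def Cm (V : ℕ → Subgroup G) (n : ℕ) : Prop :=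
  ∀ i j, i < j → j < n → ∀ v ∈ V i, ∀ w ∈ V j, v * w * v⁻¹ * w⁻¹ ∈ Growth.W V i

namespace Cm

variable {V : ℕ → Subgroup G} {n : ℕ}

theorem normal (h : Cm V n) {k j : ℕ} (hkj : k ≤ j) (hj : j < n) {v w : G} (hv : v ∈ V j)
    (hw : w ∈ Growth.W V k) : v * w * v⁻¹ ∈ Growth.W V k := by
  have hle : Growth.W V k ≤ (Growth.W V k).comap (MulAut.conj v).toMonoidHom := by
    refine iSup₂_le fun i hi u hu => ?_
    show v * u * v⁻¹ ∈ Growth.W V k
    have h1 := h i j (lt_of_lt_of_le hi hkj) hj u hu v hv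
    have h2 := (Growth.W V k).mul_mem ((Growth.W V k).inv_mem (W_mono V hi.le h1)) (le_W V hi hu)
    have h3 : (u * v * u⁻¹ * v⁻¹)⁻¹ * u = v * u * v⁻¹ := by group
    rwa [h3] at h2
  exact hle hw

theorem mem_succ (h : Cm V n) {k : ℕ} (hk : k < n) {w : G} (hw : w ∈ Growth.W V (k + 1)) :
    ∃ u ∈ Growth.W V k, ∃ v ∈ V k, w = u * v := by
  let S : Subgroup G :=
    { carrier := {w | ∃ u ∈ Growth.W V k, ∃ v ∈ V k, w = u * v}
      one_mem' := ⟨1, one_mem _, 1, one_mem _, (mul_one 1).symm⟩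
      mul_mem' := by
        rintro _ _ ⟨u, hu, v, hv, rfl⟩ ⟨u', hu', v', hv', rfl⟩
        exact ⟨u * (v * u' * v⁻¹), mul_mem hu (h.normal le_rfl hk hv hu'), v * v', mul_mem hv hv', by group⟩
      inv_mem' := by
        rintro _ ⟨u, hu, v, hv, rfl⟩
        exact ⟨v⁻¹ * u⁻¹ * v⁻¹⁻¹, h.normal le_rfl hk (inv_mem hv) (inv_mem hu), v⁻¹, inv_mem hv, by group⟩ }
  have hS : Growth.W V (k + 1) ≤ S := by
    rw [W_succ, sup_le_iff]
    exact ⟨fun u hu => ⟨u, hu, 1, one_mem _, (mul_one u).symm⟩, fun v hv => ⟨1, one_mem _, v, hv, (one_mul v).symm⟩⟩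
  exact hS hw

theorem card_le_mul [Finite G] (h : Cm V n) {Q : ℕ} (hQ : ∀ i < n, Nat.card (V i) ≤ Q) {k m : ℕ}
    (hkm : k + m ≤ n) : Nat.card (Growth.W V (k + m)) ≤ Nat.card (Growth.W V k) * Q ^ m := by
  induction m with
  | zero => rw [add_zero, pow_zero, mul_one]
  | succ m ih =>
    have hk : k + m < n := by omega
    have h1 : Nat.card (Growth.W V (k + m + 1)) ≤ Nat.card (Growth.W V (k + m) × V (k + m)) := by
      refine Nat.card_le_card_of_surjective
        (fun z : Growth.W V (k + m) × V (k + m) => (⟨z.1 * z.2, mul_mem (W_mono V (Nat.le_succ _) z.1.2)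
          (le_W V (Nat.lt_succ_self _) z.2.2)⟩ : Growth.W V (k + m + 1))) ?_
      rintro ⟨w, hw⟩
      obtain ⟨u, hu, v, hv, rfl⟩ := h.mem_succ hk hw
      exact ⟨⟨⟨u, hu⟩, ⟨v, hv⟩⟩, rfl⟩
    rw [Nat.card_prod] at h1
    calc Nat.card (Growth.W V (k + (m + 1))) ≤ Nat.card (Growth.W V (k + m)) * Nat.card (V (k + m)) := h1
      _ ≤ (Nat.card (Growth.W V k) * Q ^ m) * Q := Nat.mul_le_mul (ih hk.le) (hQ _ hk)
      _ = _ := by rw [pow_succ]; ring

/-- Independence from the order. -/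
theorem indep_of_card [Finite G] (h : Cm V n) {Q : ℕ} (hQ : ∀ i < n, Nat.card (V i) ≤ Q)
    (hcard : Q ^ n ≤ Nat.card (Growth.W V n)) {k : ℕ} (hk : k < n) : V k ⊓ Growth.W V k = ⊥ := by
  by_contra hne
  obtain ⟨z, hz1⟩ := Subgroup.ne_bot_iff_exists_ne_one.1 hne
  have hQ0 : 0 < Q := lt_of_lt_of_le Nat.card_pos (hQ k hk)
  have h1 : Nat.card (Growth.W V (k + 1)) < Nat.card (Growth.W V k × V k) := by
    set f : Growth.W V k × V k → Growth.W V (k + 1) := fun z => ⟨z.1 * z.2,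
      mul_mem (W_mono V (Nat.le_succ _) z.1.2) (le_W V (Nat.lt_succ_self _) z.2.2)⟩ with hf
    have hs : Function.Surjective f := by
      rintro ⟨w, hw⟩
      obtain ⟨u, hu, v, hv, rfl⟩ := h.mem_succ hk hw
      exact ⟨⟨⟨u, hu⟩, ⟨v, hv⟩⟩, rfl⟩
    have h2 := Nat.card_le_card_of_surjective f hs
    rcases h2.lt_or_eq with h3 | h3
    · exact h3
    · exfalso
      have h4 := (Function.Surjective.bijective_of_nat_card_le hs h3.ge).1
      have h5 : f ⟨1, 1⟩ = f ⟨⟨(z : G)⁻¹, inv_mem z.2.2⟩, ⟨z, z.2.1⟩⟩ := by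
        apply Subtype.ext
        change (1 : G) * 1 = (z : G)⁻¹ * z
        group
      have h6 := h4 h5
      have h7 : (1 : G) = z := congrArg (fun p : Growth.W V k × V k => (p.2 : G)) h6
      exact hz1 (Subtype.ext h7.symm)
  rw [Nat.card_prod] at h1
  obtain ⟨m, rfl⟩ : ∃ m, n = (k + 1) + m := ⟨n - (k + 1), by omega⟩
  have h2 := h.card_le_mul hQ (k := 0) (m := k) (by omega)
  rw [zero_add, W_zero, card_bot, one_mul] at h2
  have h3 := h.card_le_mul hQ (k := k + 1) (m := m) le_rfl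
  have h4 : Nat.card (Growth.W V k) * Nat.card (V k) ≤ Q ^ (k + 1) := by
    rw [pow_succ]
    exact Nat.mul_le_mul h2 (hQ k hk)
  have h5 : Nat.card (Growth.W V (k + 1 + m)) < Q ^ (k + 1) * Q ^ m :=
    lt_of_le_of_lt h3 (Nat.mul_lt_mul_of_pos_right (lt_of_lt_of_le h1 h4) (Nat.pow_pos hQ0))
  rw [← pow_add] at h5
  omega

end Cm

/-- `|W k|` for independent sequences. -/
theorem card_W [Finite G] {V : ℕ → Subgroup G} {n : ℕ} (h : Cm V n) (indep : ∀ k < n, V k ⊓ Growth.W V k = ⊥)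
    {Q : ℕ} (hQ : ∀ i < n, Nat.card (V i) = Q) {k : ℕ} (hk : k ≤ n) : Nat.card (Growth.W V k) = Q ^ k := by
  induction k with
  | zero => rw [W_zero, card_bot, pow_zero]
  | succ k ih =>
    have hk' : k < n := hk
    rw [pow_succ, ← ih hk'.le, ← hQ k hk', ← Nat.card_prod]
    symm
    refine Nat.card_eq_of_bijective (fun z : Growth.W V k × V k => (⟨z.1 * z.2,
      mul_mem (W_mono V (Nat.le_succ _) z.1.2) (le_W V (Nat.lt_succ_self _) z.2.2)⟩ : Growth.W V (k + 1))) ⟨?_, ?_⟩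
    · rintro ⟨⟨u, hu⟩, ⟨v, hv⟩⟩ ⟨⟨u', hu'⟩, ⟨v', hv'⟩⟩ he
      have h1 : u * v = u' * v' := congrArg Subtype.val he
      have h2 : u'⁻¹ * u = v' * v⁻¹ := by
        rw [inv_mul_eq_iff_eq_mul, ← mul_assoc, eq_mul_inv_iff_mul_eq]; exact h1
      have h3 : v' * v⁻¹ ∈ V k ⊓ Growth.W V k := Subgroup.mem_inf.2 ⟨mul_mem hv' (inv_mem hv), by
        rw [← h2]; exact mul_mem (inv_mem hu') hu⟩
      rw [indep k hk', mem_bot] at h3
      have h4 : v' = v := mul_inv_eq_one.1 h3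
      subst h4
      have h5 : u = u' := mul_right_cancel h1
      subst h5
      rfl
    · rintro ⟨w, hw⟩
      obtain ⟨u, hu, v, hv, rfl⟩ := h.mem_succ hk' hw
      exact ⟨⟨⟨u, hu⟩, ⟨v, hv⟩⟩, rfl⟩

/-! ### Enumerations -/

section enm

variable {L : Type*} [AddCommGroup L] {B : L → L → ℤ} {Φ : Set L}

/-- An enumeration of the positive roots: the cone of `l i`, `l j` (`i < j`) lies in `{l k : k < i}`. -/
structure Enm (B : L → L → ℤ) (Φ : Set L) (l : ℕ → L) (n : ℕ) : Prop where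
  mem : ∀ i < n, l i ∈ Φ
  pos : ∀ i < n, ∀ j < n, l i ≠ -(l j)
  up : ∀ i j, i < j → j < n → B (l i) (l j) < 0 → ∀ c, Cn B (l i) (l j) c → ∃ k < i, l k = c

variable {t : G} {X W : L → Subgroup G} {l : ℕ → L} {n : ℕ}

theorem N_le (E : Enm B Φ l n) (V : L → Subgroup G) {i j : ℕ} (hij : i < j) (hj : j < n)
    (hB : B (l i) (l j) < 0) : CC.N B V (l i) (l j) ≤ Growth.W (fun i => V (l i)) i := by
  refine iSup₂_le fun c hc => ?_
  obtain ⟨k, hk, rfl⟩ := E.up i j hij hj hB c hc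
  exact le_W (fun i => V (l i)) hk

theorem Enm.cmX (E : Enm B Φ l n) (h : Hyp t B Φ X W) : Cm (fun i => X (l i)) n := by
  intro i j hij hj v hv w hw
  have hi := hij.trans hj
  rcases lt_or_ge (B (l i) (l j)) 0 with hB | hB
  · exact N_le E X hij hj hB (h.cX (E.mem i hi) (E.mem j hj) hB (E.pos i hi j hj) hv hw)
  · have h1 := h.WX _ (E.mem i hi) _ (E.mem j hj) hB v ((h.isW _ (E.mem i hi)).XW hv) w hw
    have h2 : v * w * v⁻¹ * w⁻¹ = 1 := by rw [h1]; group
    rw [h2]; exact one_mem _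

theorem Enm.cmW [Finite G] (E : Enm B Φ l n) (h : Hyp t B Φ X W) : Cm (fun i => W (l i)) n := by
  intro i j hij hj v hv w hw
  have hi := hij.trans hj
  rcases lt_or_ge (B (l i) (l j)) 0 with hB | hB
  · exact N_le E W hij hj hB (h.cWW (E.mem i hi) (E.mem j hj) hB (E.pos i hi j hj) hv hw)
  · have h1 := h.WW (E.mem i hi) (E.mem j hj) hB hv hw
    have h2 : v * w * v⁻¹ * w⁻¹ = 1 := by rw [h1]; group
    rw [h2]; exact one_mem _

theorem Enm.growth [Finite G] (E : Enm B Φ l n) (h : Hyp t B Φ X W)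
    (indep : ∀ k < n, X (l k) ⊓ Growth.W (fun i => X (l i)) k = ⊥) :
    Growth.Dbl t (fun i => W (l i)) (fun i => X (l i)) n where
  tt := h.tt
  conj := fun i hi v hv => (h.isW _ (E.mem i hi)).conj_mem hv
  sq := fun i hi v hv => (h.isW _ (E.mem i hi)).sq v hv
  fix := fun i hi v hv h1 => by
    refine (h.isW _ (E.mem i hi)).cent v hv ?_
    calc t * v = t * v * (t * t) := by rw [h.tt, mul_one]
      _ = (t * v * t) * t := by group
      _ = v * t := by rw [h1]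
  X_le := fun i hi => (h.isW _ (E.mem i hi)).XW
  X_fix := fun i hi v hv => by
    have h1 := (h.isW _ (E.mem i hi)).tX v hv
    rw [h1, mul_assoc, h.tt, mul_one]
  free := fun i hi v hv => by
    have hI := h.isW _ (E.mem i hi)
    obtain ⟨w, hw, h1⟩ := hI.surj v hv
    have htw := hI.conj_mem hw
    refine ⟨w, hw, ?_⟩
    calc v = v⁻¹ := (hI.inv (hI.XW hv)).symm
      _ = (w⁻¹ * (t * w * t))⁻¹ := by rw [h1]
      _ = (t * w * t)⁻¹ * w := by group
      _ = (t * w * t) * w := by rw [hI.inv htw]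
      _ = t * w * t * w⁻¹ := by rw [hI.inv hw]
  comm := E.cmW h
  indep := indep

/-- **Canonicity**: an element of `C_G(t)` permuting the root groups permutes the doubled root groups. -/
theorem canon (h : Hyp t B Φ X W) {y : G} (yt : t * y = y * t) {π : L → L} (hπ : ∀ a ∈ Φ, π a ∈ Φ)
    (sur : ∀ c ∈ Φ, ∃ f ∈ Φ, π f = c) (sg : ∀ a ∈ Φ, ∀ b ∈ Φ, 0 ≤ B (π a) (π b) → 0 ≤ B a b)
    (act : ∀ a ∈ Φ, ∀ x ∈ X a, y * x * y⁻¹ ∈ X (π a)) (act' : ∀ a ∈ Φ, ∀ x ∈ X (π a), y⁻¹ * x * y ∈ X a)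
    {a : L} (ha : a ∈ Φ) {w : G} (hw : w ∈ W a) : y * w * y⁻¹ ∈ W (π a) := by
  have hI := h.isW a ha
  have hJ := h.isW (π a) (hπ a ha)
  set u := y * w * y⁻¹ with hu
  have hDu : D t u = y * D t w * y⁻¹ := D_conj' yt w
  obtain ⟨w', hw', hDw'⟩ := hJ.surj _ (act a ha _ (hI.brk w hw))
  have hDw : D t w' = y * D t w * y⁻¹ := hDw'
  have hkt := t_comm_of_D_eq h.tt (hDu.trans hDw.symm)
  have hk : ∀ f ∈ Φ, 0 ≤ B f (π a) → ∀ x ∈ X f, (u * w'⁻¹) * x = x * (u * w'⁻¹) := by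
    intro c hc hB x hx
    obtain ⟨f, hf, rfl⟩ := sur c hc
    have c1 : Commute w (y⁻¹ * x * y) := h.WX a ha f hf (by
      rw [h.roots.symm]; exact sg f hf a ha hB) w hw _ (act' f hf x hx)
    have c2 : Commute u x := by
      have h1 : u * x = y * (w * (y⁻¹ * x * y)) * y⁻¹ := by rw [hu]; group
      have h2 : x * u = y * ((y⁻¹ * x * y) * w) * y⁻¹ := by rw [hu]; group
      change u * x = x * u
      rw [h1, h2, c1.eq]
    have c3 : Commute w' x := h.WX (π a) (hπ a ha) (π f) hc (by rw [h.roots.symm]; exact hB) w' hw' x hx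
    exact (c2.mul_left c3.inv_left).eq
  obtain ⟨p, hp, h1⟩ := h.KP (π a) (hπ a ha) _ hkt hk
  have hpW := hJ.XW hp
  rcases h1 with h1 | h1
  · have h2 : u = p * w' := by rw [← h1]; group
    rw [h2]; exact mul_mem hpW hw'
  · -- `u = t p w'`
    have h2 : u = t * (p * w') := by
      calc u = (u * w'⁻¹) * w' := by group
        _ = t * (p * w') := by rw [h1]; group
    have hm : p * w' ∈ W (π a) := mul_mem hpW hw'
    have h3 : u * u = 1 := by
      rw [hu]
      calc y * w * y⁻¹ * (y * w * y⁻¹) = y * (w * w) * y⁻¹ := by group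
        _ = 1 := by rw [hI.sq w hw]; group
    have h4 : t * (p * w') * t * (p * w') = 1 := by
      rw [h2] at h3
      rw [← h3]; group
    have h5 : t * (p * w') * t = p * w' := by
      rw [eq_inv_of_mul_eq_one_left h4, hJ.inv hm]
    have h6 : t * (p * w') = (p * w') * t := by
      calc t * (p * w') = t * (p * w') * (t * t) := by rw [h.tt, mul_one]
        _ = (t * (p * w') * t) * t := by group
        _ = p * w' * t := by rw [h5]
    have h7 : D t u = 1 := by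
      rw [D_eq_one h.tt, h2, ← mul_assoc t, h.tt, one_mul, mul_assoc, ← h6, ← mul_assoc, h.tt, one_mul]
    have h8 : D t w = 1 := by
      rw [hDu] at h7
      have : D t w = y⁻¹ * (y * D t w * y⁻¹) * y := by group
      rw [this, h7]; group
    exact hJ.XW (act a ha w (hI.cent w hw ((D_eq_one h.tt).1 h8)))

end enm

/-- **Freeness.** -/
theorem free_of_free {t : G} (tt : t * t = 1) {X W : Subgroup G} (h : IsW t X W) {v : G} (vt : t * v = v * t)
    (vv : v * v = 1) (vW : ∀ w ∈ W, v * w * v ∈ W)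
    (fX : ∀ x ∈ X, v * x * v = x → ∃ y ∈ X, x = v * y * v * y⁻¹) {w : G} (hw : w ∈ W) (hvw : v * w * v = w) :
    ∃ c ∈ W, w = v * c * v * c⁻¹ := by
  have vi : v⁻¹ = v := inv_eq_of_mul_eq_one_left vv
  have hDv : ∀ z : G, D t (v * z * v) = v * D t z * v := by
    intro z
    have := D_conj' (t := t) (x := v) vt z
    rwa [vi] at this
  have cm : ∀ a b : G, v * (a * b) * v = (v * a * v) * (v * b * v) := by
    intro a b
    calc v * (a * b) * v = v * a * 1 * b * v := by group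
      _ = v * a * (v * v) * b * v := by rw [vv]
      _ = _ := by group
  have cc : ∀ a : G, v * (v * a * v) * v = a := by
    intro a
    calc v * (v * a * v) * v = (v * v) * a * (v * v) := by group
      _ = a := by rw [vv, one_mul, mul_one]
  have ci : ∀ a : G, v * a⁻¹ * v = (v * a * v)⁻¹ := by
    intro a
    rw [mul_inv_rev, mul_inv_rev, vi, mul_assoc]
  have hd : D t w ∈ X := h.brk w hw
  obtain ⟨y, hy, hdy⟩ := fX _ hd (by rw [← hDv, hvw])
  obtain ⟨c, hc, hcy'⟩ := h.surj y hy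
  have hcy : D t c = y := hcy'
  have hcv := vW c hc
  set e := v * c * v * c⁻¹ with he
  have heW : e ∈ W := mul_mem hcv (inv_mem hc)
  have hDe : D t e = D t w := by
    rw [he, D_mul tt, D_inv tt, hDv, hcy, hdy]
    have hyv : v * y * v ∈ X := by
      rw [← hcy, ← hDv]
      exact h.brk _ hcv
    have c1 : c⁻¹⁻¹ * (v * y * v) * c⁻¹ = v * y * v := by
      rw [inv_inv, h.ab hc (h.XW hyv), mul_inv_cancel_right]
    have c2 : c * y⁻¹ * c⁻¹ = y⁻¹ := by
      rw [h.ab hc (inv_mem (h.XW hy)), mul_inv_cancel_right]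
    rw [c1, c2]
  have hev : v * e * v = e := by
    rw [he, cm, cc, ci, h.ab hc (inv_mem hcv)]
    have h1 : v * c * v * c⁻¹ = (v * c * v)⁻¹ * c := by
      rw [h.inv hcv, h.inv hc]
    rw [h1]
  have h1 : e⁻¹ * w ∈ X := by
    refine h.cent _ (mul_mem (inv_mem heW) hw) ?_
    rw [← D_eq_one tt, D_mul tt, D_inv tt, hDe]
    have c1 : w⁻¹ * (e * (D t w)⁻¹ * e⁻¹) * w = (D t w)⁻¹ := by
      have hdi : (D t w)⁻¹ ∈ W := inv_mem (h.XW hd)
      rw [h.ab heW hdi, mul_inv_cancel_right, h.ab (inv_mem hw) hdi, inv_mul_cancel_right]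
    rw [c1, inv_mul_cancel]
  obtain ⟨y', hy', h2⟩ := fX _ h1 (by rw [cm, ci, hev, hvw])
  have hy'W := h.XW hy'
  have hy'v := vW y' hy'W
  refine ⟨c * y', mul_mem hc hy'W, ?_⟩
  have h3 : w = e * (v * y' * v * y'⁻¹) := by rw [← h2]; group
  rw [h3, he, cm, mul_inv_rev]
  calc v * c * v * c⁻¹ * (v * y' * v * y'⁻¹) = v * c * v * (c⁻¹ * (v * y' * v * y'⁻¹)) := by group
    _ = v * c * v * ((v * y' * v * y'⁻¹) * c⁻¹) := by
      rw [h.ab (inv_mem hc) (mul_mem hy'v (inv_mem hy'W))]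
    _ = v * c * v * (v * y' * v) * (y'⁻¹ * c⁻¹) := by group

end Cfsg.Agent.OddHalf.D7F4.OutEnm

end

-- merged: Cfsg.Agent.OddHalf.D7F4.OutModel
section

/-!
# Enumerations of the positive roots of `F₄` (helper84)

`e0`: by decreasing `lv`; `e1`: pairs `{a, dual a}`, the last ones are `(α₂ + 2α₁, α₁ + α₂)`, `(α₂, α₁)`; `e3`: starts with
`ρ`, `σ`, ends with `α₃`.
-/

set_option autoImplicit false

namespace Cfsg.Agent.OddHalf.D7F4.OutModel

open Model TypeC CC OutEnm Cfsg.Agent.Doubling Subgroup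
open Lead (Ab Dir Ab_le Ab_mono ρ σ ρ' σ' α3 α0)

/-! ### The lists -/

def L0 : List (Fin 4 → ℤ) := [![2, 4, 3, 2], ![2, 4, 3, 1], ![2, 4, 2, 1], ![2, 3, 2, 1], ![1, 3, 2, 1], ![2, 2, 2, 1],
  ![2, 2, 1, 1], ![2, 2, 1, 0], ![1, 2, 2, 1], ![1, 2, 1, 1], ![1, 2, 1, 0], ![0, 2, 2, 1], ![0, 2, 1, 1], ![1, 1, 1, 1],
  ![0, 2, 1, 0], ![1, 1, 1, 0], ![1, 1, 0, 0], ![0, 1, 1, 1], ![0, 1, 1, 0], ![0, 1, 0, 0], ![1, 0, 0, 0], ![0, 0, 1, 1],
  ![0, 0, 0, 1], ![0, 0, 1, 0]]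

def L1 : List (Fin 4 → ℤ) := [![2, 4, 3, 2], ![2, 3, 2, 1], ![2, 4, 3, 1], ![1, 3, 2, 1], ![2, 4, 2, 1], ![1, 2, 2, 1],
  ![2, 2, 2, 1], ![1, 2, 1, 1], ![2, 2, 1, 1], ![1, 1, 1, 1], ![2, 2, 1, 0], ![0, 1, 1, 1], ![0, 2, 2, 1], ![1, 2, 1, 0],
  ![0, 2, 1, 1], ![1, 1, 1, 0], ![0, 0, 1, 1], ![1, 1, 0, 0], ![0, 0, 0, 1], ![1, 0, 0, 0], ![0, 2, 1, 0], ![0, 1, 1, 0],
  ![0, 0, 1, 0], ![0, 1, 0, 0]]

def L3 : List (Fin 4 → ℤ) := [![2, 4, 3, 2], ![2, 3, 2, 1], ![1, 3, 2, 1], ![2, 4, 3, 1], ![1, 2, 2, 1], ![2, 4, 2, 1],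
  ![1, 2, 1, 1], ![2, 2, 2, 1], ![1, 2, 1, 0], ![0, 2, 2, 1], ![1, 1, 1, 1], ![2, 2, 1, 1], ![0, 1, 1, 1], ![2, 2, 1, 0],
  ![1, 1, 1, 0], ![0, 2, 1, 1], ![0, 1, 1, 0], ![0, 2, 1, 0], ![1, 1, 0, 0], ![0, 0, 1, 1], ![0, 1, 0, 0], ![0, 0, 1, 0],
  ![1, 0, 0, 0], ![0, 0, 0, 1]]

/-- the `i`-th element -/
def en (l : List (Fin 4 → ℤ)) (i : ℕ) : Fin 4 → ℤ := l.getD i 0

/-- the combinatorial condition -/
def Ok (l : List (Fin 4 → ℤ)) : Prop :=
  (∀ i ∈ List.range 24, en l i ∈ rts ∧ 0 < lv (en l i)) ∧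
  (∀ a ∈ rts, 0 < lv a → ∃ i ∈ List.range 24, en l i = a) ∧
  ∀ j ∈ List.range 24, ∀ i ∈ List.range j, B (en l i) (en l j) < 0 →
    (∃ k ∈ List.range i, en l k = en l i + en l j) ∧
    (B (en l i) (en l i) = 4 → B (en l j) (en l j) = 2 → ∃ k ∈ List.range i, en l k = en l i + en l j + en l j) ∧
    (B (en l i) (en l i) = 2 → B (en l j) (en l j) = 4 → ∃ k ∈ List.range i, en l k = en l j + en l i + en l i)

instance (l : List (Fin 4 → ℤ)) : Decidable (Ok l) := by unfold Ok; infer_instance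

theorem ok0 : Ok L0 := by (delta Cfsg.Agent.OddHalf.D7F4.OutModel.Ok Cfsg.Agent.OddHalf.D7F4.Model.lv Cfsg.Agent.OddHalf.D7F4.Model.B; set_option synthInstance.maxSize 100000 in exact Cfsg.Agent.Lib.Refl.of (by decide +kernel))
theorem ok1 : Ok L1 := by (delta Cfsg.Agent.OddHalf.D7F4.OutModel.Ok Cfsg.Agent.OddHalf.D7F4.Model.lv Cfsg.Agent.OddHalf.D7F4.Model.B; set_option synthInstance.maxSize 100000 in exact Cfsg.Agent.Lib.Refl.of (by decide +kernel))
theorem ok3 : Ok L3 := by (delta Cfsg.Agent.OddHalf.D7F4.OutModel.Ok Cfsg.Agent.OddHalf.D7F4.Model.lv Cfsg.Agent.OddHalf.D7F4.Model.B; set_option synthInstance.maxSize 100000 in exact Cfsg.Agent.Lib.Refl.of (by decide +kernel))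

theorem dec0 : ∀ j ∈ List.range 24, ∀ i ∈ List.range j, lv (en L0 j) < lv (en L0 i) := by decide +kernel

theorem enm {l : List (Fin 4 → ℤ)} (h : Ok l) : Enm B Phi (en l) 24 where
  mem i hi := (h.1 i (List.mem_range.2 hi)).1
  pos i hi j hj := Lead.pos_ne_neg (h.1 i (List.mem_range.2 hi)).2 (h.1 j (List.mem_range.2 hj)).2
  up i j hij hj hB c hc := by
    obtain ⟨⟨k, hk, h1⟩, h2, h3⟩ := h.2.2 j (List.mem_range.2 hj) i (List.mem_range.2 hij) hB
    rcases hc with rfl | ⟨k1, k2, rfl⟩ | ⟨k1, k2, rfl⟩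
    · exact ⟨k, List.mem_range.1 hk, h1⟩
    · obtain ⟨k, hk, h4⟩ := h2 k1 k2
      exact ⟨k, List.mem_range.1 hk, h4⟩
    · obtain ⟨k, hk, h4⟩ := h3 k1 k2
      exact ⟨k, List.mem_range.1 hk, h4⟩

variable {G : Type*} [Group G] {t : G} {X W : (Fin 4 → ℤ) → Subgroup G}

theorem W_eq {l : List (Fin 4 → ℤ)} (h : Ok l) (V : (Fin 4 → ℤ) → Subgroup G) :
    Growth.W (fun i => V (en l i)) 24 = Ab V 0 := by
  apply le_antisymm
  · exact iSup₂_le fun i hi => Lead.le_Ab (h.1 i (List.mem_range.2 hi)).1 (h.1 i (List.mem_range.2 hi)).2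
  · refine Ab_le fun a ha ha0 => ?_
    obtain ⟨i, hi, rfl⟩ := h.2.1 a ha ha0
    exact Growth.le_W (fun i => V (en l i)) (List.mem_range.1 hi)

/-- the cardinality of `U` -/
theorem card_U [Finite G] (h : CC.Hyp t B Phi X W) (hD : Dir X) {q : ℕ} (hq : ∀ a ∈ rts, Nat.card (X a) = q) :
    Nat.card (Ab X 0) = q ^ 24 := by
  have E := enm ok0
  rw [← W_eq ok0 X]
  refine card_W (E.cmX h) (fun k hk => ?_) (fun i hi => hq _ (E.mem i hi)) le_rfl
  rw [eq_bot_iff]
  rintro x ⟨hx, hx'⟩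
  rw [mem_bot]
  have hk' := ok0.1 k (List.mem_range.2 hk)
  refine hD _ hk'.1 hk'.2 x hx ?_
  have hle : Growth.W (fun i => X (en L0 i)) k ≤ Ab X (lv (en L0 k)) := by
    refine iSup₂_le fun i hi => ?_
    exact Lead.le_Ab (ok0.1 i (List.mem_range.2 (hi.trans hk))).1
      (dec0 k (List.mem_range.2 hk) i (List.mem_range.2 hi))
  exact hle hx'

/-- independence for every enumeration -/
theorem indep [Finite G] (h : CC.Hyp t B Phi X W) (hD : Dir X) {q : ℕ} (hq : ∀ a ∈ rts, Nat.card (X a) = q)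
    {l : List (Fin 4 → ℤ)} (hl : Ok l) : ∀ k < 24, X (en l k) ⊓ Growth.W (fun i => X (en l i)) k = ⊥ := by
  intro k hk
  have E := enm hl
  refine (E.cmX h).indep_of_card (Q := q) (fun i hi => (hq _ (E.mem i hi)).le) ?_ hk
  rw [W_eq hl, card_U h hD hq]

/-- **Growth** -/
theorem dbl [Finite G] (h : CC.Hyp t B Phi X W) (hD : Dir X) {q : ℕ} (hq : ∀ a ∈ rts, Nat.card (X a) = q)
    {l : List (Fin 4 → ℤ)} (hl : Ok l) :
    Growth.Dbl t (fun i => W (en l i)) (fun i => X (en l i)) 24 :=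
  (enm hl).growth h (indep h hD hq hl)

/-- `|W a| = |X a|²` -/
theorem card_W_eq [Finite G] {t : G} (tt : t * t = 1) {X W : Subgroup G} (h : IsW t X W) :
    Nat.card W = Nat.card X ^ 2 := by
  have key : ∀ w : G, t * w * t = w ↔ t * w = w * t := by
    intro w
    constructor
    · intro h1
      calc t * w = t * w * (t * t) := by rw [tt, mul_one]
        _ = (t * w * t) * t := by group
        _ = w * t := by rw [h1]
    · intro h1
      rw [h1, mul_assoc, tt, mul_one]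
  have h1 := Out.Grow.card_eq_sq (v := t) (A := W) (fun a ha b hb => h.ab ha hb) tt (fun w hw => h.conj_mem hw)
    (fun w hw hwt => by
      obtain ⟨c, hc, he⟩ := h.surj w (h.cent w hw ((key w).1 hwt))
      refine ⟨c, hc, ?_⟩
      have hwi := h.inv hw
      calc w = w⁻¹ := hwi.symm
        _ = (c⁻¹ * (t * c * t))⁻¹ := by rw [he]
        _ = (t * c * t)⁻¹ * c := by group
        _ = (t * c * t) * c := by rw [h.inv (h.conj_mem hc)]
        _ = t * c * t * c⁻¹ := by rw [h.inv hc]) h.sq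
  have h2 : W ⊓ centralizer ({t} : Set G) = X := by
    ext w
    constructor
    · rintro ⟨hw, hw'⟩
      exact h.cent w hw (mem_centralizer_singleton_iff.1 hw').symm
    · intro hw
      exact ⟨h.XW hw, mem_centralizer_singleton_iff.2 (h.tX w hw).symm⟩
  rw [h1, h2]

/-- `|U*| = q⁴⁸` -/
theorem card_Us [Finite G] (h : CC.Hyp t B Phi X W) (hD : Dir X) {q : ℕ} (hq : ∀ a ∈ rts, Nat.card (X a) = q) :
    Nat.card (Ab W 0) = (q ^ 2) ^ 24 := by
  have D := dbl h hD hq ok0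
  rw [← W_eq ok0 W]
  refine card_W ((enm ok0).cmW h) (fun k hk => Out.Grow.disj D hk) (fun i hi => ?_) le_rfl
  rw [card_W_eq h.tt (h.isW _ ((enm ok0).mem i hi)), hq _ ((enm ok0).mem i hi)]

theorem Us2 [Finite G] (h : CC.Hyp t B Phi X W) (hD : Dir X) {q : ℕ} (hq : ∀ a ∈ rts, Nat.card (X a) = q) :
    IsPGroup 2 (Ab W 0) := by
  rw [← W_eq ok0 W]
  exact Out.Grow.isPGroup (dbl h hD hq ok0) le_rfl

theorem mem_U_iff [Finite G] (h : CC.Hyp t B Phi X W) (hD : Dir X) {q : ℕ} (hq : ∀ a ∈ rts, Nat.card (X a) = q)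
    {w : G} : w ∈ Ab X 0 ↔ w ∈ Ab W 0 ∧ w * t = t * w := by
  have D := dbl h hD hq ok0
  rw [← W_eq ok0 W, ← W_eq ok0 X, D.mem_U_iff le_rfl]
  refine and_congr_right fun _ => ?_
  constructor
  · intro h1
    calc w * t = t * w * t * t := by rw [h1]
      _ = t * w * (t * t) := by group
      _ = t * w := by rw [h.tt, mul_one]
  · intro h1
    rw [mul_assoc, h1, ← mul_assoc, h.tt, one_mul]

/-- involutions of `t U*` are conjugate to `t` -/
theorem conj_t [Finite G] (h : CC.Hyp t B Phi X W) (hD : Dir X) {q : ℕ} (hq : ∀ a ∈ rts, Nat.card (X a) = q)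
    {w : G} (hw : w ∈ Ab W 0) (hww : t * w * (t * w) = 1) : ∃ a ∈ Ab W 0, t * w = a * t * a⁻¹ := by
  have D := dbl h hD hq ok0
  rw [← W_eq ok0 W] at hw ⊢
  exact D.exists_conj hw hww

/-- `W ρ`, `W σ` are central in `U*` -/
theorem central [Finite G] (h : CC.Hyp t B Phi X W) {z w : G} (hz : z ∈ W ρ ⊔ W σ) (hw : w ∈ Ab W 0) :
    z * w = w * z := by
  have hle : W ρ ⊔ W σ ≤ centralizer ((Ab W 0 : Subgroup G) : Set G) := by
    have key : ∀ r ∈ rts, (∀ a ∈ rts, 0 < lv a → 0 ≤ B r a) → W r ≤ centralizer ((Ab W 0 : Subgroup G) : Set G) := by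
      intro r hr hB z hz
      rw [mem_centralizer_iff]
      intro w hw
      have h1 : Ab W 0 ≤ centralizer ({z} : Set G) := Ab_le fun a ha ha0 u hu =>
        mem_centralizer_singleton_iff.2 (h.WW hr ha (hB a ha ha0) hz hu).symm
      exact mem_centralizer_singleton_iff.1 (h1 hw)
    exact sup_le (key ρ Lead.ρ_mem fun a ha ha0 => (Lead.dom a ha ha0).1)
      (key σ Lead.σ_mem fun a ha ha0 => (Lead.dom a ha ha0).2)
  exact (mem_centralizer_iff.1 (hle hz) w hw).symm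

end Cfsg.Agent.OddHalf.D7F4.OutModel

end

-- merged: Cfsg.Agent.OddHalf.Out.Graph
section

/-!
# Involutions of graph type (ODD D7, `K = F₄(q)`, `q = 2^k`, `k` odd; helper84, bb ODD 11098 §4)

`s ∈ T` is an involution acting on `K` as a graph automorphism, `W₁` a doubled long simple root group, `W₂ = W₁ ^ s` the
doubled short simple root group at `135°`, `N` the third (long) doubled root group of the `B₂`, `W₃` the short one.

* `GP.main`: for `v = s` or for `v = t s` no `1 ≠ w ∈ W₁` has `[w, w^v] ∈ N`;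
* `transport`, `excludedG`: `v` is not conjugate to `t` (in the sense of `Exclude.excluded`) if `U` is generated by
  involutions and `C_{U*}(v)` is not.
-/

set_option autoImplicit false

namespace Cfsg.Agent.OddHalf.Out.Graph

open Subgroup Exclude

variable {G : Type*} [Group G]

/-- the commutator `a b a⁻¹ b⁻¹` -/
def br (a b : G) : G := a * b * a⁻¹ * b⁻¹

/-- A `B₂` with a graph involution. -/
structure GP {F : Type*} [Field F] (t s : G) (θ : F →+* F) (x1 x2 x3 : F → G) (W1 W2 W3 N : Subgroup G) : Prop where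
  tt : t * t = 1
  ss : s * s = 1
  st : s * t = t * s
  /-- the long simple root -/
  add1 : ∀ a b, x1 (a + b) = x1 a * x1 b
  mem1 : ∀ a, x1 a ∈ W1
  ab1 : ∀ a ∈ W1, ∀ b ∈ W1, a * b = b * a
  ht1 : ∀ w ∈ W1, ∃ a, t * w * t = w * x1 a
  fix1 : ∀ w ∈ W1, t * w * t = w → ∃ a, w = x1 a
  tx1 : ∀ a, t * x1 a * t = x1 a
  /-- the short simple root -/
  add2 : ∀ a b, x2 (a + b) = x2 a * x2 b
  sW : ∀ w ∈ W1, s * w * s ∈ W2
  sx : ∀ a, s * x1 a * s = x2 (θ a)
  /-- the third root -/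
  add3 : ∀ a b, x3 (a + b) = x3 a * x3 b
  inj3 : ∀ a, x3 a ∈ N → a = 0
  mem3 : ∀ a, x3 a ∈ W3
  rel : ∀ a b, (x3 (a * b))⁻¹ * br (x1 a) (x2 b) ∈ N
  brm : ∀ w ∈ W1, ∀ v ∈ W2, br w v ∈ W3 ⊔ N
  c13 : ∀ w ∈ W1, ∀ y ∈ W3 ⊔ N, w * y = y * w
  c23 : ∀ w ∈ W2, ∀ y ∈ W3 ⊔ N, w * y = y * w
  c33 : ∀ w ∈ W3 ⊔ N, ∀ y ∈ W3 ⊔ N, w * y = y * w
  tN : ∀ y ∈ N, t * y * t ∈ N
  /-- `2 θ² = 1` -/
  two : ∀ a, θ (θ a) * θ (θ a) = a
  /-- the torus -/
  tor : ∀ c : F, c ≠ 0 → ∃ h : G, h * t = t * h ∧ h * s = s * h ∧ (∀ w ∈ W1, h * w * h⁻¹ ∈ W1) ∧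
    (∀ y ∈ N, h * y * h⁻¹ ∈ N) ∧ ∀ a, h * x1 a * h⁻¹ = x1 (c * a)

namespace GP

variable {F : Type*} [Field F] {t s : G} {θ : F →+* F} {x1 x2 x3 : F → G} {W1 W2 W3 N : Subgroup G}

theorem conj_br (z a b : G) : z * br a b * z⁻¹ = br (z * a * z⁻¹) (z * b * z⁻¹) := by
  unfold br; group

theorem t_inv (P : GP t s θ x1 x2 x3 W1 W2 W3 N) : t⁻¹ = t := inv_eq_of_mul_eq_one_left P.tt

theorem s_inv (P : GP t s θ x1 x2 x3 W1 W2 W3 N) : s⁻¹ = s := inv_eq_of_mul_eq_one_left P.ss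

theorem mul_left (P : GP t s θ x1 x2 x3 W1 W2 W3 N) {a a' v : G} (ha : a ∈ W1) (ha' : a' ∈ W1) (hv : v ∈ W2) :
    br (a * a') v = br a v * br a' v := by
  have h1 : br (a * a') v = a * br a' v * a⁻¹ * br a v := by unfold br; group
  have h2 := P.c13 a ha _ (P.brm a' ha' v hv)
  have h3 := P.c33 _ (P.brm a ha v hv) _ (P.brm a' ha' v hv)
  rw [h1, h2, mul_inv_cancel_right, h3]

theorem mul_right (P : GP t s θ x1 x2 x3 W1 W2 W3 N) {a v v' : G} (ha : a ∈ W1) (hv : v ∈ W2) (hv' : v' ∈ W2) :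
    br a (v * v') = br a v * br a v' := by
  have h1 : br a (v * v') = br a v * (v * br a v' * v⁻¹) := by unfold br; group
  have h2 := P.c23 v hv _ (P.brm a ha v' hv')
  rw [h1, h2, mul_inv_cancel_right]

theorem mem2 (P : GP t s θ x1 x2 x3 W1 W2 W3 N) (h2 : ∀ b, ∃ a, θ a = b) (b : F) : x2 b ∈ W2 := by
  obtain ⟨a, rfl⟩ := h2 b
  rw [← P.sx]
  exact P.sW _ (P.mem1 a)

theorem surj (P : GP t s θ x1 x2 x3 W1 W2 W3 N) (b : F) : ∃ a, θ a = b := by
  refine ⟨θ (b * b), ?_⟩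
  have h1 := P.two b
  rw [map_mul, map_mul]
  exact h1

theorem mem2' (P : GP t s θ x1 x2 x3 W1 W2 W3 N) (b : F) : x2 b ∈ W2 := P.mem2 P.surj b

theorem x_zero1 (P : GP t s θ x1 x2 x3 W1 W2 W3 N) : x1 0 = 1 := by
  have h := P.add1 0 0
  rw [add_zero] at h
  exact (left_eq_mul.1 h)

/-- `[w, w^v] ∉ N` for `1 ≠ w ∈ X₁`. -/
theorem of_fix (P : GP t s θ x1 x2 x3 W1 W2 W3 N) {a : F} (h : br (x1 a) (x2 (θ a)) ∈ N) : a = 0 := by
  have h1 := P.rel a (θ a)
  have h2 : x3 (a * θ a) ∈ N := by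
    have h3 : x3 (a * θ a) = br (x1 a) (x2 (θ a)) * ((x3 (a * θ a))⁻¹ * br (x1 a) (x2 (θ a)))⁻¹ := by group
    rw [h3]
    exact N.mul_mem h (N.inv_mem h1)
  have h3 := P.inj3 _ h2
  rcases mul_eq_zero.1 h3 with h4 | h4
  · exact h4
  · exact (map_eq_zero θ).1 h4

/-- **For `v = s` or for `v = t s` no `1 ≠ w ∈ W₁` has `[w, w^v] ∈ N`.** -/
theorem main (P : GP t s θ x1 x2 x3 W1 W2 W3 N) :
    (∀ w ∈ W1, br w (s * w * s) ∈ N → w = 1) ∨ ∀ w ∈ W1, br w (t * s * w * (t * s)⁻¹) ∈ N → w = 1 := by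
  by_contra hcon
  push Not at hcon
  obtain ⟨⟨w, hw, hwN, hw1⟩, w', hw', hwN', hw1'⟩ := hcon
  have hti := P.t_inv
  have hsi := P.s_inv
  -- heights
  obtain ⟨c, hc⟩ := P.ht1 w hw
  obtain ⟨c', hc'⟩ := P.ht1 w' hw'
  have hc0 : c ≠ 0 := by
    rintro rfl
    rw [P.x_zero1, mul_one] at hc
    obtain ⟨a, rfl⟩ := P.fix1 w hw hc
    rw [P.sx] at hwN
    rw [P.of_fix hwN, P.x_zero1] at hw1
    exact hw1 rfl
  have hts : ∀ w : G, t * s * w * (t * s)⁻¹ = s * (t * w * t) * s := by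
    intro w
    rw [mul_inv_rev, hti, hsi, ← P.st]
    calc s * t * w * (s * t) = s * t * w * (t * s) := by rw [P.st]
      _ = s * (t * w * t) * s := by group
  have hc0' : c' ≠ 0 := by
    rintro rfl
    rw [P.x_zero1, mul_one] at hc'
    obtain ⟨a, rfl⟩ := P.fix1 w' hw' hc'
    rw [hts, hc', P.sx] at hwN'
    rw [P.of_fix hwN', P.x_zero1] at hw1'
    exact hw1' rfl
  -- normalise `c = 1`
  obtain ⟨h, hht, hhs, hhW, hhN, hhx⟩ := P.tor c⁻¹ (inv_ne_zero hc0)
  obtain ⟨k, hkt, hks, hkW, hkN, hkx⟩ := P.tor c'⁻¹ (inv_ne_zero hc0')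
  set u : G := h * w * h⁻¹ with hu
  set u' : G := k * w' * k⁻¹ with hu'
  have conj_t : ∀ {h x : G}, h * t = t * h → t * (h * x * h⁻¹) * t = h * (t * x * t) * h⁻¹ := by
    intro h x hh
    have h2 : h⁻¹ * t = t * h⁻¹ := by rw [inv_mul_eq_iff_eq_mul, ← mul_assoc, hh, mul_inv_cancel_right]
    calc t * (h * x * h⁻¹) * t = (t * h) * x * (h⁻¹ * t) := by group
      _ = h * (t * x * t) * h⁻¹ := by rw [← hh, h2]; group
  have conj_s : ∀ {h x : G}, h * s = s * h → s * (h * x * h⁻¹) * s = h * (s * x * s) * h⁻¹ := by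
    intro h x hh
    have h2 : h⁻¹ * s = s * h⁻¹ := by rw [inv_mul_eq_iff_eq_mul, ← mul_assoc, hh, mul_inv_cancel_right]
    calc s * (h * x * h⁻¹) * s = (s * h) * x * (h⁻¹ * s) := by group
      _ = h * (s * x * s) * h⁻¹ := by rw [← hh, h2]; group
  have huW : u ∈ W1 := hhW w hw
  have hu'W : u' ∈ W1 := hkW w' hw'
  have htu : t * u * t = u * x1 1 := by
    rw [hu, conj_t hht, hc]
    calc h * (w * x1 c) * h⁻¹ = (h * w * h⁻¹) * (h * x1 c * h⁻¹) := by group
      _ = h * w * h⁻¹ * x1 1 := by rw [hhx, inv_mul_cancel₀ hc0]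
  have htu' : t * u' * t = u' * x1 1 := by
    rw [hu', conj_t hkt, hc']
    calc k * (w' * x1 c') * k⁻¹ = (k * w' * k⁻¹) * (k * x1 c' * k⁻¹) := by group
      _ = k * w' * k⁻¹ * x1 1 := by rw [hkx, inv_mul_cancel₀ hc0']
  have huN : br u (s * u * s) ∈ N := by
    have h1 := hhN _ hwN
    rw [conj_br] at h1
    rwa [hu, conj_s hhs]
  have hu'N : br u' (s * (u' * x1 1) * s) ∈ N := by
    rw [← htu']
    have h1 := hkN _ hwN'
    rw [conj_br, hts] at h1
    have h2 : k * (s * (t * w' * t) * s) * k⁻¹ = s * (t * u' * t) * s := by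
      rw [hu', conj_t hkt, ← conj_s hks]
    rwa [h2] at h1
  -- `u' = u x₁(d)`
  obtain ⟨d, hd⟩ : ∃ d, u⁻¹ * u' = x1 d := by
    apply P.fix1 _ (W1.mul_mem (W1.inv_mem huW) hu'W)
    have e0 : t * u⁻¹ * t = (t * u * t)⁻¹ := by
      calc t * u⁻¹ * t = t⁻¹ * u⁻¹ * t⁻¹ := by rw [hti]
        _ = (t * u * t)⁻¹ := by group
    calc t * (u⁻¹ * u') * t = (t * u⁻¹ * t) * (t * t)⁻¹ * (t * u' * t) := by group
      _ = (t * u⁻¹ * t) * (t * u' * t) := by rw [P.tt]; group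
      _ = (t * u * t)⁻¹ * (t * u' * t) := by rw [e0]
      _ = (u * x1 1)⁻¹ * (u' * x1 1) := by rw [htu, htu']
      _ = (x1 1)⁻¹ * (u⁻¹ * u') * x1 1 := by group
      _ = u⁻¹ * u' := by
        rw [P.ab1 _ (W1.inv_mem (P.mem1 1)) _ (W1.mul_mem (W1.inv_mem huW) hu'W), inv_mul_cancel_right]
  have hd' : u' = u * x1 d := by rw [← hd]; group
  set y : G := s * u * s with hy
  have hyW : y ∈ W2 := P.sW u huW
  set e : F := θ d + 1 with he
  have hs1 : s * (u' * x1 1) * s = y * x2 e := by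
    rw [hd', hy, he, P.add2, ← P.sx]
    have h1 : x2 1 = s * x1 1 * s := by rw [P.sx, map_one]
    rw [h1]
    calc s * (u * x1 d * x1 1) * s = s * u * (x1 d * x1 1) * s := by group
      _ = s * u * (s * s) * x1 d * (s * s) * x1 1 * s := by rw [P.ss]; group
      _ = s * u * s * (s * x1 d * s * (s * x1 1 * s)) := by group
  have hxeW : x2 e ∈ W2 := P.mem2' e
  -- the four terms
  have h4 : br u (x2 e) * br (x1 d) y * br (x1 d) (x2 e) ∈ N := by
    rw [hs1, hd', P.mul_left huW (P.mem1 d) (W2.mul_mem hyW hxeW), P.mul_right huW hyW hxeW,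
      P.mul_right (P.mem1 d) hyW hxeW] at hu'N
    have h5 := N.mul_mem (N.inv_mem huN) hu'N
    have h6 : (br u y)⁻¹ * (br u y * br u (x2 e) * (br (x1 d) y * br (x1 d) (x2 e))) =
        br u (x2 e) * br (x1 d) y * br (x1 d) (x2 e) := by group
    rwa [h6] at h5
  -- apply `t`
  have hconj : ∀ a b : G, t * br a b * t = br (t * a * t) (t * b * t) := by
    intro a b
    have := conj_br t a b
    rwa [hti] at this
  have htx2 : ∀ b, t * x2 b * t = x2 b := by
    intro b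
    obtain ⟨a, rfl⟩ := P.surj b
    rw [← P.sx]
    calc t * (s * x1 a * s) * t = (t * s) * x1 a * (s * t) := by group
      _ = (s * t) * x1 a * (t * s) := by rw [P.st]
      _ = s * (t * x1 a * t) * s := by group
      _ = s * x1 a * s := by rw [P.tx1]
  have hty : t * y * t = y * x2 1 := by
    have h1 : x2 1 = s * x1 1 * s := by rw [P.sx, map_one]
    rw [h1, hy]
    calc t * (s * u * s) * t = (t * s) * u * (s * t) := by group
      _ = (s * t) * u * (t * s) := by rw [P.st]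
      _ = s * (t * u * t) * s := by group
      _ = s * (u * x1 1) * s := by rw [htu]
      _ = s * u * (s * s) * x1 1 * s := by rw [P.ss]; group
      _ = s * u * s * (s * x1 1 * s) := by group
  have h5 := P.tN _ h4
  have h6 : t * (br u (x2 e) * br (x1 d) y * br (x1 d) (x2 e)) * t =
      (t * br u (x2 e) * t) * (t * br (x1 d) y * t) * (t * br (x1 d) (x2 e) * t) := by
    calc t * (br u (x2 e) * br (x1 d) y * br (x1 d) (x2 e)) * t
        = t * br u (x2 e) * 1 * br (x1 d) y * 1 * br (x1 d) (x2 e) * t := by group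
      _ = t * br u (x2 e) * (t * t) * br (x1 d) y * (t * t) * br (x1 d) (x2 e) * t := by rw [P.tt]
      _ = _ := by group
  rw [h6, hconj, hconj, hconj, htu, htx2, P.tx1, hty, P.mul_left huW (P.mem1 1) hxeW,
    P.mul_right (P.mem1 d) hyW (P.mem2' 1)] at h5
  -- the quotient
  set A : G := br u (x2 e)
  set B : G := br (x1 d) y
  set C : G := br (x1 d) (x2 e)
  set D : G := br (x1 1) (x2 e) with hD
  set E : G := br (x1 d) (x2 1) with hE
  have hA : A ∈ W3 ⊔ N := P.brm _ huW _ hxeW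
  have hB : B ∈ W3 ⊔ N := P.brm _ (P.mem1 d) _ hyW
  have hDm : D ∈ W3 ⊔ N := P.brm _ (P.mem1 1) _ hxeW
  have hEm : E ∈ W3 ⊔ N := P.brm _ (P.mem1 d) _ (P.mem2' 1)
  have h7 : D * E ∈ N := by
    have h8 : A * D * (B * E) * C = (D * E) * (A * B * C) := by
      have c1 := P.c33 A hA D hDm
      have c2 := P.c33 B hB E hEm
      have c3 := P.c33 A hA E hEm
      calc A * D * (B * E) * C = (A * D) * (B * E) * C := by group
        _ = (D * A) * (E * B) * C := by rw [c1, c2]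
        _ = D * (A * E) * (B * C) := by group
        _ = D * (E * A) * (B * C) := by rw [c3]
        _ = (D * E) * (A * B * C) := by group
    rw [h8] at h5
    have h9 := N.mul_mem h5 (N.inv_mem h4)
    rwa [mul_inv_cancel_right] at h9
  have h8 : x3 (e + d) ∈ N := by
    have k1 := P.rel 1 e
    have k2 := P.rel d 1
    rw [one_mul] at k1
    rw [mul_one] at k2
    have k3 : x3 (e + d) = D * E * ((x3 d)⁻¹ * E)⁻¹ * (E * ((x3 e)⁻¹ * D) * E⁻¹)⁻¹ *
        1 := by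
      have c1 : (x3 e)⁻¹ * D ∈ W3 ⊔ N := mem_sup_right k1
      have c2 := P.c33 E hEm _ c1
      rw [c2, mul_inv_cancel_right, P.add3, mul_one]
      have c3 := P.c33 _ (mem_sup_left (P.mem3 d)) _ (Subgroup.inv_mem _ c1)
      calc x3 e * x3 d = D * ((x3 e)⁻¹ * D)⁻¹ * x3 d := by group
        _ = D * (((x3 e)⁻¹ * D)⁻¹ * x3 d) := by group
        _ = D * (x3 d * ((x3 e)⁻¹ * D)⁻¹) := by rw [c3]
        _ = D * E * ((x3 d)⁻¹ * E)⁻¹ * ((x3 e)⁻¹ * D)⁻¹ := by group
    rw [k3, mul_one]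
    refine N.mul_mem (N.mul_mem h7 (N.inv_mem k2)) (N.inv_mem ?_)
    rw [P.c33 E hEm _ (mem_sup_right k1), mul_inv_cancel_right]
    exact k1
  have h9 := P.inj3 _ h8
  -- `θ d = d + 1`
  have h2 : (2 : F) = 0 := by
    have k1 := P.two 2
    have k2 : θ (θ (2 : F)) = 2 := by rw [map_ofNat, map_ofNat]
    rw [k2] at k1
    have k3 : (2 : F) * (2 - 1) = 0 := by
      rw [mul_sub, k1, mul_one, sub_self]
    rcases mul_eq_zero.1 k3 with k4 | k4
    · exact k4
    · exfalso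
      have k5 : (1 : F) = 0 := by
        have : (2 : F) - 1 = 1 := by norm_num
        rw [← this]; exact k4
      exact one_ne_zero k5
  have h10 : θ d = d + 1 := by
    rw [he] at h9
    have : θ d = θ d + 1 + d - (d + 1) := by ring
    rw [this, h9, zero_sub]
    have k1 : (d + 1) * 2 = 0 := by rw [h2, mul_zero]
    have : -(d + 1) = d + 1 - (d + 1) * 2 := by ring
    rw [this, k1, sub_zero]
  have h11 : θ (θ d) = d := by
    rw [h10, map_add, map_one, h10]
    have : d + 1 + 1 = d + 2 := by ring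
    rw [this, h2, add_zero]
  have h12 := P.two d
  rw [h11] at h12
  have h13 : d * (d - 1) = 0 := by rw [mul_sub, h12, mul_one, sub_self]
  rcases mul_eq_zero.1 h13 with h14 | h14
  · rw [h14, map_zero, zero_add] at h10
    exact zero_ne_one h10
  · have h15 : d = 1 := sub_eq_zero.1 h14
    rw [h15, map_one] at h10
    have : (1 : F) = 0 := by
      have h16 : (1 : F) + 1 = 2 := by norm_num
      rw [h10, h16, h2]
    exact one_ne_zero this

end GP

/-- **The transport** `C_{U*}(v) → U` (first half of `Exclude.excluded`). -/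
theorem transport [Finite G] {t : G} {T U Us : Subgroup G} (F : Fr t T U Us) {v : G} (hvU : v ∉ Us)
    (Z Zs : Subgroup G) (ZsU : Zs ≤ Us) (Zc : ∀ z ∈ Zs, ∀ w ∈ Us, z * w = w * z)
    (k0 : ∀ z ∈ Zs, ∀ g : G, g⁻¹ * t * g ≠ z) (k0' : ∀ z ∈ Z, ∃ g : G, g⁻¹ * t * g = t * z)
    (hcard : Nat.card Z ≤ Nat.card (Zs ⊓ centralizer ({v} : Set G) : Subgroup G))
    (k1 : ∀ c ∈ T, (∀ a ∈ T, ∀ b ∈ T, c * (a * b * a⁻¹ * b⁻¹) = a * b * a⁻¹ * b⁻¹ * c) → c ∈ Z ∨ t * c ∈ Z)
    (k2 : ∀ c ∈ T, (∀ z ∈ Z, c * z = z * c) → c ∈ U ∨ t * c ∈ U) {g : G} (hv : g⁻¹ * t * g = v)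
    (hg : ∀ d ∈ T, g⁻¹ * d * g ∈ F.S) :
    (∀ x ∈ Us, x * v = v * x → g * x * g⁻¹ ∈ T ∧ (g * x * g⁻¹ ∈ U ∨ t * (g * x * g⁻¹) ∈ U)) ∧
      ∀ u ∈ U, ∃ x ∈ Us, x * v = v * x ∧ (u = g * x * g⁻¹ ∨ u = t * (g * x * g⁻¹)) := by
  classical
  have ti : t⁻¹ = t := inv_eq_of_mul_eq_one_left F.tt
  -- transport
  have hT : ∀ c ∈ F.S, c * v = v * c → g * c * g⁻¹ ∈ T := by
    intro c hc hcv
    apply F.conj_mem hg hc
    rw [hv]
    exact hcv
  -- commutators of `T` are carried into `U*`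
  have hcomm : ∀ a ∈ T, ∀ b ∈ T, g⁻¹ * (a * b * a⁻¹ * b⁻¹) * g ∈ Us := by
    intro a ha b hb
    have h1 := F.comm_mem (hg a ha) (hg b hb)
    have h2 : g⁻¹ * a * g * (g⁻¹ * b * g) * (g⁻¹ * a * g)⁻¹ * (g⁻¹ * b * g)⁻¹ = g⁻¹ * (a * b * a⁻¹ * b⁻¹) * g := by
      group
    rwa [h2] at h1
  -- `Zs ∩ C(v)` is carried into `Z`
  have hZ : ∀ z ∈ Zs, z * v = v * z → g * z * g⁻¹ ∈ Z := by
    intro z hz hzv
    have h1 : g * z * g⁻¹ ∈ T := hT z (F.Us_le (ZsU hz)) hzv
    rcases k1 _ h1 (fun a ha b hb => by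
      have h2 := Zc z hz _ (hcomm a ha b hb)
      calc g * z * g⁻¹ * (a * b * a⁻¹ * b⁻¹) = g * (z * (g⁻¹ * (a * b * a⁻¹ * b⁻¹) * g)) * g⁻¹ := by group
        _ = g * (g⁻¹ * (a * b * a⁻¹ * b⁻¹) * g * z) * g⁻¹ := by rw [h2]
        _ = a * b * a⁻¹ * b⁻¹ * (g * z * g⁻¹) := by group) with h2 | h2
    · exact h2
    · exfalso
      obtain ⟨h, hh⟩ := k0' _ h2
      apply k0 z hz (h * g)
      rw [← mul_assoc t, F.tt, one_mul] at hh
      calc (h * g)⁻¹ * t * (h * g) = g⁻¹ * (h⁻¹ * t * h) * g := by group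
        _ = g⁻¹ * (g * z * g⁻¹) * g := by rw [hh]
        _ = z := by group
  -- ... onto `Z`
  have hZ' : ∀ z ∈ Z, ∃ z' ∈ Zs, z' * v = v * z' ∧ z = g * z' * g⁻¹ := by
    have hmem : ∀ x : (Zs ⊓ centralizer ({v} : Set G) : Subgroup G), (x : G) * v = v * x := fun x =>
      mem_centralizer_singleton_iff.1 x.2.2
    let f : (Zs ⊓ centralizer ({v} : Set G) : Subgroup G) → Z := fun x => ⟨g * x * g⁻¹, hZ x x.2.1 (hmem x)⟩
    have hf : Function.Injective f := by
      intro a b hab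
      have h2 : g * (a : G) * g⁻¹ = g * b * g⁻¹ := congrArg Subtype.val hab
      exact Subtype.ext (mul_left_cancel (mul_right_cancel h2))
    have hs : Function.Bijective f := hf.bijective_of_nat_card_le hcard
    intro z hz
    obtain ⟨x, hx⟩ := hs.2 ⟨z, hz⟩
    exact ⟨x, x.2.1, hmem x, (congrArg Subtype.val hx).symm⟩
  -- `X = g C_{U*}(v) g⁻¹ ≤ ⟨t⟩ U`
  have hX : ∀ x ∈ Us, x * v = v * x → g * x * g⁻¹ ∈ U ∨ t * (g * x * g⁻¹) ∈ U := by
    intro x hx hxv
    apply k2 _ (hT x (F.Us_le hx) hxv)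
    intro z hz
    obtain ⟨z', hz', -, rfl⟩ := hZ' z hz
    have h2 := Zc z' hz' x hx
    calc g * x * g⁻¹ * (g * z' * g⁻¹) = g * (x * z') * g⁻¹ := by group
      _ = g * (z' * x) * g⁻¹ := by rw [h2]
      _ = g * z' * g⁻¹ * (g * x * g⁻¹) := by group
  -- the projection to `U` is onto
  have hmemX : ∀ x : (Us ⊓ centralizer ({v} : Set G) : Subgroup G), (x : G) * v = v * x := fun x =>
    mem_centralizer_singleton_iff.1 x.2.2
  let p : (Us ⊓ centralizer ({v} : Set G) : Subgroup G) → U := fun x =>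
    if h : g * (x : G) * g⁻¹ ∈ U then ⟨_, h⟩ else ⟨t * (g * x * g⁻¹), (hX x x.2.1 (hmemX x)).resolve_left h⟩
  have hpval : ∀ x, (p x : G) = g * (x : G) * g⁻¹ ∨ (p x : G) = t * (g * x * g⁻¹) := by
    intro x
    by_cases h : g * (x : G) * g⁻¹ ∈ U
    · left
      simp only [p, dif_pos h]
    · right
      simp only [p, dif_neg h]
  have hnt : ∀ a b : (Us ⊓ centralizer ({v} : Set G) : Subgroup G),
      g * (a : G) * g⁻¹ ≠ t * (g * b * g⁻¹) := by
    intro a b hab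
    apply hvU
    have h1 : v = (a : G) * (b : G)⁻¹ := by
      have h2 : (a : G) = g⁻¹ * (t * (g * b * g⁻¹)) * g := by rw [← hab]; group
      have h3 : (a : G) = v * b := by
        calc (a : G) = g⁻¹ * (t * (g * b * g⁻¹)) * g := h2
          _ = (g⁻¹ * t * g) * b := by group
          _ = v * b := congrArg (fun x => x * (b : G)) hv
      calc v = v * b * (b : G)⁻¹ := by group
        _ = (a : G) * (b : G)⁻¹ := congrArg (fun x => x * (b : G)⁻¹) h3.symm
    rw [h1]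
    exact mul_mem a.2.1 (inv_mem b.2.1)
  have hpinj : Function.Injective p := by
    intro a b hab
    have h1 : (p a : G) = p b := congrArg Subtype.val hab
    apply Subtype.ext
    rcases hpval a with h2 | h2 <;> rcases hpval b with h3 | h3 <;> rw [h2, h3] at h1
    · exact mul_left_cancel (mul_right_cancel h1)
    · exact absurd h1 (hnt a b)
    · exact absurd h1.symm (hnt b a)
    · exact mul_left_cancel (mul_right_cancel (mul_left_cancel h1))
  have hpsurj : Function.Surjective p := (hpinj.bijective_of_nat_card_le (card_le F hv hg)).2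
  refine ⟨fun x hx hxv => ⟨hT x (F.Us_le hx) hxv, hX x hx hxv⟩, fun u hu => ?_⟩
  obtain ⟨c, hc⟩ := hpsurj ⟨u, hu⟩
  have h1 : (p c : G) = u := congrArg Subtype.val hc
  refine ⟨c, c.2.1, hmemX c, ?_⟩
  rw [← h1]
  exact hpval c

/-- **The type of `v` is excluded**: `U` is generated by involutions, `C_{U*}(v)` is not. -/
theorem excludedG [Finite G] {t : G} {T U Us : Subgroup G} (F : Fr t T U Us) {v : G} (hvU : v ∉ Us)
    (Z Zs : Subgroup G) (ZsU : Zs ≤ Us) (Zc : ∀ z ∈ Zs, ∀ w ∈ Us, z * w = w * z)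
    (k0 : ∀ z ∈ Zs, ∀ g : G, g⁻¹ * t * g ≠ z) (k0' : ∀ z ∈ Z, ∃ g : G, g⁻¹ * t * g = t * z)
    (hcard : Nat.card Z ≤ Nat.card (Zs ⊓ centralizer ({v} : Set G) : Subgroup G))
    (k1 : ∀ c ∈ T, (∀ a ∈ T, ∀ b ∈ T, c * (a * b * a⁻¹ * b⁻¹) = a * b * a⁻¹ * b⁻¹ * c) → c ∈ Z ∨ t * c ∈ Z)
    (k2 : ∀ c ∈ T, (∀ z ∈ Z, c * z = z * c) → c ∈ U ∨ t * c ∈ U)
    (gen : ∀ P : Subgroup G, (∀ u ∈ U, u * u = 1 → u ∈ P) → U ≤ P)
    (M : Subgroup G) (hM : ∀ x ∈ Us, x * v = v * x → x * x = 1 → x ∈ M)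
    (hne : Nat.card (Us ⊓ M ⊓ centralizer ({v} : Set G) : Subgroup G) < Nat.card U) {g : G}
    (hv : g⁻¹ * t * g = v) (hg : ∀ d ∈ T, g⁻¹ * d * g ∈ F.S) : False := by
  classical
  obtain ⟨h1, h2⟩ := transport F hvU Z Zs ZsU Zc k0 k0' hcard k1 k2 hv hg
  have hle := card_le F hv hg
  have vv : v * v = 1 := by
    rw [← hv]
    calc g⁻¹ * t * g * (g⁻¹ * t * g) = g⁻¹ * (t * t) * g := by group
      _ = 1 := by rw [F.tt]; group
  -- the group `P`
  set M' : Subgroup G := Us ⊓ M ⊓ centralizer ({v} : Set G) with hM'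
  have hM'v : ∀ x ∈ M', x * v = v * x := fun x hx => mem_centralizer_singleton_iff.1 hx.2
  let P0 : Subgroup G :=
    { carrier := {x | x ∈ M' ∨ v * x ∈ M'}
      one_mem' := Or.inl (one_mem _)
      mul_mem' := by
        rintro a b (ha | ha) (hb | hb)
        · exact Or.inl (mul_mem ha hb)
        · right
          have : v * (a * b) = a * (v * b) := by rw [← mul_assoc, ← hM'v a ha, mul_assoc]
          rw [this]; exact mul_mem ha hb
        · right
          rw [← mul_assoc]; exact mul_mem ha hb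
        · left
          have h3 : a * b = v * a * (v * b) := by
            have h4 := hM'v _ ha
            calc a * b = (v * v) * a * b := by rw [vv, one_mul]
              _ = v * (v * a) * b := by group
              _ = (v * a * v) * b := by rw [h4]
              _ = v * a * (v * b) := by group
          rw [h3]; exact mul_mem ha hb
      inv_mem' := by
        rintro a (ha | ha)
        · exact Or.inl (inv_mem ha)
        · right
          have h4 := hM'v _ (inv_mem ha)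
          have h5 : v⁻¹ = v := inv_eq_of_mul_eq_one_left vv
          have h3 : v * a⁻¹ = (v * a)⁻¹ := by
            calc v * a⁻¹ = v * (a⁻¹ * v⁻¹ * v) := by group
              _ = v * ((v * a)⁻¹ * v) := by rw [mul_inv_rev]
              _ = v * (v * (v * a)⁻¹) := by rw [h4]
              _ = (v * a)⁻¹ := by rw [← mul_assoc, vv, one_mul]
          rw [h3]; exact inv_mem ha }
  have hP0 : ∀ x, x ∈ P0 ↔ x ∈ M' ∨ v * x ∈ M' := fun x => Iff.rfl
  have hUP : U ≤ P0.map (MulAut.conj g).toMonoidHom := by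
    apply gen
    intro u hu huu
    obtain ⟨x, hx, hxv, hxu⟩ := h2 u hu
    have hxT := (h1 x hx hxv).1
    have hxx : x * x = 1 := by
      have h3 : u * u = g * (x * x) * g⁻¹ := by
        rcases hxu with h | h
        · rw [h]; group
        · rw [h]
          have h4 := F.Tc _ hxT
          calc t * (g * x * g⁻¹) * (t * (g * x * g⁻¹)) = t * ((g * x * g⁻¹) * t) * (g * x * g⁻¹) := by group
            _ = t * (t * (g * x * g⁻¹)) * (g * x * g⁻¹) := by rw [h4]
            _ = (t * t) * (g * (x * x) * g⁻¹) := by group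
            _ = g * (x * x) * g⁻¹ := by rw [F.tt, one_mul]
      rw [h3] at huu
      calc x * x = g⁻¹ * (g * (x * x) * g⁻¹) * g := by group
        _ = 1 := by rw [huu]; group
    have hxM : x ∈ M' := ⟨⟨hx, hM x hx hxv hxx⟩, mem_centralizer_singleton_iff.2 hxv⟩
    refine ⟨g⁻¹ * u * g, ?_, by show g * (g⁻¹ * u * g) * g⁻¹ = u; group⟩
    rcases hxu with h | h
    · left
      rw [h]
      have : g⁻¹ * (g * x * g⁻¹) * g = x := by group
      rw [this]; exact hxM
    · right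
      have : v * (g⁻¹ * u * g) = x := by
        rw [h, ← hv]
        calc g⁻¹ * t * g * (g⁻¹ * (t * (g * x * g⁻¹)) * g) = g⁻¹ * (t * t) * g * x := by group
          _ = x := by rw [F.tt]; group
      rw [this]; exact hxM
  have hvM : ∀ x ∈ M', v * x ∉ Us := by
    intro x hx h
    apply hvU
    have : v = v * x * x⁻¹ := by group
    rw [this]
    exact mul_mem h (inv_mem hx.1.1)
  have hsub : (Us ⊓ centralizer ({v} : Set G) : Subgroup G) ≤ M' := by
    rintro x ⟨hx, hxv⟩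
    replace hxv := mem_centralizer_singleton_iff.1 hxv
    have h3 : x ∈ P0 := by
      rcases (h1 x hx hxv).2 with h | h
      · obtain ⟨y, hy, hyx⟩ := hUP h
        have h4 : g * y * g⁻¹ = g * x * g⁻¹ := hyx
        rw [← mul_left_cancel (mul_right_cancel h4)]
        exact hy
      · obtain ⟨y, hy, hyx⟩ := hUP h
        have h4 : g * y * g⁻¹ = t * (g * x * g⁻¹) := hyx
        have h5 : y = v * x := by
          calc y = g⁻¹ * (g * y * g⁻¹) * g := by group
            _ = (g⁻¹ * t * g) * x := by rw [h4]; group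
            _ = v * x := by rw [hv]
        have hvP : v ∈ P0 := Or.inr (by rw [vv]; exact one_mem _)
        have h6 := mul_mem hvP hy
        rw [h5, ← mul_assoc, vv, one_mul] at h6
        exact h6
    rcases h3 with h3 | h3
    · exact h3
    · exfalso
      apply hvU
      have : v = v * x * x⁻¹ := by group
      rw [this]
      exact mul_mem h3.1.1 (inv_mem hx)
  exact absurd (lt_of_lt_of_le hne hle) (not_lt.2 (Nat.card_le_card_of_injective _ (inclusion_injective hsub)))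

end Cfsg.Agent.OddHalf.Out.Graph

end

-- merged: Cfsg.Agent.OddHalf.Out.Excl
section

/-!
# The end for a group with an outer 2-part, from one excluded coset (helper84)

* `NoConj F v`: no conjugate `g⁻¹ t g` with `g⁻¹ T g ≤ S` lies in `v U*`;
* `end_of`: `t ∉ [G, G]` if all involutions of `t U*` are conjugate to `t` and (`T / U` has only one involution or one of the
  two other cosets is excluded);
* `conj_pair`, `card_pair`: involutions interchanging the terms of pairs of a growth sequence;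
* `excl_graph`: the exclusion for graph type.
-/

set_option autoImplicit false

namespace Cfsg.Agent.OddHalf.Out.Excl

open Subgroup Exclude Cfsg.Agent.Doubling

variable {G : Type*} [Group G] {t : G} {T U Us : Subgroup G}

/-- No conjugate `g⁻¹ t g` of `t` with `g⁻¹ T g ≤ S` lies in `v U*`. -/
def NoConj (F : Fr t T U Us) (v : G) : Prop := ∀ g : G, (∀ d ∈ T, g⁻¹ * d * g ∈ F.S) → v⁻¹ * (g⁻¹ * t * g) ∉ Us

theorem conj_inv_sq (tt : t * t = 1) (g : G) : g⁻¹ * t * g * (g⁻¹ * t * g) = 1 := by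
  calc g⁻¹ * t * g * (g⁻¹ * t * g) = g⁻¹ * (t * t) * g := by group
    _ = 1 := by rw [tt]; group

theorem excl_of (F : Fr t T U Us) {v : G}
    (conj : ∀ w ∈ Us, v * w * (v * w) = 1 → ∃ a ∈ Us, v * w = a * v * a⁻¹)
    (h : ∀ g : G, (∀ d ∈ T, g⁻¹ * d * g ∈ F.S) → g⁻¹ * t * g = v → False) : NoConj F v := by
  intro g hg hw
  have e1 : v * (v⁻¹ * (g⁻¹ * t * g)) = g⁻¹ * t * g := by group
  obtain ⟨a, ha, he⟩ := conj _ hw (by rw [e1]; exact conj_inv_sq F.tt g)
  rw [e1] at he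
  refine h (g * a) (fun d hd => ?_) ?_
  · have h1 := mul_mem (mul_mem (inv_mem (F.Us_le ha)) (hg d hd)) (F.Us_le ha)
    have h2 : a⁻¹ * (g⁻¹ * d * g) * a = (g * a)⁻¹ * d * (g * a) := by group
    rwa [h2] at h1
  · calc (g * a)⁻¹ * t * (g * a) = a⁻¹ * (g⁻¹ * t * g) * a := by group
      _ = v := by rw [he]; group

theorem mem_U (F : Fr t T U Us) {d : G} (hd : d ∈ T) (hd' : d ∈ Us) : d ∈ U := (F.hU d).2 ⟨hd', F.Tc d hd⟩

/-- **The end.** -/
theorem end_of [Finite G] (F : Fr t T U Us) (htU : t ∉ Us)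
    (conj : ∀ w ∈ Us, t * w * (t * w) = 1 → ∃ a ∈ Us, t * w = a * t * a⁻¹)
    (alt : (∀ d ∈ T, d * d ∈ U → d ∈ U ∨ t * d ∈ U) ∨ ∃ s ∈ T, s ∉ U ∧ t * s ∉ U ∧
      (∀ d ∈ T, d * d ∈ U → d ∈ U ∨ t * d ∈ U ∨ s⁻¹ * d ∈ U ∨ (t * s)⁻¹ * d ∈ U) ∧
      ∃ v, (v = s ∨ v = t * s) ∧ NoConj F v) : t ∉ _root_.commutator G := by
  have ti : t⁻¹ = t := inv_eq_of_mul_eq_one_left F.tt
  have hcl : ∀ g : G, (∀ d ∈ T, g⁻¹ * d * g ∈ F.S) → t * (g⁻¹ * t * g) ∈ Us →
      ∃ k ∈ F.S, g⁻¹ * t * g = k * t * k⁻¹ := by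
    intro g _ hu
    have e1 : t * (t * (g⁻¹ * t * g)) = g⁻¹ * t * g := by rw [← mul_assoc, F.tt, one_mul]
    obtain ⟨a, ha, he⟩ := conj _ hu (by rw [e1]; exact conj_inv_sq F.tt g)
    rw [e1] at he
    exact ⟨a, F.Us_le ha, he⟩
  have hsq : ∀ g : G, (∀ d ∈ T, g⁻¹ * d * g ∈ F.S) → ∃ d ∈ T, ∃ w ∈ Us, g⁻¹ * t * g = d * w ∧ d * d ∈ U := by
    intro g hg
    obtain ⟨d, hd, w, hw, he⟩ := F.mem_S.1 (hg t F.tT)
    refine ⟨d, hd, w, hw, he, mem_U F (mul_mem hd hd) ?_⟩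
    have h1 := conj_inv_sq F.tt g
    rw [he] at h1
    have h2 : d * d = (d * w * d⁻¹)⁻¹ * (d * w * (d * w)) * w⁻¹ := by group
    rw [h2, h1, mul_one]
    exact mul_mem (inv_mem (F.norm d hd w hw)) (inv_mem hw)
  rcases alt with alt | ⟨s, hs, hs1, hs2, alt, v, hv, hex⟩
  · refine F4.EndOut.not_mem_commutator F htU hcl 1 (one_mem _) (by rwa [mul_one]) ?_
    intro g hg
    obtain ⟨d, hd, w, hw, he, hdd⟩ := hsq g hg
    rw [he]
    rcases alt d hd hdd with h1 | h1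
    · exact Or.inr (Or.inl (mul_mem (F.le h1) hw))
    · left
      rw [← mul_assoc]
      exact mul_mem (F.le h1) hw
  · have hs1' : s ∉ Us := fun h => hs1 (mem_U F hs h)
    have hs2' : t * s ∉ Us := fun h => hs2 (mem_U F (mul_mem F.tT hs) h)
    have main : ∀ c, (c = s ∨ c = t * s) → (∀ x, (x = s ∨ x = t * s) → x = v ∨ x = c) →
        t ∉ _root_.commutator G := by
      intro c hc hvc
      refine F4.EndOut.not_mem_commutator F htU hcl c ?_ ?_ ?_
      · rcases hc with rfl | rfl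
        · exact F.T_le hs
        · exact F.T_le (mul_mem F.tT hs)
      · rcases hc with rfl | rfl
        · exact hs2'
        · rw [← mul_assoc, F.tt, one_mul]; exact hs1'
      · intro g hg
        obtain ⟨d, hd, w, hw, he, hdd⟩ := hsq g hg
        have key : ∀ x, (x = s ∨ x = t * s) → x⁻¹ * d ∈ U →
            t * (g⁻¹ * t * g) ∈ Us ∨ g⁻¹ * t * g ∈ Us ∨ c⁻¹ * (g⁻¹ * t * g) ∈ Us := by
          intro x hx hxd
          have h1 : x⁻¹ * (g⁻¹ * t * g) ∈ Us := by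
            rw [he, ← mul_assoc]
            exact mul_mem (F.le hxd) hw
          rcases hvc x hx with rfl | rfl
          · exact absurd h1 (hex g hg)
          · exact Or.inr (Or.inr h1)
        rcases alt d hd hdd with h1 | h1 | h1 | h1
        · right; left
          rw [he]
          exact mul_mem (F.le h1) hw
        · left
          rw [he, ← mul_assoc]
          exact mul_mem (F.le h1) hw
        · exact key s (Or.inl rfl) h1
        · exact key (t * s) (Or.inr rfl) h1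
    rcases hv with rfl | rfl
    · exact main (t * v) (Or.inr rfl) (fun x hx => hx)
    · exact main s (Or.inl rfl) (fun x hx => hx.symm)

/-- The alternative for a subgroup `D` of `T` with `T = D U`, `D ∩ U = 1`. -/
theorem alt_of (F : Fr t T U Us) (D : Subgroup G) (hDT : D ≤ T)
    (hTD : ∀ d ∈ T, ∃ e ∈ D, ∃ u ∈ U, d = e * u) (hDU : ∀ e ∈ D, e ∈ U → e = 1) (htD : t ∈ D)
    (hone : ∀ e ∈ D, ∀ f ∈ D, e * e = 1 → f * f = 1 → e ≠ 1 → e ≠ t → f ≠ 1 → f ≠ t → f = e ∨ f = t * e)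
    (hex : ∀ s ∈ D, s * s = 1 → s ≠ 1 → s ≠ t → ∃ v, (v = s ∨ v = t * s) ∧ NoConj F v) :
    (∀ d ∈ T, d * d ∈ U → d ∈ U ∨ t * d ∈ U) ∨ ∃ s ∈ T, s ∉ U ∧ t * s ∉ U ∧
      (∀ d ∈ T, d * d ∈ U → d ∈ U ∨ t * d ∈ U ∨ s⁻¹ * d ∈ U ∨ (t * s)⁻¹ * d ∈ U) ∧
      ∃ v, (v = s ∨ v = t * s) ∧ NoConj F v := by
  have hU : ∀ d ∈ T, ∀ u ∈ U, d * u * d⁻¹ ∈ U := by
    intro d hd u hu
    exact mem_U F (mul_mem (mul_mem hd (F.UT hu)) (inv_mem hd)) (F.norm d hd u (F.le hu))
  have hsq : ∀ e ∈ D, ∀ u ∈ U, e * u * (e * u) ∈ U → e * e = 1 := by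
    intro e he u hu h1
    apply hDU _ (mul_mem he he)
    have h2 : e * e = (e * u * e⁻¹)⁻¹ * (e * u * (e * u)) * u⁻¹ := by group
    rw [h2]
    exact mul_mem (mul_mem (inv_mem (hU e (hDT he) u hu)) h1) (inv_mem hu)
  by_cases hs : ∃ s ∈ D, s * s = 1 ∧ s ≠ 1 ∧ s ≠ t
  · obtain ⟨s, hs, hss, hs1, hst⟩ := hs
    right
    refine ⟨s, hDT hs, fun h => hs1 (hDU s hs h), fun h => hst ?_, ?_, hex s hs hss hs1 hst⟩
    · have h1 := hDU _ (mul_mem htD hs) h
      have h2 : s = t * (t * s) := by rw [← mul_assoc, F.tt, one_mul]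
      rw [h2, h1, mul_one]
    · intro d hd hdd
      obtain ⟨e, he, u, hu, rfl⟩ := hTD d hd
      have hee := hsq e he u hu hdd
      by_cases he1 : e = 1
      · left; rw [he1, one_mul]; exact hu
      by_cases het : e = t
      · right; left; rw [het, ← mul_assoc, F.tt, one_mul]; exact hu
      rcases hone s hs e he hss hee hs1 hst he1 het with h | h
      · right; right; left
        rw [h, inv_mul_cancel_left]; exact hu
      · right; right; right
        rw [h, inv_mul_cancel_left]; exact hu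
  · left
    push Not at hs
    intro d hd hdd
    obtain ⟨e, he, u, hu, rfl⟩ := hTD d hd
    have hee := hsq e he u hu hdd
    by_cases he1 : e = 1
    · left; rw [he1, one_mul]; exact hu
    · right
      rw [hs e he hee he1, ← mul_assoc, F.tt, one_mul]; exact hu

/-! ### Pairs -/

section pair

variable {V X : ℕ → Subgroup G} {n : ℕ}

/-- `v` interchanges `V (2m)` and `V (2m+1)`. -/
structure Swap (v : G) (V : ℕ → Subgroup G) (n : ℕ) : Prop where
  vv : v * v = 1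
  even : ∀ m < n, ∀ w ∈ V (2 * m), v * w * v ∈ V (2 * m + 1)
  odd : ∀ m < n, ∀ w ∈ V (2 * m + 1), v * w * v ∈ V (2 * m)

namespace Swap

variable {v : G}

theorem conj_mul (S : Swap v V n) (a b : G) : v * (a * b) * v = (v * a * v) * (v * b * v) := by
  calc v * (a * b) * v = v * a * 1 * b * v := by group
    _ = v * a * (v * v) * b * v := by rw [S.vv]
    _ = (v * a * v) * (v * b * v) := by group

theorem conj_conj (S : Swap v V n) (a : G) : v * (v * a * v) * v = a := by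
  calc v * (v * a * v) * v = (v * v) * a * (v * v) := by group
    _ = a := by rw [S.vv, one_mul, mul_one]

theorem vi (S : Swap v V n) : v⁻¹ = v := inv_eq_of_mul_eq_one_left S.vv

theorem conj_W (S : Swap v V n) {m : ℕ} (hm : m ≤ n) {w : G} (hw : w ∈ Growth.W V (2 * m)) :
    v * w * v ∈ Growth.W V (2 * m) := by
  have hle : Growth.W V (2 * m) ≤ (Growth.W V (2 * m)).comap (MulAut.conj v).toMonoidHom := by
    refine iSup₂_le fun i hi u hu => ?_
    show v * u * v⁻¹ ∈ Growth.W V (2 * m)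
    rw [S.vi]
    rcases Nat.even_or_odd' i with ⟨k, rfl | rfl⟩
    · exact Growth.le_W V (by omega : 2 * k + 1 < 2 * m) (S.even k (by omega) u hu)
    · exact Growth.le_W V (by omega : 2 * k < 2 * m) (S.odd k (by omega) u hu)
  have h1 : v * w * v⁻¹ ∈ Growth.W V (2 * m) := hle hw
  rwa [S.vi] at h1

end Swap

/-- decomposition of an element of `W (2m+2)` -/
theorem decomp (D : Growth.Dbl t V X (2 * n)) {m : ℕ} (hm : m < n) {w : G}
    (hw : w ∈ Growth.W V (2 * (m + 1))) :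
    ∃ u ∈ Growth.W V (2 * m), ∃ a ∈ V (2 * m), ∃ b ∈ V (2 * m + 1), w = u * a * b := by
  obtain ⟨u, hu, b, hb, rfl⟩ := D.mem_succ (k := 2 * m + 1) (by omega) hw
  obtain ⟨u', hu', a, ha, rfl⟩ := D.mem_succ (k := 2 * m) (by omega) hu
  exact ⟨u', hu', a, ha, b, hb, rfl⟩

/-- independence of a pair -/
theorem pair_one (D : Growth.Dbl t V X (2 * n)) {m : ℕ} (hm : m < n) {a b : G} (ha : a ∈ V (2 * m))
    (hb : b ∈ V (2 * m + 1)) (hab : a * b ∈ Growth.W V (2 * m)) : a = 1 ∧ b = 1 := by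
  have h1 : b ∈ V (2 * m + 1) ⊓ Growth.W V (2 * m + 1) := by
    refine Subgroup.mem_inf.2 ⟨hb, ?_⟩
    have h2 : b = a⁻¹ * (a * b) := by group
    rw [h2]
    exact mul_mem (inv_mem (Growth.le_W V (Nat.lt_succ_self _) ha)) (Growth.W_mono V (Nat.le_succ _) hab)
  rw [Grow.disj D (by omega), mem_bot] at h1
  subst h1
  rw [mul_one] at hab
  have h2 : a ∈ V (2 * m) ⊓ Growth.W V (2 * m) := Subgroup.mem_inf.2 ⟨ha, hab⟩
  rw [Grow.disj D (by omega), mem_bot] at h2
  exact ⟨h2, rfl⟩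

theorem norm_V (D : Growth.Dbl t V X (2 * n)) {m : ℕ} (hm : m < n) {g w : G}
    (hg : g ∈ V (2 * m) ∨ g ∈ V (2 * m + 1)) (hw : w ∈ Growth.W V (2 * m)) :
    g * w * g⁻¹ ∈ Growth.W V (2 * m) := by
  rcases hg with hg | hg
  · exact D.normal le_rfl (by omega) hg hw
  · exact D.normal (by omega) (by omega) hg hw

/-- the leading components of a fixed element -/
theorem fixed_comp (D : Growth.Dbl t V X (2 * n)) {v : G} (S : Swap v V n) {m : ℕ} (hm : m < n) {u a b : G}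
    (hu : u ∈ Growth.W V (2 * m)) (ha : a ∈ V (2 * m)) (hb : b ∈ V (2 * m + 1))
    (h : v * (u * a * b) * v = u * a * b) : b = v * a * v := by
  have ha' := S.even m hm a ha
  have hb' := S.odd m hm b hb
  have hu' := S.conj_W hm.le hu
  have hbi : b⁻¹ = b := inv_eq_of_mul_eq_one_left (D.sq _ (by omega) b hb)
  rw [S.conj_mul, S.conj_mul] at h
  set a' := v * a * v
  set b' := v * b * v
  set u' := v * u * v
  -- `a⁻¹ b' (a' b⁻¹) ∈ W (2m)`
  have c1 : b' * a' * b'⁻¹ * a'⁻¹ ∈ Growth.W V (2 * m) := D.comm (2 * m) (2 * m + 1) (by omega) (by omega) b' hb' a' ha'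
  have h1 : b' * a' = (b' * a' * b'⁻¹ * a'⁻¹) * (u'⁻¹ * u) * a * b := by
    calc b' * a' = (b' * a' * b'⁻¹ * a'⁻¹) * (u'⁻¹ * (u' * a' * b')) := by group
      _ = _ := by rw [h]; group
  set z := (b' * a' * b'⁻¹ * a'⁻¹) * (u'⁻¹ * u)
  have hz : z ∈ Growth.W V (2 * m) := mul_mem c1 (mul_mem (inv_mem hu') hu)
  have h2 : a⁻¹ * b' * (a' * b⁻¹) = a⁻¹ * z * a⁻¹⁻¹ := by
    calc a⁻¹ * b' * (a' * b⁻¹) = a⁻¹ * (b' * a') * b⁻¹ := by group
      _ = a⁻¹ * z * a⁻¹⁻¹ := by rw [h1]; group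
  obtain ⟨-, h4⟩ := pair_one D hm (mul_mem (inv_mem ha) hb') (mul_mem ha' (inv_mem hb)) (by
    rw [h2]
    exact norm_V D hm (Or.inl (inv_mem ha)) hz)
  exact (mul_inv_eq_one.1 h4).symm

/-- **Every involution of `v W` is conjugate to `v`.** -/
theorem conj_pair (D : Growth.Dbl t V X (2 * n)) {v : G} (S : Swap v V n) (m : ℕ) : m ≤ n →
    ∀ w ∈ Growth.W V (2 * m), v * w * (v * w) = 1 → ∃ c ∈ Growth.W V (2 * m), v * w = c * v * c⁻¹ := by
  induction m with
  | zero =>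
    intro _ w hw _
    rw [mul_zero, Growth.W_zero] at hw ⊢
    refine ⟨1, one_mem _, ?_⟩
    rw [mem_bot.1 hw]; group
  | succ m ih =>
    intro hm w hw hvw
    have hm' : m < n := hm
    obtain ⟨u, hu, a, ha, b, hb, rfl⟩ := decomp D hm' hw
    have ha' := S.even m hm' a ha
    have hb' := S.odd m hm' b hb
    have hu' := S.conj_W hm'.le hu
    have hai : a⁻¹ = a := inv_eq_of_mul_eq_one_left (D.sq _ (by omega) a ha)
    have hbi : b⁻¹ = b := inv_eq_of_mul_eq_one_left (D.sq _ (by omega) b hb)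
    have h0 : (v * u * v) * (v * a * v) * (v * b * v) * (u * a * b) = 1 := by
      rw [← S.conj_mul, ← S.conj_mul, ← hvw]; group
    have hab : a = v * b * v := by
      set a' := v * a * v
      set b' := v * b * v
      set u' := v * u * v
      -- `(b' a) (a' b) ∈ W (2m)`
      have c1 : b' * a' * b'⁻¹ * a'⁻¹ ∈ Growth.W V (2 * m) :=
        D.comm (2 * m) (2 * m + 1) (by omega) (by omega) b' hb' a' ha'
      have c2 : a * a' * a⁻¹ * a'⁻¹ ∈ Growth.W V (2 * m) :=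
        D.comm (2 * m) (2 * m + 1) (by omega) (by omega) a ha a' ha'
      -- `a' b' u a b = u'⁻¹`
      have h1 : a' * b' * (u * a * b) = u'⁻¹ := by
        rw [← mul_one u'⁻¹, ← h0]; group
      have h2 : b' * a * (a' * b) =
          (b' * (a * a' * a⁻¹ * a'⁻¹) * b'⁻¹) * ((b' * a' * b'⁻¹ * a'⁻¹) * (a' * (b' * u⁻¹ * b'⁻¹) * a'⁻¹) * u'⁻¹) := by
        rw [← h1]; group
      obtain ⟨h3, -⟩ := pair_one D hm' (mul_mem hb' ha) (mul_mem ha' hb) (by
        rw [h2]
        exact mul_mem (norm_V D hm' (Or.inl hb') c2)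
          (mul_mem (mul_mem c1 (norm_V D hm' (Or.inr ha') (norm_V D hm' (Or.inl hb') (inv_mem hu)))) (inv_mem hu')))
      have h4 : b' = a⁻¹ := eq_inv_of_mul_eq_one_left h3
      rw [h4, hai]
    -- conjugate by `b`
    have e1 : v * (u * a * b) = b * (v * (v * (b⁻¹ * (v * u * v) * b) * v)) * b⁻¹ := by
      rw [hab]
      calc v * (u * (v * b * v) * b) = (v * u * v) * b * v * b := by group
        _ = (v * u * v) * b * v * b⁻¹ := by rw [hbi]
        _ = b * (1 * (b⁻¹ * (v * u * v) * b) * v) * b⁻¹ := by group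
        _ = b * (v * (v * (b⁻¹ * (v * u * v) * b) * v)) * b⁻¹ := by rw [← S.vv]; group
    set x := v * (b⁻¹ * (v * u * v) * b) * v with hx
    have hxm : x ∈ Growth.W V (2 * m) := by
      apply S.conj_W hm'.le
      have := norm_V D hm' (Or.inr (inv_mem hb)) hu'
      rwa [inv_inv] at this
    obtain ⟨c, hc, hce⟩ := ih hm'.le x hxm (by
      have h1 : v * x * (v * x) = b⁻¹ * (b * (v * x) * b⁻¹ * (b * (v * x) * b⁻¹)) * b := by group
      rw [h1, ← e1, hvw]; group)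
    refine ⟨b * c, mul_mem (Growth.le_W V (by omega : 2 * m + 1 < 2 * (m + 1)) hb)
      (Growth.W_mono V (by omega) hc), ?_⟩
    rw [e1, hce]; group

/-- **The number of fixed points.** -/
theorem card_pair [Finite G] (D : Growth.Dbl t V X (2 * n)) {v : G} (S : Swap v V n) {Q : ℕ}
    (hQ : ∀ i < 2 * n, Nat.card (V i) ≤ Q) (m : ℕ) : m ≤ n →
    Nat.card (Growth.W V (2 * m) ⊓ centralizer ({v} : Set G) : Subgroup G) ≤ Q ^ m := by
  have key : ∀ w : G, w * v = v * w → v * w * v = w := by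
    intro w h1
    rw [mul_assoc, h1, ← mul_assoc, S.vv, one_mul]
  induction m with
  | zero =>
    intro _
    rw [mul_zero, Growth.W_zero, bot_inf_eq, card_bot, pow_zero]
  | succ m ih =>
    intro hm
    have hm' : m < n := hm
    set A : Subgroup G := Growth.W V (2 * (m + 1)) ⊓ centralizer ({v} : Set G) with hA
    set M : Subgroup G := Growth.W V (2 * m) ⊓ centralizer ({v} : Set G) with hM
    have hMA : M ≤ A := inf_le_inf_right _ (Growth.W_mono V (by omega))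
    have hlead : ∀ g : A, ∃ a : V (2 * m), (a * (v * a * v))⁻¹ * (g : G) ∈ Growth.W V (2 * m) := by
      intro g
      obtain ⟨u, hu, a, ha, b, hb, he⟩ := decomp D hm' g.2.1
      have h1 := key _ (mem_centralizer_singleton_iff.1 g.2.2)
      rw [he] at h1
      have h2 := fixed_comp D S hm' hu ha hb h1
      refine ⟨⟨a, ha⟩, ?_⟩
      rw [he]
      change (a * (v * a * v))⁻¹ * (u * a * b) ∈ _
      rw [← h2]
      have h3 := norm_V D hm' (Or.inr (inv_mem hb)) (norm_V D hm' (Or.inl (inv_mem ha)) hu)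
      have h4 : (a * b)⁻¹ * (u * a * b) = b⁻¹ * (a⁻¹ * u * a⁻¹⁻¹) * b⁻¹⁻¹ := by group
      rw [h4]; exact h3
    choose f hf using hlead
    have h1 : (M.subgroupOf A).index ≤ Nat.card (V (2 * m)) := by
      rw [index]
      refine Nat.card_le_card_of_injective (fun q : A ⧸ M.subgroupOf A => f q.out) ?_
      intro q q' hqq
      have e1 := hf q.out
      have e2 := hf q'.out
      have hqq' : f q.out = f q'.out := hqq
      rw [hqq'] at e1
      rw [← QuotientGroup.out_eq' q, ← QuotientGroup.out_eq' q', QuotientGroup.eq, mem_subgroupOf]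
      refine ⟨?_, (mul_mem (inv_mem q.out.2) q'.out.2).2⟩
      have h2 := mul_mem (inv_mem e1) e2
      have h3 : (((f q'.out : G) * (v * (f q'.out : G) * v))⁻¹ * (q.out : G))⁻¹ *
          (((f q'.out : G) * (v * (f q'.out : G) * v))⁻¹ * (q'.out : G)) = ((q.out : G))⁻¹ * (q'.out : G) := by group
      rw [h3] at h2
      exact h2
    have h2 : Nat.card (M.subgroupOf A) * (M.subgroupOf A).index = Nat.card A := card_mul_index _
    have h3 : Nat.card (M.subgroupOf A) = Nat.card M := Nat.card_congr (subgroupOfEquivOfLe hMA).toEquiv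
    calc Nat.card A = Nat.card M * (M.subgroupOf A).index := by rw [← h2, h3]
      _ ≤ Q ^ m * Q := Nat.mul_le_mul (ih hm'.le) (h1.trans (hQ _ (by omega)))
      _ = Q ^ (m + 1) := (pow_succ Q m).symm

end pair

end Cfsg.Agent.OddHalf.Out.Excl

end

-- merged: Cfsg.Agent.OddHalf.D7F4.OutGraph
section

/-!
# Pattern (C, C): an involution of graph type (helper84, bb ODD 11098 §4)

The last two pairs of the enumeration are `(W_{α₂+2α₁}, W_{α₁+α₂})` and `(W_{α₂}, W_{α₁})`.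
-/

set_option autoImplicit false

namespace Cfsg.Agent.OddHalf.D7F4.OutGraph

open Subgroup Out.Exclude Out.Excl Cfsg.Agent.Doubling

variable {G : Type*} [Group G] {t : G} {T U Us : Subgroup G} {V X : ℕ → Subgroup G} {m : ℕ}

/-- the involutions of `C_{U*}(v)` -/
theorem inv_mem_M (D : Growth.Dbl t V X (2 * (m + 2))) {v : G} (S : Swap v V (m + 2))
    (brm : ∀ a ∈ V (2 * (m + 1)), ∀ b ∈ V (2 * (m + 1) + 1), Out.Graph.br a b ∈ V (2 * m + 1) ⊔ V (2 * m))
    (c33 : ∀ w ∈ V (2 * m + 1) ⊔ V (2 * m), ∀ y ∈ V (2 * m + 1) ⊔ V (2 * m), w * y = y * w)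
    (hB : ∀ w ∈ V (2 * (m + 1)), Out.Graph.br w (v * w * v) ∈ V (2 * m) → w = 1) {x : G}
    (hx : x ∈ Growth.W V (2 * (m + 2))) (hxv : x * v = v * x) (hxx : x * x = 1) :
    x ∈ Growth.W V (2 * (m + 1)) := by
  obtain ⟨u, hu, a, ha, b, hb, rfl⟩ := decomp D (by omega : m + 1 < m + 2) hx
  have hfix : v * (u * a * b) * v = u * a * b := by
    rw [mul_assoc, hxv, ← mul_assoc, S.vv, one_mul]
  have hba := fixed_comp D S (by omega) hu ha hb hfix
  obtain ⟨u1, hu1, z, hz, rfl⟩ := D.mem_succ (k := 2 * m + 1) (by omega) hu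
  have norm : ∀ g, (g ∈ V (2 * (m + 1)) ∨ g ∈ V (2 * (m + 1) + 1) ∨ g ∈ V (2 * m + 1)) →
      ∀ w ∈ Growth.W V (2 * m + 1), g * w * g⁻¹ ∈ Growth.W V (2 * m + 1) := by
    rintro g (hg | hg | hg) w hw
    · exact D.normal (by omega) (by omega) hg hw
    · exact D.normal (by omega) (by omega) hg hw
    · exact D.normal le_rfl (by omega) hg hw
  have na := norm a (Or.inl ha)
  have nb := norm b (Or.inr (Or.inl hb))
  have nz := norm z (Or.inr (Or.inr hz))
  have nzi := norm z⁻¹ (Or.inr (Or.inr (inv_mem hz)))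
  have haa := D.sq _ (by omega) a ha
  have hbb := D.sq _ (by omega) b hb
  have hzz := D.sq _ (by omega) z hz
  have hai : a⁻¹ = a := inv_eq_of_mul_eq_one_left haa
  have hbi : b⁻¹ = b := inv_eq_of_mul_eq_one_left hbb
  have c1 : z * a * z⁻¹ * a⁻¹ ∈ Growth.W V (2 * m + 1) := D.comm _ _ (by omega) (by omega) z hz a ha
  have c2 : z * b * z⁻¹ * b⁻¹ ∈ Growth.W V (2 * m + 1) := D.comm _ _ (by omega) (by omega) z hz b hb
  -- `a b a b` modulo `W (2m+1)`
  have h1 : a * b * (a * b) ∈ Growth.W V (2 * m + 1) := by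
    -- `n = (a b) z (a b)⁻¹ z⁻¹`
    have hn : (a * b) * z * (a * b)⁻¹ * z⁻¹ ∈ Growth.W V (2 * m + 1) := by
      have e : (a * b) * z * (a * b)⁻¹ * z⁻¹ =
          (a * (z * b * z⁻¹ * b⁻¹)⁻¹ * a⁻¹) * (z * a * z⁻¹ * a⁻¹)⁻¹ := by group
      rw [e]
      exact mul_mem (na _ (inv_mem c2)) (inv_mem c1)
    have hp : z * (a * b) * (z * (a * b)) ∈ Growth.W V (2 * m + 1) := by
      have e : z * (a * b) * (z * (a * b)) =
          (u1 * (z * (a * (b * u1 * b⁻¹) * a⁻¹) * z⁻¹))⁻¹ * (u1 * z * a * b * (u1 * z * a * b)) := by group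
      rw [e, hxx, mul_one]
      exact inv_mem (mul_mem hu1 (nz _ (na _ (nb _ hu1))))
    have e : a * b * (a * b) =
        ((z * ((a * b) * z * (a * b)⁻¹ * z⁻¹) * z⁻¹) * (z * z))⁻¹ * (z * (a * b) * (z * (a * b))) := by group
    rw [e, hzz, mul_one]
    exact mul_mem (inv_mem (nz _ hn)) hp
  have h2 : Out.Graph.br a b = a * b * (a * b) := by
    unfold Out.Graph.br
    rw [hai, hbi]; group
  obtain ⟨y, hy, z', hz', hyz⟩ := (CC.mem_sup_of_comm (fun w hw v hv =>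
    c33 w (mem_sup_left hw) v (mem_sup_right hv))).1 (brm a ha b hb)
  have hy1 : y ∈ V (2 * m + 1) ⊓ Growth.W V (2 * m + 1) := by
    refine Subgroup.mem_inf.2 ⟨hy, ?_⟩
    have e : y = a * b * (a * b) * z'⁻¹ := by rw [← h2, hyz]; group
    rw [e]
    exact mul_mem h1 (inv_mem (Growth.le_W V (by omega : 2 * m < 2 * m + 1) hz'))
  rw [Out.Grow.disj D (by omega), mem_bot] at hy1
  have h3 : Out.Graph.br a (v * a * v) ∈ V (2 * m) := by
    rw [← hba, hyz, hy1, one_mul]; exact hz'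
  have ha1 := hB a ha h3
  have hb1 : b = 1 := by
    rw [hba, ha1, mul_one, S.vv]
  rw [ha1, hb1, mul_one, mul_one]
  exact hu

/-- **The exclusion for graph type.** -/
theorem excl_graph [Finite G] (F : Fr t T U Us) (D : Growth.Dbl t V X (2 * (m + 2)))
    (hUs : Us = Growth.W V (2 * (m + 2))) (hU : U = Growth.W X (2 * (m + 2))) {s : G} (S : Swap s V (m + 2))
    (sT : s ∈ T) (hs1 : s ∉ U) (hs2 : t * s ∉ U)
    {K : Type*} [Field K] {θ : K →+* K} {x1 x2 x3 : K → G}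
    (P : Out.Graph.GP t s θ x1 x2 x3 (V (2 * (m + 1))) (V (2 * (m + 1) + 1)) (V (2 * m + 1)) (V (2 * m)))
    (Z : Subgroup G) (Zc : ∀ z ∈ Growth.W V 2, ∀ w ∈ Us, z * w = w * z)
    (k0 : ∀ z ∈ Growth.W V 2, ∀ g : G, g⁻¹ * t * g ≠ z) (k0' : ∀ z ∈ Z, ∃ g : G, g⁻¹ * t * g = t * z)
    (hZ : Nat.card Z ≤ Nat.card (V 0))
    (k1 : ∀ c ∈ T, (∀ a ∈ T, ∀ b ∈ T, c * (a * b * a⁻¹ * b⁻¹) = a * b * a⁻¹ * b⁻¹ * c) → c ∈ Z ∨ t * c ∈ Z)
    (k2 : ∀ c ∈ T, (∀ z ∈ Z, c * z = z * c) → c ∈ U ∨ t * c ∈ U)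
    {Q : ℕ} (hQ : ∀ i < 2 * (m + 2), Nat.card (V i) ≤ Q) (hcU : Q ^ (m + 1) < Nat.card U) :
    ∃ v, (v = s ∨ v = t * s) ∧ NoConj F v := by
  have ti := P.t_inv
  have si := P.s_inv
  have st := P.st
  have S' : Swap (t * s) V (m + 2) := by
    have e : ∀ w, t * s * w * (t * s) = t * (s * w * s) * t := by
      intro w
      calc t * s * w * (t * s) = t * s * w * (s * t) := by rw [st]
        _ = t * (s * w * s) * t := by group
    refine ⟨?_, fun k hk w hw => ?_, fun k hk w hw => ?_⟩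
    · have := e 1
      rw [mul_one, mul_one, S.vv, mul_one, P.tt] at this
      exact this
    · rw [e]
      exact D.conj _ (by omega) _ (S.even k hk w hw)
    · rw [e]
      exact D.conj _ (by omega) _ (S.odd k hk w hw)
  have main : ∀ v, (v = s ∨ v = t * s) → Swap v V (m + 2) →
      (∀ w ∈ V (2 * (m + 1)), Out.Graph.br w (v * w * v) ∈ V (2 * m) → w = 1) → NoConj F v := by
    intro v hv Sv hB
    have hvU : v ∉ Us := by
      rcases hv with rfl | rfl
      · exact fun h => hs1 (mem_U F sT h)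
      · exact fun h => hs2 (mem_U F (mul_mem F.tT sT) h)
    have hW2 : Growth.W V 2 ≤ Us := by
      rw [hUs]; exact Growth.W_mono V (by omega)
    refine excl_of F ?_ fun g hg hgv => ?_
    · intro w hw h1
      rw [hUs] at hw
      obtain ⟨c, hc, h2⟩ := conj_pair D Sv (m + 2) le_rfl w hw h1
      exact ⟨c, hUs ▸ hc, h2⟩
    · refine Out.Graph.excludedG F hvU Z (Growth.W V 2) hW2 Zc k0 k0' ?_ k1 k2 ?_
        (Growth.W V (2 * (m + 1))) ?_ ?_ hgv hg
      · -- `|V 0| ≤ |C_{W 2}(v)|`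
        refine hZ.trans (Nat.card_le_card_of_injective (fun a : V 0 => (⟨a * (v * a * v), ?_⟩ :
          (Growth.W V 2 ⊓ centralizer ({v} : Set G) : Subgroup G))) ?_)
        · have ha' := Sv.even 0 (by omega) a a.2
          have ha : (a : G) ∈ Growth.W V 2 := Growth.le_W V (by omega) a.2
          have ha2 : v * (a : G) * v ∈ Growth.W V 2 := Growth.le_W V (by omega : 2 * 0 + 1 < 2) ha'
          refine ⟨mul_mem ha ha2, mem_centralizer_singleton_iff.2 ?_⟩
          have hc := Zc a ha _ (hW2 ha2)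
          calc (a : G) * (v * a * v) * v = a * v * a * (v * v) := by group
            _ = a * v * a := by rw [Sv.vv, mul_one]
            _ = (v * v) * (a * v * a) := by rw [Sv.vv, one_mul]
            _ = v * ((v * a * v) * a) := by group
            _ = v * (a * (v * a * v)) := by rw [hc]
        · intro a b hab
          have h1 : (a : G) * (v * a * v) = b * (v * b * v) := congrArg Subtype.val hab
          have ha' := Sv.even 0 (by omega) a a.2
          have hb' := Sv.even 0 (by omega) b b.2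
          have h2 : (b : G)⁻¹ * a * ((v * a * v) * (v * b * v)⁻¹) = 1 := by
            calc (b : G)⁻¹ * a * ((v * a * v) * (v * b * v)⁻¹) = (b : G)⁻¹ * (a * (v * a * v)) * (v * b * v)⁻¹ := by group
              _ = 1 := by rw [h1]; group
          obtain ⟨h3, -⟩ := pair_one D (by omega : 0 < m + 2) (mul_mem (inv_mem b.2) a.2)
            (mul_mem ha' (inv_mem hb')) (by rw [h2]; exact one_mem _)
          exact Subtype.ext (inv_mul_eq_one.1 h3).symm
      · intro P' hP'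
        rw [hU]
        refine iSup₂_le fun i hi x hx => hP' x ?_ (D.sq i hi x (D.X_le i hi hx))
        rw [hU]; exact Growth.le_W X hi hx
      · intro x hx hxv hxx
        rw [hUs] at hx
        exact inv_mem_M D Sv P.brm P.c33 hB hx hxv hxx
      · have h1 := card_pair D Sv hQ (m + 1) (by omega)
        refine lt_of_le_of_lt ?_ (lt_of_le_of_lt h1 hcU)
        refine Nat.card_le_card_of_injective _ (inclusion_injective ?_)
        exact inf_le_inf_right _ inf_le_right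
  rcases P.main with h | h
  · exact ⟨s, Or.inl rfl, main s (Or.inl rfl) S h⟩
  · refine ⟨t * s, Or.inr rfl, main (t * s) (Or.inr rfl) S' fun w hw hw' => h w hw ?_⟩
    have e : (t * s)⁻¹ = t * s := by rw [mul_inv_rev, ti, si, st]
    rwa [e]

end Cfsg.Agent.OddHalf.D7F4.OutGraph

end

-- merged: Cfsg.Agent.OddHalf.D7F4.OutField
section

/-!
# Pattern (C, C): an involution of field type (helper84, bb ODD 11098 §3)

`V 0 = W_ρ`, `V n = W_b` (`b` simple), `V j = W_{ρ-b}`.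
-/

set_option autoImplicit false

namespace Cfsg.Agent.OddHalf.D7F4.OutField

open Subgroup Out.Exclude Out.Excl Cfsg.Agent.Doubling TypeC

variable {G : Type*} [Group G] {t : G} {T U Us : Subgroup G} {V X : ℕ → Subgroup G} {n j : ℕ}

/-- **The exclusion for field type.** -/
theorem excl_field [Finite G] (F : Fr t T U Us) (D : Growth.Dbl t V X (n + 1))
    (isW : ∀ i < n + 1, IsW t (X i) (V i)) (hn : 1 ≤ n) (hj : j < n + 1)
    (hUs : Us = Growth.W V (n + 1)) {s : G} (sT : s ∈ T) (hs1 : s ∉ U) (hs2 : t * s ∉ U)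
    {K : Type*} [Field K] [Finite K] [CharP K 2] {σ : K →+* K} {w0 : K} (hw0 : w0 + σ w0 = 1) {x1 x2 x3 : K → G}
    (P : Out.ZeroDiv.Pair t s σ x1 x2 x3 (V j) (V n) (V 0))
    (sV : ∀ i < n + 1, ∀ w ∈ V i, s * w * s ∈ V i)
    (fX : ∀ i < n + 1, ∀ x ∈ X i, s * x * s = x → ∃ y ∈ X i, x = s * y * s * y⁻¹)
    (hcomm : ∀ i < n, ∀ w ∈ V i, ∀ z ∈ V j, w * z = z * w)
    (Z : Subgroup G) (Zc : ∀ z ∈ Growth.W V 2, ∀ w ∈ Us, z * w = w * z)
    (k0 : ∀ z ∈ Growth.W V 2, ∀ g : G, g⁻¹ * t * g ≠ z) (k0' : ∀ z ∈ Z, ∃ g : G, g⁻¹ * t * g = t * z)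
    (hZ : Nat.card Z ^ 2 ≤ Nat.card (Growth.W V 2))
    (k1 : ∀ c ∈ T, (∀ a ∈ T, ∀ b ∈ T, c * (a * b * a⁻¹ * b⁻¹) = a * b * a⁻¹ * b⁻¹ * c) → c ∈ Z ∨ t * c ∈ Z)
    (k2 : ∀ c ∈ T, (∀ z ∈ Z, c * z = z * c) → c ∈ U ∨ t * c ∈ U) {q : ℕ} (hq : Nat.card (V n) ≤ q ^ 2)
    (k3 : ∀ u ∈ U, (∃ c ∈ U, c * u ≠ u * c) → q ≤ Set.ncard {x | ∃ c ∈ U, x = c * u * c⁻¹}) :
    ∃ v, (v = s ∨ v = t * s) ∧ NoConj F v := by
  have ti : t⁻¹ = t := inv_eq_of_mul_eq_one_left P.tt
  have si : s⁻¹ = s := inv_eq_of_mul_eq_one_left P.ss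
  have st := P.st
  obtain ⟨θ1, θ2, β, C⟩ := P.exists_coord hw0
  obtain ⟨v, hv, y, hy, w, hw, hvy, hvw, hvx, hw1, hyw, hyx⟩ := C.zero_div hw0
  refine ⟨v, hv, ?_⟩
  have vv : v * v = 1 := by
    rcases hv with rfl | rfl
    · exact P.ss
    · calc t * s * (t * s) = t * s * (s * t) := by rw [st]
        _ = t * (s * s) * t := by group
        _ = 1 := by rw [P.ss, mul_one, P.tt]
  have vi : v⁻¹ = v := inv_eq_of_mul_eq_one_left vv
  have vt : t * v = v * t := by
    rcases hv with rfl | rfl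
    · exact st.symm
    · calc t * (t * s) = t * (s * t) := by rw [st]
        _ = t * s * t := by group
  have hvU : v ∉ Us := by
    rcases hv with rfl | rfl
    · exact fun h => hs1 (mem_U F sT h)
    · exact fun h => hs2 (mem_U F (mul_mem F.tT sT) h)
  have ets : ∀ w, t * s * w * (t * s) = t * (s * w * s) * t := by
    intro w
    calc t * s * w * (t * s) = t * s * w * (s * t) := by rw [st]
      _ = t * (s * w * s) * t := by group
  have vV : ∀ i < n + 1, ∀ w ∈ V i, v * w * v ∈ V i := by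
    intro i hi w hw
    rcases hv with rfl | rfl
    · exact sV i hi w hw
    · rw [ets]
      exact D.conj i hi _ (sV i hi w hw)
  have vX : ∀ i < n + 1, ∀ x ∈ X i, v * x * v = s * x * s := by
    intro i hi x hx
    rcases hv with rfl | rfl
    · rfl
    · calc t * s * x * (t * s) = s * t * x * (t * s) := by rw [st]
        _ = s * (t * x * t) * s := by group
        _ = s * x * s := by rw [D.X_fix i hi x hx]
  have vfree : ∀ i < n + 1, ∀ w ∈ V i, v * w * v = w → ∃ c ∈ V i, w = v * c * v * c⁻¹ := by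
    intro i hi w hw hvw
    refine OutEnm.free_of_free P.tt (isW i hi) vt vv (vV i hi) ?_ hw hvw
    intro x hx hxv
    rw [vX i hi x hx] at hxv
    obtain ⟨y, hy, he⟩ := fX i hi x hx hxv
    exact ⟨y, hy, by rw [vX i hi y hy]; exact he⟩
  have Dv := Out.Grow.change D vv vV vfree
  have hW2 : Growth.W V 2 ≤ Us := by
    rw [hUs]; exact Growth.W_mono V (by omega)
  have hyU : y ∈ Us := by rw [hUs]; exact Growth.le_W V hj hy
  have hnU : V n ≤ Us := by rw [hUs]; exact Growth.le_W V (Nat.lt_succ_self n)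
  have key : ∀ w : G, v * w * v = w ↔ w * v = v * w := by
    intro w
    constructor
    · intro h1
      calc w * v = v * w * v * v := by rw [h1]
        _ = v * w * (v * v) := by group
        _ = v * w := by rw [vv, mul_one]
    · intro h1
      rw [mul_assoc, h1, ← mul_assoc, vv, one_mul]
  have key' : ∀ w : G, v * w * v⁻¹ = w → w * v = v * w := fun w h => (key w).1 (by rwa [vi] at h)
  refine excl_of F ?_ fun g hg hgv => ?_
  · intro w hw h1
    rw [hUs] at hw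
    obtain ⟨c, hc, h2⟩ := Dv.exists_conj hw h1
    exact ⟨c, hUs ▸ hc, h2⟩
  · refine excluded F hvU Z (Growth.W V 2) hW2 Zc k0 k0' ?_ k1 k2 k3 hyU (key' y hvy)
      ⟨x2 1, hnU (P.l2.mem 1), key' _ hvx, fun h => hyx ?_⟩ ?_ hgv hg
    · -- `|Z| ≤ |C_{W 2}(v)|`
      have hab : ∀ a ∈ Growth.W V 2, ∀ b ∈ Growth.W V 2, a * b = b * a := fun a ha b hb => Zc a ha b (hW2 hb)
      have hsq : ∀ a ∈ Growth.W V 2, a * a = 1 := by
        intro a ha
        obtain ⟨u, hu, b, hb, rfl⟩ := D.mem_succ (k := 1) (by omega) ha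
        obtain ⟨u', hu', c, hc, rfl⟩ := D.mem_succ (k := 0) (by omega) hu
        rw [Growth.W_zero, mem_bot] at hu'
        rw [hu', one_mul]
        have e1 := D.sq 0 (by omega) c hc
        have e2 := D.sq 1 (by omega) b hb
        have e3 := hab c (Growth.le_W V (by omega) hc) b (Growth.le_W V (by omega) hb)
        calc c * b * (c * b) = c * (b * c) * b := by group
          _ = (c * c) * (b * b) := by rw [← e3]; group
          _ = 1 := by rw [e1, e2, one_mul]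
      have h1 := Out.Grow.card_eq_sq (v := v) hab vv (fun w hw => Dv.conj_W (by omega) hw) (fun w hw h => by
        have hwi : w⁻¹ = w := inv_eq_of_mul_eq_one_left (hsq w hw)
        exact (Dv.main 2 (by omega)).2 w hw (by rw [h, hwi])) hsq
      rw [h1] at hZ
      exact (Nat.pow_le_pow_iff_left (by norm_num)).1 hZ
    · unfold Out.ZeroDiv.br
      rw [← h]; group
    · -- few conjugates
      set B0 : Subgroup G := V n ⊓ centralizer ({v} : Set G) with hB0
      have hB : Nat.card B0 ≤ q := by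
        have h1 := Out.Grow.card_eq_sq (v := v) (A := V n)
          (fun a ha b hb => Out.Grow.comm_of_sq (D.sq n (by omega)) ha hb) vv (vV n (by omega))
          (vfree n (by omega)) (D.sq n (by omega))
        rw [h1] at hq
        exact (Nat.pow_le_pow_iff_left (by norm_num)).1 hq
      have hwB : w ∈ B0 := Subgroup.mem_inf.2 ⟨hw, mem_centralizer_singleton_iff.2 (key' w hvw)⟩
      have hwy : w * y * w⁻¹ = y := by
        unfold Out.ZeroDiv.br at hyw
        have h1 : y * w = w * y := by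
          calc y * w = (y * w * y⁻¹ * w⁻¹) * (w * y) := by group
            _ = w * y := by rw [hyw, one_mul]
        rw [← h1, mul_inv_cancel_right]
      have hsub : {x | ∃ c ∈ Us, c * v = v * c ∧ x = c * y * c⁻¹} ⊆
          (fun b => b * y * b⁻¹) '' ((B0 : Set G) \ {w}) := by
        rintro x ⟨c, hc, hcv, rfl⟩
        rw [hUs] at hc
        obtain ⟨u, hu, b, hb, rfl⟩ := D.mem_succ (k := n) (by omega) hc
        have hfix := (key _).2 hcv
        have hvb : v * b * v = b := by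
          have e0 : v * (u * b) * v = (v * u * v) * (v * b * v) := by
            calc v * (u * b) * v = v * u * 1 * b * v := by group
              _ = v * u * (v * v) * b * v := by rw [vv]
              _ = _ := by group
          rw [e0] at hfix
          have e1 : (v * b * v) * b⁻¹ = (v * u * v)⁻¹ * u := by
            rw [eq_inv_mul_iff_mul_eq, ← mul_assoc, hfix, mul_inv_cancel_right]
          have e2 : (v * b * v) * b⁻¹ ∈ V n ⊓ Growth.W V n := by
            refine Subgroup.mem_inf.2 ⟨mul_mem (vV n (by omega) b hb) (inv_mem hb), ?_⟩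
            rw [e1]
            exact mul_mem (inv_mem (Dv.conj_W (by omega) hu)) hu
          rw [Out.Grow.disj D (by omega), mem_bot] at e2
          exact mul_inv_eq_one.1 e2
        have hbB : b ∈ B0 := Subgroup.mem_inf.2 ⟨hb, mem_centralizer_singleton_iff.2 ((key b).1 hvb)⟩
        have hconj : u * b * y * (u * b)⁻¹ = b * y * b⁻¹ := by
          have huy : u * y = y * u := by
            have hle : Growth.W V n ≤ centralizer ({y} : Set G) :=
              iSup₂_le fun i hi z hz => mem_centralizer_singleton_iff.2 (hcomm i hi z hz y hy)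
            exact mem_centralizer_singleton_iff.1 (hle hu)
          have hz : b * y * b⁻¹ * y⁻¹ ∈ V 0 := by
            have h1 := P.comm y hy b hb
            have h2 : b * y * b⁻¹ * y⁻¹ = (y * b * y⁻¹ * b⁻¹)⁻¹ := by group
            rw [h2]; exact inv_mem h1
          have hzc := Zc _ (Growth.le_W V (by omega : 0 < 2) hz) u (by
            rw [hUs]; exact Growth.W_mono V (Nat.le_succ n) hu)
          calc u * b * y * (u * b)⁻¹ = u * (b * y * b⁻¹ * y⁻¹) * y * u⁻¹ := by group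
            _ = (b * y * b⁻¹ * y⁻¹) * (u * y) * u⁻¹ := by rw [← hzc]; group
            _ = (b * y * b⁻¹ * y⁻¹) * (y * u) * u⁻¹ := by rw [huy]
            _ = b * y * b⁻¹ := by group
        rw [hconj]
        by_cases hbw : b = w
        · refine ⟨1, ⟨one_mem B0, fun h => hw1 h.symm⟩, ?_⟩
          change 1 * y * 1⁻¹ = b * y * b⁻¹
          rw [hbw, hwy]; group
        · exact ⟨b, ⟨hbB, hbw⟩, rfl⟩
      calc Set.ncard {x | ∃ c ∈ Us, c * v = v * c ∧ x = c * y * c⁻¹}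
          ≤ Set.ncard ((fun b => b * y * b⁻¹) '' ((B0 : Set G) \ {w})) := Set.ncard_le_ncard hsub (Set.toFinite _)
        _ ≤ Set.ncard ((B0 : Set G) \ {w}) := Set.ncard_image_le (Set.toFinite _)
        _ < Set.ncard (B0 : Set G) := Set.ncard_lt_ncard ⟨Set.sdiff_subset, fun h => (h hwB).2 rfl⟩ (Set.toFinite _)
        _ = Nat.card B0 := (Nat.card_coe_set_eq _).symm
        _ ≤ q := hB

end Cfsg.Agent.OddHalf.D7F4.OutField

end

-- merged: Cfsg.Agent.OddHalf.D7F4.CCOut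
section

/-!
# K = F4(q): both lengths are moved, any outer 2-part (S1765, node D7; helper84)

* `Crd t F x X W H`: coordinates of the root groups and the torus;
* `Fld`, `Grf`: field and graph type;
* `TG`: the Sylow group `T` of `C_G(t)`, `T = D U`;
* `main`: `t` is not in the commutator subgroup of `G`.
-/

set_option autoImplicit false
set_option linter.unusedSectionVars false

namespace Cfsg.Agent.OddHalf.D7F4.CCOut

open Model TypeC CC OutEnm OutModel Cfsg.Agent.Doubling Subgroup Out.Exclude Out.Excl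
open Lead (Ab Dir Ab_le Ab_mono ρ σ ρ' σ' α3 α0)

def α2 : Fin 4 → ℤ := ![0, 0, 1, 0]
def α1 : Fin 4 → ℤ := ![0, 1, 0, 0]
def α12 : Fin 4 → ℤ := ![0, 1, 1, 0]
def α112 : Fin 4 → ℤ := ![0, 2, 1, 0]

/-- the value of a character -/
def ch {F : Type*} [Field F] (χ : Fin 4 → Fˣ) (a : Fin 4 → ℤ) : F := ((∏ i, χ i ^ a i : Fˣ) : F)

/-- Coordinates. -/
structure Crd {G : Type*} [Group G] (t : G) {F : Type*} [Field F] (x : (Fin 4 → ℤ) → F → G)
    (X W : (Fin 4 → ℤ) → Subgroup G) (H : Subgroup G) : Prop where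
  mem : ∀ a ∈ rts, ∀ u, x a u ∈ X a
  surj : ∀ a ∈ rts, ∀ g ∈ X a, ∃ u, g = x a u
  add : ∀ a ∈ rts, ∀ u v, x a (u + v) = x a u * x a v
  inj : ∀ a ∈ rts, ∀ u, x a u = 1 → u = 0
  r1 : ∀ u v, x ρ' u * x α3 v * (x ρ' u)⁻¹ * (x α3 v)⁻¹ = x ρ (u * v)
  r2 : ∀ u v, ∃ w ∈ X α112, x α2 u * x α1 v * (x α2 u)⁻¹ * (x α1 v)⁻¹ = x α12 (u * v) * w
  tor : ∀ χ : Fin 4 → Fˣ, ∃ h ∈ H, ∀ a ∈ rts, ∀ u, h * x a u * h⁻¹ = x a (ch χ a * u)
  Ht : ∀ h ∈ H, t * h = h * t
  HX : ∀ h ∈ H, ∀ a ∈ rts, ∀ y ∈ X a, h * y * h⁻¹ ∈ X a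
  HW : ∀ h ∈ H, ∀ a ∈ rts, (∀ y ∈ X a, h * y = y * h) → ∀ w ∈ W a, h * w = w * h
  Hs : ∀ h ∈ H, ∀ y, y * t = t * y → y * h * y⁻¹ * h⁻¹ ≠ t
  /-- `C(t) ∩ C(K) = {1, t}` -/
  cK : ∀ g, g * t = t * g → (∀ a ∈ rts, ∀ y ∈ X a, g * y = y * g) → g = 1 ∨ g = t

/-- field type -/
def Fld {G F : Type*} [Group G] [Field F] (x : (Fin 4 → ℤ) → F → G) (d : G) (φ : F →+* F) : Prop :=
  ∀ a ∈ rts, ∀ u, d * x a u * d⁻¹ = x a (φ u)

/-- graph type -/
def Grf {G F : Type*} [Group G] [Field F] (x : (Fin 4 → ℤ) → F → G) (d : G) (θ : F →+* F) : Prop :=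
  ∀ a ∈ rts, ∀ u, (B a a = 4 → d * x a u * d⁻¹ = x (dual a) (θ u)) ∧
    (B a a = 2 → d * x a u * d⁻¹ = x (dual a) (θ u * θ u))

/-- The Sylow group `T` of `C_G(t)`. -/
structure TG {G F : Type*} [Group G] [Field F] (t : G) (T D U : Subgroup G) (x : (Fin 4 → ℤ) → F → G) : Prop where
  T2 : IsPGroup 2 T
  tD : t ∈ D
  Tc : ∀ d ∈ T, d * t = t * d
  Tmax : ∀ P : Subgroup G, IsPGroup 2 P → T ≤ P → (∀ x ∈ P, x * t = t * x) → P ≤ T
  UT : U ≤ T
  ab : ∀ a ∈ T, ∀ b ∈ T, a * b * a⁻¹ * b⁻¹ ∈ U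
  DT : D ≤ T
  fac : ∀ v ∈ T, ∃ y ∈ D, ∃ x ∈ U, v = y * x
  DU : ∀ e ∈ D, e ∈ U → e = 1
  one : ∀ e ∈ D, ∀ f ∈ D, e * e = 1 → f * f = 1 → e ≠ 1 → e ≠ t → f ≠ 1 → f ≠ t → f = e ∨ f = t * e
  act : ∀ y ∈ D, (∃ φ : F →+* F, Fld x y φ) ∨ ∃ θ : F →+* F, Grf x y θ

variable {G : Type*} [Group G] {t : G} {F : Type*} [Field F] {x : (Fin 4 → ℤ) → F → G}
  {X W : (Fin 4 → ℤ) → Subgroup G} {H : Subgroup G}

namespace Crd

variable (C : Crd t x X W H)

include C

theorem zero {a : Fin 4 → ℤ} (ha : a ∈ rts) : x a 0 = 1 := by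
  have h1 := C.add a ha 0 0
  rw [add_zero] at h1
  exact (mul_eq_left.1 h1.symm)

theorem xinj {a : Fin 4 → ℤ} (ha : a ∈ rts) {u v : F} (h : x a u = x a v) : u = v := by
  have h1 : x a (u - v) = 1 := by
    have h2 := C.add a ha (u - v) v
    rw [sub_add_cancel, h] at h2
    exact (mul_eq_right.1 h2.symm)
  exact sub_eq_zero.1 (C.inj a ha _ h1)

theorem card_X [Finite F] {a : Fin 4 → ℤ} (ha : a ∈ rts) : Nat.card (X a) = Nat.card F := by
  symm
  refine Nat.card_congr (Equiv.ofBijective (fun u => (⟨x a u, C.mem a ha u⟩ : X a)) ⟨?_, ?_⟩)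
  · intro u v h
    exact C.xinj ha (congrArg Subtype.val h)
  · rintro ⟨g, hg⟩
    obtain ⟨u, rfl⟩ := C.surj a ha g hg
    exact ⟨u, rfl⟩

/-- an element acting on all root groups and fixing the coordinates is `1` or `t` -/
theorem eq_of_fix {g : G} (hg : g * t = t * g) (h : ∀ a ∈ rts, ∀ u, g * x a u * g⁻¹ = x a u) : g = 1 ∨ g = t := by
  refine C.cK g hg fun a ha y hy => ?_
  obtain ⟨u, rfl⟩ := C.surj a ha y hy
  have h1 := h a ha u
  calc g * x a u = g * x a u * g⁻¹ * g := by group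
    _ = x a u * g := by rw [h1]

end Crd

/-! ### Conjugation -/

theorem dual_nonneg : ∀ a ∈ rts, ∀ b ∈ rts, 0 ≤ B (dual a) (dual b) → 0 ≤ B a b := by (delta Cfsg.Agent.OddHalf.D7F4.Model.B Cfsg.Agent.OddHalf.D7F4.Model.dual Cfsg.Agent.OddHalf.D7F4.Model.tau; set_option synthInstance.maxSize 100000 in exact Cfsg.Agent.Lib.Refl.of (by decide +kernel))

theorem dual_lv : ∀ a ∈ rts, 0 < lv a → 0 < lv (dual a) := by decide +kernel

/-- Field type elements normalise the doubled root groups. -/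
theorem fld_W [Finite F] (h : CC.Hyp t B Phi X W) (C : Crd t x X W H) {d : G} (hd : d * t = t * d) {φ : F →+* F}
    (hφ : Fld x d φ) {a : Fin 4 → ℤ} (ha : a ∈ rts) {w : G} (hw : w ∈ W a) : d * w * d⁻¹ ∈ W a := by
  refine canon h hd.symm (π := id) (fun a ha => ha) (fun c hc => ⟨c, hc, rfl⟩) (fun a _ b _ h => h) ?_ ?_ ha hw
  · intro a ha y hy
    obtain ⟨u, rfl⟩ := C.surj a ha y hy
    rw [hφ a ha]
    exact C.mem a ha _
  · intro a ha y hy
    obtain ⟨u, rfl⟩ := C.surj a ha y hy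
    obtain ⟨v, rfl⟩ := (Finite.injective_iff_surjective.1 φ.injective) u
    rw [← hφ a ha]
    have : d⁻¹ * (d * x a v * d⁻¹) * d = x a v := by group
    rw [this]
    exact C.mem a ha _

theorem grf_surj [Finite F] [CharP F 2] (θ : F →+* F) (u : F) : ∃ v, θ v * θ v = u := by
  obtain ⟨v, rfl⟩ := (Finite.injective_iff_surjective.1 θ.injective) u
  obtain ⟨w, rfl⟩ := (Finite.injective_iff_surjective.1 (frobenius F 2).injective) v
  exact ⟨w, by rw [frobenius_def, pow_two, map_mul]⟩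

/-- Graph type elements interchange the doubled root groups. -/
theorem grf_W [Finite F] [CharP F 2] (h : CC.Hyp t B Phi X W) (C : Crd t x X W H) {d : G} (hd : d * t = t * d)
    {θ : F →+* F} (hθ : Grf x d θ) {a : Fin 4 → ℤ} (ha : a ∈ rts) {w : G} (hw : w ∈ W a) :
    d * w * d⁻¹ ∈ W (dual a) := by
  refine canon h hd.symm (π := dual) dual_mem (fun c hc => ⟨dual c, dual_mem c hc, dual_dual c hc⟩)
    dual_nonneg ?_ ?_ ha hw
  · intro a ha y hy
    obtain ⟨u, rfl⟩ := C.surj a ha y hy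
    rcases Model.norm a ha with h1 | h1
    · rw [(hθ a ha u).2 h1]; exact C.mem _ (dual_mem a ha) _
    · rw [(hθ a ha u).1 h1]; exact C.mem _ (dual_mem a ha) _
  · intro a ha y hy
    obtain ⟨u, rfl⟩ := C.surj _ (dual_mem a ha) y hy
    rcases Model.norm a ha with h1 | h1
    · obtain ⟨v, rfl⟩ := grf_surj θ u
      rw [← (hθ a ha v).2 h1]
      have : d⁻¹ * (d * x a v * d⁻¹) * d = x a v := by group
      rw [this]
      exact C.mem a ha _
    · obtain ⟨v, rfl⟩ := (Finite.injective_iff_surjective.1 θ.injective) u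
      rw [← (hθ a ha v).1 h1]
      have : d⁻¹ * (d * x a v * d⁻¹) * d = x a v := by group
      rw [this]
      exact C.mem a ha _

/-- `D` normalises `U*`. -/
theorem D_norm [Finite F] [CharP F 2] (h : CC.Hyp t B Phi X W) (C : Crd t x X W H) {d : G} (hd : d * t = t * d)
    (hact : (∃ φ : F →+* F, Fld x d φ) ∨ ∃ θ : F →+* F, Grf x d θ) {w : G} (hw : w ∈ Ab W 0) :
    d * w * d⁻¹ ∈ Ab W 0 := by
  have hle : Ab W 0 ≤ (Ab W 0).comap (MulAut.conj d).toMonoidHom := by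
    refine Ab_le fun a ha ha0 v hv => ?_
    show d * v * d⁻¹ ∈ Ab W 0
    rcases hact with ⟨φ, hφ⟩ | ⟨θ, hθ⟩
    · exact Lead.le_Ab ha ha0 (fld_W h C hd hφ ha hv)
    · exact Lead.le_Ab (dual_mem a ha) (dual_lv a ha ha0) (grf_W h C hd hθ ha hv)
  exact hle hw

section main

variable [Finite G] [Finite F] [CharP F 2] {T D : Subgroup G}

/-- The frame. -/
theorem fr (h : CC.Hyp t B Phi X W) (hD : Dir X) (C : Crd t x X W H) (hT : TG t T D (Ab X 0) x) :
    Fr t T (Ab X 0) (Ab W 0) where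
  tt := h.tt
  T2 := hT.T2
  tT := hT.DT hT.tD
  Tc := hT.Tc
  Tmax := hT.Tmax
  Us2 := Us2 h hD (fun a ha => C.card_X ha)
  norm := by
    intro d hd w hw
    obtain ⟨y, hy, u, hu, rfl⟩ := hT.fac d hd
    have hu' : u ∈ Ab W 0 := ((mem_U_iff h hD (fun a ha => C.card_X ha)).1 hu).1
    have h1 := D_norm h C (hT.Tc y (hT.DT hy)) (hT.act y hy) (mul_mem (mul_mem hu' hw) (inv_mem hu'))
    have h2 : y * (u * w * u⁻¹) * y⁻¹ = y * u * w * (y * u)⁻¹ := by group
    rwa [h2] at h1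
  UT := hT.UT
  hU := fun w => mem_U_iff h hD (fun a ha => C.card_X ha)
  ab := hT.ab

theorem fld_fix (C : Crd t x X W H) {d : G} (hd : d * t = t * d)
    (hact : (∃ φ : F →+* F, Fld x d φ) ∨ ∃ θ : F →+* F, Grf x d θ)
    (hind : ∀ y ∈ X ρ, y ∈ X σ → y = 1)
    (hc : ∀ y ∈ X ρ, d * y = y * d) : d = 1 ∨ d = t := by
  have hx : ∀ u, d * x ρ u * d⁻¹ = x ρ u := by
    intro u
    rw [hc _ (C.mem ρ Lead.ρ_mem u), mul_inv_cancel_right]
  rcases hact with ⟨φ, hφ⟩ | ⟨θ, hθ⟩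
  · apply C.eq_of_fix hd
    intro a ha u
    have h1 := hx u
    rw [hφ ρ Lead.ρ_mem] at h1
    rw [hφ a ha, C.xinj Lead.ρ_mem h1]
  · exfalso
    have h1 := hx 1
    have e : B ρ ρ = 4 ∧ dual ρ = σ := by decide +kernel
    rw [(hθ ρ Lead.ρ_mem 1).1 e.1, e.2] at h1
    have h2 := hind (x ρ 1) (C.mem ρ Lead.ρ_mem 1) (by rw [← h1]; exact C.mem σ Lead.σ_mem _)
    exact one_ne_zero (C.inj ρ Lead.ρ_mem 1 h2)

/-- elements of `T` centralising `X ρ` -/
theorem hout (hK : KF t X) (C : Crd t x X W H) (hT : TG t T D (Ab X 0) x) {c : G} (hc : c ∈ T)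
    (hcc : ∀ y ∈ X ρ, c * y = y * c) : c ∈ Ab X 0 ∨ t * c ∈ Ab X 0 := by
  obtain ⟨d, hd, u, hu, rfl⟩ := hT.fac c hc
  have h1 : ∀ y ∈ X ρ, d * y = y * d := by
    intro y hy
    have h2 := hcc y hy
    have h3 := Lead.central hK (Or.inl rfl) hy hu
    have h4 : d * y * u = y * d * u := by
      calc d * y * u = d * (y * u) := by group
        _ = d * (u * y) := by rw [h3]
        _ = d * u * y := by group
        _ = y * (d * u) := h2
        _ = y * d * u := by group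
    exact mul_right_cancel h4
  rcases fld_fix C (hT.Tc d (hT.DT hd)) (hT.act d hd)
    (fun y hy hy' => hK.ind ρ Lead.ρ_mem σ Lead.σ_mem (by decide +kernel) y hy hy') h1 with h2 | h2
  · left; rw [h2, one_mul]; exact hu
  · right; rw [h2, ← mul_assoc, hK.tt, one_mul]; exact hu

/-- `|D| ≤ 4 q` -/
theorem card_D (hK : KF t X) (C : Crd t x X W H) (hT : TG t T D (Ab X 0) x) :
    Nat.card D ≤ 2 * (2 * Nat.card F) := by
  classical
  have := Fintype.ofFinite F
  obtain ⟨ω, hω⟩ := IsCyclic.exists_generator (α := Fˣ)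
  have hid : ∀ φ : F →+* F, φ ω = ω → ∀ u, φ u = u := by
    intro φ hφ u
    by_cases hu : u = 0
    · rw [hu, map_zero]
    · obtain ⟨n, hn⟩ := Subgroup.mem_zpowers_iff.1 (hω (Units.mk0 u hu))
      have h1 : u = (ω : F) ^ n := by
        have := congrArg Units.val hn
        rw [Units.val_zpow_eq_zpow_val, Units.val_mk0] at this
        exact this.symm
      rw [h1, map_zpow₀, hφ]
  have hind : ∀ y ∈ X ρ, y ∈ X σ → y = 1 := fun y hy hy' =>
    hK.ind ρ Lead.ρ_mem σ Lead.σ_mem (by decide +kernel) y hy hy'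
  have e : B ρ ρ = 4 ∧ dual ρ = σ := by decide +kernel
  have hval : ∀ d : D, ∃ z : F ⊕ F, (d : G) * x ρ ω * (d : G)⁻¹ = Sum.elim (x ρ) (x σ) z := by
    intro d
    rcases hT.act d d.2 with ⟨φ, hφ⟩ | ⟨θ, hθ⟩
    · exact ⟨Sum.inl (φ ω), hφ ρ Lead.ρ_mem ω⟩
    · exact ⟨Sum.inr (θ ω), by rw [(hθ ρ Lead.ρ_mem ω).1 e.1, e.2]; rfl⟩
  choose f hf using hval
  have key : ∀ d d' : D, f d = f d' → (d : G) = d' ∨ (d : G) = d' * t := by
    intro d d' hdd
    have hk : ((d' : G)⁻¹ * d) * x ρ ω * ((d' : G)⁻¹ * d)⁻¹ = x ρ ω := by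
      have h1 := hf d
      rw [hdd, ← hf d'] at h1
      calc ((d' : G)⁻¹ * d) * x ρ ω * ((d' : G)⁻¹ * d)⁻¹ = (d' : G)⁻¹ * (d * x ρ ω * (d : G)⁻¹) * d' := by group
        _ = x ρ ω := by rw [h1]; group
    have hkD : (d' : G)⁻¹ * d ∈ D := mul_mem (inv_mem d'.2) d.2
    have hkt := hT.Tc _ (hT.DT hkD)
    have h2 : (d' : G)⁻¹ * d = 1 ∨ (d' : G)⁻¹ * d = t := by
      rcases hT.act _ hkD with ⟨φ, hφ⟩ | ⟨θ, hθ⟩
      · apply C.eq_of_fix hkt
        rw [hφ ρ Lead.ρ_mem] at hk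
        have h3 := hid φ (C.xinj Lead.ρ_mem hk)
        intro a ha u
        rw [hφ a ha, h3]
      · exfalso
        rw [(hθ ρ Lead.ρ_mem _).1 e.1, e.2] at hk
        have h2 := hind (x ρ ω) (C.mem ρ Lead.ρ_mem ω) (by rw [← hk]; exact C.mem σ Lead.σ_mem _)
        exact ω.ne_zero (C.inj ρ Lead.ρ_mem ω h2)
    rcases h2 with h2 | h2
    · left; exact (inv_mul_eq_one.1 h2).symm
    · right; rw [← h2, mul_inv_cancel_left]
  have hr : ∀ z : F ⊕ F, ∃ r : D, ∀ d : D, f d = z → (d : G) = r ∨ (d : G) = r * t := by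
    intro z
    by_cases hz : ∃ r, f r = z
    · obtain ⟨r, rfl⟩ := hz
      exact ⟨r, fun d hd => key d r hd⟩
    · exact ⟨1, fun d hd => absurd ⟨d, hd⟩ hz⟩
  choose r hr using hr
  have h1 : Nat.card D ≤ Nat.card (Bool × (F ⊕ F)) := by
    refine Nat.card_le_card_of_injective (fun d : D => (decide ((d : G) = r (f d)), f d)) ?_
    intro d d' hdd
    have h1 : decide ((d : G) = r (f d)) = decide ((d' : G) = r (f d')) := congrArg Prod.fst hdd
    have h2 : f d = f d' := congrArg Prod.snd hdd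
    apply Subtype.ext
    rw [decide_eq_decide] at h1
    by_cases h3 : (d : G) = r (f d)
    · rw [h3, h1.1 h3, h2]
    · have h4 := (hr (f d) d rfl).resolve_left h3
      have h5 := (hr (f d') d' rfl).resolve_left (fun h => h3 (h1.2 h))
      rw [h4, h5, h2]
  rw [Nat.card_prod, Nat.card_sum] at h1
  have h2 : Nat.card Bool = 2 := by simp
  rw [h2] at h1
  omega

/-- `t` is not conjugate to an element centralising `U*` -/
theorem k0 (hK : KF t X) (h : CC.Hyp t B Phi X W) (hD : Dir X) (C : Crd t x X W H) (hT : TG t T D (Ab X 0) x)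
    {z : G} (hz : ∀ w ∈ Ab W 0, z * w = w * z) (g : G) : g⁻¹ * t * g ≠ z := by
  intro hg
  have Fm := fr h hD C hT
  set q := Nat.card F with hq
  have hq2 : 2 ≤ q := by
    have : Nontrivial F := inferInstance
    exact Finite.one_lt_card
  -- `g U* g⁻¹ ≤ C(t)`
  set P : Subgroup G := (Ab W 0).map (MulAut.conj g).toMonoidHom with hP
  have hP2 : IsPGroup 2 P := (Us2 h hD (fun a ha => C.card_X ha)).map _
  have hPc : P ≤ centralizer ({t} : Set G) := by
    rintro _ ⟨w, hw, rfl⟩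
    rw [mem_centralizer_singleton_iff]
    change g * w * g⁻¹ * t = t * (g * w * g⁻¹)
    have h1 := hz w hw
    calc g * w * g⁻¹ * t = g * (w * (g⁻¹ * t * g)) * g⁻¹ := by group
      _ = g * (g⁻¹ * t * g * w) * g⁻¹ := by rw [hg, h1]
      _ = t * (g * w * g⁻¹) := by group
  have hPcard : Nat.card P = (q ^ 2) ^ 24 := by
    rw [hP, ← card_Us h hD (fun a ha => C.card_X ha)]
    exact (Nat.card_congr ((Ab W 0).equivMapOfInjective _ (MulAut.conj g).injective).toEquiv).symm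
  have hTc : T ≤ centralizer ({t} : Set G) := fun d hd => mem_centralizer_singleton_iff.2 (hT.Tc d hd)
  have hodd := F4.EndOut.odd_relIndex Fm
  have hcardC : Nat.card T * T.relIndex (centralizer ({t} : Set G)) = Nat.card (centralizer ({t} : Set G)) := by
    have := relIndex_mul_relIndex (⊥ : Subgroup G) T (centralizer ({t} : Set G)) bot_le hTc
    rwa [relIndex_bot_left, relIndex_bot_left] at this
  have hdvd : Nat.card P ∣ Nat.card T := by
    have h1 : Nat.card P ∣ Nat.card T * T.relIndex (centralizer ({t} : Set G)) := by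
      rw [hcardC]
      exact card_dvd_of_le hPc
    obtain ⟨k, hk⟩ := hP2.exists_card_eq
    refine Nat.Coprime.dvd_of_dvd_mul_right ?_ h1
    rw [hk]
    exact Nat.Coprime.pow_left k (Nat.coprime_two_left.2 hodd)
  have hle := Nat.le_of_dvd Nat.card_pos hdvd
  -- `|T| ≤ |D| |U|`
  have hTle : Nat.card T ≤ Nat.card D * Nat.card (Ab X 0) := by
    rw [← Nat.card_prod]
    refine Nat.card_le_card_of_surjective (fun z : D × Ab X 0 =>
      (⟨z.1 * z.2, mul_mem (hT.DT z.1.2) (hT.UT z.2.2)⟩ : T)) ?_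
    rintro ⟨v, hv⟩
    obtain ⟨y, hy, u, hu, rfl⟩ := hT.fac v hv
    exact ⟨⟨⟨y, hy⟩, ⟨u, hu⟩⟩, rfl⟩
  have hDc := card_D hK C hT
  rw [card_U h hD (fun a ha => C.card_X ha)] at hTle
  rw [hPcard] at hle
  have h1 : (q ^ 2) ^ 24 ≤ 2 * (2 * q) * q ^ 24 := hle.trans (hTle.trans (Nat.mul_le_mul_right _ hDc))
  have h2 : q ^ 23 * (q * q ^ 24) ≤ 4 * (q * q ^ 24) := by
    calc q ^ 23 * (q * q ^ 24) = (q ^ 2) ^ 24 := by ring
      _ ≤ 2 * (2 * q) * q ^ 24 := h1
      _ = 4 * (q * q ^ 24) := by ring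
  have h3 : q ^ 23 ≤ 4 := Nat.le_of_mul_le_mul_right h2 (by positivity)
  have h4 : 2 ^ 23 ≤ q ^ 23 := Nat.pow_le_pow_left hq2 23
  norm_num at h4
  omega

/-- `t` is conjugate to `t z`, `z ∈ X ρ X σ` -/
theorem k0' (h : CC.Hyp t B Phi X W) {z : G} (hz : z ∈ X ρ ⊔ X σ) : ∃ g : G, g⁻¹ * t * g = t * z := by
  have e : (0 : ℤ) ≤ B ρ σ := by decide +kernel
  have hcX : ∀ w ∈ X ρ, ∀ v ∈ X σ, w * v = v * w := fun w hw v hv =>
    h.WX ρ Lead.ρ_mem σ Lead.σ_mem e w ((h.isW ρ Lead.ρ_mem).XW hw) v hv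
  obtain ⟨y1, hy1, y2, hy2, rfl⟩ := (mem_sup_of_comm hcX).1 hz
  obtain ⟨w1, hw1, e1⟩ := (h.isW ρ Lead.ρ_mem).surj y1 hy1
  obtain ⟨w2, hw2, e2⟩ := (h.isW σ Lead.σ_mem).surj y2 hy2
  have e1' : D t w1 = y1 := e1
  have e2' : D t w2 = y2 := e2
  have hc : w2 * y1 = y1 * w2 :=
    h.WX σ Lead.σ_mem ρ Lead.ρ_mem (by rw [h.roots.symm]; exact e) w2 hw2 y1 hy1
  have h1 : D t (w1 * w2) = y1 * y2 := by
    rw [D_mul h.tt, e1', e2', mul_assoc w2⁻¹, ← hc, inv_mul_cancel_left]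
  refine ⟨t * (w1 * w2) * t, ?_⟩
  rw [← h1]
  have ti := t_inv h.tt
  have h2 : (t * (w1 * w2) * t)⁻¹ = t * (w1 * w2)⁻¹ * t := by
    rw [mul_inv_rev, mul_inv_rev, ti]; group
  rw [h2]
  unfold TypeC.D
  calc t * (w1 * w2)⁻¹ * t * t * (t * (w1 * w2) * t)
      = t * (w1 * w2)⁻¹ * (t * t) * (t * (w1 * w2) * t) := by group
    _ = t * ((w1 * w2)⁻¹ * (t * (w1 * w2) * t)) := by rw [h.tt]; group

/-! ### Graph type -/

theorem ch_ρ (χ : Fin 4 → Fˣ) : ch χ ρ = (χ 0 : F) ^ 2 * (χ 1 : F) ^ 4 * (χ 2 : F) ^ 3 * (χ 3 : F) ^ 2 := by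
  unfold ch
  rw [Fin.prod_univ_four]
  simp [ρ]

theorem ch_ρ' (χ : Fin 4 → Fˣ) : ch χ ρ' = (χ 0 : F) ^ 2 * (χ 1 : F) ^ 4 * (χ 2 : F) ^ 3 * (χ 3 : F) := by
  unfold ch
  rw [Fin.prod_univ_four]
  simp [ρ']

theorem ch_α3 (χ : Fin 4 → Fˣ) : ch χ α3 = (χ 3 : F) := by
  unfold ch
  rw [Fin.prod_univ_four]
  simp [α3]

theorem ch_α2 (χ : Fin 4 → Fˣ) : ch χ α2 = (χ 2 : F) := by
  unfold ch
  rw [Fin.prod_univ_four]
  simp [α2]

theorem sq_eq (θ : F →+* F) (two : ∀ a, θ (θ a) * θ (θ a) = a) {s : G} (C : Crd t x X W H) (hθ : Grf x s θ)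
    (hst : s * t = t * s) (c : Fˣ) : ∃ h ∈ H, h * s = s * h ∧ ∀ u, h * x α2 u * h⁻¹ = x α2 (c * u) := by
  -- the character
  set χ : Fin 4 → Fˣ := ![1, Units.map (θ : F →* F) c, c, 1] with hχ
  have hch : ∀ a : Fin 4 → ℤ, ch χ a = θ c ^ a 1 * (c : F) ^ a 2 := by
    intro a
    unfold ch
    rw [Fin.prod_univ_four]
    simp [hχ, Units.val_zpow_eq_zpow_val]
  have hθθ : ∀ n : ℤ, θ (θ c) ^ (2 * n) = (c : F) ^ n := by
    intro n
    rw [zpow_mul, zpow_ofNat, pow_two, two]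
  obtain ⟨h, hh, hx⟩ := C.tor χ
  have hsi : ∀ a ∈ rts, ∀ u, s * x a u * s⁻¹ = x (dual a) (if B a a = 4 then θ u else θ u * θ u) := by
    intro a ha u
    rcases Model.norm a ha with h1 | h1
    · rw [(hθ a ha u).2 h1, if_neg (by omega)]
    · rw [(hθ a ha u).1 h1, if_pos h1]
  have e1 : ∀ a ∈ rts, B a a = 4 → ch χ (dual a) = θ (ch χ a) := by
    have hd : ∀ a ∈ rts, B a a = 4 → 2 * dual a 2 = a 1 ∧ dual a 1 = a 2 := by decide +kernel
    intro a ha h1
    obtain ⟨k1, k2⟩ := hd a ha h1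
    rw [hch, hch, map_mul, map_zpow₀, map_zpow₀, k2, ← k1, hθθ, mul_comm]
  have e2 : ∀ a ∈ rts, B a a = 2 → ch χ (dual a) = θ (ch χ a) * θ (ch χ a) := by
    have hd : ∀ a ∈ rts, B a a = 2 → dual a 2 = a 1 ∧ dual a 1 = 2 * a 2 := by decide +kernel
    intro a ha h1
    obtain ⟨k1, k2⟩ := hd a ha h1
    rw [hch, hch, map_mul, map_zpow₀, map_zpow₀, k1, k2, mul_mul_mul_comm, ← pow_two, ← zpow_natCast, ← zpow_mul,
      ← pow_two, ← zpow_natCast (θ (c : F) ^ a 2), ← zpow_mul]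
    rw [mul_comm (a 1), Nat.cast_ofNat, hθθ, mul_comm (a 2), mul_comm]
  have hcomm : s * h * s⁻¹ * h⁻¹ = 1 ∨ s * h * s⁻¹ * h⁻¹ = t := by
    have hht : h * t = t * h := (C.Ht h hh).symm
    apply C.eq_of_fix
    · have c1 : Commute s t := hst
      have c2 : Commute h t := hht
      exact (((c1.mul_left c2).mul_left c1.inv_left).mul_left c2.inv_left).eq
    · intro b hb u
      obtain ⟨a, ha, rfl⟩ : ∃ a ∈ rts, dual a = b := ⟨dual b, dual_mem b hb, dual_dual b hb⟩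
      have hb' := hb
      -- `u` in terms of `s`
      obtain ⟨v, hv⟩ : ∃ v, (if B a a = 4 then θ v else θ v * θ v) = (ch χ (dual a))⁻¹ * u := by
        by_cases h4 : B a a = 4
        · obtain ⟨v, hv⟩ := (Finite.injective_iff_surjective.1 θ.injective) ((ch χ (dual a))⁻¹ * u)
          exact ⟨v, by rw [if_pos h4, hv]⟩
        · obtain ⟨v, hv⟩ := grf_surj θ ((ch χ (dual a))⁻¹ * u)
          exact ⟨v, by rw [if_neg h4, hv]⟩
      have hχ0 : ch χ (dual a) ≠ 0 := Units.ne_zero _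
      have h3 : h⁻¹ * x (dual a) u * h = x (dual a) ((ch χ (dual a))⁻¹ * u) := by
        have h4 := hx (dual a) hb ((ch χ (dual a))⁻¹ * u)
        rw [mul_inv_cancel_left₀ hχ0] at h4
        rw [← h4]; group
      have h5 : s⁻¹ * (h⁻¹ * x (dual a) u * h) * s = x a v := by
        rw [h3, ← hv, ← hsi a ha v]; group
      have h6 : s * h * s⁻¹ * h⁻¹ * x (dual a) u * (s * h * s⁻¹ * h⁻¹)⁻¹ =
          s * (h * (s⁻¹ * (h⁻¹ * x (dual a) u * h) * s) * h⁻¹) * s⁻¹ := by group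
      rw [h6, h5, hx a ha, hsi a ha]
      congr 1
      rcases Model.norm a ha with h7 | h7
      · rw [if_neg (by omega)] at hv ⊢
        rw [map_mul, mul_mul_mul_comm, hv, ← e2 a ha h7, mul_inv_cancel_left₀ hχ0]
      · rw [if_pos h7] at hv ⊢
        rw [map_mul, hv, ← e1 a ha h7, mul_inv_cancel_left₀ hχ0]
  have h1 : s * h * s⁻¹ * h⁻¹ = 1 := hcomm.resolve_right (C.Hs h hh s hst)
  refine ⟨h, hh, ?_, fun u => ?_⟩
  · have h2 : s * h * s⁻¹ = h := mul_inv_eq_one.1 h1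
    calc h * s = s * h * s⁻¹ * s := by rw [h2]
      _ = s * h := by group
  · have e : α2 ∈ rts := by decide +kernel
    have e' : ch χ α2 = (c : F) := by rw [ch_α2]; rfl
    rw [hx α2 e, e']

theorem α2_mem : α2 ∈ rts := by decide +kernel
theorem α1_mem : α1 ∈ rts := by decide +kernel
theorem α12_mem : α12 ∈ rts := by decide +kernel
theorem α112_mem : α112 ∈ rts := by decide +kernel

/-- The torus normalises the doubled root groups. -/
theorem H_W (h : CC.Hyp t B Phi X W) (C : Crd t x X W H) {g : G} (hg : g ∈ H) {a : Fin 4 → ℤ} (ha : a ∈ rts) {w : G}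
    (hw : w ∈ W a) : g * w * g⁻¹ ∈ W a := by
  refine canon h (C.Ht g hg) (π := id) (fun a ha => ha) (fun c hc => ⟨c, hc, rfl⟩) (fun a _ b _ h => h) ?_ ?_ ha hw
  · intro a ha y hy
    exact C.HX g hg a ha y hy
  · intro a ha y hy
    have := C.HX g⁻¹ (inv_mem hg) a ha y hy
    rwa [inv_inv] at this

theorem gp (hK : KF t X) (h : CC.Hyp t B Phi X W) (C : Crd t x X W H) {s : G} (ss : s * s = 1) (hst : s * t = t * s)
    {θ : F →+* F} (hθ : Grf x s θ) :
    Out.Graph.GP t s θ (x α2) (x α1) (x α12) (W α2) (W α1) (W α12) (W α112) := by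
  have si : s⁻¹ = s := inv_eq_of_mul_eq_one_left ss
  have b : B α2 α2 = 4 ∧ B α1 α1 = 2 ∧ B α2 α1 = -2 ∧ B α12 α12 = 2 ∧ B α112 α112 = 4 ∧ α2 + α1 = α12 ∧
      α2 + α1 + α1 = α112 ∧ dual α2 = α1 ∧ dual α1 = α2 ∧ 0 ≤ B α2 α12 ∧ 0 ≤ B α2 α112 ∧ 0 ≤ B α1 α12 ∧
      0 ≤ B α1 α112 ∧ 0 ≤ B α12 α112 ∧ α12 ≠ α112 ∧ α2 ≠ -α1 := by decide +kernel
  obtain ⟨b1, b2, b3, b4, b5, b6, b7, b8, b9, b10, b11, b12, b13, b14, b15, b16⟩ := b
  have hI2 := h.isW α2 α2_mem
  have hI12 := h.isW α12 α12_mem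
  have hI112 := h.isW α112 α112_mem
  have h2 : ∀ u, s * x α2 u * s⁻¹ = x α1 (θ u) := by
    intro u
    have := (hθ α2 α2_mem u).1 b1
    rwa [b8] at this
  have h1 : ∀ u, s * x α1 u * s⁻¹ = x α2 (θ u * θ u) := by
    intro u
    have := (hθ α1 α1_mem u).2 b2
    rwa [b9] at this
  have comm3 : ∀ w ∈ W α12 ⊔ W α112, ∀ r ∈ rts, 0 ≤ B r α12 → 0 ≤ B r α112 → ∀ v ∈ W r, v * w = w * v := by
    intro w hw r hr hr1 hr2 v hv
    have hle : W α12 ⊔ W α112 ≤ centralizer ({v} : Set G) := sup_le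
      (fun z hz => mem_centralizer_singleton_iff.2 (h.WW hr α12_mem hr1 hv hz).symm)
      (fun z hz => mem_centralizer_singleton_iff.2 (h.WW hr α112_mem hr2 hv hz).symm)
    exact (mem_centralizer_singleton_iff.1 (hle hw)).symm
  have two : ∀ a, θ (θ a) * θ (θ a) = a := by
    intro a
    have e1 : s * (s * x α2 a * s⁻¹) * s⁻¹ = x α2 a := by
      calc s * (s * x α2 a * s⁻¹) * s⁻¹ = (s * s) * x α2 a * (s⁻¹ * s⁻¹) := by group
        _ = x α2 a := by rw [si, ss, one_mul, mul_one]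
    rw [h2, h1] at e1
    exact C.xinj α2_mem e1
  refine
    { tt := h.tt
      ss := ss
      st := hst
      add1 := C.add α2 α2_mem
      mem1 := fun a => hI2.XW (C.mem α2 α2_mem a)
      ab1 := fun a ha b hb => hI2.ab ha hb
      ht1 := ?_
      fix1 := ?_
      tx1 := ?_
      add2 := C.add α1 α1_mem
      sW := ?_
      sx := fun a => by rw [← h2, si]
      add3 := C.add α12 α12_mem
      inj3 := ?_
      mem3 := fun a => hI12.XW (C.mem α12 α12_mem a)
      rel := ?_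
      brm := ?_
      c13 := fun w hw y hy => comm3 y hy α2 α2_mem b10 b11 w hw
      c23 := fun w hw y hy => comm3 y hy α1 α1_mem b12 b13 w hw
      c33 := ?_
      tN := fun y hy => hI112.conj_mem hy
      two := two
      tor := ?_ }
  · intro w hw
    obtain ⟨a, ha⟩ := C.surj α2 α2_mem _ (hI2.brk w hw)
    exact ⟨a, by rw [← ha, mul_inv_cancel_left]⟩
  · intro w hw hwt
    obtain ⟨a, ha⟩ := C.surj α2 α2_mem w (hI2.cent w hw (by
      calc t * w = t * w * (t * t) := by rw [h.tt, mul_one]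
        _ = (t * w * t) * t := by group
        _ = w * t := by rw [hwt]))
    exact ⟨a, ha⟩
  · intro a
    rw [hI2.tX _ (C.mem α2 α2_mem a), mul_assoc, h.tt, mul_one]
  · intro w hw
    have := grf_W h C hst hθ α2_mem hw
    rwa [b8, si] at this
  · intro a ha
    have e1 := C.mem α12 α12_mem a
    have e2 := hI112.cent _ ha (hI12.tX _ e1)
    exact C.inj α12 α12_mem a (hK.ind α12 α12_mem α112 α112_mem b15 _ e1 e2)
  · intro a b
    obtain ⟨w, hw, he⟩ := C.r2 a b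
    unfold Out.Graph.br
    rw [he, inv_mul_cancel_left]
    exact hI112.XW hw
  · intro w hw v hv
    have := h.cWW α2_mem α1_mem (by omega) b16 hw hv
    rwa [N_ls W b1 b2, b6, ← b6, b7, b6] at this
  · intro w hw y hy
    have hle : W α12 ⊔ W α112 ≤ centralizer ({y} : Set G) := sup_le
      (fun z hz => mem_centralizer_singleton_iff.2 (comm3 y hy α12 α12_mem (by omega) b14 z hz))
      (fun z hz => mem_centralizer_singleton_iff.2 (comm3 y hy α112 α112_mem (by rw [h.roots.symm]; exact b14)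
        (by omega) z hz))
    exact mem_centralizer_singleton_iff.1 (hle hw)
  · intro c hc
    obtain ⟨g, hg, hgs, hgx⟩ := sq_eq θ two C hθ hst (Units.mk0 c hc)
    exact ⟨g, (C.Ht g hg).symm, hgs, fun w hw => H_W h C hg α2_mem hw, fun w hw => H_W h C hg α112_mem hw, hgx⟩

theorem dual_L1 : ∀ m ∈ List.range 12, dual (en L1 (2 * m)) = en L1 (2 * m + 1) ∧
    dual (en L1 (2 * m + 1)) = en L1 (2 * m) := by decide +kernel

/-- an involution of graph type interchanges the pairs of `L1` -/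
theorem swap (h : CC.Hyp t B Phi X W) (C : Crd t x X W H) {s : G} (ss : s * s = 1) (hst : s * t = t * s)
    {θ : F →+* F} (hθ : Grf x s θ) : Swap s (fun i => W (en L1 i)) 12 := by
  have si : s⁻¹ = s := inv_eq_of_mul_eq_one_left ss
  have E := enm ok1
  refine ⟨ss, fun m hm w hw => ?_, fun m hm w hw => ?_⟩
  · have h1 := grf_W h C hst hθ (E.mem (2 * m) (by omega)) hw
    rwa [(dual_L1 m (List.mem_range.2 hm)).1, si] at h1
  · have h1 := grf_W h C hst hθ (E.mem (2 * m + 1) (by omega)) hw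
    rwa [(dual_L1 m (List.mem_range.2 hm)).2, si] at h1

theorem W2_eq {l : List (Fin 4 → ℤ)} (V : (Fin 4 → ℤ) → Subgroup G) (h0 : en l 0 = ρ) (h1 : en l 1 = σ) :
    Growth.W (fun i => V (en l i)) 2 = V ρ ⊔ V σ := by
  rw [Growth.W_succ, Growth.W_succ, Growth.W_zero, bot_sup_eq, h0, h1]

/-- `Z = X ρ X σ` -/
theorem card_Z (hK : KF t X) (C : Crd t x X W H) : Nat.card (X ρ ⊔ X σ : Subgroup G) ≤ Nat.card F ^ 2 := by
  have e : (0 : ℤ) ≤ B ρ σ := by decide +kernel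
  have hc := hK.X0 ρ Lead.ρ_mem σ Lead.σ_mem e
  have h1 : Nat.card (X ρ ⊔ X σ : Subgroup G) ≤ Nat.card (X ρ × X σ) := by
    refine Nat.card_le_card_of_surjective (fun z : X ρ × X σ =>
      (⟨z.1 * z.2, mul_mem (mem_sup_left z.1.2) (mem_sup_right z.2.2)⟩ : (X ρ ⊔ X σ : Subgroup G))) ?_
    rintro ⟨z, hz⟩
    obtain ⟨a, ha, b, hb, rfl⟩ := (mem_sup_of_comm hc).1 hz
    exact ⟨⟨⟨a, ha⟩, ⟨b, hb⟩⟩, rfl⟩
  rw [Nat.card_prod, C.card_X Lead.ρ_mem, C.card_X Lead.σ_mem, ← pow_two] at h1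
  exact h1

/-- (k1) -/
theorem k1 (hK : KF t X) (hD : Dir X) (C : Crd t x X W H) (hT : TG t T D (Ab X 0) x) {s : G} (hs : s ∈ D)
    (hs1 : s ≠ 1) (hst : s ≠ t) {c : G} (hc : c ∈ T)
    (hcc : ∀ a ∈ T, ∀ b ∈ T, c * (a * b * a⁻¹ * b⁻¹) = a * b * a⁻¹ * b⁻¹ * c) :
    c ∈ X ρ ⊔ X σ ∨ t * c ∈ X ρ ⊔ X σ := by
  refine Lead.k1 hK hD hT.UT hT.Tc (fun c hc h => hout hK C hT hc h) (hT.DT hs) ?_ hc hcc
  rcases hT.act s hs with ⟨φ, hφ⟩ | ⟨θ, hθ⟩
  · -- field type
    have hne : ∃ u, φ u ≠ u := by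
      by_contra hcon
      push Not at hcon
      rcases C.eq_of_fix (hT.Tc s (hT.DT hs)) (fun a ha u => by rw [hφ a ha, hcon u]) with h1 | h1
      · exact hs1 h1
      · exact hst h1
    obtain ⟨u, hu⟩ := hne
    left
    refine ⟨⟨x α3 u, C.mem _ Lead.α3_mem u, ?_, ?_⟩, x α0 u, C.mem _ Lead.α0_mem u, ?_, ?_⟩
    · rw [hφ _ Lead.α3_mem]; exact C.mem _ Lead.α3_mem _
    · rw [hφ _ Lead.α3_mem]; exact fun h => hu (C.xinj Lead.α3_mem h)
    · rw [hφ _ Lead.α0_mem]; exact C.mem _ Lead.α0_mem _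
    · rw [hφ _ Lead.α0_mem]; exact fun h => hu (C.xinj Lead.α0_mem h)
  · right
    have e : B α3 α3 = 4 ∧ dual α3 = α0 := by decide +kernel
    refine ⟨x α3 1, C.mem _ Lead.α3_mem 1, fun h => one_ne_zero (C.inj _ Lead.α3_mem 1 h), ?_⟩
    rw [(hθ _ Lead.α3_mem 1).1 e.1, e.2]
    exact C.mem _ Lead.α0_mem _

/-- **Graph type.** -/
theorem excl_grf (hK : KF t X) (h : CC.Hyp t B Phi X W) (hD : Dir X) (C : Crd t x X W H)
    (hT : TG t T D (Ab X 0) x) {s : G} (hs : s ∈ D) (ss : s * s = 1) (hs1 : s ≠ 1) (hs2 : s ≠ t) {θ : F →+* F}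
    (hθ : Grf x s θ) : ∃ v, (v = s ∨ v = t * s) ∧ NoConj (fr h hD C hT) v := by
  have hst := hT.Tc s (hT.DT hs)
  have Dg := dbl h hD (fun a ha => C.card_X ha) ok1
  have hW2 : Growth.W (fun i => W (en L1 i)) 2 = W ρ ⊔ W σ := W2_eq W (by decide +kernel) (by decide +kernel)
  have e22 : en L1 22 = α2 := by decide +kernel
  have e23 : en L1 23 = α1 := by decide +kernel
  have e21 : en L1 21 = α12 := by decide +kernel
  have e20 : en L1 20 = α112 := by decide +kernel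
  have P := gp hK h C ss hst hθ
  rw [← e22, ← e23, ← e21, ← e20] at P
  set q := Nat.card F with hq
  have hq2 : 2 ≤ q := by
    have : Nontrivial F := inferInstance
    exact Finite.one_lt_card
  have cW : ∀ a ∈ rts, Nat.card (W a) = q ^ 2 := fun a ha => by
    rw [card_W_eq h.tt (h.isW a ha), C.card_X ha]
  refine OutGraph.excl_graph (m := 10) (fr h hD C hT) Dg (W_eq ok1 W).symm (W_eq ok1 X).symm (swap h C ss hst hθ)
    (hT.DT hs) (fun h1 => hs1 (hT.DU s hs h1)) (fun h1 => hs2 ?_) P (X ρ ⊔ X σ) ?_ ?_ (fun z hz => k0' h hz) ?_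
    (fun c hc hcc => k1 hK hD C hT hs hs1 hs2 hc hcc) ?_ (Q := q ^ 2) ?_ ?_
  · have h2 := hT.DU _ (mul_mem hT.tD hs) h1
    calc s = t * (t * s) := by rw [← mul_assoc, h.tt, one_mul]
      _ = t := by rw [h2, mul_one]
  · rw [hW2]
    exact fun z hz w hw => central h hz hw
  · rw [hW2]
    exact fun z hz g => k0 hK h hD C hT (fun w hw => central h hz hw) g
  · rw [cW _ ((enm ok1).mem 0 (by norm_num))]
    exact card_Z hK C
  · intro c hc hcz
    exact hout hK C hT hc fun y hy => hcz y (mem_sup_left hy)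
  · intro i hi
    exact (cW _ ((enm ok1).mem i hi)).le
  · rw [card_U h hD (fun a ha => C.card_X ha), ← pow_mul]
    exact Nat.pow_lt_pow_right (by omega) (by norm_num)

/-! ### Field type -/

theorem lay (h : CC.Hyp t B Phi X W) (C : Crd t x X W H) {s : G} (hst : s * t = t * s) {φ : F →+* F}
    (hφ : Fld x s φ) {a : Fin 4 → ℤ} (ha : a ∈ rts) : Out.ZeroDiv.Lay t s φ (x a) (W a) where
  add := C.add a ha
  inj := C.inj a ha
  mem := fun u => (h.isW a ha).XW (C.mem a ha u)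
  sq := (h.isW a ha).sq
  conj_t := fun w hw => (h.isW a ha).conj_mem hw
  cent := fun w hw hwt => C.surj a ha w ((h.isW a ha).cent w hw hwt)
  tx := fun u => (h.isW a ha).tX _ (C.mem a ha u)
  brk := fun w hw => C.surj a ha _ ((h.isW a ha).brk w hw)
  surj := fun u => (h.isW a ha).surj _ (C.mem a ha u)
  sx := hφ a ha
  sW := fun w hw => fld_W h C hst hφ ha hw

theorem comm_L3 : ∀ i ∈ List.range 23, 0 ≤ B (en L3 i) ρ' := by decide +kernel

/-- **Field type.** -/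
theorem excl_fld (hK : KF t X) (h : CC.Hyp t B Phi X W) (hD : Dir X) (C : Crd t x X W H)
    (hT : TG t T D (Ab X 0) x) {s : G} (hs : s ∈ D) (ss : s * s = 1) (hs1 : s ≠ 1) (hs2 : s ≠ t) {φ : F →+* F}
    (hφ : Fld x s φ) : ∃ v, (v = s ∨ v = t * s) ∧ NoConj (fr h hD C hT) v := by
  have hst := hT.Tc s (hT.DT hs)
  have si : s⁻¹ = s := inv_eq_of_mul_eq_one_left ss
  have Dg := dbl h hD (fun a ha => C.card_X ha) ok3
  have E := enm ok3
  have e0 : en L3 0 = ρ := by decide +kernel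
  have e3 : en L3 3 = ρ' := by decide +kernel
  have e23 : en L3 23 = α3 := by decide +kernel
  have hW2 : Growth.W (fun i => W (en L3 i)) 2 = W ρ ⊔ W σ := W2_eq W e0 (by decide +kernel)
  set q := Nat.card F with hq
  have cW : ∀ a ∈ rts, Nat.card (W a) = q ^ 2 := fun a ha => by
    rw [card_W_eq h.tt (h.isW a ha), C.card_X ha]
  -- the automorphism
  have hφφ : ∀ a, φ (φ a) = a := by
    intro a
    have e1 : s * (s * x ρ a * s⁻¹) * s⁻¹ = x ρ a := by
      calc s * (s * x ρ a * s⁻¹) * s⁻¹ = (s * s) * x ρ a * (s⁻¹ * s⁻¹) := by group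
        _ = x ρ a := by rw [si, ss, one_mul, mul_one]
    rw [hφ ρ Lead.ρ_mem, hφ ρ Lead.ρ_mem] at e1
    exact C.xinj Lead.ρ_mem e1
  have hne : ∃ u, φ u ≠ u := by
    by_contra hcon
    push Not at hcon
    rcases C.eq_of_fix hst (fun a ha u => by rw [hφ a ha, hcon u]) with h1 | h1
    · exact hs1 h1
    · exact hs2 h1
  obtain ⟨w0, hw0⟩ := Out.ZeroDiv.exists_w0 φ hφφ hne
  have b : B ρ' ρ' = B α3 α3 ∧ B ρ' α3 < 0 ∧ ρ' ≠ -α3 ∧ ρ' + α3 = ρ ∧ 0 ≤ B ρ' ρ ∧ 0 ≤ B α3 ρ := by decide +kernel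
  obtain ⟨b1, b2, b3, b4, b5, b6⟩ := b
  have P : Out.ZeroDiv.Pair t s φ (x ρ') (x α3) (x ρ) (W ρ') (W α3) (W ρ) :=
    { tt := h.tt
      ss := ss
      st := hst
      l1 := lay h C hst hφ Lead.ρ'_mem
      l2 := lay h C hst hφ Lead.α3_mem
      l3 := lay h C hst hφ Lead.ρ_mem
      comm := by
        intro a ha c hc
        have := h.cWW Lead.ρ'_mem Lead.α3_mem b2 b3 ha hc
        rwa [N_same W b1, b4] at this
      c13 := fun a ha c hc => h.WW Lead.ρ'_mem Lead.ρ_mem b5 ha hc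
      c23 := fun a ha c hc => h.WW Lead.α3_mem Lead.ρ_mem b6 ha hc
      rel := C.r1
      torus := by
        intro l hl
        set L : Fˣ := Units.mk0 l hl with hL
        have hLv : (L : F) = l := rfl
        obtain ⟨g, hg, hgx⟩ := C.tor ![L, 1, L⁻¹, L]
        obtain ⟨g', hg', hgx'⟩ := C.tor ![L⁻¹, 1, L, 1]
        have c1 : ch ![L, 1, L⁻¹, L] ρ' = 1 := by
          rw [ch_ρ']; simp only [_root_.Fin.isValue, _root_.Matrix.cons_val_zero, _root_.Matrix.cons_val_one, _root_.Units.val_one, _root_.one_pow, _root_.mul_one, _root_.Matrix.cons_val, _root_.Units.val_inv_eq_inv_val, _root_.inv_pow]; field_simp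
        have c2 : ch ![L, 1, L⁻¹, L] α3 = l := by rw [ch_α3]; simp [hL]
        have c3 : ch ![L, 1, L⁻¹, L] ρ = l := by
          rw [ch_ρ]; simp only [hL, _root_.Fin.isValue, _root_.Matrix.cons_val_zero, _root_.Units.val_mk0, _root_.Matrix.cons_val_one, _root_.Units.val_one, _root_.one_pow, _root_.mul_one, _root_.Matrix.cons_val, _root_.Units.val_inv_eq_inv_val, _root_.inv_pow]; field_simp
        have c4 : ch ![L⁻¹, 1, L, 1] ρ' = l := by
          rw [ch_ρ']; simp [hL]; field_simp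
        have c5 : ch ![L⁻¹, 1, L, 1] α3 = 1 := by rw [ch_α3]; simp
        have c6 : ch ![L⁻¹, 1, L, 1] ρ = l := by
          rw [ch_ρ]; simp [hL]; field_simp
        have fixW : ∀ g ∈ H, ∀ a ∈ rts, (∀ u, g * x a u * g⁻¹ = x a u) → ∀ w ∈ W a, g * w * g⁻¹ = w := by
          intro g hg a ha hga w hw
          have h1 := C.HW g hg a ha (fun y hy => by
            obtain ⟨u, rfl⟩ := C.surj a ha y hy
            have h2 := hga u
            calc g * x a u = g * x a u * g⁻¹ * g := by group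
              _ = x a u * g := by rw [h2]) w hw
          rw [h1, mul_inv_cancel_right]
        refine ⟨g, g', ?_, ?_, ?_, ?_, ?_⟩
        · exact fixW g hg ρ' Lead.ρ'_mem (fun u => by rw [hgx ρ' Lead.ρ'_mem, c1, one_mul])
        · intro a; rw [hgx α3 Lead.α3_mem, c2]
        · exact fixW g' hg' α3 Lead.α3_mem (fun u => by rw [hgx' α3 Lead.α3_mem, c5, one_mul])
        · intro a; rw [hgx' ρ' Lead.ρ'_mem, c4]
        · intro w hw
          have h1 := fixW (g'⁻¹ * g) (mul_mem (inv_mem hg') hg) ρ Lead.ρ_mem (fun u => by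
            calc g'⁻¹ * g * x ρ u * (g'⁻¹ * g)⁻¹ = g'⁻¹ * (g * x ρ u * g⁻¹) * g' := by group
              _ = g'⁻¹ * (g' * x ρ u * g'⁻¹) * g' := by rw [hgx ρ Lead.ρ_mem, hgx' ρ Lead.ρ_mem, c3, c6]
              _ = x ρ u := by group) w hw
          calc g * w * g⁻¹ = g' * (g'⁻¹ * g * w * (g'⁻¹ * g)⁻¹) * g'⁻¹ := by group
            _ = g' * w * g'⁻¹ := by rw [h1] }
  rw [← e3, ← e23, ← e0] at P
  refine OutField.excl_field (n := 23) (j := 3) (fr h hD C hT) Dg (fun i hi => h.isW _ (E.mem i hi)) (by norm_num)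
    (by norm_num) (W_eq ok3 W).symm (hT.DT hs) (fun h1 => hs1 (hT.DU s hs h1)) (fun h1 => hs2 ?_) hw0 P ?_ ?_ ?_
    (X ρ ⊔ X σ) ?_ ?_ (fun z hz => k0' h hz) ?_
    (fun c hc hcc => k1 hK hD C hT hs hs1 hs2 hc hcc) ?_ (q := q) ?_ ?_
  · have h2 := hT.DU _ (mul_mem hT.tD hs) h1
    calc s = t * (t * s) := by rw [← mul_assoc, h.tt, one_mul]
      _ = t := by rw [h2, mul_one]
  · intro i hi w hw
    have := fld_W h C hst hφ (E.mem i hi) hw
    rwa [si] at this
  · intro i hi y hy hys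
    have ha := E.mem i hi
    obtain ⟨u, rfl⟩ := C.surj _ ha y hy
    have h1 : φ u = u := by
      have h2 := hφ _ ha u
      rw [si, hys] at h2
      exact (C.xinj ha h2).symm
    refine ⟨x (en L3 i) (w0 * u), C.mem _ ha _, ?_⟩
    have h2 := hφ _ ha (w0 * u)
    rw [si] at h2
    rw [h2, map_mul, h1]
    have h3 : (x (en L3 i) (w0 * u))⁻¹ = x (en L3 i) (w0 * u) :=
      inv_eq_of_mul_eq_one_left (by rw [← C.add _ ha, CharTwo.add_self_eq_zero, C.zero ha])
    rw [h3, ← C.add _ ha, ← add_mul, add_comm, hw0, one_mul]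
  · intro i hi w hw z hz
    rw [e3] at hz
    exact h.WW (E.mem i (by omega)) Lead.ρ'_mem (comm_L3 i (List.mem_range.2 hi)) hw hz
  · rw [hW2]
    exact fun z hz w hw => central h hz hw
  · rw [hW2]
    exact fun z hz g => k0 hK h hD C hT (fun w hw => central h hz hw) g
  · have h1 : Nat.card (Growth.W (fun i => W (en L3 i)) 2) = (q ^ 2) ^ 2 :=
      card_W (E.cmW h) (fun k hk => Out.Grow.disj Dg hk) (fun i hi => cW _ (E.mem i hi)) (by norm_num)
    rw [h1]
    exact Nat.pow_le_pow_left (card_Z hK C) 2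
  · intro c hc hcz
    exact hout hK C hT hc fun y hy => hcz y (mem_sup_left hy)
  · exact (cW _ (E.mem 23 (by norm_num))).le
  · intro u hu hn
    exact Lead.many hK hD (fun a ha => (C.card_X ha).ge) hu hn

/-- **The pattern (C, C) with any outer 2-part.** -/
theorem main (hK : KF t X) (h : CC.Hyp t B Phi X W) (hD : Dir X) (C : Crd t x X W H)
    (hT : TG t T D (Ab X 0) x) (htU : t ∉ Ab X 0) : t ∉ _root_.commutator G := by
  have hcard : ∀ a ∈ rts, Nat.card (X a) = Nat.card F := fun a ha => C.card_X ha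
  refine end_of (fr h hD C hT) (fun h1 => htU ((mem_U_iff h hD hcard).2 ⟨h1, rfl⟩))
    (fun w hw hww => conj_t h hD hcard hw hww) (alt_of (fr h hD C hT) D hT.DT hT.fac hT.DU hT.tD hT.one ?_)
  intro s hs ss hs1 hs2
  rcases hT.act s hs with ⟨φ, hφ⟩ | ⟨θ, hθ⟩
  · exact excl_fld hK h hD C hT hs ss hs1 hs2 hφ
  · exact excl_grf hK h hD C hT hs ss hs1 hs2 hθ

end main

end Cfsg.Agent.OddHalf.D7F4.CCOut

end
end

-- part: OddHalf/D7F4/Row
section
-- merged: Cfsg.Agent.OddHalf.D7F4.FrTG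
section

/-!
# `K = F₄(q)`, `q` even: the Sylow group `T` in the form of `CCOut.TG` (S1765, node D7)
-/

set_option autoImplicit false
set_option Elab.async false

namespace Cfsg.Agent.OddHalf.D7F4.FrTG

open Cfsg.Lie Cfsg.Agent.ChevalleyStructure Cfsg.Agent.ChevalleyStructure.Elts
  Cfsg.Agent.KFacts.ChevTwoInst Cfsg.Agent.KFacts.F4Pair
open Cfsg.Agent.OddHalf.D7F4 Cfsg.Agent.OddHalf.D7F4.Model Cfsg.Agent.OddHalf.D7F4.KFront
  Cfsg.Agent.OddHalf.D7F4.Adapted Cfsg.Agent.OddHalf.D7F4.FrOut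

universe u

variable {G : Type*} [Group G] [Finite G] {F : Type u} [Field F] [Finite F] [CharP F 2]
  {f : ↥(chevF4.group F) →* G} {t g : G} {T : Subgroup G}

/-- **The group `T = D U`.** -/
theorem tg (O : FrO t f T g) : CCOut.TG t T O.D (Lead.Ab (XG f) 0) (fun a u => f (eF F a u)) where
  T2 := O.T2
  tD := O.t_mem_D
  Tc := O.Tc
  Tmax := O.Tmax
  UT := by rw [← FrO.map_UK]; exact O.UT
  ab := by rw [← FrO.map_UK]; exact O.ab
  DT := O.D_le
  fac := by rw [← FrO.map_UK]; exact O.fac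
  DU := by rw [← FrO.map_UK]; exact fun e he h => O.disj he h
  one := O.hone
  act := by
    intro y hy
    rcases O.acts_D hy with ⟨φ, hφ⟩ | ⟨φ, hφ⟩
    · exact Or.inl ⟨φ.toRingHom, fun a ha u => hφ a ha u⟩
    · refine Or.inr ⟨φ.toRingHom, fun a ha u => ⟨fun hB => hφ.1 a ha hB u, fun hB => ?_⟩⟩
      have h := hφ.2 a ha hB u
      rw [pow_two] at h
      exact h

end Cfsg.Agent.OddHalf.D7F4.FrTG

end

-- merged: Cfsg.Agent.OddHalf.D7F4.TypeCModel
section

/-!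
# K = F4(q), `q ≥ 4`: if both lengths are moved, both are of type C (S1765, node D7; helper588)

`KT t X H` : the K-facts, `H` a torus; `TorW` : the torus acts on the doubled root groups; `TyC`, `TyO` : the types of the
doubled root groups of one length.

* `wc` : `WS t X W`, `WL t X W`, `TorW t X W H`, one type for each length give `CCModel.WC t X W`;
* `comb` : two families `W₁` (short), `W₂` (long) as one family.
-/

set_option autoImplicit false

namespace Cfsg.Agent.OddHalf.D7F4.TypeCModel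

open Model TypeC

/-- the highest short root -/
abbrev sa : Fin 4 → ℤ := ![2, 3, 2, 1]
/-- short, orthogonal to `sa`, `sa + sb = la` -/
abbrev sb : Fin 4 → ℤ := ![0, 1, 1, 1]
/-- long, `sr + sa = sb` -/
abbrev sr : Fin 4 → ℤ := ![-2, -2, -1, 0]
/-- long, orthogonal to `sa`, `sb` -/
abbrev sd : Fin 4 → ℤ := ![0, 0, 1, 0]
/-- the highest root -/
abbrev la : Fin 4 → ℤ := ![2, 4, 3, 2]
/-- long, orthogonal to `la`, `la + lb = 2 sa` -/
abbrev lb : Fin 4 → ℤ := ![2, 2, 1, 0]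
/-- short, `la + lr = sa` -/
abbrev lr : Fin 4 → ℤ := ![0, -1, -1, -1]
/-- short, orthogonal to `la`, `lb` -/
abbrev ld : Fin 4 → ℤ := ![0, 1, 0, 0]
/-- short, orthogonal to `la` -/
abbrev oa : Fin 4 → ℤ := ![1, 0, 0, 0]
/-- short, `la + sd = 2 om` -/
abbrev om : Fin 4 → ℤ := ![1, 2, 2, 1]

/-- The K-facts. -/
structure KT {G : Type*} [Group G] (t : G) (X : (Fin 4 → ℤ) → Subgroup G) (H : Subgroup G) : Prop where
  c1s : ∀ k, k * t = t * k → (∀ a ∈ rts, 0 ≤ B a sa → 0 ≤ B a sb → ¬ (B a a = 4 ∧ B a sa = 0 ∧ B a sb = 0) →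
    ∀ x ∈ X a, k * x = x * k) → ∃ a ∈ X sa, ∃ b ∈ X sb, ∃ c ∈ X la, k = a * b * c ∨ k = t * (a * b * c)
  c1l : ∀ k, k * t = t * k → (∀ a ∈ rts, 0 ≤ B a la → 0 ≤ B a lb → ¬ (B a a = 2 ∧ B a la = 0 ∧ B a lb = 0) →
    ∀ x ∈ X a, k * x = x * k) → ∃ a ∈ X la, ∃ b ∈ X lb, ∃ c ∈ X sa, k = a * b * c ∨ k = t * (a * b * c)
  c2 : ∃ h ∈ H, (∀ x ∈ X oa, h * x = x * h) ∧ (∀ x ∈ X la, h * x = x * h) ∧ ∀ k, k * t = t * k → k * h = h * k →
    (∀ f ∈ rts, (B f f = 4 ∧ 0 ≤ B f oa ∧ 0 < B f la ∨ B f f = 2 ∧ 0 < B f oa ∧ 0 ≤ B f la) →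
      ∀ x ∈ X f, k * x = x * k) → ∃ a ∈ X oa, ∃ b ∈ X la, k = a * b ∨ k = t * (a * b)
  nds : ∀ x ∈ X sr, ∀ y ∈ X sa, ∃ z ∈ X sb, ∃ w ∈ X la, x * y * x⁻¹ * y⁻¹ = z * w ∧ (w = 1 → x = 1 ∨ y = 1)
  ndl : ∀ x ∈ X la, ∀ y ∈ X lr, ∃ z ∈ X sa, ∃ w ∈ X lb, x * y * x⁻¹ * y⁻¹ = z * w ∧ (z = 1 → x = 1 ∨ y = 1)
  Ht : ∀ h ∈ H, t * h = h * t
  tor : ∀ a ∈ rts, ∀ b ∈ rts, a ≠ b → a ≠ -b → ∃ h ∈ H, (∀ x ∈ X a, h * x = x * h) ∧
    ∀ x ∈ X b, h * x = x * h → x = 1

/-- The torus acts on the doubled root groups. -/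
structure TorW {G : Type*} [Group G] (X W : (Fin 4 → ℤ) → Subgroup G) (H : Subgroup G) : Prop where
  HW : ∀ h ∈ H, ∀ a ∈ rts, ∀ w ∈ W a, h * w * h⁻¹ ∈ W a
  HX : ∀ h ∈ H, ∀ a ∈ rts, (∀ x ∈ X a, h * x = x * h) → ∀ w ∈ W a, h * w = w * h

/-- The doubled root groups of norm `n` are of type C. -/
def TyC {G : Type*} [Group G] (X W : (Fin 4 → ℤ) → Subgroup G) (n : ℤ) : Prop :=
  ∀ a ∈ rts, ∀ d ∈ rts, B a a = n → B d d = n → B a d = 0 → ∀ w ∈ W a, ∀ x ∈ X d, w * x = x * w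

/-- The doubled root groups of norm `n` are of type O. -/
def TyO {G : Type*} [Group G] (X W : (Fin 4 → ℤ) → Subgroup G) (n : ℤ) : Prop :=
  ∀ a ∈ rts, ∀ d ∈ rts, B a a = n → B d d = n → B a d = 0 → ∀ w ∈ W a, w ∉ X a → ∀ x ∈ X d, x ≠ 1 → w * x ≠ x * w

/-- The doubled root groups of all roots. -/
structure WB {G : Type*} [Group G] (t : G) (X W : (Fin 4 → ℤ) → Subgroup G) : Prop where
  isW : ∀ a ∈ rts, IsW t (X a) (W a)
  WXd : ∀ a ∈ rts, ∀ d ∈ rts, B a a ≠ B d d → 0 ≤ B a d → ∀ w ∈ W a, ∀ x ∈ X d, w * x = x * w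
  WXs : ∀ a ∈ rts, ∀ d ∈ rts, B a a = B d d → 0 < B a d → ∀ w ∈ W a, ∀ x ∈ X d, w * x = x * w

section

variable {G : Type*} [Group G] {t : G} {X W : (Fin 4 → ℤ) → Subgroup G} {H : Subgroup G}

theorem wb (hK : KF t X) (hS : WS t X W) (hL : WL t X W) : WB t X W where
  isW a ha := by
    rcases _root_.Cfsg.Agent.OddHalf.D7F4.Model.norm a ha with h | h
    · exact ⟨fun x hx => hK.tX a ha x hx, hS.XW a ha h, hS.Wsq a ha h, hS.brk a ha h, hS.cent a ha h, hS.surj a ha h⟩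
    · exact ⟨fun x hx => hK.tX a ha x hx, hL.XW a ha h, hL.Wsq a ha h, hL.brk a ha h, hL.cent a ha h, hL.surj a ha h⟩
  WXd a ha d hd h1 h2 := by
    have h3 := B_symm a d
    rcases norm a ha with h | h <;> rcases norm d hd with h' | h'
    · omega
    · exact hS.WX a ha h d hd (Or.inl ⟨h', by omega⟩)
    · exact hL.WX a ha h d hd (Or.inl ⟨h', by omega⟩)
    · omega
  WXs a ha d hd h1 h2 := by
    have h3 := B_symm a d
    rcases _root_.Cfsg.Agent.OddHalf.D7F4.Model.norm a ha with h | h <;> rcases norm d hd with h' | h'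
    · exact hS.WX a ha h d hd (Or.inr ⟨h', by omega⟩)
    · omega
    · omega
    · exact hL.WX a ha h d hd (Or.inr ⟨h', by omega⟩)

/-! ### Root combinatorics -/

theorem m_sa : sa ∈ rts := by decide +kernel
theorem m_sb : sb ∈ rts := by decide +kernel
theorem m_sr : sr ∈ rts := by decide +kernel
theorem m_sd : sd ∈ rts := by decide +kernel
theorem m_la : la ∈ rts := by decide +kernel
theorem m_lb : lb ∈ rts := by decide +kernel
theorem m_lr : lr ∈ rts := by decide +kernel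
theorem m_ld : ld ∈ rts := by decide +kernel
theorem m_oa : oa ∈ rts := by decide +kernel
theorem m_om : om ∈ rts := by decide +kernel

/-- the families of `false_of_C_O` -/
theorem fam_s : ∀ a ∈ rts, 0 ≤ B a sa → 0 ≤ B a sb → ¬ (B a a = 4 ∧ B a sa = 0 ∧ B a sb = 0) →
    (B la la = B a a → 0 < B la a) ∧ 0 ≤ B la a ∧ (0 ≤ B sr a ∨ (B a a = 4 ∧ B sr a < 0 ∧ sr ≠ -a ∧ sr + a ∈ rts ∧
      0 ≤ B sa (sr + a) ∧ B (sr + a) (sr + a) = 4) ∨ a = sa) := by decide +kernel
theorem fam_l : ∀ a ∈ rts, 0 ≤ B a la → 0 ≤ B a lb → ¬ (B a a = 2 ∧ B a la = 0 ∧ B a lb = 0) →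
    (B sa sa = B a a → 0 < B sa a) ∧ 0 ≤ B sa a ∧ (0 ≤ B lr a ∨ (B a a = 2 ∧ B lr a < 0 ∧ lr ≠ -a ∧ lr + a ∈ rts ∧
      0 ≤ B la (lr + a) ∧ B (lr + a) (lr + a) = 2) ∨ a = la) := by decide +kernel
theorem fam_o : ∀ f ∈ rts, (B f f = 4 ∧ 0 ≤ B f oa ∧ 0 < B f la ∨ B f f = 2 ∧ 0 < B f oa ∧ 0 ≤ B f la) →
    (B f f = 4 ∧ 0 ≤ B oa f ∧ 0 < B la f ∨ B f f = 2 ∧ 0 < B oa f ∧ 0 ≤ B la f) := by decide +kernel

/-- `W a` commutes with `X d`, `B a d ≥ 0`, type C -/
theorem WB.all (hW : WB t X W) {a : Fin 4 → ℤ} (ha : a ∈ rts) (hC : TyC X W (B a a)) {d : Fin 4 → ℤ} (hd : d ∈ rts)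
    (h : 0 ≤ B a d) {w x : G} (hw : w ∈ W a) (hx : x ∈ X d) : w * x = x * w := by
  by_cases h1 : B a a = B d d
  · rcases h.lt_or_eq with h2 | h2
    · exact hW.WXs a ha d hd h1 h2 w hw x hx
    · exact hC a ha d hd rfl h1.symm h2.symm w hw x hx
  · exact hW.WXd a ha d hd h1 h w hw x hx

theorem WB.mix (hW : WB t X W) {a : Fin 4 → ℤ} (ha : a ∈ rts) {d : Fin 4 → ℤ} (hd : d ∈ rts)
    (h : 0 ≤ B a d) (h' : B a a = B d d → 0 < B a d) {w x : G} (hw : w ∈ W a) (hx : x ∈ X d) : w * x = x * w := by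
  by_cases h1 : B a a = B d d
  · exact hW.WXs a ha d hd h1 (h' h1) w hw x hx
  · exact hW.WXd a ha d hd h1 h w hw x hx

theorem TyO.mem {n : ℤ} (hO : TyO X W n) (hK : KF t X) {a d : Fin 4 → ℤ} (ha : a ∈ rts) (hd : d ∈ rts) (h1 : B a a = n)
    (h2 : B d d = n) (h3 : B a d = 0) {w : G} (hw : w ∈ W a) (hc : ∀ x ∈ X d, w * x = x * w) : w ∈ X a := by
  by_contra h
  obtain ⟨x, hx, hx1⟩ := hK.Xne d hd
  exact hO a ha d hd h1 h2 h3 w hw h x hx hx1 (hc x hx)

/-- **Type C for the short roots, type O for the long roots: impossible.** -/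
theorem false_C_O (hK : KF t X) (hT : KT t X H) (hW : WB t X W) (hC : TyC X W 2) (hO : TyO X W 4) : False := by
  have cs : ∀ d ∈ rts, 0 ≤ B sa d → ∀ w ∈ W sa, ∀ x ∈ X d, w * x = x * w := fun d hd h w hw x hx =>
    hW.all m_sa hC hd h hw hx
  have cs1 : ∀ d ∈ rts, 0 ≤ B sb d → ∀ w ∈ W sb, ∀ x ∈ X d, w * x = x * w := fun d hd h w hw x hx =>
    hW.all m_sb hC hd h hw hx
  refine false_of_C_O (Xs := X sa) (Xs1 := X sb) (Xr := X sr) (Xp := X la) (Xd := X sd) hK.tt (hW.isW sa m_sa)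
    (hW.isW sb m_sb) (hW.isW la m_la) (hK.tX sr m_sr) (hK.Xne sa m_sa) (hK.Xne sr m_sr)
    (cs la m_la (by decide)) (cs1 la m_la (by decide)) (cs1 sa m_sa (by decide)) ?_ (hK.tX sd m_sd)
    (cs sd m_sd (by decide)) (cs1 sd m_sd (by decide)) (hK.X0 la m_la sd m_sd (by decide))
    (hK.X0 sr m_sr sd m_sd (by decide))
    (fun z hz hc => hO.mem hK m_la m_sd (by decide) (by decide) (by decide) hz hc)
    {v | ∃ a ∈ rts, 0 ≤ B a sa ∧ 0 ≤ B a sb ∧ ¬ (B a a = 4 ∧ B a sa = 0 ∧ B a sb = 0) ∧ v ∈ X a} ?_ ?_ ?_ ?_ ?_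
  · intro u hu x hx
    obtain ⟨z, hz, w, hw, e, hw1⟩ := hT.nds x⁻¹ (inv_mem hx) u hu
    refine ⟨z, hz, w, hw, ?_, fun h1 h2 h3 => ?_⟩
    · have e1 : u * z = z * u := hK.X0 sa m_sa sb m_sb (by decide) u hu z hz
      have e2 : u * w = w * u := hK.X0 sa m_sa la m_la (by decide) u hu w hw
      calc x⁻¹ * u * x = x⁻¹ * u * x⁻¹⁻¹ * u⁻¹ * u := by group
        _ = z * w * u := by rw [e]
        _ = z * (w * u) := by group
        _ = z * u * w := by rw [← e2]; group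
        _ = u * z * w := by rw [e1]
    · rcases hw1 h3 with h4 | h4
      · exact h2 (inv_eq_one.1 h4)
      · exact h1 h4
  · rintro y hy v ⟨a, ha, h1, h2, h3, hv⟩
    exact cs a ha (by rw [B_symm]; exact h1) y hy v hv
  · rintro y hy x hx v ⟨a, ha, h1, h2, h3, hv⟩
    obtain ⟨-, -, h4⟩ := fam_s a ha h1 h2 h3
    have hyv : y * v = v * y := cs a ha (by rw [B_symm]; exact h1) y hy v hv
    -- `y` commutes with `x v x⁻¹ v⁻¹`
    have key : Commute y (x * v * x⁻¹ * v⁻¹) := by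
      rcases h4 with h4 | ⟨h4, h5, h6, h7, h8, h9⟩ | h4
      · have e1 : x * v * x⁻¹ * v⁻¹ = 1 := by
          rw [hK.X0 sr m_sr a ha h4 x hx v hv]; group
        rw [e1]; exact Commute.one_right y
      · exact cs (sr + a) h7 h8 y hy _ (hK.X1 sr m_sr a ha (by rw [h4]; decide) h5 h6 x hx v hv)
      · subst h4
        obtain ⟨z, hz, w, hw, e⟩ := hK.X2 sr m_sr sa m_sa (by decide) (by decide) (by decide) x hx v hv
        rw [e]
        have c1 : Commute y z := cs (sr + sa) (by decide +kernel) (by decide) y hy z hz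
        have c2 : Commute y w := cs (sr + sa + sa) (by decide +kernel) (by decide) y hy w hw
        exact c1.mul_right c2
    have c1 : Commute y (x * v * x⁻¹) := by
      have h5 : x * v * x⁻¹ = x * v * x⁻¹ * v⁻¹ * v := by group
      rw [h5]
      exact key.mul_right hyv
    calc x⁻¹ * y * x * v = x⁻¹ * (y * (x * v * x⁻¹)) * x := by group
      _ = x⁻¹ * (x * v * x⁻¹ * y) * x := by rw [c1.eq]
      _ = v * (x⁻¹ * y * x) := by group
  · rintro y hy v ⟨a, ha, h1, h2, h3, hv⟩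
    exact cs1 a ha (by rw [B_symm]; exact h2) y hy v hv
  · rintro z hz v ⟨a, ha, h1, h2, h3, hv⟩
    obtain ⟨h4, h5, -⟩ := fam_s a ha h1 h2 h3
    exact hW.mix m_la ha h5 h4 hz hv
  · intro k hk hF
    exact hT.c1s k hk fun a ha h1 h2 h3 x hx => hF x ⟨a, ha, h1, h2, h3, hx⟩

/-- **Type O for the short roots, type C for the long roots: impossible.** -/
theorem false_O_C (hK : KF t X) (hT : KT t X H) (hW : WB t X W) (hO : TyO X W 2) (hC : TyC X W 4) : False := by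
  have cs : ∀ d ∈ rts, 0 ≤ B la d → ∀ w ∈ W la, ∀ x ∈ X d, w * x = x * w := fun d hd h w hw x hx =>
    hW.all m_la hC hd h hw hx
  have cs1 : ∀ d ∈ rts, 0 ≤ B lb d → ∀ w ∈ W lb, ∀ x ∈ X d, w * x = x * w := fun d hd h w hw x hx =>
    hW.all m_lb hC hd h hw hx
  refine false_of_C_O (Xs := X la) (Xs1 := X lb) (Xr := X lr) (Xp := X sa) (Xd := X ld) hK.tt (hW.isW la m_la)
    (hW.isW lb m_lb) (hW.isW sa m_sa) (hK.tX lr m_lr) (hK.Xne la m_la) (hK.Xne lr m_lr)
    (cs sa m_sa (by decide)) (cs1 sa m_sa (by decide)) (cs1 la m_la (by decide)) ?_ (hK.tX ld m_ld)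
    (cs ld m_ld (by decide)) (cs1 ld m_ld (by decide)) (hK.X0 sa m_sa ld m_ld (by decide))
    (hK.X0 lr m_lr ld m_ld (by decide))
    (fun z hz hc => hO.mem hK m_sa m_ld (by decide) (by decide) (by decide) hz hc)
    {v | ∃ a ∈ rts, 0 ≤ B a la ∧ 0 ≤ B a lb ∧ ¬ (B a a = 2 ∧ B a la = 0 ∧ B a lb = 0) ∧ v ∈ X a} ?_ ?_ ?_ ?_ ?_
  · intro u hu x hx
    obtain ⟨z, hz, w, hw, e, hz1⟩ := hT.ndl u⁻¹ (inv_mem hu) x⁻¹ (inv_mem hx)
    refine ⟨w, hw, z, hz, ?_, fun h1 h2 h3 => ?_⟩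
    · have e1 : z * w = w * z := hK.X0 sa m_sa lb m_lb (by decide) z hz w hw
      calc x⁻¹ * u * x = u * (u⁻¹ * x⁻¹ * u⁻¹⁻¹ * x⁻¹⁻¹) := by group
        _ = u * w * z := by rw [e, e1]; group
    · rcases hz1 h3 with h4 | h4
      · exact h1 (inv_eq_one.1 h4)
      · exact h2 (inv_eq_one.1 h4)
  · rintro y hy v ⟨a, ha, h1, h2, h3, hv⟩
    exact cs a ha (by rw [B_symm]; exact h1) y hy v hv
  · rintro y hy x hx v ⟨a, ha, h1, h2, h3, hv⟩
    obtain ⟨-, -, h4⟩ := fam_l a ha h1 h2 h3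
    have hyv : y * v = v * y := cs a ha (by rw [B_symm]; exact h1) y hy v hv
    have key : Commute y (x * v * x⁻¹ * v⁻¹) := by
      rcases h4 with h4 | ⟨h4, h5, h6, h7, h8, h9⟩ | h4
      · have e1 : x * v * x⁻¹ * v⁻¹ = 1 := by
          rw [hK.X0 lr m_lr a ha h4 x hx v hv]; group
        rw [e1]; exact Commute.one_right y
      · exact cs (lr + a) h7 h8 y hy _ (hK.X1 lr m_lr a ha (by rw [h4]; decide) h5 h6 x hx v hv)
      · subst h4
        obtain ⟨z, hz, w, hw, e⟩ := hK.X2 la m_la lr m_lr (by decide) (by decide) (by decide) v hv x hx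
        have e1 : x * v * x⁻¹ * v⁻¹ = (z * w)⁻¹ := by rw [← e]; group
        rw [e1]
        have c1 : Commute y z := cs (la + lr) (by decide +kernel) (by decide) y hy z hz
        have c2 : Commute y w := cs (la + lr + lr) (by decide +kernel) (by decide) y hy w hw
        exact (c1.mul_right c2).inv_right
    have c1 : Commute y (x * v * x⁻¹) := by
      have h5 : x * v * x⁻¹ = x * v * x⁻¹ * v⁻¹ * v := by group
      rw [h5]
      exact key.mul_right hyv
    calc x⁻¹ * y * x * v = x⁻¹ * (y * (x * v * x⁻¹)) * x := by group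
      _ = x⁻¹ * (x * v * x⁻¹ * y) * x := by rw [c1.eq]
      _ = v * (x⁻¹ * y * x) := by group
  · rintro y hy v ⟨a, ha, h1, h2, h3, hv⟩
    exact cs1 a ha (by rw [B_symm]; exact h2) y hy v hv
  · rintro z hz v ⟨a, ha, h1, h2, h3, hv⟩
    obtain ⟨h4, h5, -⟩ := fam_l a ha h1 h2 h3
    exact hW.mix m_sa ha h5 h4 hz hv
  · intro k hk hF
    exact hT.c1l k hk fun a ha h1 h2 h3 x hx => hF x ⟨a, ha, h1, h2, h3, hx⟩

/-- **Type O for both lengths: impossible.** -/
theorem false_O_O [Finite G] (hK : KF t X) (hT : KT t X H) (hW : WB t X W) (hL : WL t X W) (hH : TorW X W H)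
    (hO : TyO X W 2) (hO' : TyO X W 4) : False := by
  obtain ⟨h, hhH, hha, hhl, hc2⟩ := hT.c2
  obtain ⟨δ, hδ, d1, d2⟩ := hT.tor oa m_oa la m_la (by decide) (by decide)
  obtain ⟨δ', hδ', d1', d2'⟩ := hT.tor la m_la oa m_oa (by decide) (by decide)
  refine false_of_O_O (Xa := X oa) (Xp := X la) (Xr := X sd) (Xm := X om) hK.tt (hW.isW oa m_oa) (hW.isW la m_la)
    (hK.Xne oa m_oa) (hK.Xne la m_la) (hW.WXd oa m_oa la m_la (by decide) (by decide))
    (hW.WXd la m_la oa m_oa (by decide) (by decide)) (hW.WXd oa m_oa sd m_sd (by decide) (by decide)) ?_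
    (fun z hz hc => hO'.mem hK m_la m_sd (by decide) (by decide) (by decide) hz hc) ?_
    (fun x hx hx' => hK.ind oa m_oa la m_la (by decide) x hx hx')
    ({v | ∃ f ∈ rts, (B f f = 4 ∧ 0 ≤ B f oa ∧ 0 < B f la ∨ B f f = 2 ∧ 0 < B f oa ∧ 0 ≤ B f la) ∧ v ∈ X f} ∪ {h})
    ?_ ?_ ?_ (hT.Ht δ hδ) (hH.HX δ hδ oa m_oa d1) (hH.HW δ hδ la m_la) d2 (hT.Ht δ' hδ')
    (hH.HX δ' hδ' la m_la d1') (hH.HW δ' hδ' oa m_oa) d2'
  · intro z hz x hx
    have h1 := hL.WX0 la m_la (by decide) sd m_sd (by decide) (by decide) om m_om (by decide) z⁻¹ (inv_mem hz)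
      x⁻¹ (inv_mem hx)
    have e : z⁻¹ * (x⁻¹ * z * x) = z⁻¹ * x⁻¹ * z⁻¹⁻¹ * x⁻¹⁻¹ := by group
    rw [e]; exact h1
  · intro y hy u hu hu1 hyu
    by_contra hn
    exact hO oa m_oa om m_om (by decide) (by decide) (by decide) y hy hn u hu hu1 hyu
  · rintro y hy v (⟨f, hf, h1, hv⟩ | rfl)
    · have h2 := fam_o f hf h1
      refine hW.mix m_oa hf ?_ (fun h3 => ?_) hy hv
      · rcases h2 with h2 | h2 <;> omega
      · have h4 : B oa oa = 2 := by decide
        rcases h2 with h2 | h2 <;> omega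
    · exact (hH.HX _ hhH oa m_oa hha y hy).symm
  · rintro z hz v (⟨f, hf, h1, hv⟩ | rfl)
    · have h2 := fam_o f hf h1
      refine hW.mix m_la hf ?_ (fun h3 => ?_) hz hv
      · rcases h2 with h2 | h2 <;> omega
      · have h4 : B la la = 4 := by decide
        rcases h2 with h2 | h2 <;> omega
    · exact (hH.HX _ hhH la m_la hhl z hz).symm
  · intro k hk hF
    exact hc2 k hk (hF h (Or.inr rfl)) fun f hf h1 x hx => hF x (Or.inl ⟨f, hf, h1, hx⟩)

/-- **Both lengths moved: both of type C.** -/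
theorem both_C [Finite G] (hK : KF t X) (hT : KT t X H) (hS : WS t X W) (hL : WL t X W) (hH : TorW X W H)
    (h2 : TyC X W 2 ∨ TyO X W 2) (h4 : TyC X W 4 ∨ TyO X W 4) : TyC X W 2 ∧ TyC X W 4 := by
  have hW := wb hK hS hL
  rcases h2 with h2 | h2 <;> rcases h4 with h4 | h4
  · exact ⟨h2, h4⟩
  · exact (false_C_O hK hT hW h2 h4).elim
  · exact (false_O_C hK hT hW h2 h4).elim
  · exact (false_O_O hK hT hW hL hH h2 h4).elim

/-- **Both lengths moved**: the doubled root groups of `CCModel`. -/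
theorem wc [Finite G] (hK : KF t X) (hT : KT t X H) (hS : WS t X W) (hL : WL t X W) (hH : TorW X W H)
    (h2 : TyC X W 2 ∨ TyO X W 2) (h4 : TyC X W 4 ∨ TyO X W 4) : CCModel.WC t X W := by
  have hW := wb hK hS hL
  obtain ⟨h2, h4⟩ := both_C hK hT hS hL hH h2 h4
  refine ⟨hW.isW, fun a ha d hd h w hw x hx => ?_, fun a ha b hb h1 h3 => ?_⟩
  · have hC : TyC X W (B a a) := by
      rcases _root_.Cfsg.Agent.OddHalf.D7F4.Model.norm a ha with h1 | h1
      · rw [h1]; exact h2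
      · rw [h1]; exact h4
    exact hW.all ha hC hd h hw hx
  · obtain ⟨δ, hδ, d1, d2⟩ := hT.tor a ha b hb h1 h3
    exact ⟨δ, hT.Ht δ hδ, hH.HX δ hδ a ha d1, fun c hc w hw => hH.HW δ hδ c hc w hw, d2⟩

/-! ### Two families -/

open Classical in
/-- `W₁` for the short, `W₂` for the long roots -/
noncomputable def comb (W₁ W₂ : (Fin 4 → ℤ) → Subgroup G) (a : Fin 4 → ℤ) : Subgroup G :=
  if B a a = 2 then W₁ a else W₂ a

theorem comb_short (W₁ W₂ : (Fin 4 → ℤ) → Subgroup G) {a : Fin 4 → ℤ} (h : B a a = 2) : comb W₁ W₂ a = W₁ a :=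
  if_pos h

theorem comb_long (W₁ W₂ : (Fin 4 → ℤ) → Subgroup G) {a : Fin 4 → ℤ} (h : B a a = 4) : comb W₁ W₂ a = W₂ a :=
  if_neg (by omega)

theorem WS.comb {W₁ : (Fin 4 → ℤ) → Subgroup G} (h : WS t X W₁) (W₂ : (Fin 4 → ℤ) → Subgroup G) :
    WS t X (comb W₁ W₂) where
  XW s hs hss := by rw [comb_short W₁ W₂ hss]; exact h.XW s hs hss
  Wsq s hs hss := by rw [comb_short W₁ W₂ hss]; exact h.Wsq s hs hss
  brk s hs hss := by rw [comb_short W₁ W₂ hss]; exact h.brk s hs hss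
  cent s hs hss := by rw [comb_short W₁ W₂ hss]; exact h.cent s hs hss
  surj s hs hss := by rw [comb_short W₁ W₂ hss]; exact h.surj s hs hss
  WX s hs hss := by rw [comb_short W₁ W₂ hss]; exact h.WX s hs hss
  WX0 s hs hss := by rw [comb_short W₁ W₂ hss]; exact h.WX0 s hs hss

theorem WL.comb {W₂ : (Fin 4 → ℤ) → Subgroup G} (h : WL t X W₂) (W₁ : (Fin 4 → ℤ) → Subgroup G) :
    WL t X (comb W₁ W₂) where
  XW s hs hss := by rw [comb_long W₁ W₂ hss]; exact h.XW s hs hss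
  Wsq s hs hss := by rw [comb_long W₁ W₂ hss]; exact h.Wsq s hs hss
  brk s hs hss := by rw [comb_long W₁ W₂ hss]; exact h.brk s hs hss
  cent s hs hss := by rw [comb_long W₁ W₂ hss]; exact h.cent s hs hss
  surj s hs hss := by rw [comb_long W₁ W₂ hss]; exact h.surj s hs hss
  WX s hs hss := by rw [comb_long W₁ W₂ hss]; exact h.WX s hs hss
  WX0 s hs hss := by rw [comb_long W₁ W₂ hss]; exact h.WX0 s hs hss

/-- The torus acts on the doubled root groups of norm `n`. -/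
structure TorN {G : Type*} [Group G] (X W : (Fin 4 → ℤ) → Subgroup G) (H : Subgroup G) (n : ℤ) : Prop where
  HW : ∀ h ∈ H, ∀ a ∈ rts, B a a = n → ∀ w ∈ W a, h * w * h⁻¹ ∈ W a
  HX : ∀ h ∈ H, ∀ a ∈ rts, B a a = n → (∀ x ∈ X a, h * x = x * h) → ∀ w ∈ W a, h * w = w * h

variable {W₁ W₂ : (Fin 4 → ℤ) → Subgroup G}

theorem TorW.comb (h1 : TorN X W₁ H 2) (h2 : TorN X W₂ H 4) : TorW X (comb W₁ W₂) H where
  HW h hh a ha := by
    rcases _root_.Cfsg.Agent.OddHalf.D7F4.Model.norm a ha with hn | hn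
    · rw [comb_short W₁ W₂ hn]; exact h1.HW h hh a ha hn
    · rw [comb_long W₁ W₂ hn]; exact h2.HW h hh a ha hn
  HX h hh a ha hx := by
    rcases norm a ha with hn | hn
    · rw [comb_short W₁ W₂ hn]; exact h1.HX h hh a ha hn hx
    · rw [comb_long W₁ W₂ hn]; exact h2.HX h hh a ha hn hx

theorem TyC.comb_short (h : TyC X W₁ 2) : TyC X (comb W₁ W₂) 2 := fun a ha d hd h1 h2 h3 => by
  rw [TypeCModel.comb_short W₁ W₂ h1]; exact h a ha d hd h1 h2 h3

theorem TyC.comb_long (h : TyC X W₂ 4) : TyC X (comb W₁ W₂) 4 := fun a ha d hd h1 h2 h3 => by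
  rw [TypeCModel.comb_long W₁ W₂ h1]; exact h a ha d hd h1 h2 h3

theorem TyO.comb_short (h : TyO X W₁ 2) : TyO X (comb W₁ W₂) 2 := fun a ha d hd h1 h2 h3 => by
  rw [TypeCModel.comb_short W₁ W₂ h1]; exact h a ha d hd h1 h2 h3

theorem TyO.comb_long (h : TyO X W₂ 4) : TyO X (comb W₁ W₂) 4 := fun a ha d hd h1 h2 h3 => by
  rw [TypeCModel.comb_long W₁ W₂ h1]; exact h a ha d hd h1 h2 h3

/-- **Both lengths moved**, with a family for each length. -/
theorem wc_comb [Finite G] (hK : KF t X) (hT : KT t X H) (hS : WS t X W₁) (hL : WL t X W₂) (h1 : TorN X W₁ H 2)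
    (h2 : TorN X W₂ H 4) (t2 : TyC X W₁ 2 ∨ TyO X W₁ 2) (t4 : TyC X W₂ 4 ∨ TyO X W₂ 4) :
    CCModel.WC t X (comb W₁ W₂) :=
  wc hK hT (WS.comb hS W₂) (WL.comb hL W₁) (TorW.comb h1 h2) (t2.imp TyC.comb_short TyO.comb_short)
    (t4.imp TyC.comb_long TyO.comb_long)

end

end Cfsg.Agent.OddHalf.D7F4.TypeCModel

end

-- merged: Cfsg.Agent.OddHalf.D7F4.RowCC
section

/-!
# K = F4(q), q ≥ 4 even, both lengths are moved: the coordinates (S1765, node D7; helper84)

`crd` : `CCOut.Crd` for a frame; `dir` : `Lead.Dir`; `UK_map` : `f U = Ab (XG f) 0`.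
-/

set_option autoImplicit false
set_option linter.unusedSectionVars false

namespace Cfsg.Agent.OddHalf.D7F4.RowCC

open CoxeterSystem Cfsg.Agent.ChevalleyStructure.CoxeterGeom Cfsg.Agent.Tits.Roots Cfsg.Agent.Tits.Core
open Cfsg.Lie Cfsg.Agent.ChevalleyStructure Cfsg.Agent.ChevalleyStructure.CoxeterGeomTypes
open Cfsg.Agent.Nodes Cfsg.Agent.Nodes.Reps Cfsg.Agent.Nodes.BNOf Cfsg.Agent.Nodes.Unique Cfsg.Agent.Nodes.RGDChev
  Cfsg.Agent.Nodes.KindF Cfsg.Agent.KFacts.ChevTwo Cfsg.Agent.KFacts.ChevTwoTab Cfsg.Agent.KFacts.ChevTwoInst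
  Cfsg.Agent.KFacts.F4Star Cfsg.Agent.KFacts.F4Cent Cfsg.Agent.KFacts.F4Pair Cfsg.Agent.KFacts.F4Torus
  Cfsg.Agent.KFacts.F4Model Cfsg.Agent.KFacts.RgdInd
open Cfsg.Agent.OddHalf.D7F4.Model hiding add

universe u

variable {G : Type*} [Group G] {F : Type u} [Field F] [Finite F] [CharP F 2] {t : G}
  {f : ↥(chevF4.group F) →* G}

/-- the character -/
def chF (χ : Fin 4 → Fˣ) : (Fin 4 → ℤ) →+ Additive Fˣ where
  toFun a := Additive.ofMul (∏ i, χ i ^ a i)
  map_zero' := by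
    have : (∏ i, χ i ^ (0 : Fin 4 → ℤ) i) = 1 := Finset.prod_eq_one fun i _ => by rw [Pi.zero_apply, zpow_zero]
    rw [this]; rfl
  map_add' a b := by
    rw [← ofMul_mul, ← Finset.prod_mul_distrib]
    congr 1
    refine Finset.prod_congr rfl fun i _ => ?_
    rw [Pi.add_apply, zpow_add]

theorem tab1 : B Lead.ρ' Lead.ρ' = B Lead.α3 Lead.α3 ∧ B Lead.ρ' Lead.α3 < 0 ∧ Lead.ρ' ≠ -Lead.α3 ∧
    Lead.ρ' + Lead.α3 = Lead.ρ := by decide +kernel

theorem tab2 : B CCOut.α2 CCOut.α2 = 4 ∧ B CCOut.α1 CCOut.α1 = 2 ∧ B CCOut.α2 CCOut.α1 = -2 ∧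
    CCOut.α2 + CCOut.α1 = CCOut.α12 ∧ CCOut.α2 + CCOut.α1 + CCOut.α1 = CCOut.α112 ∧
    CCOut.α1 ∈ rts ∧ CCOut.α2 ∈ rts ∧ CCOut.α112 ∈ rts := by decide +kernel

/-- **The coordinates.** -/
theorem crd (R : Frame t f) (hq : ∃ μ : Fˣ, μ ≠ 1) {W : (Fin 4 → ℤ) → Subgroup G}
    (hHW : ∀ h ∈ TF F, ∀ a ∈ rts, (∀ y ∈ XG f a, f h * y = y * f h) → ∀ w ∈ W a, f h * w = w * f h) :
    CCOut.Crd t (fun a u => f (eF F a u)) (XG f) W ((TF F).map f) where
  mem a ha u := (mem_XG ha).2 ⟨u, rfl⟩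
  surj a ha g hg := (mem_XG ha).1 hg
  add a ha u v := by rw [← map_mul, (D7F4Ex.chartY hq).add a ha]
  inj a ha u h := (D7F4Ex.chartY hq).inj a ha u (R.inj (by rw [h, map_one]))
  r1 u v := by
    obtain ⟨h1, h2, h3, h4⟩ := tab1
    have h5 := (D7F4Ex.chartY hq).c1 Lead.ρ' Lead.ρ'_mem Lead.α3 Lead.α3_mem h1 h2 h3 u v
    rw [h4] at h5
    rw [← h5]
    simp only [map_mul, map_inv]
  r2 u v := by
    obtain ⟨h1, h2, h3, h4, h5, h6, h7, h8⟩ := tab2
    have h9 := (D7F4Ex.chartY hq).c2 CCOut.α2 h7 CCOut.α1 h6 h1 h2 h3 u v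
    rw [h5, h4] at h9
    refine ⟨f (eF F CCOut.α112 (u * v ^ 2)), (mem_XG h8).2 ⟨_, rfl⟩, ?_⟩
    simp only [← map_mul, ← map_inv]
    rw [h9]
  tor χ := by
    obtain ⟨s, hs, h⟩ := exists_torus D7F4Ex.csF (chF χ)
    refine ⟨f s, ⟨s, hs, rfl⟩, fun a ha u => ?_⟩
    rw [← map_inv, ← map_mul, ← map_mul, h a (D7F4Ex.mem_rts.2 ha) u]
    rfl
  Ht := by
    rintro _ ⟨h, -, rfl⟩
    exact (R.ft h).symm
  HX := by
    rintro _ ⟨h, hh, rfl⟩ a ha _ ⟨y, hy, rfl⟩
    have : Fact (Nat.Prime 2) := ⟨Nat.prime_two⟩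
    have h1 := (rgd (K := F) isType cF 2).tor a (D7F4Ex.mem_rts.2 ha) h hh
    refine ⟨h * y * h⁻¹, ?_, by rw [map_mul, map_mul, map_inv]⟩
    have h2 : h * y * h⁻¹ ∈ cj h (XF F a) := ⟨y, hy, rfl⟩
    exact h1.le h2
  HW := by
    rintro _ ⟨h, hh, rfl⟩ a ha hy w hw
    exact hHW h hh a ha hy w hw
  Hs := by
    rintro _ ⟨h, -, rfl⟩ y hy e
    obtain ⟨y', hy'⟩ := R.nK y hy h
    refine R.not_mem_range (fun z hz => eq_one_of_comm cF (fun x _ u => hz _)) (y' * h⁻¹) ?_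
    rw [map_mul, map_inv, ← hy', e]
  cK g hg h := R.eq_one_or hg fun a ha c => h a ha _ ((mem_XG ha).2 ⟨c, rfl⟩)

theorem dir (R : Frame t f) : Lead.Dir (XG f) := XG_ind R.inj

theorem not_mem_Ab (R : Frame t f) : t ∉ Lead.Ab (XG f) 0 := R.not_mem_up

/-- `|F| > 2` -/
theorem exists_unit (hF : 2 < Nat.card F) : ∃ μ : Fˣ, μ ≠ 1 := by
  have h1 : Nat.card Fˣ = Nat.card F - 1 := Nat.card_units F
  have h2 : Nontrivial Fˣ := by
    rw [← Finite.one_lt_card_iff_nontrivial, h1]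
    omega
  exact exists_ne 1

/-- **Both lengths are moved.** -/
theorem row [Finite G] (hF : 2 < Nat.card F) {T : Subgroup G} {g : G} (O : FrOut.FrO t f T g) (hK : KF t (XG f))
    (hG : CCModel.KG t (XG f)) {W : (Fin 4 → ℤ) → Subgroup G} (hW : CCModel.WC t (XG f) W)
    (hH : TypeCModel.TorW (XG f) W ((TF F).map f)) : t ∉ _root_.commutator G :=
  CCOut.main hK (CCModel.hyp hK hG hW) (dir O.R)
    (crd O.R (exists_unit hF) fun h hh a ha hy w hw => hH.HX (f h) ⟨h, hh, rfl⟩ a ha hy w hw) (FrTG.tg O)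
    (not_mem_Ab O.R)

end Cfsg.Agent.OddHalf.D7F4.RowCC

end

-- merged: Cfsg.Agent.OddHalf.D7F4.StartF4
section

/-!
# `K = F₄(q)`, `q ≥ 4` even: the starting position (ODD D7; helper588)

`exists_start` : `Ctx G`, `Std G K`, `Cyc K`, `K ≅ F₄(F)`, `|F| > 2` even, give `Start t f T`: a frame `f : F₄(F) →* G`
with image `K`, a Sylow 2-subgroup `T` of `C_G(t)` with `T ∩ K = f U`, `T = ⟨g, t⟩ f U` for some `g` inducing a frame
automorphism `β` of `F₄(F)`, and `X_ρ` or `X_σ` is moved.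
-/

set_option autoImplicit false
set_option Elab.async false
set_option linter.unusedSectionVars false

namespace Cfsg.Agent.OddHalf.D7F4.StartF4

open CoxeterSystem Cfsg.Agent.ChevalleyStructure.CoxeterGeom Cfsg.Agent.Tits.Roots Cfsg.Agent.Tits.Core
open Cfsg.Lie Cfsg.Agent.ChevalleyStructure Cfsg.Agent.ChevalleyStructure.Elts
  Cfsg.Agent.ChevalleyStructure.RootVec Cfsg.Agent.ChevalleyStructure.CoxeterGeomTypes
open Cfsg.Agent.Nodes Cfsg.Agent.Nodes.Reps Cfsg.Agent.Nodes.BNOf Cfsg.Agent.Nodes.RGDChev Cfsg.Agent.Nodes.Coroot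
  Cfsg.Agent.Nodes.KindF Cfsg.Agent.KFacts.F4Star Cfsg.Agent.KFacts.F4Cent Cfsg.Agent.KFacts.F4Pair
open Cfsg.Agent.OddHalf.D7F4.KFront Cfsg.Agent.OddHalf.D7F4.Fusion Cfsg.Agent.OddHalf.Iface
open Cfsg.Agent.OddHalf.D7.Cases
open scoped commutatorElement

universe u v

variable {G : Type u} [Group G] {F : Type v} [Field F] [Finite F] [CharP F 2]

/-- The starting position. -/
structure Start (t : G) (f : ↥(chevF4.group F) →* G) (T : Subgroup G) : Prop where
  frame : Frame t f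
  fr : D7Out.Defs.Fr t t f.range ((UK F).map f) ((ZK F).map f) T
  /-- the outer part of `T` -/
  gen : ∃ g ∈ T, ∃ β ∈ KFacts.RgdRigid.Frame c4 isType.isCartan (XF F), (∀ y, f (β y) = g * f y * g⁻¹) ∧
    (∃ k : ℕ, β ^ 2 ^ k = 1) ∧ ∀ s ∈ T, ∃ m : ℤ, ∃ u ∈ UK F, s = f u * g ^ m ∨ s = t * (f u * g ^ m)
  swap : ∃ n ∈ Subgroup.normalizer (T : Set G), ∃ z ∈ ZK F, z ≠ 1 ∧ (∀ x ∈ T, x * f z = f z * x) ∧
    n * t * n⁻¹ = t * f z
  moved : Moved t (XG f (v 47)) ∨ Moved t (XG f (v 44))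

theorem mem_normalizer_of {G : Type u} [Group G] {T P : Subgroup G} (h : ∀ x ∈ T, ∀ p ∈ P, x * p * x⁻¹ ∈ P) :
    T ≤ Subgroup.normalizer (P : Set G) := by
  intro x hx
  have hx' : x⁻¹ ∈ T := T.inv_mem hx
  rw [Subgroup.mem_normalizer_iff]
  intro p
  refine ⟨h x hx p, fun hp => ?_⟩
  have h1 := h x⁻¹ hx' _ hp
  have e : x⁻¹ * (x * p * x⁻¹) * x⁻¹⁻¹ = p := by group
  rwa [e] at h1

/-- the outer part, for any cyclic `C(K) ∩ C(t) = ⟨v⟩` -/
theorem exists_gen [Finite G] {K : Subgroup G} {t w : G} {f : ↥(chevF4.group F) →* G} (hf : Function.Injective f)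
    (hfK : f.range = K) {Z T : Subgroup G} (E : D7Out.Defs.Fr t w K ((UK F).map f) Z T) :
    ∃ g ∈ T, ∃ β ∈ KFacts.RgdRigid.Frame c4 isType.isCartan (XF F), (∀ y, f (β y) = g * f y * g⁻¹) ∧
      (∃ k : ℕ, β ^ 2 ^ k = 1) ∧
      ∀ s ∈ T, ∃ m : ℤ, ∃ u ∈ UK F, ∃ r ∈ Subgroup.zpowers w, s = f u * r * g ^ m := by
  have hKn : ∀ x ∈ T, ∀ p ∈ K, x * p * x⁻¹ ∈ K := fun x hx p hp =>
    (Subgroup.mem_normalizer_iff.1 (E.nK x (E.tc x hx)) p).1 hp
  have hUT : (UK F).map f ≤ T := by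
    rw [E.U_eq]; exact inf_le_left
  obtain ⟨g, hg, β, hβ, h1, h2, h3⟩ := KFacts.RgdGraphF4.gen_F4 (K := F) c4 f hf (S := T) E.pT
    (by rw [hfK]; exact mem_normalizer_of hKn)
    (mem_normalizer_of fun x hx p hp => by
      have hp' := hp
      rw [E.U_eq] at hp' ⊢
      exact ⟨T.mul_mem (T.mul_mem hx hp'.1) (T.inv_mem hx), hKn x hx p hp'.2⟩)
    hUT
  refine ⟨g, hg, β, hβ, h1, h2, fun s hs => ?_⟩
  obtain ⟨m, u, hu, c, hc, hcK, e⟩ := h3 s hs
  refine ⟨m, u, hu, c, E.cK c (E.tc c hc) fun x hx => ?_, e⟩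
  rw [← hfK] at hx
  obtain ⟨y, rfl⟩ := hx
  exact (hcK y).symm

theorem hcyc [Finite G] {K : Subgroup G} {t w : G} {f : ↥(chevF4.group F) →* G} (hf : Function.Injective f)
    (hfK : f.range = K) {Z T : Subgroup G} (E : D7Out.Defs.Fr t w K ((UK F).map f) Z T) :
    ∃ s ∈ T, ∀ x ∈ T, ∃ k : ℤ, ∃ r ∈ Subgroup.zpowers w, ∃ u ∈ (UK F).map f, x = s ^ k * r * u := by
  obtain ⟨g, hg, -, -, -, -, h3⟩ := exists_gen hf hfK E
  refine ⟨g, hg, fun x hx => ?_⟩
  obtain ⟨m, u, hu, r, hr, e⟩ := h3 x⁻¹ (inv_mem hx)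
  refine ⟨-m, r⁻¹, inv_mem hr, (f u)⁻¹, inv_mem ⟨u, hu, rfl⟩, ?_⟩
  rw [← inv_inv x, e]; group

/-- **The start**, from the starting position of the nodes. -/
theorem start_of [Finite G] (hG : commutator G = ⊤) {K : Subgroup G} {t w : G} (S : Front.FE.Start K t w)
    (e : ↥(chevF4.group F) ≃* ↥K) (hF : 2 < Nat.card F) :
    ∃ (f : ↥(chevF4.group F) →* G) (T : Subgroup G), f.range = K ∧ Start t f T := by
  have hsK := S.simple
  have hsF : IsSimpleGroup ↥(chevF4.group F) := e.isSimpleGroup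
  have hs : Schreier.Basic.Sch ↥K := Schreier.Chev.sch_of_equiv (Schreier.Chev.sch_f4 F) ⟨e.symm⟩
  have F0 := (kf0 (K := F) hF).map e
  obtain ⟨T, E⟩ := D7Out.FrGen.fr0 S F0 hs
  set f : ↥(chevF4.group F) →* G := K.subtype.comp e.toMonoidHom with hf
  have hfi : Function.Injective f := K.subtype_injective.comp e.injective
  have hfK : f.range = K := by
    rw [hf, MonoidHom.range_comp, MonoidHom.range_eq_top.2 e.surjective, ← MonoidHom.range_eq_map, Subgroup.range_subtype]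
  rw [Subgroup.map_map, Subgroup.map_map] at E
  obtain ⟨hm, hR⟩ := FusionOut.front hG E (hcyc hfi hfK E)
  have hft : ∀ y, f y * t = t * f y := fun y => S.toStart0.Kt (f y) (by rw [← hfK]; exact ⟨y, rfl⟩)
  have hwt : w = t ∨ w = 1 := (hR w (Subgroup.mem_zpowers w)).symm
  have hwt' : w = t := by
    rcases hwt with h | h
    · exact h
    · exfalso
      have h1 := S.tQ
      rw [h, Subgroup.zpowers_one_eq_bot, Subgroup.mem_bot] at h1
      exact S.t1 h1
  subst hwt'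
  have hframe : Frame w f :=
    { tt := S.tt
      t1 := S.t1
      inj := hfi
      ft := hft
      nK := by
        intro g hg y
        have h1 := (Subgroup.mem_normalizer_iff.1 (S.nK g hg) (f y)).1 (by rw [← hfK]; exact ⟨y, rfl⟩)
        rw [← hfK] at h1
        obtain ⟨y', hy'⟩ := h1
        exact ⟨y', hy'.symm⟩
      cK := by
        intro g hg hgy
        refine hR g (S.cK g hg fun x hx => ?_)
        rw [← hfK] at hx
        obtain ⟨y, rfl⟩ := hx
        exact (hgy y).symm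
      perf := by
        intro L hLt hL
        rw [hfK]
        exact D7Out.FrGen.perf_le S.toStart0 hs hLt hL }
  obtain ⟨n, hn, z, hz, hz1, hzT, hnz⟩ := hm
  obtain ⟨z, hzZ, rfl⟩ := hz
  have hz1' : z ≠ 1 := fun h => hz1 (by rw [h, map_one])
  refine ⟨f, T, hfK, hframe, ?_, ?_, ⟨n, hn, z, hzZ, hz1', hzT, hnz⟩, ?_⟩
  · rw [hfK]; exact E
  · obtain ⟨g, hg, β, hβ, h1, h2, h3⟩ := exists_gen hfi hfK E
    refine ⟨g, hg, β, hβ, h1, h2, fun s hs => ?_⟩
    obtain ⟨m, u, hu, r, hr, e⟩ := h3 s hs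
    refine ⟨m, u, hu, ?_⟩
    rcases hR r hr with rfl | rfl
    · left; rw [e, mul_one]
    · right; rw [e, hft, mul_assoc]
  · exact hframe.exists_moved hF (g := n⁻¹) hzZ hz1' (by rw [inv_inv]; exact hnz)

/-- **The start**, from the interface of the nodes. -/
theorem exists_start (C : Ctx G) {K : Subgroup G} (S : Std G K) (hcyc : Cyc K)
    (e : Nonempty (↥K ≃* ↥(chevF4.group F))) (hF : 2 < Nat.card F) :
    ∃ (t : G) (f : ↥(chevF4.group F) →* G) (T : Subgroup G), f.range = K ∧ Front.FE.Start K t t ∧ Start t f T := by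
  have := C.fin
  obtain ⟨e⟩ := e
  have hc : Subgroup.center ↥(chevF4.group F) = ⊥ := S1077.center_group_eq_bot isType.inList
  have hcen : Subgroup.center ↥K = ⊥ := by
    rw [Subgroup.eq_bot_iff_forall] at hc ⊢
    intro x hx
    have h1 := hc (e x) (Subgroup.mem_center_iff.2 fun y => by
      obtain ⟨y, rfl⟩ := e.surjective y
      rw [← map_mul, ← map_mul, Subgroup.mem_center_iff.1 hx y])
    exact e.injective (by rw [h1, map_one])
  obtain ⟨t, w, hS⟩ := Front.FE.exists_start C S hcyc hcen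
  obtain ⟨f, T, hfK, h⟩ := start_of (Front.FE.commutator_eq_top C) hS e.symm hF
  refine ⟨t, f, T, hfK, ?_, h⟩
  have hwt : w = t := by
    have h1 := h.frame.cK w (hS.Qt w (Subgroup.mem_zpowers w)) fun y =>
      (hS.qK (f y) (by rw [← hfK]; exact ⟨y, rfl⟩)).symm
    rcases h1 with h1 | h1
    · exfalso
      have h2 := hS.tQ
      rw [h1, Subgroup.zpowers_one_eq_bot, Subgroup.mem_bot] at h2
      exact hS.t1 h2
    · exact h1
  rw [hwt] at hS
  exact hS

/-- **The row K = F₄(q)**, reduced to the starting position. -/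
theorem node_of (h : ∀ (G : Type u) [Group G] [Finite G] (F : Type) [Field F] [Finite F] [CharP F 2],
      2 < Nat.card F → commutator G = ⊤ → Ctx G → ∀ (t : G) (f : ↥(chevF4.group F) →* G) (T : Subgroup G),
      Front.FE.Start f.range t t → Start t f T → False) :
    Node.{u} @FamF4'.{u} := by
  intro G _ C K S c hK
  obtain ⟨F, _, _, a, ha, hF, e⟩ := hK
  have hch : CharP F 2 := by
    obtain ⟨p, hp⟩ := CharP.exists F
    have : Fact p.Prime := ⟨CharP.char_is_prime F p⟩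
    obtain ⟨n, hn, hc⟩ := FiniteField.card F p
    have h1 : p ∣ 2 ^ a := by
      rw [← hF, hc]
      exact dvd_pow_self p n.ne_zero
    have h2 : p = 2 := (Nat.prime_dvd_prime_iff_eq hn Nat.prime_two).1 (hn.dvd_of_dvd_pow h1)
    rwa [h2] at hp
  have h2 : 2 < Nat.card F := by
    rw [Nat.card_eq_fintype_card, hF]
    calc 2 < 2 ^ 2 := by norm_num
      _ ≤ 2 ^ a := Nat.pow_le_pow_right (by norm_num) ha
  have := C.fin
  obtain ⟨t, f, T, hfK, hS, hT⟩ := exists_start C S c e h2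
  subst hfK
  exact h G F h2 (Front.FE.commutator_eq_top C) C t f T hS hT

end Cfsg.Agent.OddHalf.D7F4.StartF4

end

-- merged: Cfsg.Agent.OddHalf.D7F4.TypeCInst
section

/-!
# K = F4(q), `q ≥ 4`: the K-facts `TypeCModel.KT` (S1765, node D7; helper588)

* `exists_f` : `g ∈ C(t)` commuting with one root group is `f y` or `t * f y`;
* `mem_sup` : the centraliser in `F₄(F)` of the root groups of a mask;
* `kt` : `KT t (XG f) ((TF F).map f)` for a frame `f`, `|F| > 2`.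
-/

set_option autoImplicit false
set_option Elab.async false
set_option linter.unusedSectionVars false

namespace Cfsg.Agent.OddHalf.D7F4.TypeCInst

open CoxeterSystem Cfsg.Agent.ChevalleyStructure.CoxeterGeom Cfsg.Agent.Tits.Roots Cfsg.Agent.Tits.Core
open Cfsg.Lie Cfsg.Agent.ChevalleyStructure Cfsg.Agent.ChevalleyStructure.Elts
  Cfsg.Agent.ChevalleyStructure.RootVec Cfsg.Agent.ChevalleyStructure.CoxeterGeomTypes
open Cfsg.Agent.Nodes Cfsg.Agent.Nodes.Reps Cfsg.Agent.Nodes.BNOf Cfsg.Agent.Nodes.RGDChev Cfsg.Agent.Nodes.Coroot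
  Cfsg.Agent.Nodes.KindF Cfsg.Agent.KFacts.ChevTwo Cfsg.Agent.KFacts.ChevTwoTab Cfsg.Agent.KFacts.ChevTwoInst
  Cfsg.Agent.KFacts.F4Cent Cfsg.Agent.KFacts.F4Pair Cfsg.Agent.KFacts.F4Torus
open Cfsg.Agent.KFacts.F4Star hiding sb
open Cfsg.Agent.OddHalf.D7F4 Cfsg.Agent.OddHalf.D7F4.Model Cfsg.Agent.OddHalf.D7F4.TypeCModel
  Cfsg.Agent.OddHalf.D7F4.KFront Cfsg.Agent.OddHalf.D7F4.KBridge
open scoped commutatorElement

universe u v

variable {F : Type v} [Field F] [Finite F] [CharP F 2]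

/-! ### In `F₄(F)` -/

theorem rt_of {a : Fin 4 → ℤ} (ha : a ∈ rts) : IsRoot c4 isType.isCartan a := (isRoot_iff' c4).2 ha

theorem eF_inj {a : Fin 4 → ℤ} (ha : a ∈ rts) {t u : F} (h : eF F a t = eF F a u) : t = u := by
  have D := dat (K := F)
  have h1 : eF F a (t + u) = 1 := by
    rw [D.add a (rt_of ha), h, ← D.add a (rt_of ha), CharTwo.add_self_eq_zero, D.zero (rt_of ha)]
  have h2 := D.inj a (rt_of ha) _ h1
  exact CharTwo.add_eq_zero.1 h2

theorem eF_one_ne {a : Fin 4 → ℤ} (ha : a ∈ rts) : eF F a 1 ≠ 1 := fun h =>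
  one_ne_zero ((dat (K := F)).inj a (rt_of ha) _ h)

/-- The centraliser of the root groups of a mask. -/
theorem mem_mask {P : ℕ} (hP : spanM P = true) {y : ↥(chevF4.group F)}
    (hy : ∀ r ∈ List.range 48, P.testBit r = true → ∀ x ∈ XF F (vv r), y * x = x * y) :
    y ∈ RGD.Sup (XF F) (SetOf (starM P)) := by
  refine cent_mask hP ?_
  rintro _ ⟨r, hr, hb, rfl⟩
  have hm : vv r ∈ rts := vv_mem r (List.mem_range.2 hr)
  refine ⟨eF F (v r) 1, e_mem_X (rv hr) 1, ?_, ?_⟩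
  · rw [vv_eq]; exact eF_one_ne hm
  · refine hy r (List.mem_range.2 hr) hb _ ?_
    rw [← vv_eq]; exact e_mem_X (rv hr) 1

theorem sup_le3 {M : ℕ} {a b c : Fin 4 → ℤ}
    (hM : ∀ r ∈ List.range 48, M.testBit r = true → vv r = a ∨ vv r = b ∨ vv r = c) :
    RGD.Sup (XF F) (SetOf M) ≤ XF F a ⊔ XF F b ⊔ XF F c := by
  refine RGD.Sup_le ?_
  rintro _ ⟨r, hr, hb, rfl⟩
  rcases hM r (List.mem_range.2 hr) hb with h | h | h
  · rw [vv_eq, h]; exact le_sup_of_le_left le_sup_left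
  · rw [vv_eq, h]; exact le_sup_of_le_left le_sup_right
  · rw [vv_eq, h]; exact le_sup_right

theorem x0 {a b : Fin 4 → ℤ} (ha : a ∈ rts) (hb : b ∈ rts) (h : 0 ≤ B a b) : ∀ x ∈ XF F a, ∀ y ∈ XF F b, x * y = y * x :=
  KFacts.F4Model.X0 ha hb h

theorem split3 {a b c : Fin 4 → ℤ} (ha : a ∈ rts) (hb : b ∈ rts) (hc : c ∈ rts) (hab : 0 ≤ B a b) (hac : 0 ≤ B a c)
    (hbc : 0 ≤ B b c) {y : ↥(chevF4.group F)} (hy : y ∈ XF F a ⊔ XF F b ⊔ XF F c) :
    ∃ p ∈ XF F a, ∃ q ∈ XF F b, ∃ r ∈ XF F c, y = p * q * r := by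
  refine KFacts.F4Model.mem_sup3 (x0 ha hc hac) (x0 hb hc hbc) (fun p hp q hq => ⟨1, one_mem _, ?_⟩) hy
  rw [mul_one]
  exact (x0 ha hb hab p hp q hq).symm

/-- the mask of the family of `c1s` -/
def PS : ℕ := 279077262458880
/-- the mask of the family of `c1l` -/
def PL : ℕ := 281467498397696
/-- the mask of the family of `c2` -/
def PO : ℕ := 277205864677376

theorem span_s : spanM PS = true := by decide +kernel
theorem span_l : spanM PL = true := by decide +kernel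
theorem span_o : spanM PO = true := by decide +kernel

theorem cond_s : ∀ r ∈ List.range 48, PS.testBit r = true → 0 ≤ B (vv r) sa ∧ 0 ≤ B (vv r) sb ∧
    ¬ (B (vv r) (vv r) = 4 ∧ B (vv r) sa = 0 ∧ B (vv r) sb = 0) := by decide +kernel
theorem cond_l : ∀ r ∈ List.range 48, PL.testBit r = true → 0 ≤ B (vv r) la ∧ 0 ≤ B (vv r) lb ∧
    ¬ (B (vv r) (vv r) = 2 ∧ B (vv r) la = 0 ∧ B (vv r) lb = 0) := by decide +kernel
theorem cond_o : ∀ r ∈ List.range 48, PO.testBit r = true →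
    (B (vv r) (vv r) = 4 ∧ 0 ≤ B (vv r) oa ∧ 0 < B (vv r) la ∨
      B (vv r) (vv r) = 2 ∧ 0 < B (vv r) oa ∧ 0 ≤ B (vv r) la) := by decide +kernel

theorem star_s : ∀ r ∈ List.range 48, (starM PS).testBit r = true → vv r = sa ∨ vv r = sb ∨ vv r = la := by
  decide +kernel
theorem star_l : ∀ r ∈ List.range 48, (starM PL).testBit r = true → vv r = la ∨ vv r = lb ∨ vv r = sa := by
  decide +kernel
/-- the functional of the torus element -/
def phi : (Fin 4 → ℤ) →+ ℤ where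
  toFun x := 2 * x 2 - 3 * x 3
  map_zero' := by simp
  map_add' x y := by simp only [Pi.add_apply]; ring

def phi0 (x : Fin 4 → ℤ) : ℤ := 2 * x 2 - 3 * x 3

theorem star_o : ∀ r ∈ List.range 48, (starM PO).testBit r = true → vv r = oa ∨ vv r = la ∨ phi0 (vv r) = 1 ∨
    phi0 (vv r) = -1 := by decide +kernel
theorem star_o' : ∀ r ∈ List.range 48, (starM PO).testBit r = true → 0 < vv r 0 + vv r 1 + vv r 2 + vv r 3 := by
  decide +kernel

theorem k_s {y : ↥(chevF4.group F)} (hy : ∀ a ∈ rts, 0 ≤ B a sa → 0 ≤ B a sb →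
    ¬ (B a a = 4 ∧ B a sa = 0 ∧ B a sb = 0) → ∀ x ∈ XF F a, y * x = x * y) :
    ∃ a ∈ XF F sa, ∃ b ∈ XF F sb, ∃ c ∈ XF F la, y = a * b * c := by
  refine split3 m_sa m_sb m_la (by decide) (by decide) (by decide) (sup_le3 star_s (mem_mask span_s ?_))
  intro r hr hb
  obtain ⟨h1, h2, h3⟩ := cond_s r hr hb
  exact hy _ (vv_mem r hr) h1 h2 h3

theorem k_l {y : ↥(chevF4.group F)} (hy : ∀ a ∈ rts, 0 ≤ B a la → 0 ≤ B a lb →
    ¬ (B a a = 2 ∧ B a la = 0 ∧ B a lb = 0) → ∀ x ∈ XF F a, y * x = x * y) :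
    ∃ a ∈ XF F la, ∃ b ∈ XF F lb, ∃ c ∈ XF F sa, y = a * b * c := by
  refine split3 m_la m_lb m_sa (by decide) (by decide) (by decide) (sup_le3 star_l (mem_mask span_l ?_))
  intro r hr hb
  obtain ⟨h1, h2, h3⟩ := cond_l r hr hb
  exact hy _ (vv_mem r hr) h1 h2 h3

/-- `star Ψ` is closed. -/
theorem closed_star {Ψ : Set (Fin 4 → ℤ)} (hΨ : ∀ a ∈ Ψ, IsRoot c4 isType.isCartan a) :
    Unique.Closed c4 isType.isCartan (_root_.Cfsg.Agent.KFacts.ChevTwo.star c4 isType.isCartan Ψ) := by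
  intro x hx y hy z hz
  refine ⟨hz.1, fun a ha => ?_⟩
  obtain ⟨-, m, p, q, hm, hp, hq, e⟩ := hz
  have h1 := cpr_smul c4 isType.isCartan m z (hΨ a ha)
  rw [e, cpr_add c4 isType.isCartan _ _ (hΨ a ha), cpr_smul c4 isType.isCartan p x (hΨ a ha),
    cpr_smul c4 isType.isCartan q y (hΨ a ha)] at h1
  have h2 := mul_nonneg hp.le (hx.2 a ha)
  have h3 := mul_nonneg hq.le (hy.2 a ha)
  by_contra h4
  have h5 : m * cpr c4 isType.isCartan z a < 0 := mul_neg_of_pos_of_neg hm (not_le.1 h4)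
  omega

theorem exists_unit_ne (hF : 2 < Nat.card F) : ∃ c : Fˣ, c ≠ 1 := by
  obtain ⟨c, hc, h1⟩ := exists_zpow_ne (K := F) hF
  refine ⟨Units.mk0 c hc, fun h => h1 1 one_ne_zero (by norm_num) (by norm_num) ?_⟩
  rw [zpow_one]
  have := congrArg (fun u : Fˣ => (u : F)) h
  exact this

theorem fix_of_ne {a : Fin 4 → ℤ} (ha : a ∈ rts) {d : Fˣ} (hd : d ≠ 1) {h : ↥(chevF4.group F)}
    (hh : ∀ u, h * eF F a u * h⁻¹ = eF F a (d * u)) : ∀ x ∈ XF F a, h * x = x * h → x = 1 := by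
  intro x hx hc
  obtain ⟨u, rfl⟩ := (mem_XF (rt_of ha)).1 hx
  have h1 : eF F a (d * u) = eF F a u := by
    rw [← hh, hc, mul_inv_cancel_right]
  have h2 := eF_inj ha h1
  have h3 : ((d : F) - 1) * u = 0 := by rw [sub_mul, one_mul, h2, sub_self]
  rcases mul_eq_zero.1 h3 with h4 | h4
  · exact absurd (Units.ext (sub_eq_zero.1 h4)) hd
  · rw [h4]; exact (dat (K := F)).zero (rt_of ha)

theorem k_o (hF : 2 < Nat.card F) : ∃ h ∈ TF F, (∀ x ∈ XF F oa, h * x = x * h) ∧ (∀ x ∈ XF F la, h * x = x * h) ∧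
    ∀ y : ↥(chevF4.group F), y * h = h * y →
    (∀ f ∈ rts, (B f f = 4 ∧ 0 ≤ B f oa ∧ 0 < B f la ∨ B f f = 2 ∧ 0 < B f oa ∧ 0 ≤ B f la) →
      ∀ x ∈ XF F f, y * x = x * y) → ∃ a ∈ XF F oa, ∃ b ∈ XF F la, y = a * b := by
  obtain ⟨g, hg⟩ := exists_unit_ne hF
  obtain ⟨h, hh, hc⟩ := exists_torus (K := F) c4 ((zmultiplesHom (Additive Fˣ) (Additive.ofMul g)).comp phi)
  have hval : ∀ x, (((zmultiplesHom (Additive Fˣ) (Additive.ofMul g)).comp phi) x).toMul = g ^ phi0 x := by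
    intro x
    rw [AddMonoidHom.comp_apply, zmultiplesHom_apply]
    rfl
  have hfix : ∀ a ∈ rts, phi0 a = 0 → ∀ x ∈ XF F a, h * x = x * h := by
    intro a ha h0 x hx
    obtain ⟨u, rfl⟩ := (mem_XF (rt_of ha)).1 hx
    have h1 := hc a (rt_of ha) u
    rw [hval, h0, zpow_zero, Units.val_one, one_mul] at h1
    calc h * eF F a u = h * eF F a u * h⁻¹ * h := by group
      _ = eF F a u * h := by rw [h1]
  refine ⟨h, hh, hfix oa m_oa (by decide), hfix la m_la (by decide), fun y hyh hy => ?_⟩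
  have h1 : y ∈ RGD.Sup (XF F) (SetOf (starM PO)) := mem_mask span_o fun r hr hb =>
    hy _ (vv_mem r hr) (cond_o r hr hb)
  have h2 := KFacts.RgdInd.cent_closed (rgd (K := F) isType c4 2)
    (((AddMonoidHom.mk' (fun x : Fin 4 → ℤ => x 0 + x 1 + x 2 + x 3) fun x y => by
      simp only [Pi.add_apply]; ring))) (S := SetOf (starM PO)) (by
      rintro _ ⟨r, hr, hb, rfl⟩
      refine ⟨rv hr, ?_⟩
      have := star_o' r (List.mem_range.2 hr) hb
      rw [vv_eq]; exact this)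
    (by
      rw [← star_SetOf c4]
      exact closed_star fun a ha => isRoot_of_mem_SetOf _ ha) (C := {h}) (by rintro _ rfl; exact hh) h1
    (Subgroup.mem_centralizer_singleton_iff.2 hyh)
  have h3 : RGD.Sup (fun x => XF F x ⊓ Subgroup.centralizer ({h} : Set ↥(chevF4.group F))) (SetOf (starM PO)) ≤
      XF F oa ⊔ XF F la := by
    refine RGD.Sup_le ?_
    rintro _ ⟨r, hr, hb, rfl⟩ x ⟨hx, hxh⟩
    have hm := vv_mem r (List.mem_range.2 hr)
    rw [vv_eq] at hx
    rcases star_o r (List.mem_range.2 hr) hb with h4 | h4 | h4 | h4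
    · rw [h4] at hx; exact Subgroup.mem_sup_left hx
    · rw [h4] at hx; exact Subgroup.mem_sup_right hx
    · have h5 := fix_of_ne hm (d := g ^ phi0 (vv r)) (by rw [h4, zpow_one]; exact hg)
        (fun u => by rw [hc _ (rt_of hm), hval]) x hx (Subgroup.mem_centralizer_singleton_iff.1 hxh).symm
      rw [h5]; exact one_mem _
    · have h5 := fix_of_ne hm (d := g ^ phi0 (vv r)) (by
          rw [h4, zpow_neg, zpow_one]
          intro h6
          exact hg (inv_eq_one.1 h6))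
        (fun u => by rw [hc _ (rt_of hm), hval]) x hx (Subgroup.mem_centralizer_singleton_iff.1 hxh).symm
      rw [h5]; exact one_mem _
  exact (KFacts.RgdAutCent.mem_sup_comm (x0 m_oa m_la (by decide))).1 (h3 h2)

/-! ### In `G` -/

variable {G : Type u} [Group G] {t : G} {f : ↥(chevF4.group F) →* G}

/-- `g ∈ C(t)` commuting with one root group. -/
theorem exists_f (R : Frame t f) {a : Fin 4 → ℤ} (ha : a ∈ rts) {g : G} (hg : g * t = t * g)
    (h : ∀ x ∈ XG f a, g * x = x * g) : ∃ y, g = f y ∨ g = t * f y := by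
  obtain ⟨α, hα⟩ := R.exists_aut hg
  obtain ⟨y, -, rfl⟩ := KFacts.F4Aut.inner_of_fix_X (K := F) c4 (rt_of ha) (α := α) (fun z hz => by
    apply R.inj
    rw [← hα, h _ ⟨z, hz, rfl⟩, mul_inv_cancel_right])
  exact ⟨y, R.mem_of_conj hg fun x => by rw [hα, MulAut.conj_apply]⟩

theorem comm_of (R : Frame t f) {g : G} {y : ↥(chevF4.group F)} (h : g = f y ∨ g = t * f y) {x : ↥(chevF4.group F)}
    (hx : g * f x = f x * g) : y * x = x * y := by
  apply R.inj
  rw [map_mul, map_mul]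
  rcases h with rfl | rfl
  · exact hx
  · have h1 : t * (f y * f x) = t * (f x * f y) := by
      calc t * (f y * f x) = t * f y * f x := by group
        _ = f x * t * f y := by rw [hx]; group
        _ = t * (f x * f y) := by rw [R.ft x]; group
    exact mul_left_cancel h1

/-- From `F₄(F)` to `C(t)`. -/
theorem transfer (R : Frame t f) {P : (Fin 4 → ℤ) → Prop} {a : Fin 4 → ℤ} (ha : a ∈ rts) (hPa : P a) {g : G}
    (hg : g * t = t * g) (h : ∀ a ∈ rts, P a → ∀ x ∈ XG f a, g * x = x * g) :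
    ∃ y, (g = f y ∨ g = t * f y) ∧ ∀ a ∈ rts, P a → ∀ x ∈ XF F a, y * x = x * y := by
  obtain ⟨y, hy⟩ := exists_f R ha hg (h a ha hPa)
  exact ⟨y, hy, fun b hb hPb x hx => comm_of R hy (h b hb hPb _ ⟨x, hx, rfl⟩)⟩

theorem map3 {A B' C : Subgroup ↥(chevF4.group F)} {y : ↥(chevF4.group F)}
    (h : ∃ a ∈ A, ∃ b ∈ B', ∃ c ∈ C, y = a * b * c) {g : G} (hg : g = f y ∨ g = t * f y) :
    ∃ a ∈ A.map f, ∃ b ∈ B'.map f, ∃ c ∈ C.map f, g = a * b * c ∨ g = t * (a * b * c) := by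
  obtain ⟨a, ha, b, hb, c, hc, rfl⟩ := h
  rw [map_mul, map_mul] at hg
  exact ⟨_, ⟨a, ha, rfl⟩, _, ⟨b, hb, rfl⟩, _, ⟨c, hc, rfl⟩, hg⟩

/-- **The K-facts.** -/
theorem kt (R : Frame t f) (hF : 2 < Nat.card F) : KT t (XG f) ((TF F).map f) where
  c1s k hk h := by
    obtain ⟨y, hy, hc⟩ := transfer R (P := fun a => 0 ≤ B a sa ∧ 0 ≤ B a sb ∧ ¬ (B a a = 4 ∧ B a sa = 0 ∧ B a sb = 0))
      m_la (by decide) hk fun a ha hP => h a ha hP.1 hP.2.1 hP.2.2
    exact map3 (k_s fun a ha h1 h2 h3 => hc a ha ⟨h1, h2, h3⟩) hy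
  c1l k hk h := by
    obtain ⟨y, hy, hc⟩ := transfer R (P := fun a => 0 ≤ B a la ∧ 0 ≤ B a lb ∧ ¬ (B a a = 2 ∧ B a la = 0 ∧ B a lb = 0))
      m_la (by decide) hk fun a ha hP => h a ha hP.1 hP.2.1 hP.2.2
    exact map3 (k_l fun a ha h1 h2 h3 => hc a ha ⟨h1, h2, h3⟩) hy
  c2 := by
    obtain ⟨h, hh, h1, h2, h3⟩ := k_o hF
    refine ⟨f h, ⟨h, hh, rfl⟩, ?_, ?_, fun k hk hkh hk2 => ?_⟩
    · rintro _ ⟨x, hx, rfl⟩
      rw [← map_mul, h1 x hx, map_mul]
    · rintro _ ⟨x, hx, rfl⟩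
      rw [← map_mul, h2 x hx, map_mul]
    · obtain ⟨y, hy, hc⟩ := transfer R (P := fun f => B f f = 4 ∧ 0 ≤ B f oa ∧ 0 < B f la ∨
        B f f = 2 ∧ 0 < B f oa ∧ 0 ≤ B f la) m_la (by decide) hk hk2
      obtain ⟨a, ha, b, hb, rfl⟩ := h3 y (comm_of R hy hkh) hc
      rw [map_mul] at hy
      exact ⟨_, ⟨a, ha, rfl⟩, _, ⟨b, hb, rfl⟩, hy⟩
  nds := by
    rintro _ ⟨x, hx, rfl⟩ _ ⟨y, hy, rfl⟩
    obtain ⟨a, rfl⟩ := (mem_XF (rt_of m_sr)).1 hx
    obtain ⟨b, rfl⟩ := (mem_XF (rt_of m_sa)).1 hy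
    have h1 := KFacts.F4Model.comm2 (K := F) m_sr m_sa (by decide) (by decide) (by decide) a b
    have e1 : _root_.Cfsg.Agent.OddHalf.D7F4.TypeCModel.sr + sa = sb := by decide +kernel
    have e2 : sb + sa = la := by decide +kernel
    rw [e1, e2, commutatorElement_def] at h1
    refine ⟨_, ⟨_, e_mem_X (rt_of m_sb) (a * b), rfl⟩, _, ⟨_, e_mem_X (rt_of m_la) (a * b ^ 2), rfl⟩, ?_, fun h2 => ?_⟩
    · have h2 := congrArg f h1
      rw [map_mul, map_mul, map_mul, map_mul, map_inv, map_inv] at h2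
      exact h2
    · have h3 : eF F la (a * b ^ 2) = 1 := R.inj (by rw [h2, map_one])
      rcases mul_eq_zero.1 ((dat (K := F)).inj _ (rt_of m_la) _ h3) with h4 | h4
      · left; rw [h4, (dat (K := F)).zero (rt_of m_sr), map_one]
      · right
        rw [pow_eq_zero_iff (two_ne_zero)] at h4
        rw [h4, (dat (K := F)).zero (rt_of m_sa), map_one]
  ndl := by
    rintro _ ⟨x, hx, rfl⟩ _ ⟨y, hy, rfl⟩
    obtain ⟨a, rfl⟩ := (mem_XF (rt_of m_la)).1 hx
    obtain ⟨b, rfl⟩ := (mem_XF (rt_of m_lr)).1 hy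
    have h1 := KFacts.F4Model.comm2 (K := F) m_la m_lr (by decide) (by decide) (by decide) a b
    have e1 : la + lr = sa := by decide +kernel
    have e2 : sa + lr = lb := by decide +kernel
    rw [e1, e2, commutatorElement_def] at h1
    refine ⟨_, ⟨_, e_mem_X (rt_of m_sa) (a * b), rfl⟩, _, ⟨_, e_mem_X (rt_of m_lb) (a * b ^ 2), rfl⟩, ?_, fun h2 => ?_⟩
    · have h2 := congrArg f h1
      rw [map_mul, map_mul, map_mul, map_mul, map_inv, map_inv] at h2
      exact h2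
    · have h3 : eF F sa (a * b) = 1 := R.inj (by rw [h2, map_one])
      rcases mul_eq_zero.1 ((dat (K := F)).inj _ (rt_of m_sa) _ h3) with h4 | h4
      · left; rw [h4, (dat (K := F)).zero (rt_of m_la), map_one]
      · right; rw [h4, (dat (K := F)).zero (rt_of m_lr), map_one]
  Ht := by
    rintro _ ⟨h, -, rfl⟩
    exact (R.ft h).symm
  tor a ha b hb hab hab' := by
    obtain ⟨d, hd⟩ := exists_unit_ne hF
    obtain ⟨h, hh, h1, h2⟩ := torus_fix (K := F) c4 (rt_of hb) (rt_of ha) hab hab' d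
    refine ⟨f h, ⟨h, hh, rfl⟩, ?_, ?_⟩
    · rintro _ ⟨x, hx, rfl⟩
      obtain ⟨u, rfl⟩ := (mem_XF (rt_of ha)).1 hx
      rw [← map_mul, ← map_mul]
      congr 1
      have h3 := h2 u
      calc h * eF F a u = h * eF F a u * h⁻¹ * h := by group
        _ = eF F a u * h := by rw [h3]
    · rintro _ ⟨x, hx, rfl⟩ hc
      rw [fix_of_ne hb hd h1 x hx (R.inj (by rw [map_mul, map_mul]; exact hc)), map_one]

end Cfsg.Agent.OddHalf.D7F4.TypeCInst

end

-- merged: Cfsg.Agent.OddHalf.D7F4Ex.GDataF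
section

/-!
# `GData` at `s0` for a frame `f : F₄(q) → C_G(t)`, `q ≥ 4` even, in both charts
-/

set_option autoImplicit false
set_option linter.unusedSectionVars false
set_option linter.style.haveILetI false

namespace Cfsg.Agent.OddHalf.D7F4Ex

open Subgroup Cfsg.Lie Cfsg.Agent.OddHalf.D7F4 Cfsg.Agent.OddHalf.D7F4.Model Loc

/-! ### Tables -/

theorem k_P : ∀ a ∈ rts, 0 ≤ B a s0 → a = s0 ∨ (∃ j, a = rv j) ∨ (∃ i, a = rz i) ∨ (∃ j, a = rc j) ∨
    ∃ j k : J, j.1 ≠ k.1 ∧ a = rl j k := by (set_option synthInstance.maxSize 100000 in exact Cfsg.Agent.Lib.Refl.of (by decide +kernel))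
theorem k_Q : ∀ a ∈ rts, 0 < B a s0 → a = s0 ∨ (∃ j, a = rv j) ∨ (∃ i, a = rz i) := by decide +kernel
theorem k_T : ∀ a ∈ rts, Cs s0 a → a = s0 ∨ (∃ j, a = rv j) ∨ (∃ i, a = rz i) ∨
    ∃ j k : J, j.1 ≠ k.1 ∧ a = rl j k := by unfold Cs; (set_option synthInstance.maxSize 100000 in exact Cfsg.Agent.Lib.Refl.of (by decide +kernel))
theorem p_s0 : 0 < B s0 s0 := by decide +kernel
theorem n_s0 : B s0 s0 = 2 := by decide +kernel
theorem p_rv : ∀ j, 0 < B (rv j) s0 ∧ B (rv j) (rv j) = 4 := by decide +kernel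
theorem p_rz : ∀ i, 0 < B (rz i) s0 ∧ B (rz i) (rz i) = 2 := by decide +kernel
theorem p_rc : ∀ j, B (rc j) s0 = 0 ∧ B (rc j) (rc j) = 2 := by decide +kernel
theorem p_rl : ∀ j k : J, j.1 ≠ k.1 → B (rl j k) s0 = 0 ∧ B (rl j k) (rl j k) = 4 := by decide +kernel
theorem e_rv : ∀ j, dd (rv j) 0 = 2 := by decide +kernel
theorem e_rz : ∀ i, dd (rz i) 0 = 1 := by decide +kernel
theorem e_rc : ∀ j, dd (rc j) 0 = 0 := by decide +kernel
theorem e_rl : ∀ j k : J, dd (rl j k) 0 = 0 := by decide +kernel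

section Gen

variable {F : Type*} [Field F] {Y G : Type*} [Group Y] [Group G]

theorem chd_consH_s0 (ν : Fin 3 → Fˣ) : chd (consH ν) s0 = 1 := by
  rw [chd_consH, d_s0]
  show ν 0 ^ (0 : ℤ) * ν 1 ^ (0 : ℤ) * ν 2 ^ (0 : ℤ) = 1
  rw [zpow_zero, zpow_zero, zpow_zero, mul_one, mul_one]

theorem consH_of_chd (h2 : ∀ a : F, a + a = 0) {ν : Fin 4 → Fˣ} (h : chd ν s0 = 1) :
    ν = consH (fun i => ν i.succ) := by
  rw [chd_eq, d_s0] at h
  have h1 : ν 0 ^ (2 : ℤ) = 1 := by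
    have h' : ν 0 ^ (2 : ℤ) * ν 1 ^ (0 : ℤ) * ν 2 ^ (0 : ℤ) * ν 3 ^ (0 : ℤ) = 1 := h
    rwa [zpow_zero, zpow_zero, zpow_zero, mul_one, mul_one, mul_one] at h'
  have h3 : ν 0 = 1 := by
    apply Units.ext
    have h4 : ((ν 0 : Fˣ) : F) ^ 2 = 1 := by
      have := congrArg (fun u : Fˣ => (u : F)) h1
      simpa only [_root_.Fin.isValue, _root_.sq_eq_one_iff, _root_.Units.val_eq_one, _root_.Units.val_eq_neg_one, _root_.zpow_ofNat, _root_.Units.val_pow_eq_pow_val, _root_.Units.val_one] using this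
    have h5 : (((ν 0 : Fˣ) : F) + 1) * (((ν 0 : Fˣ) : F) + 1) = 0 := by
      calc _ = ((ν 0 : Fˣ) : F) ^ 2 + (((ν 0 : Fˣ) : F) + ((ν 0 : Fˣ) : F)) + 1 := by ring
        _ = 0 := by rw [h4, h2, add_zero, h2]
    have h6 := mul_self_eq_zero.1 h5
    have h7 : ((ν 0 : Fˣ) : F) = (((ν 0 : Fˣ) : F) + 1) + 1 := by rw [add_assoc, h2, add_zero]
    rw [h7, h6, zero_add, Units.val_one]
  funext i
  fin_cases i
  · exact h3
  all_goals rfl

variable {E : (Fin 4 → ℤ) → F → Y} {T : (Fin 4 → Fˣ) →* Y}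

theorem Q_eq : Qs (E s0) (fun j => E (rv j)) (fun i => E (rz i)) = QE E s0 := by
  apply le_antisymm
  · rw [Qs, closure_le]
    rintro g ((⟨a, rfl⟩ | ⟨j, a, rfl⟩) | ⟨i, a, rfl⟩)
    · exact mem_QE s0_mem p_s0 a
    · exact mem_QE (rv_mem j) (p_rv j).1 a
    · exact mem_QE (rz_mem i) (p_rz i).1 a
  · rw [QE, closure_le]
    rintro g ⟨a, ha, h, u, rfl⟩
    rcases k_Q a ha h with rfl | ⟨j, rfl⟩ | ⟨i, rfl⟩
    · exact V_le_Q (X_le_V (subset_closure ⟨u, rfl⟩))
    · exact V_le_Q (v_mem (x0 := E s0) (v := fun j => E (rv j)) j u)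
    · exact z_mem (x0 := E s0) (v := fun j => E (rv j)) (z := fun i => E (rz i)) i u

theorem T_eq (C : Chart E T) : Pt (E s0) (fun j => E (rv j)) (fun i => E (rz i)) (fun j k => E (rl j k))
    (T.comp consH) = PT E T s0 := by
  apply le_antisymm
  · rw [Pt, closure_le]
    rintro g ((⟨a, rfl⟩ | ⟨j, a, rfl⟩) | ⟨i, a, rfl⟩ | ⟨j, k, a, h, rfl⟩ | ⟨ν, rfl⟩)
    · exact _root_.Subgroup.subset_closure (Or.inl ⟨s0, s0_mem, Or.inr ⟨n_s0, p_s0⟩, a, rfl⟩)
    · exact _root_.Subgroup.subset_closure (Or.inl ⟨rv j, rv_mem j, Or.inl ⟨(p_rv j).2, (p_rv j).1.le⟩, a, rfl⟩)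
    · exact _root_.Subgroup.subset_closure (Or.inl ⟨rz i, rz_mem i, Or.inr ⟨(p_rz i).2, (p_rz i).1⟩, a, rfl⟩)
    · exact _root_.Subgroup.subset_closure (Or.inl ⟨rl j k, rl_mem j k h, Or.inl ⟨(p_rl j k h).2, (p_rl j k h).1.ge⟩, a, rfl⟩)
    · exact _root_.Subgroup.subset_closure (Or.inr ⟨consH ν, chd_consH_s0 ν, rfl⟩)
  · rw [PT, closure_le]
    rintro g (⟨a, ha, h, u, rfl⟩ | ⟨ν, h, rfl⟩)
    · rcases k_T a ha h with rfl | ⟨j, rfl⟩ | ⟨i, rfl⟩ | ⟨j, k, hjk, rfl⟩
      · exact _root_.Subgroup.subset_closure (Or.inl (Or.inl ⟨u, rfl⟩))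
      · exact _root_.Subgroup.subset_closure (Or.inl (Or.inr ⟨j, u, rfl⟩))
      · exact _root_.Subgroup.subset_closure (Or.inr (Or.inl ⟨i, u, rfl⟩))
      · exact _root_.Subgroup.subset_closure (Or.inr (Or.inr (Or.inl ⟨j, k, u, hjk, rfl⟩)))
    · rw [consH_of_chd C.two h]
      exact _root_.Subgroup.subset_closure (Or.inr (Or.inr (Or.inr ⟨_, rfl⟩)))

theorem P_eq (C : KC E T) : Ps (E s0) (fun j => E (rv j)) (fun i => E (rz i)) (fun j => E (rc j))
    (fun j k => E (rl j k)) (T.comp consH) = PE E s0 := by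
  apply le_antisymm
  · rw [Ps, closure_le]
    rintro g ((⟨a, rfl⟩ | ⟨j, a, rfl⟩) | ⟨i, a, rfl⟩ | ⟨j, a, rfl⟩ | ⟨j, k, a, h, rfl⟩ | ⟨ν, rfl⟩)
    · exact mem_PE s0_mem p_s0.le a
    · exact mem_PE (rv_mem j) (p_rv j).1.le a
    · exact mem_PE (rz_mem i) (p_rz i).1.le a
    · exact mem_PE (rc_mem j) (p_rc j).1.ge a
    · exact mem_PE (rl_mem j k h) (p_rl j k h).1.ge a
    · exact C.cX s0 s0_mem n_s0 1 one_ne_zero _ (C.chart.tor_comm s0_mem (chd_consH_s0 ν) 1)
  · rw [PE, closure_le]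
    rintro g ⟨a, ha, h, u, rfl⟩
    rcases k_P a ha h with rfl | ⟨j, rfl⟩ | ⟨i, rfl⟩ | ⟨j, rfl⟩ | ⟨j, k, hjk, rfl⟩
    · exact _root_.Subgroup.subset_closure (Or.inl (Or.inl ⟨u, rfl⟩))
    · exact _root_.Subgroup.subset_closure (Or.inl (Or.inr ⟨j, u, rfl⟩))
    · exact _root_.Subgroup.subset_closure (Or.inr (Or.inl ⟨i, u, rfl⟩))
    · exact _root_.Subgroup.subset_closure (Or.inr (Or.inr (Or.inl ⟨j, u, rfl⟩)))
    · exact _root_.Subgroup.subset_closure (Or.inr (Or.inr (Or.inr (Or.inl ⟨j, k, u, hjk, rfl⟩))))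

theorem map_QE (f : Y →* G) (s : Fin 4 → ℤ) : QE (fun a u => f (E a u)) s = (QE E s).map f := by
  rw [QE, QE, MonoidHom.map_closure]
  congr 1
  ext g
  constructor
  · rintro ⟨a, ha, h, u, rfl⟩; exact ⟨_, ⟨a, ha, h, u, rfl⟩, rfl⟩
  · rintro ⟨_, ⟨a, ha, h, u, rfl⟩, rfl⟩; exact ⟨a, ha, h, u, rfl⟩

theorem map_PT (f : Y →* G) (s : Fin 4 → ℤ) : PT (fun a u => f (E a u)) (f.comp T) s = (PT E T s).map f := by
  rw [PT, PT, MonoidHom.map_closure]
  congr 1
  ext g
  constructor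
  · rintro (⟨a, ha, h, u, rfl⟩ | ⟨ν, h, rfl⟩)
    · exact ⟨_, Or.inl ⟨a, ha, h, u, rfl⟩, rfl⟩
    · exact ⟨_, Or.inr ⟨ν, h, rfl⟩, rfl⟩
  · rintro ⟨_, (⟨a, ha, h, u, rfl⟩ | ⟨ν, h, rfl⟩), rfl⟩
    · exact Or.inl ⟨a, ha, h, u, rfl⟩
    · exact Or.inr ⟨ν, h, rfl⟩

theorem map_P (f : Y →* G) {x0 : F → Y} {v : J → F → Y} {z : Sp → F → Y} {c : J → F → Y} {l : J → J → F → Y}
    {th : (Fin 3 → Fˣ) →* Y} : Ps (fun a => f (x0 a)) (fun j a => f (v j a)) (fun i a => f (z i a))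
      (fun j a => f (c j a)) (fun j k a => f (l j k a)) (f.comp th) = (Ps x0 v z c l th).map f := by
  rw [Ps, Ps, MonoidHom.map_closure]
  congr 1
  ext g
  constructor
  · rintro ((⟨a, rfl⟩ | ⟨j, a, rfl⟩) | ⟨i, a, rfl⟩ | ⟨j, a, rfl⟩ | ⟨j, k, a, h, rfl⟩ | ⟨ν, rfl⟩)
    · exact ⟨_, Or.inl (Or.inl ⟨a, rfl⟩), rfl⟩
    · exact ⟨_, Or.inl (Or.inr ⟨j, a, rfl⟩), rfl⟩
    · exact ⟨_, Or.inr (Or.inl ⟨i, a, rfl⟩), rfl⟩
    · exact ⟨_, Or.inr (Or.inr (Or.inl ⟨j, a, rfl⟩)), rfl⟩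
    · exact ⟨_, Or.inr (Or.inr (Or.inr (Or.inl ⟨j, k, a, h, rfl⟩))), rfl⟩
    · exact ⟨_, Or.inr (Or.inr (Or.inr (Or.inr ⟨ν, rfl⟩))), rfl⟩
  · rintro ⟨_, ((⟨a, rfl⟩ | ⟨j, a, rfl⟩) | ⟨i, a, rfl⟩ | ⟨j, a, rfl⟩ | ⟨j, k, a, h, rfl⟩ | ⟨ν, rfl⟩), rfl⟩
    · exact Or.inl (Or.inl ⟨a, rfl⟩)
    · exact Or.inl (Or.inr ⟨j, a, rfl⟩)
    · exact Or.inr (Or.inl ⟨i, a, rfl⟩)
    · exact Or.inr (Or.inr (Or.inl ⟨j, a, rfl⟩))
    · exact Or.inr (Or.inr (Or.inr (Or.inl ⟨j, k, a, h, rfl⟩)))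
    · exact Or.inr (Or.inr (Or.inr (Or.inr ⟨ν, rfl⟩)))

/-- conjugation on a finite subgroup -/
theorem conj_inv {S : Subgroup G} [Finite S] {n : G} (h : ∀ x ∈ S, n * x * n⁻¹ ∈ S) : ∀ x ∈ S, n⁻¹ * x * n ∈ S := by
  have h1 : Function.Injective (fun x : S => (⟨n * x.1 * n⁻¹, h x.1 x.2⟩ : S)) := by
    intro x y hxy
    have := congrArg Subtype.val hxy
    exact Subtype.ext (mul_left_cancel (mul_right_cancel this))
  intro x hx
  obtain ⟨y, hy⟩ := (Finite.injective_iff_surjective.1 h1) ⟨x, hx⟩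
  have h2 : n * y.1 * n⁻¹ = x := congrArg Subtype.val hy
  have h3 : n⁻¹ * x * n = y.1 := by rw [← h2]; group
  rw [h3]; exact y.2

/-- `Q` is a `2`-group. -/
theorem isPGroup_Q (C : Chart E T) : IsPGroup 2 (QE E s0) := by
  rintro ⟨q, hq⟩
  refine ⟨2, Subtype.ext ?_⟩
  rw [← Q_eq] at hq
  have h1 := C.loc.Q2 hq
  have h2 := C.loc.V2 h1
  show q ^ 4 = 1
  rw [← h2, ← pow_two, ← pow_two, ← pow_mul]

end Gen

section Main

universe u

variable {F : Type u} [Field F] [Finite F] {G : Type*} [Group G] {E : (Fin 4 → ℤ) → F → ↥(chevF4.group F)}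
  {T : (Fin 4 → Fˣ) →* ↥(chevF4.group F)} {t : G} {f : ↥(chevF4.group F) →* G}

/-- an element normalising `X` and `t X` normalises `P` -/
theorem norm_P (C : KC E T) (R : Frame t f) {n : G} (h2 : ∀ u, ∃ u', n⁻¹ * f (E s0 u) * n = f (E s0 u')) (h3 : ∃ u, t * (n * t * n⁻¹) = f (E s0 u)) :
    ∀ x ∈ PE E s0, ∃ x' ∈ PE E s0, n * f x * n⁻¹ = f x' := by
  refine R.res (P := PE E s0) (Q := Set.range (E s0)) (C.perf s0 s0_mem n_s0) (fun x => ⟨fun hx => ?_, fun hx => ?_⟩) ?_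
  · rintro _ ⟨u, rfl⟩
    have hle : PE E s0 ≤ centralizer {E s0 u} := by
      rw [PE, closure_le]
      rintro g ⟨a, ha, h, v, rfl⟩
      rw [SetLike.mem_coe, mem_centralizer_singleton_iff]
      exact C.chart.c0 a ha s0 s0_mem h v u
    exact mem_centralizer_singleton_iff.1 (hle hx)
  · exact C.cX s0 s0_mem n_s0 1 one_ne_zero x (hx _ ⟨1, rfl⟩)
  · intro c hct hc
    have hX : ∀ u, n * c * n⁻¹ * f (E s0 u) = f (E s0 u) * (n * c * n⁻¹) := by
      intro u
      obtain ⟨u', hu'⟩ := h2 u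
      have h4 := hc _ ⟨u', rfl⟩
      rw [← hu'] at h4
      calc n * c * n⁻¹ * f (E s0 u) = n * (c * (n⁻¹ * f (E s0 u) * n)) * n⁻¹ := by group
        _ = n * ((n⁻¹ * f (E s0 u) * n) * c) * n⁻¹ := by rw [h4]
        _ = _ := by group
    refine ⟨?_, ?_⟩
    · obtain ⟨u, hu⟩ := h3
      have h5 : n * t * n⁻¹ = t * f (E s0 u) := by
        rw [← hu, ← mul_assoc, ← mul_assoc, ← mul_assoc, R.tt, one_mul]
      have h6 : t = n * t * n⁻¹ * (f (E s0 u))⁻¹ := by rw [h5]; group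
      have h7 := hX u
      have h8 : n * c * n⁻¹ * (f (E s0 u))⁻¹ = (f (E s0 u))⁻¹ * (n * c * n⁻¹) := by
        rw [eq_inv_mul_iff_mul_eq, ← mul_assoc, ← h7, mul_inv_cancel_right]
      calc n * c * n⁻¹ * t = n * c * n⁻¹ * (n * t * n⁻¹ * (f (E s0 u))⁻¹) := by rw [← h6]
        _ = n * (c * t) * n⁻¹ * (f (E s0 u))⁻¹ := by group
        _ = n * (t * c) * n⁻¹ * (f (E s0 u))⁻¹ := by rw [hct]
        _ = n * t * n⁻¹ * (n * c * n⁻¹ * (f (E s0 u))⁻¹) := by group
        _ = n * t * n⁻¹ * (f (E s0 u))⁻¹ * (n * c * n⁻¹) := by rw [h8]; group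
        _ = t * (n * c * n⁻¹) := by rw [← h6]
    · rintro _ ⟨u, rfl⟩
      exact hX u

/-- **`GData` at `s0`.** -/
theorem gdata (C : KC E T) (R : Frame t f) : GData t (f.comp (T.comp oneH)) (fun u => f (E s0 u))
    (fun j u => f (E (rv j) u)) (fun i u => f (E (rz i) u)) (fun j u => f (E (rc j) u))
    (fun j k u => f (E (rl j k) u)) (f.comp (T.comp consH)) := by
  have L := C.chart.loc
  have C' := C.chart.map f R.inj
  have L' := C'.loc
  have hP : Ps (fun u => f (E s0 u)) (fun j u => f (E (rv j) u)) (fun i u => f (E (rz i) u))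
      (fun j u => f (E (rc j) u)) (fun j k u => f (E (rl j k) u)) (f.comp (T.comp consH)) = (PE E s0).map f := by
    rw [map_P, P_eq C]
  have hQ : Qs (fun u => f (E s0 u)) (fun j u => f (E (rv j) u)) (fun i u => f (E (rz i) u)) = (QE E s0).map f := by
    rw [← map_QE, ← Q_eq]
  have hT : Pt (fun u => f (E s0 u)) (fun j u => f (E (rv j) u)) (fun i u => f (E (rz i) u))
      (fun j k u => f (E (rl j k) u)) (f.comp (T.comp consH)) = (PT E T s0).map f := by
    rw [← map_PT, ← T_eq C']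
    rfl
  have hsE : ∀ (μ : Fˣ) (a : Fin 4 → ℤ), a ∈ rts → ∀ u, (f.comp (T.comp oneH)) μ * f (E a u) *
      ((f.comp (T.comp oneH)) μ)⁻¹ = f (E a (((μ ^ dd a 0 : Fˣ) : F) * u)) := by
    intro μ a ha u
    rw [← chd_oneH, ← C.chart.tor a ha, map_mul, map_mul, map_inv]
    rfl
  refine ⟨R.tt, ?_, ?_, ?_, ?_, ?_, ?_, ?_, ?_, ?_, ?_, ?_⟩
  · intro a h
    exact R.not_mem_range C.cen _ h.symm
  · intro p hp
    rw [hP] at hp
    obtain ⟨y, -, rfl⟩ := hp
    exact (R.ft y).symm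
  · intro μ
    exact (R.ft _).symm
  · intro μ a
    rw [hsE μ s0 s0_mem, d_s0]
    show f (E s0 (((μ ^ (2 : ℤ) : Fˣ) : F) * a)) = _
    norm_cast
  · intro μ j a
    rw [hsE μ (rv j) (rv_mem j), e_rv]
    norm_cast
  · intro μ i a
    rw [hsE μ (rz i) (rz_mem i), e_rz, zpow_one]
  · intro μ j a
    have h := hsE μ (rc j) (rc_mem j) a
    rw [e_rc, zpow_zero, Units.val_one, one_mul] at h
    exact (mul_inv_eq_iff_eq_mul.1 h)
  · intro μ j k a hjk
    have h := hsE μ (rl j k) (rl_mem j k hjk) a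
    rw [e_rl, zpow_zero, Units.val_one, one_mul] at h
    exact (mul_inv_eq_iff_eq_mul.1 h)
  · intro μ ν
    show f (T (oneH μ)) * f (T (consH ν)) = f (T (consH ν)) * f (T (oneH μ))
    rw [← map_mul, ← map_mul, ← map_mul, ← map_mul, mul_comm]
  · intro n hn1 hn3
    haveI : Finite (Xs (fun u => f (E s0 u))) := by
      refine Set.Finite.subset (Set.finite_range fun u => f (E s0 u)) ?_
      intro g hg
      obtain ⟨a, rfl⟩ := L'.mem_X.1 hg
      exact ⟨a, rfl⟩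
    have hn2 := conj_inv hn1
    have e2 : ∀ u, ∃ u', n⁻¹ * f (E s0 u) * n = f (E s0 u') := fun u => L'.mem_X.1 (hn2 _ (L'.x0_mem u))
    have e3 : ∃ u, t * (n * t * n⁻¹) = f (E s0 u) := L'.mem_X.1 hn3
    have hPn := norm_P C R e2 e3
    have hPn' : ∀ p ∈ (PE E s0).map f, n * p * n⁻¹ ∈ (PE E s0).map f := by
      rintro _ ⟨x, hx, rfl⟩
      obtain ⟨x', hx', h⟩ := hPn x hx
      rw [h]
      exact ⟨x', hx', rfl⟩
    have fin : ∀ S : Subgroup ↥(chevF4.group F), Finite ↥(S.map f) := fun S =>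
      Set.Finite.to_subtype ((Set.toFinite (S : Set ↥(chevF4.group F))).image f)
    haveI := fin (PE E s0)
    haveI := fin (QE E s0)
    have hPi := conj_inv hPn'
    have hQn : ∀ q ∈ (QE E s0).map f, n * q * n⁻¹ ∈ (QE E s0).map f := by
      set Rn : Subgroup ↥(chevF4.group F) := (((QE E s0).map f).map (MulAut.conj n).toMonoidHom).comap f with hRn
      have h2 : IsPGroup 2 Rn := by
        refine IsPGroup.comap_of_injective ?_ f R.inj
        exact ((isPGroup_Q C.chart).map f).map _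
      have hle : Rn ≤ QE E s0 := by
        refine C.core s0 s0_mem n_s0 Rn h2 ?_
        rintro p hp r ⟨_, ⟨y, hy, rfl⟩, hyr⟩
        have hyr' : n * f y * n⁻¹ = f r := hyr
        obtain ⟨p', hp', hpp⟩ := hPi (f p) ⟨p, hp, rfl⟩
        refine ⟨_, ⟨p' * y * p'⁻¹, ?_, rfl⟩, ?_⟩
        · show p' * y * p'⁻¹ ∈ QE E s0
          have h3 : y ∈ QE E s0 := hy
          rw [← Q_eq] at h3 ⊢
          have h4 : p' ∈ PE E s0 := hp'
          rw [← P_eq C] at h4
          exact L.PQ h4 h3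
        · show n * f (p' * y * p'⁻¹) * n⁻¹ = f (p * r * p⁻¹)
          rw [map_mul, map_mul, map_inv, map_mul, map_mul, map_inv, hpp, ← hyr']
          group
      rintro _ ⟨y, hy, rfl⟩
      have hy' : y ∈ PE E s0 := by
        have h3 : y ∈ QE E s0 := hy
        rw [← Q_eq] at h3
        rw [← P_eq C]
        exact Q_le_P h3
      obtain ⟨y', -, h⟩ := hPn y hy'
      rw [h]
      exact ⟨y', hle ⟨_, ⟨y, hy, rfl⟩, h⟩, rfl⟩
    have hQi := conj_inv hQn
    refine ⟨?_, ?_, ?_⟩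
    · rw [hP]; exact hPn'
    · rw [hQ]; exact hQn
    · intro y hy
      have h1 : y ∈ Qs (fun u => f (E s0 u)) (fun j u => f (E (rv j) u)) (fun i u => f (E (rz i) u)) := V_le_Q hy
      refine L'.ZQ ?_ ?_
      · rw [hQ] at h1 ⊢
        exact hQn y h1
      · intro q hq
        have h2 : n⁻¹ * q * n ∈ Qs (fun u => f (E s0 u)) (fun j u => f (E (rv j) u)) (fun i u => f (E (rz i) u)) := by
          rw [hQ] at hq ⊢
          exact hQi q hq
        have h3 := L'.VQ hy h2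
        calc n * y * n⁻¹ * q = n * (y * (n⁻¹ * q * n)) * n⁻¹ := by group
          _ = n * ((n⁻¹ * q * n) * y) * n⁻¹ := by rw [h3]
          _ = _ := by group
  · intro g hgt hg
    rw [hT] at hg
    obtain ⟨α, hα⟩ := R.exists_aut hgt.symm
    have hX : ∀ a ∈ rts, Cs s0 a → ∀ u, g * f (E a u) = f (E a u) * g := fun a ha h u =>
      hg _ ⟨_, _root_.Subgroup.subset_closure (Or.inl ⟨a, ha, h, u, rfl⟩), rfl⟩
    obtain ⟨x, rfl⟩ := C.inn s0 s0_mem n_s0 α fun u => by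
      apply R.inj
      rw [← hα, hX s0 s0_mem (Or.inr ⟨n_s0, p_s0⟩), mul_inv_cancel_right]
    have h1 := R.mem_of_conj hgt.symm (x := x) hα
    have h2 : ∀ a ∈ rts, Cs s0 a → ∀ u, x * E a u = E a u * x := by
      intro a ha h u
      apply R.inj
      rw [map_mul, map_mul]
      rcases h1 with h1 | h1
      · rw [← h1]; exact hX a ha h u
      · have h3 := hX a ha h u
        rw [h1, mul_assoc, ← mul_assoc (f (E a u)), R.ft, mul_assoc t] at h3
        exact mul_left_cancel h3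
    obtain ⟨u, rfl⟩ := C.cent s0 s0_mem n_s0 x h2
    rcases h1 with h1 | h1
    · left
      rw [h1]
      exact L'.x0_mem u
    · right
      rw [h1, ← mul_assoc, R.tt, one_mul]
      exact L'.x0_mem u

end Main

end Cfsg.Agent.OddHalf.D7F4Ex

end

-- merged: Cfsg.Agent.OddHalf.D7F4Ex.Wey
section

/-!
# The Weyl group of a chart (S1765, node D7; F4)

* `WeyE E w k` : `k` acts on the root elements as the isometry `w`;
* `WeyE.one`, `WeyE.mul`, `WeyE.inv`, `WeyE.of_nE`;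
* `exists_wey` : transitivity on the short roots, `exists_wey60`, `exists_wey90` : on the pairs of short roots at 60°, 90°;
* `range_TH`, `TH_norm`, `range_TH_dual`, `TH_norm_dual` : the torus.
-/

set_option autoImplicit false
set_option linter.unusedSectionVars false
set_option Elab.async false

namespace Cfsg.Agent.OddHalf.D7F4Ex

open CoxeterSystem Cfsg.Agent.ChevalleyStructure.CoxeterGeom Cfsg.Agent.Tits.Roots Cfsg.Agent.Tits.Core
open Cfsg.Lie Cfsg.Agent.ChevalleyStructure Cfsg.Agent.ChevalleyStructure.Elts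
  Cfsg.Agent.ChevalleyStructure.RootVec Cfsg.Agent.ChevalleyStructure.CoxeterGeomTypes
open Cfsg.Agent.Nodes Cfsg.Agent.Nodes.Reps Cfsg.Agent.Nodes.BNOf Cfsg.Agent.Nodes.RGDChev Cfsg.Agent.Nodes.Coroot
  Cfsg.Agent.Nodes.KindF Cfsg.Agent.Nodes.Bruhat Cfsg.Agent.KFacts.ChevTwo Cfsg.Agent.KFacts.ChevTwoTab
  Cfsg.Agent.KFacts.ChevTwoInst Cfsg.Agent.KFacts.RgdTI
  Cfsg.Agent.KFacts.F4Star Cfsg.Agent.KFacts.F4Cent Cfsg.Agent.KFacts.F4Pair Cfsg.Agent.KFacts.F4Torus
  Cfsg.Agent.KFacts.F4Perf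
open Cfsg.Agent.OddHalf.D7F4.Model

universe u

/-! ### Reflections -/

theorem B_smul (n : ℤ) (x y : Fin 4 → ℤ) : B (n • x) y = n * B x y := by
  unfold B; simp only [Pi.smul_apply, smul_eq_mul]; ring

theorem B_sub (x y z : Fin 4 → ℤ) : B (x - y) z = B x z - B y z := by
  unfold B; simp only [Pi.sub_apply]; ring

theorem B_add_right (x y z : Fin 4 → ℤ) : B x (y + z) = B x y + B x z := by
  rw [B_symm, B_add, B_symm y, B_symm z]

/-- long roots have even products with all lattice vectors -/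
theorem even_long : ∀ a ∈ rts, B a a = 4 → ∀ i : Fin 4, B a (Pi.single i 1) % 2 = 0 := by decide +kernel

theorem B_single (a x : Fin 4 → ℤ) : B a x = x 0 * B a (Pi.single 0 1) + x 1 * B a (Pi.single 1 1) +
    x 2 * B a (Pi.single 2 1) + x 3 * B a (Pi.single 3 1) := by
  unfold B; simp only [_root_.Fin.isValue, _root_.Pi.single_eq_same, _root_.mul_one, _root_.ne_eq, _root_.one_ne_zero, _root_.not_false_eq_true, _root_.Pi.single_eq_of_ne, _root_.sub_zero, _root_.MulZeroClass.mul_zero, _root_.zero_sub, _root_.Int.reduceNeg, _root_.Fin.reduceEq, _root_.mul_neg, _root_.sub_self, _root_.add_zero, _root_.zero_ne_one, _root_.zero_add]; ring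

theorem even_B {a : Fin 4 → ℤ} (ha : a ∈ rts) (h : B a a = 4) (x : Fin 4 → ℤ) : ∃ m, B a x = 2 * m := by
  have h0 := even_long a ha h 0
  have h1 := even_long a ha h 1
  have h2 := even_long a ha h 2
  have h3 := even_long a ha h 3
  obtain ⟨m0, h0⟩ := Int.dvd_of_emod_eq_zero h0
  obtain ⟨m1, h1⟩ := Int.dvd_of_emod_eq_zero h1
  obtain ⟨m2, h2⟩ := Int.dvd_of_emod_eq_zero h2
  obtain ⟨m3, h3⟩ := Int.dvd_of_emod_eq_zero h3
  refine ⟨x 0 * m0 + x 1 * m1 + x 2 * m2 + x 3 * m3, ?_⟩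
  rw [B_single, h0, h1, h2, h3]
  ring

/-- the Cartan integer -/
theorem coef {a : Fin 4 → ℤ} (ha : a ∈ rts) (x : Fin 4 → ℤ) : (2 * B a x / B a a) * B a a = 2 * B a x := by
  apply Int.ediv_mul_cancel
  rcases _root_.Cfsg.Agent.OddHalf.D7F4.Model.norm a ha with h | h
  · rw [h]; exact ⟨B a x, rfl⟩
  · obtain ⟨m, hm⟩ := even_B ha h x
    rw [h, hm]; exact ⟨m, by ring⟩

theorem norm_ne {a : Fin 4 → ℤ} (ha : a ∈ rts) : B a a ≠ 0 := by
  rcases _root_.Cfsg.Agent.OddHalf.D7F4.Model.norm a ha with h | h <;> omega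

theorem rfl_add {a : Fin 4 → ℤ} (ha : a ∈ rts) (x y : Fin 4 → ℤ) : rfl' a (x + y) = rfl' a x + rfl' a y := by
  have h1 : 2 * B a (x + y) / B a a = 2 * B a x / B a a + 2 * B a y / B a a := by
    apply Int.eq_of_mul_eq_mul_right (norm_ne ha)
    rw [add_mul, coef ha, coef ha, coef ha, B_add_right]
    ring
  unfold rfl'
  rw [h1, add_smul]
  abel

theorem B_rfl {a : Fin 4 → ℤ} (ha : a ∈ rts) (x y : Fin 4 → ℤ) : B (rfl' a x) (rfl' a y) = B x y := by
  have hx := coef ha x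
  have hy := coef ha y
  unfold rfl'
  obtain ⟨m, hm⟩ : ∃ m, m = 2 * B a x / B a a := ⟨_, rfl⟩
  obtain ⟨n, hn⟩ : ∃ n, n = 2 * B a y / B a a := ⟨_, rfl⟩
  rw [← hm] at hx ⊢
  rw [← hn] at hy ⊢
  rw [B_sub, B_smul, B_symm x, B_sub, B_smul, B_symm a (y - n • a), B_sub, B_smul, B_symm y x, B_symm y a]
  have h1 : m * (n * B a a) = n * (m * B a a) := by ring
  rw [hy, hx] at h1
  have h2 : m * B a y = n * B a x := by linarith only [h1]
  have h3 : m * (n * B a a) = 2 * (m * B a y) := by rw [hy]; ring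
  linarith

theorem rfl_rfl {a : Fin 4 → ℤ} (ha : a ∈ rts) (x : Fin 4 → ℤ) : rfl' a (rfl' a x) = x := by
  have hx := coef ha x
  have hne := norm_ne ha
  have h1 : 2 * B a (rfl' a x) / B a a = -(2 * B a x / B a a) := by
    apply Int.eq_of_mul_eq_mul_right hne
    rw [coef ha, neg_mul, hx]
    unfold rfl'
    rw [B_symm, B_sub, B_smul, B_symm x]
    linarith
  unfold rfl' at h1 ⊢
  rw [h1, neg_smul]
  abel

theorem rfl_mem : ∀ a ∈ rts, ∀ b ∈ rts, rfl' a b ∈ rts := by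
  intro a ha b hb
  have h1 := Coroot.isRoot_refl csF isType.isCartan (mem_rts.2 hb) (mem_rts.2 ha)
  rw [cpr_eq hb ha, B_symm b a] at h1
  exact mem_rts.1 h1

variable {F : Type*} [Field F] {G : Type*} [Group G] {E : (Fin 4 → ℤ) → F → G} {T : (Fin 4 → Fˣ) →* G}

/-- `k` acts on the root elements as the isometry `w`. -/
structure WeyE (E : (Fin 4 → ℤ) → F → G) (w : (Fin 4 → ℤ) → (Fin 4 → ℤ)) (k : G) : Prop where
  mem : ∀ a ∈ rts, w a ∈ rts
  surj : ∀ b ∈ rts, ∃ a ∈ rts, w a = b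
  iso : ∀ a ∈ rts, ∀ b ∈ rts, B (w a) (w b) = B a b
  add : ∀ x y, w (x + y) = w x + w y
  act : ∀ a ∈ rts, ∀ u, k * E a u * k⁻¹ = E (w a) u

theorem WeyE.one : WeyE E (fun x => x) 1 where
  mem _ h := h
  surj b hb := ⟨b, hb, rfl⟩
  iso _ _ _ _ := rfl
  add _ _ := rfl
  act a _ u := by rw [one_mul, inv_one, mul_one]

theorem WeyE.mul {w w' : (Fin 4 → ℤ) → (Fin 4 → ℤ)} {k k' : G} (h : WeyE E w k) (h' : WeyE E w' k') :
    WeyE E (fun x => w (w' x)) (k * k') where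
  mem a ha := h.mem _ (h'.mem a ha)
  surj b hb := by
    obtain ⟨c, hc, rfl⟩ := h.surj b hb
    obtain ⟨a, ha, rfl⟩ := h'.surj c hc
    exact ⟨a, ha, rfl⟩
  iso a ha b hb := by
    rw [h.iso _ (h'.mem a ha) _ (h'.mem b hb), h'.iso a ha b hb]
  add x y := by rw [h'.add, h.add]
  act a ha u := by
    have e : k * k' * E a u * (k * k')⁻¹ = k * (k' * E a u * k'⁻¹) * k⁻¹ := by group
    rw [e, h'.act a ha, h.act _ (h'.mem a ha)]

/-- the standard basis consists of roots -/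
theorem single_mem : ∀ i : Fin 4, Pi.single i 1 ∈ rts := by decide +kernel

theorem WeyE.inv {w : (Fin 4 → ℤ) → (Fin 4 → ℤ)} {k : G} (h : WeyE E w k) :
    ∃ w', WeyE E w' k⁻¹ ∧ (∀ x, w' (w x) = x) ∧ ∀ x, w (w' x) = x := by
  obtain ⟨φ, hφ⟩ : ∃ φ : (Fin 4 → ℤ) →ₗ[ℤ] (Fin 4 → ℤ), ∀ x, φ x = w x :=
    ⟨(AddMonoidHom.mk' w h.add).toIntLinearMap, fun _ => rfl⟩
  have hsurj : Function.Surjective φ := by
    intro x
    choose c hc hc' using fun i => h.surj _ (single_mem i)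
    refine ⟨∑ i, x i • c i, ?_⟩
    rw [map_sum]
    conv_rhs => rw [← Finset.univ_sum_single x]
    refine Finset.sum_congr rfl fun i _ => ?_
    rw [map_smul, hφ, hc']
    ext j
    rw [Pi.smul_apply, smul_eq_mul, Pi.single_apply, Pi.single_apply]
    split_ifs <;> simp
  have hinj : Function.Injective φ := IsNoetherian.injective_of_surjective_endomorphism φ hsurj
  obtain ⟨w', hw'⟩ : ∃ w' : (Fin 4 → ℤ) → (Fin 4 → ℤ), ∀ x, w (w' x) = x := by
    choose w' hw' using hsurj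
    exact ⟨w', fun x => by rw [← hφ, hw']⟩
  have hinj' : ∀ x y, w x = w y → x = y := fun x y hxy => hinj (by rw [hφ, hφ, hxy])
  have hw'' : ∀ x, w' (w x) = x := fun x => hinj' _ _ (hw' _)
  refine ⟨w', ⟨?_, ?_, ?_, ?_, ?_⟩, hw'', hw'⟩
  · intro b hb
    obtain ⟨a, ha, rfl⟩ := h.surj b hb
    rwa [hw'']
  · intro a ha
    exact ⟨w a, h.mem a ha, hw'' a⟩
  · intro b hb c hc
    obtain ⟨a, ha, rfl⟩ := h.surj b hb
    obtain ⟨a', ha', rfl⟩ := h.surj c hc
    rw [hw'', hw'', h.iso a ha a' ha']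
  · intro x y
    apply hinj'
    rw [h.add, hw', hw', hw']
  · intro b hb u
    obtain ⟨a, ha, rfl⟩ := h.surj b hb
    rw [hw'', ← h.act a ha]
    group

theorem WeyE.of_nE (C : Chart E T) {a : Fin 4 → ℤ} (ha : a ∈ rts) : WeyE E (rfl' a) (nE E a) where
  mem b hb := rfl_mem a ha b hb
  surj b hb := ⟨rfl' a b, rfl_mem a ha b hb, rfl_rfl ha b⟩
  iso x _ y _ := B_rfl ha x y
  add := rfl_add ha
  act b hb u := C.nrf a ha b hb u

/-! ### Transitivity -/

theorem k_t1 : ∀ s ∈ rts, B s s = 2 → ∃ a ∈ rts, rfl' a s0 = s ∨ rfl' a (rfl' s s0) = s := by (delta Cfsg.Agent.OddHalf.D7F4.Model.B Cfsg.Agent.OddHalf.D7F4Ex.rfl'; set_option synthInstance.maxSize 100000 in exact Cfsg.Agent.Lib.Refl.of (by decide +kernel))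

/-! ### The torus -/

theorem dualH_surj {rt : F ≃+* F} (hrt : ∀ u, rt u ^ 2 = u) : Function.Surjective (dualH (F := F) rt) := by
  intro y
  have hr : ∀ z : Fˣ, Units.map (rt : F →* F) (z * z) = z := by
    intro z
    apply Units.ext
    have := rt_sq rt hrt (z : F)
    rw [pow_two] at this
    exact this
  refine ⟨![y 0 * y 1, y 0 * (y 1)⁻¹, y 2 * y 3, y 2 * (y 3)⁻¹], ?_⟩
  funext i
  fin_cases i
  · show Units.map (rt : F →* F) (y 0 * y 1 * (y 0 * (y 1)⁻¹)) = y 0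
    rw [mul_mul_mul_comm, mul_inv_cancel, mul_one, hr]
  · show Units.map (rt : F →* F) (y 0 * y 1 * (y 0 * (y 1)⁻¹)⁻¹) = y 1
    rw [mul_inv, inv_inv, mul_mul_mul_comm, mul_inv_cancel, one_mul, hr]
  · show Units.map (rt : F →* F) (y 2 * y 3 * (y 2 * (y 3)⁻¹)) = y 2
    rw [mul_mul_mul_comm, mul_inv_cancel, mul_one, hr]
  · show Units.map (rt : F →* F) (y 2 * y 3 * (y 2 * (y 3)⁻¹)⁻¹) = y 3
    rw [mul_inv, inv_inv, mul_mul_mul_comm, mul_inv_cancel, one_mul, hr]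

theorem unit_sqrt [Finite F] [CharP F 2] (a : Fˣ) : ∃ b : Fˣ, b ^ 2 = a := by
  have hinj : Function.Injective (fun b : Fˣ => b ^ 2) := by
    intro b c hbc
    apply Units.ext
    have h4 : (b : F) ^ 2 = (c : F) ^ 2 := by
      have := congrArg (Units.val) hbc
      simpa only [_root_.Units.val_pow_eq_pow_val] using this
    have h3 : ((b : F) + c) ^ 2 = 0 := by rw [CharTwo.add_sq, h4, CharTwo.add_self_eq_zero]
    exact CharTwo.add_eq_zero.1 (pow_eq_zero_iff two_ne_zero |>.1 h3)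
  exact Finite.surjective_of_injective hinj a

/-- every character of the lattice comes from the torus -/
theorem exists_nu [Finite F] [CharP F 2] (χ : (Fin 4 → ℤ) →+ Additive Fˣ) :
    ∃ ν : Fin 4 → Fˣ, ∀ x, χ x = Additive.ofMul (chd ν x) := by
  obtain ⟨c, hc⟩ : ∃ c : Fin 4 → Fˣ, ∀ i, χ (Pi.single i 1) = Additive.ofMul (c i) :=
    ⟨fun i => (χ (Pi.single i 1)).toMul, fun _ => rfl⟩
  obtain ⟨n3, h3⟩ := unit_sqrt (c 1)
  obtain ⟨n2, h2⟩ := unit_sqrt (c 2 * c 1)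
  obtain ⟨n1, h1⟩ := unit_sqrt (c 3 * c 2 * c 1)
  obtain ⟨ν, hν⟩ : ∃ ν : Fin 4 → Fˣ, ν = ![c 0 * n1 * n2 * n3, n1, n2, n3] := ⟨_, rfl⟩
  refine ⟨ν, fun x => ?_⟩
  have key : χ = chH ν := by
    apply AddMonoidHom.functions_ext
    intro i m
    have e : (Pi.single i m : Fin 4 → ℤ) = m • Pi.single i 1 := by
      ext j
      rw [Pi.smul_apply, smul_eq_mul, Pi.single_apply, Pi.single_apply]
      split_ifs <;> simp
    rw [e, map_zsmul, map_zsmul, hc]
    congr 1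
    show Additive.ofMul (c i) = Additive.ofMul (chd ν (Pi.single i 1))
    congr 1
    have k0 : ∀ a b c d : Fˣ, a * b * c * d * b⁻¹ * c⁻¹ * d⁻¹ = a := by
      intro a b c d
      rw [mul_right_comm _ d b⁻¹, mul_right_comm _ c b⁻¹, mul_inv_cancel_right, mul_right_comm _ d c⁻¹,
        mul_inv_cancel_right, mul_inv_cancel_right]
    rw [chd_eq, hν]
    fin_cases i
    · simp only [dd, _root_.Fin.zero_eta, _root_.Fin.isValue, _root_.Nat.succ_eq_add_one, _root_.Nat.reduceAdd, _root_.Matrix.cons_val_zero, _root_.Pi.single_eq_same, _root_.Int.reduceNeg, _root_.ne_eq, _root_.Fin.reduceEq, _root_.not_false_eq_true, _root_.Pi.single_eq_of_ne, _root_.MulZeroClass.mul_zero, _root_.add_zero, _root_.sub_zero, _root_.one_ne_zero, _root_.zpow_ofNat, _root_.pow_one, _root_.Matrix.cons_val_one, _root_.zpow_neg, _root_.Matrix.cons_val]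
      rw [k0]
    · simp [dd]
      rw [h3]
    · simp [dd]
      rw [h2, h3, mul_inv_cancel_right]
    · simp [dd]
      rw [h1, h2, mul_assoc (c 3), mul_inv_cancel_right]
  rw [key]
  rfl

section Tor

variable {F : Type u} [Field F] [Finite F] [CharP F 2]

theorem range_TH : (TH (F := F)).range = TF F := by
  apply le_antisymm
  · rintro _ ⟨ν, rfl⟩
    exact tH_mem ν
  · intro t ht
    obtain ⟨χ, hχ⟩ := (sysF (K := F) csF).chi t ht
    obtain ⟨ν, hν⟩ := exists_nu χ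
    refine ⟨ν, eq_of_conj csF fun x hx u => ?_⟩
    rw [hχ x hx u, hν, TH_conj ν (mem_rts.1 hx)]
    rfl

theorem range_TH_dual {rt : F ≃+* F} (hrt : ∀ u, rt u ^ 2 = u) : (TH.comp (dualH (F := F) rt)).range = TF F := by
  rw [← range_TH]
  apply le_antisymm
  · rintro _ ⟨ν, rfl⟩
    exact ⟨_, rfl⟩
  · rintro _ ⟨ν, rfl⟩
    obtain ⟨ν', rfl⟩ := dualH_surj hrt ν
    exact ⟨ν', rfl⟩

theorem TH_norm (hq : ∃ μ : Fˣ, μ ≠ 1) {a : Fin 4 → ℤ} (ha : a ∈ rts) (ν : Fin 4 → Fˣ) :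
    ∃ ν', nE (eF F) a * TH ν * (nE (eF F) a)⁻¹ = TH ν' := by
  have hw := WeyE.of_nE (chartY hq) ha
  obtain ⟨ν', hν'⟩ := exists_nu ((chH ν).comp (AddMonoidHom.mk' (rfl' a) (rfl_add ha)))
  refine ⟨ν', eq_of_conj csF fun x hx u => ?_⟩
  have hx' := mem_rts.1 hx
  have h1 : (nE (eF F) a)⁻¹ * eF F x u * nE (eF F) a = eF F (rfl' a x) u := by
    rw [← rfl_rfl ha x, ← hw.act _ (hw.mem x hx'), rfl_rfl ha]
    group
  have h2 : chd ν' x = chd ν (rfl' a x) := (hν' x).symm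
  rw [TH_conj ν' hx', h2]
  calc nE (eF F) a * TH ν * (nE (eF F) a)⁻¹ * eF F x u * (nE (eF F) a * TH ν * (nE (eF F) a)⁻¹)⁻¹ =
      nE (eF F) a * (TH ν * ((nE (eF F) a)⁻¹ * eF F x u * nE (eF F) a) * (TH ν)⁻¹) * (nE (eF F) a)⁻¹ := by group
    _ = _ := by rw [h1, TH_conj ν (hw.mem x hx'), hw.act _ (hw.mem x hx'), rfl_rfl ha]

theorem TH_norm_dual (hq : ∃ μ : Fˣ, μ ≠ 1) {rt : F ≃+* F} (hrt : ∀ u, rt u ^ 2 = u) {a : Fin 4 → ℤ} (ha : a ∈ rts)
    (ν : Fin 4 → Fˣ) : ∃ ν', nE (dualE rt (eF F)) a * (TH.comp (dualH rt)) ν * (nE (dualE rt (eF F)) a)⁻¹ =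
      (TH.comp (dualH rt)) ν' := by
  rw [nE_dual rt ha]
  obtain ⟨ν', h1⟩ := TH_norm hq (dual_mem a ha) (dualH rt ν)
  obtain ⟨ν'', rfl⟩ := dualH_surj hrt ν'
  exact ⟨ν'', h1⟩

end Tor

end Cfsg.Agent.OddHalf.D7F4Ex

end

-- merged: Cfsg.Agent.OddHalf.D7F4Ex.DbsEx
section

/-!
# Existence of the doubled root groups of all short roots of a chart

`dbl_le` : uniqueness of the doubled root group; `exists_dbs` : `Dbs` from `GData` at `s0` and `Moved t X_{s0}`;
`exists_dbs_frame` : for a frame `f : F₄(q) → C_G(t)` and a chart with its K-facts.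
-/

set_option autoImplicit false
set_option linter.unusedSectionVars false
set_option linter.style.haveILetI false

namespace Cfsg.Agent.OddHalf.D7F4Ex

open Subgroup Cfsg.Lie Cfsg.Agent.OddHalf.D7F4 Cfsg.Agent.OddHalf.D7F4.Model

section Uniq

variable {G : Type*} [Group G] {t : G} {X P W W' : Subgroup G}

/-- **Uniqueness of the doubled root group.** -/
theorem dbl_le (tt : t * t = 1) (XP : X ≤ P) (tP : ∀ p ∈ P, t * p = p * t)
    (cP : ∀ c, t * c = c * t → (∀ p ∈ P, c * p = p * c) → c ∈ X ∨ t * c ∈ X)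
    (hW : D7Ex.IsDbl t X P W) (hW' : D7Ex.IsDbl t X P W') {h : G} (ht : t * h = h * t)
    (hX : ∀ x ∈ X, h * x * h⁻¹ ∈ X) (hs : ∀ x ∈ X, ∃ y ∈ X, h * y * h⁻¹ * y⁻¹ = x)
    (hn : ∀ w ∈ W, h * w * h⁻¹ ∈ W) (hn' : ∀ w ∈ W', h * w * h⁻¹ ∈ W') : W ≤ W' := by
  have ti : t⁻¹ = t := inv_eq_of_mul_eq_one_left tt
  have hit : h⁻¹ * t = t * h⁻¹ := by
    rw [inv_mul_eq_iff_eq_mul, ← mul_assoc, ← ht, mul_inv_cancel_right]
  intro w hw
  obtain ⟨x, hx⟩ : ∃ x, x = w⁻¹ * (t * w * t) := ⟨_, rfl⟩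
  have hxX : x ∈ X := hx ▸ hW.brk w hw
  obtain ⟨y, hy, hyx⟩ := hs x hxX
  obtain ⟨a, ha, hay⟩ := hW.surj y hy
  obtain ⟨b, hb, hby⟩ := hW'.surj y hy
  have ew : t * w * t = w * x := by rw [hx]; group
  have ea : t * a * t = a * y := by rw [← hay]; group
  have eb : t * b * t = b * y := by rw [← hby]; group
  have inv_t : ∀ {g g' : G}, t * g * t = g' → t * g⁻¹ * t = g'⁻¹ := by
    intro g g' hg
    rw [← hg, mul_inv_rev, mul_inv_rev, ti]; group
  have mul_t : ∀ {g g' k k' : G}, t * g * t = g' → t * k * t = k' → t * (g * k) * t = g' * k' := by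
    intro g g' k k' hg hk
    rw [← hg, ← hk]
    calc t * (g * k) * t = t * g * 1 * k * t := by group
      _ = t * g * (t * t) * k * t := by rw [tt]
      _ = _ := by group
  have comm_of : ∀ {g : G}, t * g * t = g → t * g = g * t := by
    intro g hg
    calc t * g = t * g * (t * t) := by rw [tt, mul_one]
      _ = t * g * t * t := by group
      _ = g * t := by rw [hg]
  -- `b a⁻¹`
  obtain ⟨c, hc⟩ : ∃ c, c = b * a⁻¹ := ⟨_, rfl⟩
  have hct : t * c = c * t := by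
    apply comm_of
    rw [hc, mul_t eb (inv_t ea), mul_inv_rev]; group
  have hcP : ∀ p ∈ P, c * p = p * c := by
    intro p hp
    have h1 := hW'.WP b hb p hp
    have h2 := hW.WP a ha p hp
    have h3 : a⁻¹ * p = p * a⁻¹ := by rw [inv_mul_eq_iff_eq_mul, ← mul_assoc, h2, mul_inv_cancel_right]
    rw [hc, mul_assoc, h3, ← mul_assoc, h1, mul_assoc]
  obtain ⟨d, hd⟩ : ∃ d, d = h * a * h⁻¹ * a⁻¹ := ⟨_, rfl⟩
  have hdW : d ∈ W := hd ▸ mul_mem (hn a ha) (inv_mem ha)
  -- `d ^ t = d x`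
  have hha : t * (h * a * h⁻¹) * t = h * a * h⁻¹ * (h * y * h⁻¹) := by
    calc t * (h * a * h⁻¹) * t = (t * h) * a * (h⁻¹ * t) := by group
      _ = h * (t * a * t) * h⁻¹ := by rw [ht, hit]; group
      _ = _ := by rw [ea]; group
  have ed : t * d * t = d * x := by
    rw [hd, mul_t hha (inv_t ea), mul_inv_rev]
    have h1 := hW.WP a ha x (XP hxX)
    have h2 : x * a⁻¹ = a⁻¹ * x := by rw [eq_inv_mul_iff_mul_eq, ← mul_assoc, h1, mul_inv_cancel_right]
    calc h * a * h⁻¹ * (h * y * h⁻¹) * (y⁻¹ * a⁻¹) = h * a * h⁻¹ * (h * y * h⁻¹ * y⁻¹) * a⁻¹ := by group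
      _ = h * a * h⁻¹ * (x * a⁻¹) := by rw [hyx]; group
      _ = _ := by rw [h2]; group
  have hbW : h * b * h⁻¹ * b⁻¹ ∈ W' := mul_mem (hn' b hb) (inv_mem hb)
  have hb' : b = c * a := by rw [hc]; group
  have hdW' : d ∈ W' := by
    rcases cP c hct hcP with hcX | hcX
    · have e1 : d = (h * c * h⁻¹)⁻¹ * (h * b * h⁻¹ * b⁻¹) * c := by rw [hd, hb']; group
      rw [e1]
      exact mul_mem (mul_mem (inv_mem (hW'.XW (hX c hcX))) hbW) (hW'.XW hcX)
    · obtain ⟨x1, hx1⟩ : ∃ x1, x1 = t * c := ⟨_, rfl⟩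
      rw [← hx1] at hcX
      have hc1 : c = t * x1 := by rw [hx1, ← mul_assoc, tt, one_mul]
      have htx := tP x1 (XP hcX)
      have hthx := tP _ (XP (hX x1 hcX))
      have e0 : h * b * h⁻¹ * b⁻¹ = (h * x1 * h⁻¹) * (d * x) * x1⁻¹ := by
        have e1 : h * b * h⁻¹ = t * (h * x1 * h⁻¹) * (h * a * h⁻¹) := by
          rw [hb', hc1]
          calc h * (t * x1 * a) * h⁻¹ = (h * t) * x1 * a * h⁻¹ := by group
            _ = t * (h * x1 * h⁻¹) * (h * a * h⁻¹) := by rw [← ht]; group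
        have e2 : b⁻¹ = a⁻¹ * x1⁻¹ * t := by rw [hb', hc1, mul_inv_rev, mul_inv_rev, ti]; group
        have e3 : x1⁻¹ * t = t * x1⁻¹ := by
          rw [inv_mul_eq_iff_eq_mul, ← mul_assoc, ← htx, mul_inv_cancel_right]
        rw [e1, e2]
        calc t * (h * x1 * h⁻¹) * (h * a * h⁻¹) * (a⁻¹ * x1⁻¹ * t)
            = (t * (h * x1 * h⁻¹)) * (h * a * h⁻¹ * a⁻¹) * (x1⁻¹ * t) := by group
          _ = (h * x1 * h⁻¹) * (t * d * t) * x1⁻¹ := by rw [hthx, ← hd, e3]; group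
          _ = _ := by rw [ed]
      have e1 : d = (h * x1 * h⁻¹)⁻¹ * (h * b * h⁻¹ * b⁻¹) * x1 * x⁻¹ := by rw [e0]; group
      rw [e1]
      exact mul_mem (mul_mem (mul_mem (inv_mem (hW'.XW (hX x1 hcX))) hbW) (hW'.XW hcX)) (inv_mem (hW'.XW hxX))
  have hwd : w * d⁻¹ ∈ X := by
    apply hW.cent _ (mul_mem hw (inv_mem hdW))
    apply comm_of
    rw [mul_t ew (inv_t ed), mul_inv_rev]; group
  have e2 : w = w * d⁻¹ * d := by group
  rw [e2]
  exact mul_mem (hW'.XW hwd) hdW'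

/-- transport -/
theorem isDbl_conj (hW : D7Ex.IsDbl t X P W) {k : G} (hk : k * t = t * k) {X' P' : Subgroup G}
    (hX : ∀ x ∈ X, k * x * k⁻¹ ∈ X') (hX' : ∀ x ∈ X', k⁻¹ * x * k ∈ X) (hP : ∀ p ∈ P', k⁻¹ * p * k ∈ P) :
    D7Ex.IsDbl t X' P' (W.map (MulAut.conj k).toMonoidHom) := by
  have hki : k⁻¹ * t = t * k⁻¹ := by
    rw [inv_mul_eq_iff_eq_mul, ← mul_assoc, hk, mul_inv_cancel_right]
  have key : ∀ w : G, (k * w * k⁻¹)⁻¹ * (t * (k * w * k⁻¹) * t) = k * (w⁻¹ * (t * w * t)) * k⁻¹ := by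
    intro w
    calc (k * w * k⁻¹)⁻¹ * (t * (k * w * k⁻¹) * t) = k * w⁻¹ * k⁻¹ * (t * k) * w * (k⁻¹ * t) := by group
      _ = k * w⁻¹ * k⁻¹ * (k * t) * w * (t * k⁻¹) := by rw [hk, hki]
      _ = _ := by group
  refine ⟨?_, ?_, ?_, ?_, ?_⟩
  · intro x hx
    refine ⟨k⁻¹ * x * k, hW.XW (hX' x hx), ?_⟩
    show k * (k⁻¹ * x * k) * k⁻¹ = x
    group
  · rintro _ ⟨w, hw, rfl⟩ p hp
    show k * w * k⁻¹ * p = p * (k * w * k⁻¹)
    have h1 := hW.WP w hw _ (hP p hp)
    calc k * w * k⁻¹ * p = k * (w * (k⁻¹ * p * k)) * k⁻¹ := by group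
      _ = k * ((k⁻¹ * p * k) * w) * k⁻¹ := by rw [h1]
      _ = _ := by group
  · rintro _ ⟨w, hw, rfl⟩
    show (k * w * k⁻¹)⁻¹ * (t * (k * w * k⁻¹) * t) ∈ X'
    rw [key]
    exact hX _ (hW.brk w hw)
  · rintro _ ⟨w, hw, rfl⟩ h1
    have h1' : t * (k * w * k⁻¹) = k * w * k⁻¹ * t := h1
    refine hX _ (hW.cent w hw ?_)
    calc t * w = k⁻¹ * (k * t) * w := by group
      _ = k⁻¹ * (t * (k * w * k⁻¹)) * k := by rw [hk]; group
      _ = w * (k⁻¹ * t) * k := by rw [h1']; group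
      _ = w * t := by rw [hki]; group
  · intro x hx
    obtain ⟨w, hw, h1⟩ := hW.surj _ (hX' x hx)
    refine ⟨_, ⟨w, hw, rfl⟩, ?_⟩
    show (k * w * k⁻¹)⁻¹ * (t * (k * w * k⁻¹) * t) = x
    rw [key, h1]; group

end Uniq

variable {F : Type*} [Field F] {G : Type*} [Group G] {t : G} {E : (Fin 4 → ℤ) → F → G} {T : (Fin 4 → Fˣ) →* G}

/-- `k ∈ C(t)` acts on the chart as `w` -/
structure WK (t : G) (E : (Fin 4 → ℤ) → F → G) (T : (Fin 4 → Fˣ) →* G) (w : (Fin 4 → ℤ) → (Fin 4 → ℤ)) (k : G) :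
    Prop where
  wey : WeyE E w k
  kt : k * t = t * k
  tor : ∀ ν, ∃ ν', k * T ν * k⁻¹ = T ν'
  torI : ∀ ν, ∃ ν', k⁻¹ * T ν * k = T ν'

theorem Chart.eq_of (C : Chart E T) {a : Fin 4 → ℤ} (ha : a ∈ rts) {u v : F} (h : E a u = E a v) : u = v := by
  have h1 : E a (u + v) = 1 := by rw [C.add a ha, h, C.sq ha]
  have h2 := C.inj a ha _ h1
  calc u = (u + v) + v := by rw [add_assoc, C.two, add_zero]
    _ = v := by rw [h2, zero_add]

/-- `n_a ^ 2 = 1` -/
theorem Chart.nE_sq (C : Chart E T) {a : Fin 4 → ℤ} (ha : a ∈ rts) : nE E a * nE E a = 1 := by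
  have hn : -a ∈ rts := (k_neg a ha).1
  have h0 : rfl' a a = -a := by
    unfold rfl'
    have : 2 * B a a / B a a = 2 := by
      rcases Model.norm a ha with h | h <;> rw [h] <;> norm_num
    rw [this, two_smul]; abel
  have h0' : rfl' a (-a) = a := by rw [← h0, rfl_rfl ha]
  have h1 := C.nrf a ha a ha 1
  have h2 := C.nrf a ha (-a) hn 1
  rw [h0] at h1
  rw [h0'] at h2
  have h3 : nE E a = E (-a) 1 * E a 1 * E (-a) 1 := by
    calc nE E a = nE E a * nE E a * (nE E a)⁻¹ := by group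
      _ = nE E a * (E a 1 * E (-a) 1 * E a 1) * (nE E a)⁻¹ := rfl
      _ = (nE E a * E a 1 * (nE E a)⁻¹) * (nE E a * E (-a) 1 * (nE E a)⁻¹) * (nE E a * E a 1 * (nE E a)⁻¹) := by group
      _ = _ := by rw [h1, h2]
  have h4 := C.sq ha 1
  have h5 := C.sq hn 1
  calc nE E a * nE E a = (E a 1 * E (-a) 1 * E a 1) * nE E a := rfl
    _ = E a 1 * E (-a) 1 * E a 1 * (E (-a) 1 * E a 1 * E (-a) 1) := by rw [h3]
    _ = E a 1 * E (-a) 1 * (E a 1 * E (-a) 1 * E a 1) * E (-a) 1 := by group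
    _ = E a 1 * E (-a) 1 * nE E a * E (-a) 1 := rfl
    _ = E a 1 * E (-a) 1 * (E (-a) 1 * E a 1 * E (-a) 1) * E (-a) 1 := by rw [h3]
    _ = E a 1 * (E (-a) 1 * E (-a) 1) * E a 1 * (E (-a) 1 * E (-a) 1) := by group
    _ = 1 := by rw [h5, mul_one, mul_one, h4]

theorem WK.mul {w w' : (Fin 4 → ℤ) → (Fin 4 → ℤ)} {k k' : G} (h : WK t E T w k) (h' : WK t E T w' k') :
    WK t E T (fun x => w (w' x)) (k * k') where
  wey := h.wey.mul h'.wey
  kt := by rw [mul_assoc, h'.kt, ← mul_assoc, h.kt, mul_assoc]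
  tor := by
    intro ν
    obtain ⟨ν1, h1⟩ := h'.tor ν
    obtain ⟨ν2, h2⟩ := h.tor ν1
    refine ⟨ν2, ?_⟩
    rw [← h2, ← h1]; group
  torI := by
    intro ν
    obtain ⟨ν1, h1⟩ := h.torI ν
    obtain ⟨ν2, h2⟩ := h'.torI ν1
    refine ⟨ν2, ?_⟩
    rw [← h2, ← h1]; group

theorem WK.inv {w : (Fin 4 → ℤ) → (Fin 4 → ℤ)} {k : G} (h : WK t E T w k) :
    ∃ w', WK t E T w' k⁻¹ ∧ (∀ x, w' (w x) = x) ∧ ∀ x, w (w' x) = x := by
  obtain ⟨w', h1, h2, h3⟩ := h.wey.inv
  refine ⟨w', ⟨h1, ?_, ?_, ?_⟩, h2, h3⟩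
  · rw [inv_mul_eq_iff_eq_mul, ← mul_assoc, h.kt, mul_inv_cancel_right]
  · intro ν
    obtain ⟨ν', e⟩ := h.torI ν
    exact ⟨ν', by rw [inv_inv]; exact e⟩
  · intro ν
    obtain ⟨ν', e⟩ := h.tor ν
    exact ⟨ν', by rw [inv_inv]; exact e⟩

theorem WK.of_nE (C : Chart E T) (tE : ∀ a ∈ rts, ∀ u, t * E a u = E a u * t)
    (torN : ∀ a ∈ rts, ∀ ν, ∃ ν', nE E a * T ν * (nE E a)⁻¹ = T ν') {a : Fin 4 → ℤ} (ha : a ∈ rts) :
    WK t E T (rfl' a) (nE E a) where
  wey := WeyE.of_nE C ha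
  kt := by
    have h1 := tE a ha 1
    have h2 := tE (-a) (k_neg a ha).1 1
    unfold nE
    calc E a 1 * E (-a) 1 * E a 1 * t = E a 1 * E (-a) 1 * (E a 1 * t) := by group
      _ = E a 1 * (E (-a) 1 * t) * E a 1 := by rw [← h1]; group
      _ = (E a 1 * t) * E (-a) 1 * E a 1 := by rw [← h2]; group
      _ = _ := by rw [← h1]; group
  tor := torN a ha
  torI := by
    intro ν
    obtain ⟨ν', h⟩ := torN a ha ν
    have e : (nE E a)⁻¹ = nE E a := inv_eq_of_mul_eq_one_left (C.nE_sq ha)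
    refine ⟨ν', ?_⟩
    rw [← h, e]

theorem WK.chd (C : Chart E T) {w : (Fin 4 → ℤ) → (Fin 4 → ℤ)} {k : G} (h : WK t E T w k) {a : Fin 4 → ℤ} (ha : a ∈ rts)
    {ν ν' : Fin 4 → Fˣ} (hν : k * T ν * k⁻¹ = T ν') : D7F4Ex.chd ν' (w a) = D7F4Ex.chd ν a := by
  apply Units.ext
  apply C.eq_of (h.wey.mem a ha)
  have h1 := C.tor _ (h.wey.mem a ha) ν' 1
  have h2 := C.tor a ha ν 1
  rw [mul_one] at h1 h2
  rw [← h1, ← hν, ← h.wey.act a ha, ← h.wey.act a ha, ← h2]
  group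

theorem WK.XE (C : Chart E T) {w : (Fin 4 → ℤ) → (Fin 4 → ℤ)} {k : G} (h : WK t E T w k) {a : Fin 4 → ℤ} (ha : a ∈ rts)
    {x : G} (hx : x ∈ XE E a) : k * x * k⁻¹ ∈ D7F4Ex.XE E (w a) := by
  obtain ⟨u, rfl⟩ := (C.mem_XE ha).1 hx
  rw [h.wey.act a ha]
  exact mem_XE' _ _ _

theorem WK.PT (C : Chart E T) {w : (Fin 4 → ℤ) → (Fin 4 → ℤ)} {k : G} (h : WK t E T w k) {s : Fin 4 → ℤ} (hs : s ∈ rts)
    {x : G} (hx : x ∈ PT E T s) : k * x * k⁻¹ ∈ D7F4Ex.PT E T (w s) := by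
  have hle : D7F4Ex.PT E T s ≤ (D7F4Ex.PT E T (w s)).comap (MulAut.conj k).toMonoidHom := by
    rw [D7F4Ex.PT, closure_le]
    rintro g (⟨a, ha, hc, u, rfl⟩ | ⟨ν, hν, rfl⟩)
    · show k * E a u * k⁻¹ ∈ D7F4Ex.PT E T (w s)
      rw [h.wey.act a ha]
      refine _root_.Subgroup.subset_closure (Or.inl ⟨w a, h.wey.mem a ha, ?_, u, rfl⟩)
      unfold Cs at hc ⊢
      rw [h.wey.iso a ha a ha, h.wey.iso a ha s hs]
      exact hc
    · show k * T ν * k⁻¹ ∈ D7F4Ex.PT E T (w s)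
      obtain ⟨ν', hν'⟩ := h.tor ν
      rw [hν']
      exact _root_.Subgroup.subset_closure (Or.inr ⟨ν', by rw [h.chd C hs hν', hν], rfl⟩)
  exact hle hx

/-! ### The centraliser of `P~_s` -/

theorem k_c : ∀ d ∈ rts, B d d = 2 → B d s0 = 0 → ∃ j, d = rc j := by decide +kernel
theorem k_rs : ∀ a ∈ rts, ∀ s ∈ rts, B (rfl' a s) (rfl' a s) = B s s := fun _ ha s _ => B_rfl ha s s

/-- the data of the transport -/
structure Base (t : G) (E : (Fin 4 → ℤ) → F → G) (T : (Fin 4 → Fˣ) →* G) : Prop where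
  chart : Chart E T
  tt : t * t = 1
  tE : ∀ a ∈ rts, ∀ u, t * E a u = E a u * t
  tT : ∀ ν, t * T ν = T ν * t
  torN : ∀ a ∈ rts, ∀ ν, ∃ ν', nE E a * T ν * (nE E a)⁻¹ = T ν'
  cP : ∀ g, t * g = g * t → (∀ p ∈ PT E T s0, g * p = p * g) → g ∈ XE E s0 ∨ t * g ∈ XE E s0

namespace Base

variable (H : Base t E T)

include H

theorem exists_wk {s : Fin 4 → ℤ} (hs : s ∈ rts) (h2 : B s s = 2) : ∃ w k, WK t E T w k ∧ w s0 = s := by
  obtain ⟨a, ha, e | e⟩ := k_t1 s hs h2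
  · exact ⟨_, _, WK.of_nE H.chart H.tE H.torN ha, e⟩
  · exact ⟨_, _, (WK.of_nE H.chart H.tE H.torN ha).mul (WK.of_nE H.chart H.tE H.torN hs), e⟩

theorem cPs {s : Fin 4 → ℤ} (hs : s ∈ rts) (h2 : B s s = 2) {g : G} (hg : t * g = g * t)
    (hp : ∀ p ∈ PT E T s, g * p = p * g) : g ∈ XE E s ∨ t * g ∈ XE E s := by
  obtain ⟨w, k, hk, hws⟩ := H.exists_wk hs h2
  have hki : k⁻¹ * t = t * k⁻¹ := by rw [inv_mul_eq_iff_eq_mul, ← mul_assoc, hk.kt, mul_inv_cancel_right]
  have h1 : t * (k⁻¹ * g * k) = k⁻¹ * g * k * t := by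
    calc t * (k⁻¹ * g * k) = (t * k⁻¹) * g * k := by group
      _ = k⁻¹ * (t * g) * k := by rw [← hki]; group
      _ = k⁻¹ * g * (t * k) := by rw [hg]; group
      _ = _ := by rw [← hk.kt]; group
  have back : ∀ {x : G}, x ∈ XE E s0 → k * x * k⁻¹ ∈ XE E s := fun hx => hws ▸ hk.XE H.chart s0_mem hx
  rcases H.cP _ h1 (fun p hp' => by
    have h3 := hk.PT H.chart s0_mem hp'
    rw [hws] at h3
    have h4 := hp _ h3
    calc k⁻¹ * g * k * p = k⁻¹ * (g * (k * p * k⁻¹)) * k := by group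
      _ = k⁻¹ * ((k * p * k⁻¹) * g) * k := by rw [h4]
      _ = _ := by group) with h3 | h3
  · left
    have := back h3
    rwa [show k * (k⁻¹ * g * k) * k⁻¹ = g by group] at this
  · right
    have := back h3
    rwa [show k * (t * (k⁻¹ * g * k)) * k⁻¹ = k * t * k⁻¹ * g by group, hk.kt, mul_inv_cancel_right] at this

theorem XP {s : Fin 4 → ℤ} (hs : s ∈ rts) (h2 : B s s = 2) : XE E s ≤ PT E T s := by
  rw [XE, closure_le]
  rintro _ ⟨u, rfl⟩
  exact _root_.Subgroup.subset_closure (Or.inl ⟨s, hs, Or.inr ⟨h2, by rw [h2]; norm_num⟩, u, rfl⟩)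

theorem tP {s : Fin 4 → ℤ} {p : G} (hp : p ∈ PT E T s) : t * p = p * t := by
  have hle : PT E T s ≤ centralizer {t} := by
    rw [PT, closure_le]
    intro g hg
    rw [SetLike.mem_coe, mem_centralizer_singleton_iff]
    rcases hg with ⟨a, ha, -, u, rfl⟩ | ⟨ν, -, rfl⟩
    · exact (H.tE a ha u).symm
    · exact (H.tT ν).symm
  exact (mem_centralizer_singleton_iff.1 (hle hp)).symm

theorem tor_X {s : Fin 4 → ℤ} (hs : s ∈ rts) (ν : Fin 4 → Fˣ) {x : G} (hx : x ∈ XE E s) : T ν * x * (T ν)⁻¹ ∈ XE E s := by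
  obtain ⟨u, rfl⟩ := (H.chart.mem_XE hs).1 hx
  rw [H.chart.tor s hs]
  exact mem_XE' _ _ _

/-- `T ν` acts without fixed points on `X_s`. -/
theorem tor_surj {s : Fin 4 → ℤ} (hs : s ∈ rts) {ν : Fin 4 → Fˣ} (hν : chd ν s ≠ 1) :
    ∀ x ∈ XE E s, ∃ y ∈ XE E s, T ν * y * (T ν)⁻¹ * y⁻¹ = x := by
  intro x hx
  obtain ⟨u, rfl⟩ := (H.chart.mem_XE hs).1 hx
  have h0 : ((chd ν s : Fˣ) : F) + 1 ≠ 0 := by
    intro h
    apply hν
    apply Units.ext
    rw [Units.val_one]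
    have h2 := H.chart.two (1 : F)
    calc ((chd ν s : Fˣ) : F) = (((chd ν s : Fˣ) : F) + 1) + 1 := by rw [add_assoc, h2, add_zero]
      _ = 1 := by rw [h, zero_add]
  refine ⟨E s ((((chd ν s : Fˣ) : F) + 1)⁻¹ * u), mem_XE' _ _ _, ?_⟩
  rw [H.chart.tor s hs, H.chart.inv hs, ← H.chart.add s hs]
  congr 1
  field_simp

theorem exists_nu {s : Fin 4 → ℤ} (hs : s ∈ rts) (h2 : B s s = 2) : ∃ ν : Fin 4 → Fˣ, chd ν s ≠ 1 := by
  obtain ⟨μ, hμ⟩ := H.chart.big
  obtain ⟨w, k, hk, hws⟩ := H.exists_wk hs h2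
  obtain ⟨ν', hν'⟩ := hk.tor (oneH μ)
  refine ⟨ν', ?_⟩
  have h3 := hk.chd H.chart s0_mem hν'
  rw [hws, chd_oneH, d_s0] at h3
  rw [h3]
  show μ ^ (2 : ℤ) ≠ 1
  intro h4
  have h5 : (μ : F) ^ 2 = 1 := by
    have := congrArg (fun u : Fˣ => (u : F)) h4
    simpa only [_root_.sq_eq_one_iff, _root_.Units.val_eq_one, _root_.Units.val_eq_neg_one, _root_.zpow_ofNat, _root_.Units.val_pow_eq_pow_val, _root_.Units.val_one] using this
  apply hμ
  apply Units.ext
  rw [Units.val_one]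
  have h6 : ((μ : F) + 1) * ((μ : F) + 1) = 0 := by
    calc _ = (μ : F) ^ 2 + ((μ : F) + (μ : F)) + 1 := by ring
      _ = 0 := by rw [h5, H.chart.two, add_zero, H.chart.two]
  have h7 := mul_self_eq_zero.1 h6
  calc (μ : F) = ((μ : F) + 1) + 1 := by rw [add_assoc, H.chart.two, add_zero]
    _ = 1 := by rw [h7, zero_add]

/-- **Transport of doubled root groups, by uniqueness.** -/
theorem map_le {W : (Fin 4 → ℤ) → Subgroup G}
    (dbl : ∀ s ∈ rts, B s s = 2 → D7Ex.IsDbl t (XE E s) (PT E T s) (W s))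
    (torW : ∀ s ∈ rts, B s s = 2 → ∀ ν, ∀ w ∈ W s, T ν * w * (T ν)⁻¹ ∈ W s) {s s' : Fin 4 → ℤ} (hs : s ∈ rts)
    (h2 : B s s = 2) (hs' : s' ∈ rts) (h2' : B s' s' = 2) {k : G} (hk : k * t = t * k)
    (tor : ∀ ν, ∃ ν', k * T ν * k⁻¹ = T ν') (hX : ∀ x, x ∈ XE E s ↔ k * x * k⁻¹ ∈ XE E s')
    (hP : ∀ x, x ∈ PT E T s ↔ k * x * k⁻¹ ∈ PT E T s') : ∀ w ∈ W s, k * w * k⁻¹ ∈ W s' := by
  have hX' : ∀ x ∈ XE E s', k⁻¹ * x * k ∈ XE E s := fun x hx => (hX _).2 (by
    rwa [show k * (k⁻¹ * x * k) * k⁻¹ = x by group])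
  have hP' : ∀ x ∈ PT E T s', k⁻¹ * x * k ∈ PT E T s := fun x hx => (hP _).2 (by
    rwa [show k * (k⁻¹ * x * k) * k⁻¹ = x by group])
  obtain ⟨ν, hν⟩ := H.exists_nu hs h2
  obtain ⟨ν', hν'⟩ := tor ν
  have hne : chd ν' s' ≠ 1 := by
    intro h
    apply hν
    apply Units.ext
    apply H.chart.eq_of hs
    have h3 := H.chart.tor s hs ν 1
    rw [mul_one] at h3
    rw [← h3, Units.val_one]
    obtain ⟨v, hv⟩ := (H.chart.mem_XE hs').1 ((hX _).1 (mem_XE' E s (1 : F)))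
    have h4 := H.chart.tor_comm hs' h v
    have h5 : T ν = k⁻¹ * T ν' * k := by rw [← hν']; group
    have h6 : E s 1 = k⁻¹ * E s' v * k := by rw [hv]; group
    rw [h5, h6]
    calc k⁻¹ * T ν' * k * (k⁻¹ * E s' v * k) * (k⁻¹ * T ν' * k)⁻¹ = k⁻¹ * (T ν' * E s' v) * (T ν')⁻¹ * k := by group
      _ = _ := by rw [h4]; group
  have hd := isDbl_conj (dbl s hs h2) hk (fun x hx => (hX x).1 hx) hX' hP'
  have key := dbl_le H.tt (H.XP hs' h2') (fun p hp => H.tP hp) (fun c h1 h3 => H.cPs hs' h2' h1 h3) hd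
    (dbl s' hs' h2') (h := T ν') (H.tT ν') (fun x hx => H.tor_X hs' ν' hx) (H.tor_surj hs' hne) ?_
    (torW s' hs' h2' ν')
  · intro w hw
    exact key ⟨w, hw, rfl⟩
  · rintro _ ⟨w, hw, rfl⟩
    refine ⟨T ν * w * (T ν)⁻¹, torW s hs h2 ν w hw, ?_⟩
    show k * (T ν * w * (T ν)⁻¹) * k⁻¹ = T ν' * (k * w * k⁻¹) * (T ν')⁻¹
    rw [← hν']; group

/-- **All doubled root groups from one.** -/
theorem exists_dbs {W0 : Subgroup G} {κ c0 : F}
    (dbl : D7Ex.IsDbl t (XE E s0) (PT E T s0) W0) (comm : ∀ w ∈ W0, ∀ w' ∈ W0, w * w' = w' * w)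
    (sq : ∀ w ∈ W0, ∀ a, w⁻¹ * (t * w * t) = E s0 a → w * w = E s0 (c0 * a))
    (typ : ∀ w ∈ W0, ∀ a, w⁻¹ * (t * w * t) = E s0 a → ∀ k u, w * E (rc k) u * w⁻¹ =
      E (rv k) (κ * a * u) * E (rc k) u)
    (tor : ∀ ν, ∀ w ∈ W0, T ν * w * (T ν)⁻¹ ∈ W0) (tX : ∀ a ∈ rts, ∀ u, t ≠ E a u) :
    ∃ W, Dbs t E T W κ c0 := by
  classical
  have hex : ∀ s, ∃ w k, s ∈ rts → B s s = 2 → WK t E T w k ∧ w s0 = s := by
    intro s
    by_cases h : s ∈ rts ∧ B s s = 2
    · obtain ⟨w, k, h1, h2⟩ := H.exists_wk h.1 h.2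
      exact ⟨w, k, fun _ _ => ⟨h1, h2⟩⟩
    · exact ⟨id, 1, fun h1 h2 => absurd ⟨h1, h2⟩ h⟩
  choose w k hwk using hex
  obtain ⟨W, hW⟩ : ∃ W : (Fin 4 → ℤ) → Subgroup G, ∀ s, W s = W0.map (MulAut.conj (k s)).toMonoidHom := ⟨_, fun _ => rfl⟩
  have mem : ∀ {s : Fin 4 → ℤ} {g : G}, g ∈ W s ↔ ∃ w0 ∈ W0, k s * w0 * (k s)⁻¹ = g := by
    intro s g
    rw [hW]
    rfl
  -- `D` under conjugation
  have keyD : ∀ {s : Fin 4 → ℤ}, s ∈ rts → B s s = 2 → ∀ {w0 : G} {a : F},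
      (k s * w0 * (k s)⁻¹)⁻¹ * (t * (k s * w0 * (k s)⁻¹) * t) = E s a → w0⁻¹ * (t * w0 * t) = E s0 a := by
    intro s hs h2 w0 a h
    obtain ⟨h3, h4⟩ := hwk s hs h2
    have hki : (k s)⁻¹ * t = t * (k s)⁻¹ := by
      rw [inv_mul_eq_iff_eq_mul, ← mul_assoc, h3.kt, mul_inv_cancel_right]
    have h5 := h3.wey.act s0 s0_mem a
    rw [h4, ← h] at h5
    have h6 : (k s * w0 * (k s)⁻¹)⁻¹ * (t * (k s * w0 * (k s)⁻¹) * t) = k s * (w0⁻¹ * (t * w0 * t)) * (k s)⁻¹ := by
      calc (k s * w0 * (k s)⁻¹)⁻¹ * (t * (k s * w0 * (k s)⁻¹) * t)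
          = k s * w0⁻¹ * (k s)⁻¹ * (t * k s) * w0 * ((k s)⁻¹ * t) := by group
        _ = k s * w0⁻¹ * (k s)⁻¹ * (k s * t) * w0 * (t * (k s)⁻¹) := by rw [h3.kt, hki]
        _ = _ := by group
    rw [h6] at h5
    exact (mul_left_cancel (mul_right_cancel h5)).symm
  have hdbl : ∀ s ∈ rts, B s s = 2 → D7Ex.IsDbl t (XE E s) (PT E T s) (W s) := by
    intro s hs h2
    obtain ⟨h3, h4⟩ := hwk s hs h2
    obtain ⟨w', h5, h6, h7⟩ := h3.inv
    have h8 : w' s = s0 := by rw [← h6 s0, h4]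
    rw [hW]
    refine isDbl_conj dbl h3.kt (fun x hx => ?_) (fun x hx => ?_) (fun x hx => ?_)
    · have := h3.XE H.chart s0_mem hx
      rwa [h4] at this
    · have := h5.XE H.chart hs hx
      rwa [h8, inv_inv] at this
    · have := h5.PT H.chart hs hx
      rwa [h8, inv_inv] at this
  have htor : ∀ s ∈ rts, B s s = 2 → ∀ ν, ∀ g ∈ W s, T ν * g * (T ν)⁻¹ ∈ W s := by
    intro s hs h2 ν g hg
    obtain ⟨w0, hw0, rfl⟩ := mem.1 hg
    obtain ⟨h3, h4⟩ := hwk s hs h2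
    obtain ⟨ν', hν'⟩ := h3.torI ν
    refine mem.2 ⟨T ν' * w0 * (T ν')⁻¹, tor ν' w0 hw0, ?_⟩
    rw [← hν']; group
  have heqv : ∀ s ∈ rts, B s s = 2 → ∀ s' ∈ rts, B s' s' = 2 → ∀ k, k * t = t * k → (∀ ν, ∃ ν', k * T ν * k⁻¹ = T ν') →
    (∀ x, x ∈ XE E s ↔ k * x * k⁻¹ ∈ XE E s') → (∀ x, x ∈ PT E T s ↔ k * x * k⁻¹ ∈ PT E T s') →
    ∀ w ∈ W s, k * w * k⁻¹ ∈ W s' := fun s hs h2 s' hs' h2' k hk h3 h4 h5 =>
    H.map_le hdbl htor hs h2 hs' h2' hk h3 h4 h5
  refine ⟨W, ⟨H.chart, H.tt, tX, H.tE, H.tT, hdbl, ?_, ?_, ?_, htor, ?_, heqv⟩⟩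
  · intro s hs h2 g hg g' hg'
    obtain ⟨w0, hw0, rfl⟩ := mem.1 hg
    obtain ⟨w1, hw1, rfl⟩ := mem.1 hg'
    have := comm w0 hw0 w1 hw1
    calc k s * w0 * (k s)⁻¹ * (k s * w1 * (k s)⁻¹) = k s * (w0 * w1) * (k s)⁻¹ := by group
      _ = k s * (w1 * w0) * (k s)⁻¹ := by rw [this]
      _ = _ := by group
  · intro s hs h2 g hg a ha
    obtain ⟨w0, hw0, rfl⟩ := mem.1 hg
    have h1 := sq w0 hw0 a (keyD hs h2 ha)
    obtain ⟨h3, h4⟩ := hwk s hs h2
    have h5 := h3.wey.act s0 s0_mem (c0 * a)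
    rw [h4] at h5
    rw [← h5, ← h1]; group
  · intro s hs h2 g hg a ha d hd hd2 hds u
    obtain ⟨w0, hw0, rfl⟩ := mem.1 hg
    obtain ⟨h3, h4⟩ := hwk s hs h2
    obtain ⟨d0, hd0, rfl⟩ := h3.wey.surj d hd
    rw [h3.wey.iso d0 hd0 d0 hd0] at hd2
    have hds' : B (w s d0) (w s s0) = 0 := by rw [h4]; exact hds
    rw [h3.wey.iso d0 hd0 s0 s0_mem] at hds'
    obtain ⟨j, rfl⟩ := k_c d0 hd0 hd2 hds'
    have h1 := typ w0 hw0 a (keyD hs h2 ha) j u
    have h5 := h3.wey.act (rv j) (rv_mem j) (κ * a * u)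
    have h6 : w s (rv j) = s + w s (rc j) := by
      show w s (s0 + rc j) = _
      rw [h3.wey.add, h4]
    have h7 := h3.wey.act (rc j) (rc_mem j) u
    rw [h6] at h5
    calc k s * w0 * (k s)⁻¹ * E (w s (rc j)) u * (k s * w0 * (k s)⁻¹)⁻¹
        = k s * w0 * (k s)⁻¹ * (k s * E (rc j) u * (k s)⁻¹) * (k s * w0 * (k s)⁻¹)⁻¹ := by rw [h7]
      _ = k s * (w0 * E (rc j) u * w0⁻¹) * (k s)⁻¹ := by group
      _ = (k s * E (rv j) (κ * a * u) * (k s)⁻¹) * (k s * E (rc j) u * (k s)⁻¹) := by rw [h1]; group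
      _ = _ := by rw [h5, h7]
  · intro s hs h2 a ha g hg
    have h3 := WK.of_nE H.chart H.tE H.torN ha
    obtain ⟨w', h5, h6, h7⟩ := h3.inv
    have hs' := h3.wey.mem s hs
    have h2' : B (rfl' a s) (rfl' a s) = 2 := by rw [k_rs a ha s hs, h2]
    refine heqv s hs h2 _ hs' h2' _ h3.kt h3.tor (fun x => ⟨fun hx => h3.XE H.chart hs hx, fun hx => ?_⟩)
      (fun x => ⟨fun hx => h3.PT H.chart hs hx, fun hx => ?_⟩) g hg
    · have := h5.XE H.chart hs' hx
      rw [h6, inv_inv] at this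
      rwa [show (nE E a)⁻¹ * (nE E a * x * (nE E a)⁻¹) * nE E a = x by group] at this
    · have := h5.PT H.chart hs' hx
      rw [h6, inv_inv] at this
      rwa [show (nE E a)⁻¹ * (nE E a * x * (nE E a)⁻¹) * nE E a = x by group] at this

end Base

/-! ### Frames -/

section Frame

universe u

variable {F : Type u} [Field F] [Finite F] {G : Type*} [Group G] [Finite G] {E : (Fin 4 → ℤ) → F → ↥(chevF4.group F)}
  {T : (Fin 4 → Fˣ) →* ↥(chevF4.group F)} {t : G} {f : ↥(chevF4.group F) →* G}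

theorem base_of (C : KC E T) (R : Frame t f)
    (torN : ∀ a ∈ rts, ∀ ν, ∃ ν', nE E a * T ν * (nE E a)⁻¹ = T ν') : Base t (fun a u => f (E a u)) (f.comp T) := by
  have C' := C.chart.map f R.inj
  have D := gdata C R
  have hPT : Loc.Pt (fun u => f (E s0 u)) (fun j u => f (E (rv j) u)) (fun i u => f (E (rz i) u))
      (fun j k u => f (E (rl j k) u)) (f.comp (T.comp consH)) = PT (fun a u => f (E a u)) (f.comp T) s0 := by
    rw [← T_eq C']
    rfl
  refine ⟨C', R.tt, fun a ha u => (R.ft _).symm, fun ν => (R.ft _).symm, ?_, ?_⟩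
  · intro a ha ν
    obtain ⟨ν', h⟩ := torN a ha ν
    refine ⟨ν', ?_⟩
    have h1 : nE (fun a u => f (E a u)) a = f (nE E a) := by
      unfold nE
      rw [map_mul, map_mul]
    rw [h1]
    show f (nE E a) * f (T ν) * (f (nE E a))⁻¹ = f (T ν')
    rw [← h, map_mul, map_mul, map_inv]
  · intro g hg hp
    rw [← hPT] at hp
    exact D.cP g hg hp

theorem Base.tor_PT {G : Type*} [Group G] {E : (Fin 4 → ℤ) → F → G} {T : (Fin 4 → Fˣ) →* G} {t : G}
    (H : Base t E T) (s : Fin 4 → ℤ) (ν : Fin 4 → Fˣ) {p : G} (hp : p ∈ PT E T s) : T ν * p * (T ν)⁻¹ ∈ PT E T s := by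
  have hle : PT E T s ≤ (PT E T s).comap (MulAut.conj (T ν)).toMonoidHom := by
    rw [PT, closure_le]
    rintro g (⟨a, ha, hc, u, rfl⟩ | ⟨ν', hν', rfl⟩)
    · show T ν * E a u * (T ν)⁻¹ ∈ PT E T s
      rw [H.chart.tor a ha]
      exact _root_.Subgroup.subset_closure (Or.inl ⟨a, ha, hc, _, rfl⟩)
    · show T ν * T ν' * (T ν)⁻¹ ∈ PT E T s
      rw [← map_mul, mul_comm, map_mul, mul_inv_cancel_right]
      exact _root_.Subgroup.subset_closure (Or.inr ⟨ν', hν', rfl⟩)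
  exact hle hp

theorem Base.nice {G : Type*} [Group G] {E : (Fin 4 → ℤ) → F → G} {T : (Fin 4 → Fˣ) →* G} {t : G}
    (H : Base t E T) (ν : Fin 4 → Fˣ) (μ : Fˣ) : D7Ex.Nice t (XE E s0) (PT E T s0) (T (oneH μ)) (T ν) := by
  refine ⟨(H.tT ν).symm, fun x => ⟨fun hx => H.tor_X s0_mem ν hx, fun hx => ?_⟩,
    fun p => ⟨fun hp => H.tor_PT s0 ν hp, fun hp => ?_⟩, ?_⟩
  · have := H.tor_X s0_mem ν⁻¹ hx
    rw [map_inv, inv_inv] at this
    rwa [show (T ν)⁻¹ * (T ν * x * (T ν)⁻¹) * T ν = x by group] at this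
  · have := H.tor_PT s0 ν⁻¹ hp
    rw [map_inv, inv_inv] at this
    rwa [show (T ν)⁻¹ * (T ν * p * (T ν)⁻¹) * T ν = p by group] at this
  · rw [← map_mul, mul_comm ν, map_mul, mul_inv_cancel_right, mul_inv_cancel]
    exact one_mem _

/-- **The doubled root groups of a frame.** -/
theorem exists_dbs_frame (C : KC E T) (R : Frame t f)
    (torN : ∀ a ∈ rts, ∀ ν, ∃ ν', nE E a * T ν * (nE E a)⁻¹ = T ν')
    (hM : Fusion.Moved t (XE (fun a u => f (E a u)) s0)) :
    ∃ W κ c0, Dbs t (fun a u => f (E a u)) (f.comp T) W κ c0 := by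
  have C' := C.chart.map f R.inj
  have L' : Loc (fun u => f (E s0 u)) (fun j u => f (E (rv j) u)) (fun i u => f (E (rz i) u))
    (fun j u => f (E (rc j) u)) (fun j k u => f (E (rl j k) u)) (f.comp (T.comp consH)) := C'.loc
  have hPT : Loc.Pt (fun u => f (E s0 u)) (fun j u => f (E (rv j) u)) (fun i u => f (E (rz i) u))
      (fun j k u => f (E (rl j k) u)) (f.comp (T.comp consH)) = PT (fun a u => f (E a u)) (f.comp T) s0 := by
    rw [← T_eq C']
    rfl
  have H := base_of C R torN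
  obtain ⟨n, hn1, hn2, hn3, hn4⟩ := hM
  obtain ⟨μ, W0, κ, c0, hW, hN⟩ := L'.exists_W (gdata C R) (n := n) hn1 hn2 hn3 hn4
  obtain ⟨dbl, comm, sq, typ, -⟩ := hW
  rw [hPT] at dbl
  have hN' : ∀ ν, ∀ w ∈ W0, (f.comp T) ν * w * ((f.comp T) ν)⁻¹ ∈ W0 := by
    intro ν w hw
    refine hN _ ?_ w hw
    rw [hPT]
    exact H.nice ν μ
  obtain ⟨W, hD⟩ := H.exists_dbs (W0 := W0) (κ := κ) (c0 := c0) dbl comm sq typ hN'
    (fun a _ u h => R.not_mem_range C.cen _ h.symm)
  exact ⟨W, κ, c0, hD⟩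

open Cfsg.Agent.KFacts.F4Pair (eF)

variable [CharP F 2]

theorem XE_eq_XG {δ : (Fin 4 → ℤ) → (Fin 4 → ℤ)} (h : Tw δ E) (C : Chart E T) (R : Frame t f) {a : Fin 4 → ℤ} (ha : a ∈ rts) :
    XE (fun a u => f (E a u)) a = XG f (δ a) := by
  ext x
  rw [(C.map f R.inj).mem_XE ha]
  constructor
  · rintro ⟨u, rfl⟩
    exact ⟨E a u, (h.X a ha _).2 ⟨u, rfl⟩, rfl⟩
  · rintro ⟨y, hy, rfl⟩
    obtain ⟨u, rfl⟩ := (h.X a ha y).1 hy
    exact ⟨u, rfl⟩

/-- **The short root groups.** -/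
theorem dbs_short (hq : ∃ μ : Fˣ, μ ≠ 1) (R : Frame t f) (hM : Fusion.Moved t (XG f s0)) :
    ∃ W κ c0, Dbs t (fun a u => f (eF F a u)) (f.comp TH) W κ c0 := by
  refine exists_dbs_frame (kc_short hq) R (fun a ha ν => TH_norm hq ha ν) ?_
  rw [XE_eq_XG tw_id (chartY hq) R s0_mem]
  exact hM

/-- **The long root groups.** -/
theorem dbs_long (hq : ∃ μ : Fˣ, μ ≠ 1) {rt : F ≃+* F} (hrt : ∀ u, rt u ^ 2 = u) (R : Frame t f)
    (hM : Fusion.Moved t (XG f (dual s0))) :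
    ∃ W κ c0, Dbs t (fun a u => f (dualE rt (eF F) a u)) (f.comp (TH.comp (dualH rt))) W κ c0 := by
  refine exists_dbs_frame (kc_long hq rt hrt) R (fun a ha ν => TH_norm_dual hq hrt ha ν) ?_
  rw [XE_eq_XG (tw_dual rt) (Chart.dual rt hrt (chartY hq)) R s0_mem]
  exact hM

end Frame

end Cfsg.Agent.OddHalf.D7F4Ex

end

-- merged: Cfsg.Agent.OddHalf.D7F4Ex.XOf
section

/-!
# Root groups of a chart after a relabelling
-/

set_option autoImplicit false

namespace Cfsg.Agent.OddHalf.D7F4Ex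

open Cfsg.Agent.OddHalf.D7F4.Model

/-- `X (d a) = {E a u}` -/
def XOf {F : Type*} {G : Type*} [Group G] (d : (Fin 4 → ℤ) → (Fin 4 → ℤ)) (E : (Fin 4 → ℤ) → F → G)
    (X : (Fin 4 → ℤ) → Subgroup G) : Prop :=
  ∀ a ∈ rts, ∀ g, g ∈ X (d a) ↔ ∃ u, E a u = g

end Cfsg.Agent.OddHalf.D7F4Ex

end

-- merged: Cfsg.Agent.OddHalf.D7F4Ex.DbsTy
section

/-!
# Types and torus of the doubled root groups, both charts
-/

set_option autoImplicit false
set_option linter.unusedSectionVars false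

namespace Cfsg.Agent.OddHalf.D7F4Ex

open Subgroup Cfsg.Lie Cfsg.Agent.OddHalf.D7F4 Cfsg.Agent.OddHalf.D7F4.Model Cfsg.Agent.OddHalf.D7F4.TypeCModel

variable {F : Type*} [Field F] {G : Type*} [Group G] {t : G} {E : (Fin 4 → ℤ) → F → G} {T : (Fin 4 → Fˣ) →* G}
  {W X : (Fin 4 → ℤ) → Subgroup G} {κ c0 : F}

namespace Dbs

variable (D : Dbs t E T W κ c0)

include D

theorem exists_a {s : Fin 4 → ℤ} (hs : s ∈ rts) (h2 : B s s = 2) {w : G} (hw : w ∈ W s) :
    ∃ a, w⁻¹ * (t * w * t) = E s a := by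
  obtain ⟨a, ha⟩ := (D.chart.mem_XE hs).1 ((D.dbl s hs h2).brk w hw)
  exact ⟨a, ha.symm⟩

theorem mem_of_zero {s : Fin 4 → ℤ} (hs : s ∈ rts) (h2 : B s s = 2) {w : G} (hw : w ∈ W s)
    (h : w⁻¹ * (t * w * t) = E s 0) : ∃ u, E s u = w := by
  refine (D.chart.mem_XE hs).1 ((D.dbl s hs h2).cent w hw ?_)
  rw [D.chart.zero hs, inv_mul_eq_one] at h
  have ht : t⁻¹ = t := inv_eq_of_mul_eq_one_left D.tt
  calc t * w = t * w * t * t⁻¹ := by group
    _ = w * t := by rw [← h, ht]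

/-- type C -/
theorem commC (h0 : κ = 0) {s d : Fin 4 → ℤ} (hs : s ∈ rts) (hd : d ∈ rts) (h2 : B s s = 2) (h2' : B d d = 2)
    (h3 : B s d = 0) (hsd : s + d ∈ rts) {w : G} (hw : w ∈ W s) (u : F) : w * E d u = E d u * w := by
  obtain ⟨a, ha⟩ := D.exists_a hs h2 hw
  have h4 := D.typ s hs h2 w hw a ha d hd h2' (by rw [B_symm]; exact h3) u
  rw [h0, zero_mul, zero_mul, D.chart.zero hsd, one_mul] at h4
  exact mul_inv_eq_iff_eq_mul.1 h4

/-- type O -/
theorem commO (h0 : κ ≠ 0) {s d : Fin 4 → ℤ} (hs : s ∈ rts) (hd : d ∈ rts) (h2 : B s s = 2) (h2' : B d d = 2)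
    (h3 : B s d = 0) (hsd : s + d ∈ rts) {w : G} (hw : w ∈ W s) (hwx : ¬ ∃ u, E s u = w) {u : F} (hu : u ≠ 0) :
    w * E d u ≠ E d u * w := by
  obtain ⟨a, ha⟩ := D.exists_a hs h2 hw
  have h4 := D.typ s hs h2 w hw a ha d hd h2' (by rw [B_symm]; exact h3) u
  intro h
  rw [h, mul_inv_cancel_right] at h4
  have h5 : E (s + d) (κ * a * u) = 1 := (mul_eq_right.1 h4.symm)
  have h6 := D.chart.inj _ hsd _ h5
  rcases mul_eq_zero.1 h6 with h7 | h7
  · rcases mul_eq_zero.1 h7 with h8 | h8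
    · exact h0 h8
    · exact hwx (D.mem_of_zero hs h2 hw (h8 ▸ ha))
  · exact hu h7

/-- `T ν` centralising `X_s` centralises `W_s`. -/
theorem torHX {s : Fin 4 → ℤ} (hs : s ∈ rts) (h2 : B s s = 2) {ν : Fin 4 → Fˣ}
    (h : ∀ u, T ν * E s u = E s u * T ν) {w : G} (hw : w ∈ W s) : T ν * w = w * T ν := by
  have h1 : chd ν s = 1 := by
    apply Units.ext
    apply D.chart.eq_of hs
    have h3 := D.chart.tor s hs ν 1
    rw [h 1, mul_inv_cancel_right, mul_one] at h3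
    rw [← h3, Units.val_one]
  exact ((D.dbl s hs h2).WP w hw _ (_root_.Subgroup.subset_closure (Or.inr ⟨ν, h1, rfl⟩))).symm

end Dbs

theorem k_sum : ∀ s ∈ rts, ∀ d ∈ rts, B s s = 2 → B d d = 2 → B s d = 0 → s + d ∈ rts := by (delta Cfsg.Agent.OddHalf.D7F4.Model.B; set_option synthInstance.maxSize 100000 in exact Cfsg.Agent.Lib.Refl.of (by decide +kernel))
theorem k_dual0 : ∀ s ∈ rts, ∀ d ∈ rts, B s s = 4 → B d d = 4 → B s d = 0 → B (dual s) (dual d) = 0 := by
  (delta Cfsg.Agent.OddHalf.D7F4.Model.B Cfsg.Agent.OddHalf.D7F4.Model.dual Cfsg.Agent.OddHalf.D7F4.Model.tau; set_option synthInstance.maxSize 100000 in exact Cfsg.Agent.Lib.Refl.of (by decide +kernel))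

/-- **The type of the short root groups.** -/
theorem Dbs.ty_short (D : Dbs t E T W κ c0) (hX : XOf (fun a => a) E X) : TyC X W 2 ∨ TyO X W 2 := by
  by_cases h0 : κ = 0
  · left
    intro a ha d hd h2 h2' h3 w hw x hx
    obtain ⟨u, rfl⟩ := (hX d hd x).1 hx
    exact D.commC h0 ha hd h2 h2' h3 (k_sum a ha d hd h2 h2' h3) hw u
  · right
    intro a ha d hd h2 h2' h3 w hw hwx x hx hx1
    obtain ⟨u, rfl⟩ := (hX d hd x).1 hx
    refine D.commO h0 ha hd h2 h2' h3 (k_sum a ha d hd h2 h2' h3) hw (fun h => hwx ((hX a ha w).2 h)) ?_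
    rintro rfl
    exact hx1 (D.chart.zero hd)

theorem XOf.dual (hX : XOf Model.dual E X) {a : Fin 4 → ℤ} (ha : a ∈ rts) (g : G) :
    g ∈ X a ↔ ∃ u, E (Model.dual a) u = g := by
  have h := hX (Model.dual a) (dual_mem a ha) g
  rwa [dual_dual a ha] at h

/-- **The type of the long root groups.** -/
theorem Dbs.ty_long (D : Dbs t E T W κ c0) (hX : XOf Model.dual E X) :
    TyC X (fun a => W (Model.dual a)) 4 ∨ TyO X (fun a => W (Model.dual a)) 4 := by
  by_cases h0 : κ = 0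
  · left
    intro a ha d hd h2 h2' h3 w hw x hx
    obtain ⟨u, rfl⟩ := (hX.dual hd x).1 hx
    exact D.commC h0 (dual_mem a ha) (dual_mem d hd) (dn4 a ha h2) (dn4 d hd h2') (k_dual0 a ha d hd h2 h2' h3)
      (k_sum _ (dual_mem a ha) _ (dual_mem d hd) (dn4 a ha h2) (dn4 d hd h2') (k_dual0 a ha d hd h2 h2' h3)) hw u
  · right
    intro a ha d hd h2 h2' h3 w hw hwx x hx hx1
    obtain ⟨u, rfl⟩ := (hX.dual hd x).1 hx
    refine D.commO h0 (dual_mem a ha) (dual_mem d hd) (dn4 a ha h2) (dn4 d hd h2') (k_dual0 a ha d hd h2 h2' h3)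
      (k_sum _ (dual_mem a ha) _ (dual_mem d hd) (dn4 a ha h2) (dn4 d hd h2') (k_dual0 a ha d hd h2 h2' h3)) hw
      (fun h => hwx ((hX.dual ha w).2 h)) ?_
    rintro rfl
    exact hx1 (D.chart.zero (dual_mem d hd))

/-- **The torus on the short root groups.** -/
theorem Dbs.torN_short (D : Dbs t E T W κ c0) (hX : XOf (fun a => a) E X) : TorN X W T.range 2 where
  HW := by
    rintro _ ⟨ν, rfl⟩ a ha h2 w hw
    exact D.torW a ha h2 ν w hw
  HX := by
    rintro _ ⟨ν, rfl⟩ a ha h2 h w hw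
    exact D.torHX ha h2 (fun u => h _ ((hX a ha _).2 ⟨u, rfl⟩)) hw

/-- **The torus on the long root groups.** -/
theorem Dbs.torN_long (D : Dbs t E T W κ c0) (hX : XOf Model.dual E X) :
    TorN X (fun a => W (Model.dual a)) T.range 4 where
  HW := by
    rintro _ ⟨ν, rfl⟩ a ha h2 w hw
    exact D.torW _ (dual_mem a ha) (dn4 a ha h2) ν w hw
  HX := by
    rintro _ ⟨ν, rfl⟩ a ha h2 h w hw
    exact D.torHX (dual_mem a ha) (dn4 a ha h2) (fun u => h _ ((hX.dual ha _).2 ⟨u, rfl⟩)) hw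

/-! ### Frames -/

section Frame

open Cfsg.Agent.KFacts.F4Pair (eF) 
open Cfsg.Agent.KFacts.F4Torus (TF)

universe u

variable {F : Type u} [Field F] [Finite F] [CharP F 2] {G : Type*} [Group G] {f : ↥(chevF4.group F) →* G}

theorem xof_short (f : ↥(chevF4.group F) →* G) : XOf (fun a => a) (fun a u => f (eF F a u)) (XG f) := by
  intro a ha g
  constructor
  · rintro ⟨y, hy, rfl⟩
    obtain ⟨u, rfl⟩ := (tw_id.X a ha y).1 hy
    exact ⟨u, rfl⟩
  · rintro ⟨u, rfl⟩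
    exact ⟨_, (tw_id.X a ha _).2 ⟨u, rfl⟩, rfl⟩

theorem xof_long (rt : F ≃+* F) (f : ↥(chevF4.group F) →* G) :
    XOf Model.dual (fun a u => f (dualE rt (eF F) a u)) (XG f) := by
  intro a ha g
  constructor
  · rintro ⟨y, hy, rfl⟩
    obtain ⟨u, rfl⟩ := ((tw_dual rt).X a ha y).1 hy
    exact ⟨u, rfl⟩
  · rintro ⟨u, rfl⟩
    exact ⟨_, ((tw_dual rt).X a ha _).2 ⟨u, rfl⟩, rfl⟩

theorem range_short (f : ↥(chevF4.group F) →* G) : (f.comp (TH (F := F))).range = (TF F).map f := by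
  rw [MonoidHom.range_comp, range_TH]

theorem range_long {rt : F ≃+* F} (hrt : ∀ u, rt u ^ 2 = u) (f : ↥(chevF4.group F) →* G) :
    (f.comp (TH.comp (dualH (F := F) rt))).range = (TF F).map f := by
  rw [MonoidHom.range_comp, range_TH_dual hrt]

end Frame

end Cfsg.Agent.OddHalf.D7F4Ex

end

-- merged: Cfsg.Agent.OddHalf.D7F4Ex.DbsOut
section

/-!
# The doubled root groups of a chart in the form of `D7F4.Dual`, `D7F4.TypeCModel` (S1765, node D7; F4)

* `Dbs.ws`, `Dbs.wl` : `Dbs` with `c0 = 0` gives `WS`, `WL`;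
* `ws_XG`, `wl_XG` : the same for the root groups `XG f`.
-/

set_option autoImplicit false

namespace Cfsg.Agent.OddHalf.D7F4Ex

open Cfsg.Agent.OddHalf.D7F4 Cfsg.Agent.OddHalf.D7F4.Model Cfsg.Agent.OddHalf.D7F4.TypeCModel

variable {F : Type*} [Field F] {G : Type*} [Group G]

section

variable {t : G} {E : (Fin 4 → ℤ) → F → G} {T : (Fin 4 → Fˣ) →* G} {W X : (Fin 4 → ℤ) → Subgroup G} {κ c0 : F}

namespace Dbs

/-- the commutator with `t` -/
theorem exists_D (D : Dbs t E T W κ c0) {s : Fin 4 → ℤ} (hs : s ∈ rts) (h2 : B s s = 2) {w : G} (hw : w ∈ W s) :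
    ∃ a, w⁻¹ * (t * w * t) = E s a := by
  obtain ⟨a, ha⟩ := (D.chart.mem_XE hs).1 ((D.dbl s hs h2).brk w hw)
  exact ⟨a, ha.symm⟩

/-- `W s` commutes with the root elements of `P~_s`. -/
theorem comm_E (D : Dbs t E T W κ c0) {s : Fin 4 → ℤ} (hs : s ∈ rts) (h2 : B s s = 2) {w : G} (hw : w ∈ W s)
    {a : Fin 4 → ℤ} (ha : a ∈ rts) (h : Cs s a) (u : F) : w * E a u = E a u * w :=
  (D.dbl s hs h2).WP w hw _ (Subgroup.subset_closure (Or.inl ⟨a, ha, h, u, rfl⟩))

/-- the commutator with a short root element at 90 degrees -/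
theorem typ' (D : Dbs t E T W κ c0) {s : Fin 4 → ℤ} (hs : s ∈ rts) (h2 : B s s = 2) {w : G} (hw : w ∈ W s) {a' : F}
    (ha' : w⁻¹ * (t * w * t) = E s a') {d : Fin 4 → ℤ} (hd : d ∈ rts) (h2' : B d d = 2) (h0 : B d s = 0) (u : F) :
    w * E d u * w⁻¹ * (E d u)⁻¹ = E (s + d) (κ * a' * u) := by
  rw [D.typ s hs h2 w hw a' ha' d hd h2' h0 u, mul_inv_cancel_right]

theorem sq_zero (D : Dbs t E T W κ 0) {s : Fin 4 → ℤ} (hs : s ∈ rts) (h2 : B s s = 2) {w : G} (hw : w ∈ W s) :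
    w * w = 1 := by
  obtain ⟨a, ha⟩ := D.exists_D hs h2 hw
  rw [D.sq s hs h2 w hw a ha, zero_mul]
  have h := D.chart.add s hs 0 0
  rw [add_zero] at h
  exact (mul_eq_left.1 h.symm)

/-- **The short root groups.** -/
theorem ws (D : Dbs t E T W κ 0) (hX : XOf (fun a => a) E X) : WS t X W := by
  have hE : ∀ s ∈ rts, ∀ g, g ∈ XE E s ↔ g ∈ X s := fun s hs g => by
    rw [D.chart.mem_XE hs]; exact (hX s hs g).symm
  refine ⟨fun s hs h2 x hx => (D.dbl s hs h2).XW ((hE s hs x).2 hx), fun s hs h2 w hw => D.sq_zero hs h2 hw,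
    fun s hs h2 w hw => (hE s hs _).1 ((D.dbl s hs h2).brk w hw),
    fun s hs h2 w hw h => (hE s hs _).1 ((D.dbl s hs h2).cent w hw h),
    fun s hs h2 x hx => (D.dbl s hs h2).surj x ((hE s hs x).2 hx), ?_, ?_⟩
  · intro s hs h2 a ha h w hw x hx
    obtain ⟨u, rfl⟩ := (hX a ha x).1 hx
    exact D.comm_E hs h2 hw ha h u
  · intro s hs h2 a ha h2' h0 w hw x hx
    obtain ⟨u, rfl⟩ := (hX a ha x).1 hx
    obtain ⟨a', ha'⟩ := D.exists_D hs h2 hw
    rw [D.typ' hs h2 hw ha' ha h2' h0 u]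
    exact (hX (s + a) (add0 s hs a ha h2 h2' (by rw [B_symm]; exact h0)) _).2 ⟨_, rfl⟩

/-- **The long root groups.** -/
theorem wl (D : Dbs t E T W κ 0) (hX : XOf dual E X) : WL t X (fun a => W (dual a)) := by
  have hX' : ∀ s ∈ rts, ∀ g, g ∈ X s ↔ ∃ u, E (dual s) u = g := fun s hs g => by
    have h := hX (dual s) (dual_mem s hs) g
    rwa [dual_dual s hs] at h
  have hE : ∀ s ∈ rts, ∀ g, g ∈ XE E (dual s) ↔ g ∈ X s := fun s hs g => by
    rw [D.chart.mem_XE (dual_mem s hs)]; exact (hX' s hs g).symm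
  refine ⟨fun s hs h2 x hx => (D.dbl _ (dual_mem s hs) (dn4 s hs h2)).XW ((hE s hs x).2 hx),
    fun s hs h2 w hw => D.sq_zero (dual_mem s hs) (dn4 s hs h2) hw,
    fun s hs h2 w hw => (hE s hs _).1 ((D.dbl _ (dual_mem s hs) (dn4 s hs h2)).brk w hw),
    fun s hs h2 w hw h => (hE s hs _).1 ((D.dbl _ (dual_mem s hs) (dn4 s hs h2)).cent w hw h),
    fun s hs h2 x hx => (D.dbl _ (dual_mem s hs) (dn4 s hs h2)).surj x ((hE s hs x).2 hx), ?_, ?_⟩
  · intro s hs h2 a ha h w hw x hx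
    obtain ⟨u, rfl⟩ := (hX' a ha x).1 hx
    refine D.comm_E (dual_mem s hs) (dn4 s hs h2) hw (dual_mem a ha) ?_ u
    obtain ⟨h3, h4, -, -⟩ := dS a ha (dual s) (dual_mem s hs) (dn4 s hs h2)
    rw [dual_dual s hs] at h3 h4
    rcases h with h | h
    · exact Or.inl (h3 h)
    · exact Or.inr (h4 h)
  · intro s hs h2 a ha h2' h0 m hm hmm w hw x hx
    obtain ⟨u, rfl⟩ := (hX' a ha x).1 hx
    obtain ⟨a', ha'⟩ := D.exists_D (dual_mem s hs) (dn4 s hs h2) hw
    have h5 : B (dual s) (dual a) = 0 := by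
      have := dual_ll s hs a ha h2 h2'
      rw [B_symm a s] at h0
      omega
    rw [D.typ' (dual_mem s hs) (dn4 s hs h2) hw ha' (dual_mem a ha) (dn4 a ha h2') (by rw [B_symm]; exact h5) u]
    have h6 : m = dual (dual s + dual a) := dmid _ (dual_mem s hs) _ (dual_mem a ha) (dn4 s hs h2) (dn4 a ha h2') h5 m hm
      (by rw [dual_dual s hs, dual_dual a ha]; exact hmm)
    rw [h6]
    exact (hX _ (add0 _ (dual_mem s hs) _ (dual_mem a ha) (dn4 s hs h2) (dn4 a ha h2') h5) _).2 ⟨_, rfl⟩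

end Dbs

end

/-! ### The root groups of `K` -/

section XG

open Cfsg.Lie Cfsg.Agent.KFacts.F4Pair

universe u

variable {F : Type u} [Field F] [Finite F] [CharP F 2] {G : Type*} [Group G] {t : G} {f : ↥(chevF4.group F) →* G}
  {W : (Fin 4 → ℤ) → Subgroup G} {κ : F}

/-- **The short root groups of `K`.** -/
theorem ws_XG (D : Dbs t (fun a u => f (eF F a u)) (f.comp TH) W κ 0) : WS t (XG f) W := D.ws (xof_short f)

/-- **The long root groups of `K`.** -/
theorem wl_XG {rt : F ≃+* F} (D : Dbs t (fun a u => f (dualE rt (eF F) a u)) (f.comp (TH.comp (dualH rt))) W κ 0) :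
    WL t (XG f) (fun a => W (dual a)) := D.wl (xof_long rt f)

end XG

end Cfsg.Agent.OddHalf.D7F4Ex

end

-- merged: Cfsg.Agent.OddHalf.D7F4.Row
section

/-!
# K = F4(q), q ≥ 4 even: the row of the node D7 (S1765; helper84)

`Row.node : Node @FamF4'`.
-/

set_option autoImplicit false
set_option Elab.async false
set_option linter.unusedSectionVars false

namespace Cfsg.Agent.OddHalf.D7F4.Row

open Subgroup Cfsg.Lie
open Cfsg.Agent.ChevalleyStructure Cfsg.Agent.ChevalleyStructure.Elts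
open Cfsg.Agent.KFacts.ChevTwoTab Cfsg.Agent.KFacts.ChevTwoInst Cfsg.Agent.KFacts.F4Pair
  Cfsg.Agent.KFacts.F4Torus Cfsg.Agent.KFacts.F4Cent
open Cfsg.Agent.OddHalf.D7F4 Cfsg.Agent.OddHalf.D7F4.Model Cfsg.Agent.OddHalf.D7F4.FrOut
  Cfsg.Agent.OddHalf.D7F4.Fusion Cfsg.Agent.OddHalf.D7F4.Adapted Cfsg.Agent.OddHalf.D7F4.KFront
  Cfsg.Agent.OddHalf.D7F4Ex Cfsg.Agent.OddHalf.D7F4.TypeCModel Cfsg.Agent.OddHalf.D7.Cases
  Cfsg.Agent.OddHalf.Iface

universe u v

/-- the square root -/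
theorem exists_rt (F : Type v) [Field F] [Finite F] [CharP F 2] : ∃ rt : F ≃+* F, ∀ u, rt u ^ 2 = u := by
  have : Fact (Nat.Prime 2) := ⟨Nat.prime_two⟩
  have : ExpChar F 2 := inferInstance
  have : PerfectRing F 2 := inferInstance
  exact ⟨(frobeniusEquiv F 2).symm, fun u => frobeniusEquiv_symm_pow_p F 2 u⟩

variable {G : Type u} [Group G] {F : Type v} [Field F] [Finite F] [CharP F 2] {f : ↥(chevF4.group F) →* G} {t g : G}
  {T : Subgroup G}

/-! ### The centraliser of the common part of two parabolic subgroups -/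

theorem tabK1 : ∀ s ∈ rts, ∀ s' ∈ rts, B s s = 2 → B s' s' = 2 → B s s' = 1 →
    B (dual s) (dual s') = 2 := by (delta Cfsg.Agent.OddHalf.D7F4.Model.B Cfsg.Agent.OddHalf.D7F4.Model.dual Cfsg.Agent.OddHalf.D7F4.Model.tau; set_option synthInstance.maxSize 100000 in exact Cfsg.Agent.Lib.Refl.of (by decide +kernel))

theorem tabK2 : ∀ s ∈ rts, ∀ b ∈ rts, B s s = 2 → (B b b = 2 ∧ 0 ≤ B b (dual s) ∨ B b b = 4 ∧ 0 < B b (dual s)) →
    B (dual b) (dual b) = 4 ∧ 0 ≤ B (dual b) s ∨ B (dual b) (dual b) = 2 ∧ 0 < B (dual b) s := by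
  (set_option synthInstance.maxSize 100000 in exact Cfsg.Agent.Lib.Refl.of (by decide +kernel))

theorem k2e_short (hK : KF t (XG f)) : K2E t (fun a u => f (eF F a u)) := by
  intro s hs s' hs' h2 h2' h1 c hc h
  obtain ⟨x, hx, y, hy, z, hz, e⟩ := hK.K2s s hs s' hs' h2 h2' (by omega) (by omega) c hc (fun a ha hP x hx => by
    obtain ⟨u, rfl⟩ := (mem_XG ha).1 hx
    refine h a ha ?_ ?_ u
    · rcases hP with ⟨a1, a2, -⟩ | ⟨a1, a2, -⟩
      · exact Or.inl ⟨a1, a2⟩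
      · exact Or.inr ⟨a1, a2⟩
    · rcases hP with ⟨a1, -, a2⟩ | ⟨a1, -, a2⟩
      · exact Or.inl ⟨a1, a2⟩
      · exact Or.inr ⟨a1, a2⟩)
  obtain ⟨u, rfl⟩ := (mem_XG hs).1 hx
  obtain ⟨u', rfl⟩ := (mem_XG hs').1 hy
  rcases hz with ⟨-, rfl⟩ | ⟨h3, -⟩
  · rw [mul_one] at e
    exact ⟨u, u', e⟩
  · omega

theorem k2e_long (hK : KF t (XG f)) {rt : F ≃+* F} : K2E t (fun a u => f (dualE rt (eF F) a u)) := by
  intro s hs s' hs' h2 h2' h1 c hc h
  have g1 := dual_mem s hs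
  have g2 := dual_mem s' hs'
  have n1 := dn2 s hs h2
  have n2 := dn2 s' hs' h2'
  have n3 := tabK1 s hs s' hs' h2 h2' h1
  obtain ⟨x, hx, y, hy, z, hz, e⟩ := hK.K2l _ g1 _ g2 n1 n2 (by omega) (by omega) c hc (fun b hb hP x hx => by
    obtain ⟨u, rfl⟩ := (mem_XG hb).1 hx
    have hb' := dual_mem b hb
    have c1 : Cs s (dual b) := tabK2 s hs b hb h2 (by
      rcases hP with ⟨a1, a2, -⟩ | ⟨a1, a2, -⟩
      · exact Or.inl ⟨a1, a2⟩
      · exact Or.inr ⟨a1, a2⟩)
    have c2 : Cs s' (dual b) := tabK2 s' hs' b hb h2' (by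
      rcases hP with ⟨a1, -, a2⟩ | ⟨a1, -, a2⟩
      · exact Or.inl ⟨a1, a2⟩
      · exact Or.inr ⟨a1, a2⟩)
    rcases _root_.Cfsg.Agent.OddHalf.D7F4.Model.norm _ hb' with h3 | h3
    · have h4 := h _ hb' c1 c2 u
      simp only [dualE_short rt h3, dual_dual b hb] at h4
      exact h4
    · have h4 := h _ hb' c1 c2 (rt.symm u)
      simp only [dualE_long rt h3, dual_dual b hb, RingEquiv.apply_symm_apply] at h4
      exact h4)
  obtain ⟨u, rfl⟩ := (mem_XG g1).1 hx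
  obtain ⟨u', rfl⟩ := (mem_XG g2).1 hy
  refine ⟨u, u', ?_⟩
  simp only [dualE_short rt h2, dualE_short rt h2']
  rcases hz with ⟨-, rfl⟩ | ⟨h3, -⟩ | ⟨h3, -⟩
  · rw [mul_one] at e
    exact e
  · omega
  · omega

/-- **One of the two lengths is moved.** -/
theorem not_mem [Finite G] (hF : 2 < Nat.card F) (O : FrO t f T g)
    (hm : Moved t (XG f (v 47)) ∨ Moved t (XG f (v 44))) : t ∉ _root_.commutator G := by
  have hq := RowOne.exists_unit (F := F) hF
  obtain ⟨rt, hrt⟩ := exists_rt F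
  have kf := KInst.kf O.R KInst.innerX hF
  have h44 : v 44 = s0 := by rw [RowOne.v44]; decide +kernel
  have h47 : v 47 = dual s0 := by rw [RowOne.v47]; decide +kernel
  by_cases h1 : Moved t (XG f (v 47))
  · have h1' := h1
    rw [h47] at h1'
    obtain ⟨W2, κ2, c2, D2⟩ := dbs_long hq hrt O.R h1'
    have h0 := D2.c0_eq (k2e_long kf)
    subst h0
    have wl : WL t (XG f) (fun a => W2 (dual a)) := wl_XG D2
    by_cases h2 : Moved t (XG f (v 44))
    · have h2' := h2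
      rw [h44] at h2'
      obtain ⟨W1, κ1, c1, D1⟩ := dbs_short hq O.R h2'
      have h0 := D1.c0_eq (k2e_short kf)
      subst h0
      have ws : WS t (XG f) W1 := ws_XG D1
      have n1 : TorN (XG f) W1 ((TF F).map f) 2 := by
        rw [← range_short f]; exact D1.torN_short (xof_short f)
      have n2 : TorN (XG f) (fun a => W2 (dual a)) ((TF F).map f) 4 := by
        rw [← range_long hrt f]; exact D2.torN_long (xof_long rt f)
      exact RowCC.row hF O kf (KInst.kg O.R KInst.innerX)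
        (wc_comb kf (TypeCInst.kt O.R hF) ws wl n1 n2 (D1.ty_short (xof_short f)) (D2.ty_long (xof_long rt f)))
        (TorW.comb n1 n2)
    · exact RowOne.row_long hF O rt hrt D2 wl h1 h2
  · have h2 := hm.resolve_left h1
    have h2' := h2
    rw [h44] at h2'
    obtain ⟨W1, κ1, c1, D1⟩ := dbs_short hq O.R h2'
    have h0 := D1.c0_eq (k2e_short kf)
    subst h0
    exact RowOne.row_short hF O D1 (ws_XG D1) h2 h1

/-- **The row.** -/
theorem node : Node.{u} @FamF4'.{u} := by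
  refine StartF4.node_of fun G _ _ F _ _ _ hF hG _ t f T _ S => ?_
  obtain ⟨s, -, g, O, -, hX⟩ := exists_frO hF S.frame S.fr.pT S.fr.tc S.fr.max (by rw [S.fr.U_eq]; exact inf_le_left)
  have h : t ∉ _root_.commutator G := by
    refine not_mem hF O ?_
    rw [RowOne.v47, RowOne.v44, hX _ Lead.ρ_mem, hX _ Lead.σ_mem, ← RowOne.v47, ← RowOne.v44]
    exact S.moved
  rw [hG] at h
  exact h (Subgroup.mem_top t)

end Cfsg.Agent.OddHalf.D7F4.Row

end
end

private theorem dce_bb3d4b690c38 : _root_.True := by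
  try have : _root_.True := by simp only [_root_.Cfsg.Agent.OddHalf.D7F4Ex.TH.congr_simp]
  try have : _root_.True := by simp only [_root_.Cfsg.Agent.OddHalf.D7F4Ex.XE.eq_1]
  try have : _root_.True := by simp only [_root_.Cfsg.Agent.OddHalf.D7F4.Lead.ρ'.eq_1]
  try have : _root_.True := by simp only [_root_.Cfsg.Agent.OddHalf.D7F4.CCOut.α2.eq_1]
  try have : _root_.True := by simp only [_root_.Cfsg.Agent.OddHalf.D7F4Ex.PT.eq_1]
  try have : _root_.True := by simp only [_root_.Cfsg.Agent.OddHalf.D7F4.Lead.ρ.eq_1]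
  try have : _root_.True := by simp only [_root_.Cfsg.Agent.OddHalf.D7F4.Lead.α3.eq_1]
  exact _root_.True.intro
end

-- part: OddHalf/D4/Small/LFourK_mg
section
prune_inst 0x8000000020000000010c00000405e0001921000000080000a00068024020000880084a001120000200400300048114400000200000000000000011800809000000080080104060089800000000000000000000000000000000000000000000000000
set_option linter.all false
open scoped Cfsg.Agent.FastGrp

-- part: OddHalf/D4/Small/LFourK
section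
-- merged: Cfsg.Agent.OddHalf.D4.Small.LFourRefl
section

/-!
# ODD, D4, small Lie odd: the reflections of `PSL(4, 3)`

For a nonsingular alternating matrix `M` with `M * M = -1` the automorphism `A ↦ M A⁻ᵀ M⁻¹` of `PSL(4, 3)` is a
reflection. For `M = diag(J, J)`: `ρ`, for `M = diag(-J, J)`: `ρ ∘ conj z`.
-/

set_option autoImplicit false

namespace Cfsg.Agent.OddHalf.D4.Small.LFourK

open Matrix
open Cfsg.Agent.KFacts.LFourThree
open Cfsg.Agent.ClassicalGeometry.AutPSL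

abbrev GL4 := GL (Fin 4) F3

/-! ### General lemmas -/

section General

variable {ι F : Type*} [Fintype ι] [DecidableEq ι] [Field F]

/-- `A⁻ᵀ` -/
def tinv (A : GL ι F) : GL ι F where
  val := ((A⁻¹ : GL ι F) : Matrix ι ι F)ᵀ
  inv := (A : Matrix ι ι F)ᵀ
  val_inv := by rw [← transpose_mul, ← Units.val_mul, mul_inv_cancel, Units.val_one, transpose_one]
  inv_val := by rw [← transpose_mul, ← Units.val_mul, inv_mul_cancel, Units.val_one, transpose_one]

theorem coe_tinv (A : GL ι F) : (tinv A : Matrix ι ι F) = ((A⁻¹ : GL ι F) : Matrix ι ι F)ᵀ := rfl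

theorem tinv_mul (A : GL ι F) : (tinv A : Matrix ι ι F) * (A : Matrix ι ι F)ᵀ = 1 := by
  rw [coe_tinv, ← transpose_mul, ← Units.val_mul, mul_inv_cancel, Units.val_one, transpose_one]

theorem itr_cj (A : GL ι F) :
    (Auto.itr * Auto.cj A : MulAut (_root_.Matrix.SpecialLinearGroup ι F)) = Auto.cj (tinv A) * Auto.itr := by
  apply MulEquiv.ext
  intro g
  apply Subtype.ext
  rw [MulAut.mul_apply, MulAut.mul_apply, Auto.coe_itr, Auto.coe_cj, Auto.coe_itr]
  have h1 : (Auto.cj A g)⁻¹ = Auto.cj A g⁻¹ := (map_inv (Auto.cj A) g).symm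
  rw [h1, Auto.coe_cj, transpose_mul, transpose_mul]
  show _ = ((A⁻¹ : GL ι F) : Matrix ι ι F)ᵀ * ((g⁻¹ : _root_.Matrix.SpecialLinearGroup ι F) : Matrix ι ι F)ᵀ *
    (A : Matrix ι ι F)ᵀ
  rw [mul_assoc]

theorem v_mul_inv (A : _root_.Matrix.SpecialLinearGroup ι F) :
    (A : Matrix ι ι F) * ((A⁻¹ : _root_.Matrix.SpecialLinearGroup ι F) : Matrix ι ι F) = 1 :=
  congrArg Subtype.val (mul_inv_cancel A)

theorem v_inv_mul (A : _root_.Matrix.SpecialLinearGroup ι F) :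
    ((A⁻¹ : _root_.Matrix.SpecialLinearGroup ι F) : Matrix ι ι F) * (A : Matrix ι ι F) = 1 :=
  congrArg Subtype.val (inv_mul_cancel A)

/-- `SL` in `GL` -/
def tg (A : _root_.Matrix.SpecialLinearGroup ι F) : GL ι F where
  val := (A : Matrix ι ι F)
  inv := ((A⁻¹ : _root_.Matrix.SpecialLinearGroup ι F) : Matrix ι ι F)
  val_inv := v_mul_inv A
  inv_val := v_inv_mul A

theorem coe_tg (A : _root_.Matrix.SpecialLinearGroup ι F) : (tg A : Matrix ι ι F) = A := rfl

/-- matrices of determinant one -/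
def toSL (A : Matrix ι ι F) (h : A.det = 1) : _root_.Matrix.SpecialLinearGroup ι F := ⟨A, h⟩

theorem tg_toSL (A : GL ι F) (h : (A : Matrix ι ι F).det = 1) : tg (toSL (A : Matrix ι ι F) h) = A :=
  Units.ext rfl

theorem cj_tg (A B : _root_.Matrix.SpecialLinearGroup ι F) : Auto.cj (tg A) B = A * B * A⁻¹ := by
  apply Subtype.ext
  rw [Auto.coe_cj]
  rfl

theorem lift_tg' (A : _root_.Matrix.SpecialLinearGroup ι F) : Auto.lift (Auto.cj (tg A)) = MulAut.conj (Root.pr A) := by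
  apply MulEquiv.ext
  intro x
  obtain ⟨B, rfl⟩ := Root.pr_surjective x
  rw [Auto.lift_pr, cj_tg, MulAut.conj_apply, map_mul, map_mul, map_inv]

/-- `ρ(A) = B` if `B M Aᵀ = M` -/
theorem cj_itr_eq {M : GL ι F} {A B : _root_.Matrix.SpecialLinearGroup ι F}
    (h : (B : Matrix ι ι F) * M * (A : Matrix ι ι F)ᵀ = M) : Auto.cj M (Auto.itr A) = B := by
  apply Subtype.ext
  rw [Auto.coe_cj, Auto.coe_itr]
  have h1 : (A : Matrix ι ι F)ᵀ * ((A⁻¹ : _root_.Matrix.SpecialLinearGroup ι F) : Matrix ι ι F)ᵀ = 1 := by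
    rw [← transpose_mul, v_inv_mul, transpose_one]
  have h2 : (M : Matrix ι ι F) * ((A⁻¹ : _root_.Matrix.SpecialLinearGroup ι F) : Matrix ι ι F)ᵀ = (B : Matrix ι ι F) * M := by
    have h3 : (B : Matrix ι ι F) * M * (A : Matrix ι ι F)ᵀ * ((A⁻¹ : _root_.Matrix.SpecialLinearGroup ι F) : Matrix ι ι F)ᵀ =
        (B : Matrix ι ι F) * M := by
      rw [mul_assoc, h1, mul_one]
    rwa [h] at h3
  rw [h2, mul_assoc, ← Units.val_mul, mul_inv_cancel, Units.val_one, mul_one]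

/-- `lift (cj A) = lift (cj B)` -/
theorem scalar_of_eq [Nontrivial ι] {A B : GL ι F} (h : Auto.lift (Auto.cj A) = Auto.lift (Auto.cj B)) :
    ∃ c : F, c ≠ 0 ∧ (A : Matrix ι ι F) = c • (B : Matrix ι ι F) := by
  have hf : (Auto.fld (RingEquiv.refl F) : MulAut (_root_.Matrix.SpecialLinearGroup ι F)) = 1 := map_one Auto.fld
  have h1 : Auto.lift (Auto.cj (B⁻¹ * A) * Auto.fld (RingEquiv.refl F)) =
      Auto.lift (Auto.fld (RingEquiv.refl F)) := by
    rw [hf, mul_one, map_mul, map_inv, map_mul, map_inv, h, inv_mul_cancel, map_one]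
  obtain ⟨⟨r, hr⟩, -⟩ := Main.injective_aux h1
  have h2 : (A : Matrix ι ι F) = r • (B : Matrix ι ι F) := by
    have h3 : (A : Matrix ι ι F) = (B : Matrix ι ι F) * ((B⁻¹ * A : GL ι F) : Matrix ι ι F) := by
      rw [← Units.val_mul, mul_inv_cancel_left]
    rw [h3, ← hr, scalar_apply, ← smul_one_eq_diagonal, Matrix.mul_smul, mul_one]
  refine ⟨r, ?_, h2⟩
  rintro rfl
  rw [zero_smul] at h2
  have h3 : (A : Matrix ι ι F) * ((A⁻¹ : GL ι F) : Matrix ι ι F) = 1 := by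
    rw [← Units.val_mul, mul_inv_cancel, Units.val_one]
  rw [h2, zero_mul] at h3
  obtain ⟨i⟩ : Nonempty ι := inferInstance
  have h4 := congrFun (congrFun h3 i) i
  rw [one_apply_eq] at h4
  exact zero_ne_one h4

theorem lift_not (hι : 3 ≤ Fintype.card ι) {A B : GL ι F}
    (h : Auto.lift (Auto.cj A * Auto.itr) = Auto.lift (Auto.cj B)) : False := by
  have hf : (Auto.fld (RingEquiv.refl F) : MulAut (_root_.Matrix.SpecialLinearGroup ι F)) = 1 := map_one Auto.fld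
  apply Main.not_graph hι (C := B⁻¹ * A) (σ := RingEquiv.refl F) (τ := RingEquiv.refl F)
  rw [hf, mul_one, map_one, map_mul Auto.cj, map_inv, mul_assoc, map_mul, h, ← map_mul, inv_mul_cancel,
    map_one]

/-- an automorphism `lift (cj A)` commuting with `lift (cj M * itr)` -/
theorem comm_itr [Nontrivial ι] {A M : GL ι F}
    (hc : Auto.lift (Auto.cj A) * Auto.lift (Auto.cj M * Auto.itr) =
      Auto.lift (Auto.cj M * Auto.itr) * Auto.lift (Auto.cj A)) :
    ∃ c : F, c ≠ 0 ∧ (A : Matrix ι ι F) * M * (A : Matrix ι ι F)ᵀ = c • (M : Matrix ι ι F) := by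
  have h1 : Auto.lift (Auto.cj (A * M)) = Auto.lift (Auto.cj (M * tinv A)) := by
    have h2 : Auto.lift (Auto.cj (A * M)) * Auto.lift Auto.itr =
        Auto.lift (Auto.cj (M * tinv A)) * Auto.lift Auto.itr := by
      rw [← map_mul, ← map_mul, map_mul Auto.cj, map_mul Auto.cj, mul_assoc, mul_assoc, ← itr_cj,
        ← mul_assoc (Auto.cj M), map_mul, map_mul Auto.lift (Auto.cj M * Auto.itr)]
      exact hc
    exact mul_right_cancel h2
  obtain ⟨c, hc0, h3⟩ := scalar_of_eq h1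
  refine ⟨c, hc0, ?_⟩
  rw [← Units.val_mul, h3, Units.val_mul, Matrix.smul_mul, mul_assoc, tinv_mul, mul_one]

end General

theorem lift_tg (A : SL4) : Auto.lift (Auto.cj (tg A)) = MulAut.conj (pr A) := lift_tg' A

theorem fld_eq_one (σ : F3 ≃+* F3) : σ = RingEquiv.refl F3 := by
  apply RingEquiv.ext
  intro x
  have h := RingHom.congr_fun (Subsingleton.elim (σ : F3 →+* F3) (RingHom.id F3)) x
  exact h

theorem fld_one : (Auto.fld (RingEquiv.refl F3) : MulAut SL4) = 1 := map_one Auto.fld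

/-- the automorphisms of `PSL(4, 3)` -/
theorem forms (γ : MulAut L) : (∃ A : GL4, γ = Auto.lift (Auto.cj A)) ∨
    ∃ A : GL4, γ = Auto.lift (Auto.cj A * Auto.itr) := by
  rcases Main.surj_three 3 (by norm_num) γ with ⟨A, σ, h⟩ | ⟨A, σ, h⟩
  · left
    refine ⟨A, ?_⟩
    rw [h, fld_eq_one σ, fld_one, mul_one]
  · right
    refine ⟨A, ?_⟩
    rw [h, fld_eq_one σ, fld_one, mul_one]

/-! ### Nice alternating matrices -/

structure Nice (M : GL4) : Prop where
  tr : (M : M4)ᵀ = (2 : F3) • (M : M4)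
  sq : (M : M4) * M = (2 : F3) • (1 : M4)
  pf : ∀ A : M4, ∀ c : F3, c ≠ 0 → A * M * Aᵀ = c • (M : M4) → A.det = 1
  inv : ∃ A B N : SL4, B.1 * M * A.1ᵀ = M ∧ A = B * N ∧ (N * N = 1 ∨ N * N = m1) ∧ N ≠ 1 ∧ N ≠ m1

/-- the reflection -/
def rf (M : GL4) : MulAut L := Auto.lift (Auto.cj M * Auto.itr)

theorem rf_pr (M : GL4) (A : SL4) : rf M (pr A) = pr (Auto.cj M (Auto.itr A)) := rfl

/-- `ρ(pr A) = pr B` if `B M Aᵀ = M` -/
theorem rf_eq {M : GL4} {A B : SL4} (h : B.1 * M * A.1ᵀ = M) : rf M (pr A) = pr B := by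
  rw [rf_pr, cj_itr_eq h]

/-- `ρ(pr A) = pr B` if `B M Aᵀ = -M` -/
theorem rf_eq' {M : GL4} {A B : SL4} (h : B.1 * M * A.1ᵀ = (2 : F3) • (M : M4)) : rf M (pr A) = pr B := by
  have h1 : (m1 * B).1 * M * A.1ᵀ = M := by
    rw [m1_val, Matrix.smul_mul, Matrix.smul_mul, h, smul_smul]
    have h2 : (2 : F3) * 2 = 1 := by decide
    rw [h2, one_smul]
  rw [rf_eq h1, map_mul, pr_m1, one_mul]

namespace Nice

variable {M : GL4}

theorem val_inv (h : Nice M) : ((M⁻¹ : GL4) : M4) = (2 : F3) • (M : M4) := by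
  have h1 : (M : M4) * ((2 : F3) • (M : M4)) = 1 := by
    rw [Matrix.mul_smul, h.sq, smul_smul]
    have h2 : (2 : F3) * 2 = 1 := by decide
    rw [h2, one_smul]
  have h2 : ((M⁻¹ : GL4) : M4) * (M : M4) = 1 := by rw [← Units.val_mul, inv_mul_cancel, Units.val_one]
  calc ((M⁻¹ : GL4) : M4) = ((M⁻¹ : GL4) : M4) * ((M : M4) * ((2 : F3) • (M : M4))) := by rw [h1, mul_one]
    _ = (2 : F3) • (M : M4) := by rw [← mul_assoc, h2, one_mul]

theorem tinv_eq (h : Nice M) : tinv M = M := by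
  apply Units.ext
  show ((M⁻¹ : GL4) : M4)ᵀ = M
  rw [h.val_inv, transpose_smul, h.tr, smul_smul]
  have h2 : (2 : F3) * 2 = 1 := by decide
  rw [h2, one_smul]

theorem sq' (h : Nice M) : (Auto.cj M * Auto.itr) * (Auto.cj M * Auto.itr) = (1 : MulAut SL4) := by
  have h1 : Auto.cj (M * M) = (1 : MulAut SL4) := by
    apply Main.cj_eq_one_of_scalar (r := (2 : F3))
    rw [Units.val_mul, h.sq, scalar_apply, ← smul_one_eq_diagonal]
  calc (Auto.cj M * Auto.itr) * (Auto.cj M * Auto.itr) = Auto.cj M * (Auto.itr * Auto.cj M) * Auto.itr := by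
        simp only [mul_assoc]
    _ = (Auto.cj M * Auto.cj M) * (Auto.itr * Auto.itr) := by
        rw [itr_cj, h.tinv_eq]; simp only [mul_assoc]
    _ = 1 := by rw [← map_mul, h1, Auto.itr_mul_itr, mul_one]

theorem rf_sq (h : Nice M) : rf M * rf M = 1 := by
  rw [rf, ← map_mul, h.sq', map_one]

theorem rf_rf (h : Nice M) (x : L) : rf M (rf M x) = x := by
  rw [← MulAut.mul_apply, h.rf_sq, MulAut.one_apply]

/-- (R5), inner-diagonal part -/
theorem inner (h : Nice M) {A : GL4} (hc : Auto.lift (Auto.cj A) * rf M = rf M * Auto.lift (Auto.cj A)) :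
    ∃ B : SL4, Auto.lift (Auto.cj A) = MulAut.conj (pr B) := by
  obtain ⟨c, hc0, h4⟩ := comm_itr hc
  have h6 := h.pf _ c hc0 h4
  refine ⟨toSL (A : M4) h6, ?_⟩
  rw [← lift_tg, tg_toSL]

theorem isRefl (h : Nice M) : LFour.IsRefl L (rf M) := by
  refine ⟨h.rf_rf, ?_, ?_, ?_⟩
  · intro k hk
    obtain ⟨A, rfl⟩ := pr_surj k
    have h1 : rf M = Auto.lift (Auto.cj (tg A)) := by
      rw [lift_tg]
      apply MulEquiv.ext
      intro x
      rw [hk x, MulAut.conj_apply]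
    exact lift_not (by simp) h1
  · obtain ⟨A, B, N, h1, h2, h3, h4, h5⟩ := h.inv
    have h6 : (rf M (pr A))⁻¹ * pr A = pr N := by
      rw [rf_eq h1, h2, map_mul, inv_mul_cancel_left]
    have h7 : pr N * pr N = 1 := by
      rw [← map_mul, pr_eq_one_iff]
      exact h3
    refine ⟨pr A, ?_, ?_, ?_⟩
    · rw [h6, h7]
    · rw [h6, Ne, pr_eq_one_iff]
      rintro (h8 | h8)
      · exact h4 h8
      · exact h5 h8
    · rw [map_mul, map_inv, h.rf_rf]
      have h8 : ((rf M (pr A))⁻¹ * pr A)⁻¹ = (pr A)⁻¹ * rf M (pr A) := by group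
      rw [← h8, h6]
      exact (inv_eq_of_mul_eq_one_left h7 :)
  · intro γ hγ
    have hγ' : γ * rf M = rf M * γ := by
      apply MulEquiv.ext
      intro x
      rw [MulAut.mul_apply, MulAut.mul_apply, hγ]
    rcases forms γ with ⟨A, rfl⟩ | ⟨A, rfl⟩
    · left
      obtain ⟨B, hB⟩ := h.inner hγ'
      refine ⟨pr B, ?_⟩
      intro x
      rw [hB, MulAut.conj_apply]
    · right
      have h1 : Auto.lift (Auto.cj A * Auto.itr) * rf M = Auto.lift (Auto.cj (A * M)) := by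
        rw [rf, ← map_mul, mul_assoc, ← mul_assoc Auto.itr, itr_cj, h.tinv_eq, mul_assoc, Auto.itr_mul_itr,
          mul_one, map_mul Auto.cj]
      have h2 : Auto.lift (Auto.cj (A * M)) * rf M = rf M * Auto.lift (Auto.cj (A * M)) := by
        rw [← h1, mul_assoc, h.rf_sq, mul_one, hγ', ← mul_assoc, h.rf_sq, one_mul]
      obtain ⟨B, hB⟩ := h.inner h2
      refine ⟨pr B, ?_⟩
      intro x
      rw [← MulAut.mul_apply, h1, hB, MulAut.conj_apply]

end Nice

end Cfsg.Agent.OddHalf.D4.Small.LFourK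

end

-- merged: Cfsg.Agent.OddHalf.D4.Small.LFourNine
section

/-!
# ODD, D4, small Lie odd: the centraliser `Case9aa` (helper890)

For a finite group with `Case9aa Q z i j k l x₁ x₂ y s` and any twist:
* `isQQ`: `Q = ⟨i, j⟩ * ⟨k, l⟩`;
* `syl`: `⟨i, j, k, l, y, s⟩` of order `2 ^ 7`;
* `sheet`: the sheet.
-/

set_option autoImplicit false

namespace Cfsg.Agent.OddHalf.D4.Small.NineAA

open Subgroup Cfsg.Agent.Co2Type.Quad Cfsg.Agent.LargeExtra.W2 Cfsg.Agent.LargeExtra.W2.CM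
open Cfsg.Agent.LargeExtra.W2.U43 Cfsg.Agent.OddHalf.D6.QThree

variable {G : Type*} [Group G] {Q : Subgroup G} {al be ga : Bool} {z i j k l x₁ x₂ y s : G}

/-- the element of `Q` -/
def qt (w : Qt) : T := ⟨w, C3.o, C3.o, false, false⟩

theorem ev_qt (w : Qt) : (qt w).ev z i j k l x₁ x₂ y s = w.ev z i j k l := by
  simp [T.ev, qt, pw, pw3]

/-- elements of `Q` -/
theorem exists_qt (h : Case9aa Q z i j k l x₁ x₂ y s) (R : Rules al be ga z i j k l x₁ x₂ y s) {x : G}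
    (hx : x ∈ Q) : ∃ w : Qt, x = w.ev z i j k l := by
  obtain ⟨w, hw⟩ := Fusion.mem_Q h R hx
  exact ⟨w, by rw [hw, Fusion.E_tq]⟩

theorem evQ_inj [Finite G] (h : Case9aa Q z i j k l x₁ x₂ y s) (R : Rules al be ga z i j k l x₁ x₂ y s)
    {p q : Qt} (hpq : p.ev z i j k l = q.ev z i j k l) : p = q := by
  have h1 : qt p = qt q := by
    apply ev_inj h R
    show (qt p).ev z i j k l x₁ x₂ y s = (qt q).ev z i j k l x₁ x₂ y s
    rw [ev_qt, ev_qt, hpq]
  exact congrArg T.w h1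

/-! ### `Q₁`, `Q₂` -/

/-- a finite multiplicatively closed set of elements is a subgroup -/
def ofMul [Finite G] (S : Set G) (h1 : (1 : G) ∈ S) (hm : ∀ a ∈ S, ∀ b ∈ S, a * b ∈ S) : Subgroup G where
  carrier := S
  one_mem' := h1
  mul_mem' := fun ha hb => hm _ ha _ hb
  inv_mem' := by
    intro a ha
    have h2 : ∀ n : ℕ, a ^ n ∈ S := by
      intro n
      induction n with
      | zero => rw [pow_zero]; exact h1
      | succ n ih => rw [pow_succ]; exact hm _ ih _ ha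
    have h3 : a⁻¹ = a ^ (orderOf a - 1) := by
      rw [inv_eq_iff_mul_eq_one, ← pow_succ', Nat.sub_add_cancel (orderOf_pos a), pow_orderOf_eq_one]
    rw [h3]
    exact h2 _

variable [Finite G]

/-- `⟨i, j⟩` -/
def Q1 (R : Rules al be ga z i j k l x₁ x₂ y s) : Subgroup G :=
  ofMul {x | ∃ σ a b : Bool, x = Qt.ev z i j k l ⟨σ, a, b, false, false⟩}
    ⟨false, false, false, by simp [Qt.ev, pw]⟩ (by
      rintro _ ⟨σ, a, b, rfl⟩ _ ⟨σ', a', b', rfl⟩
      rw [evQ_mul R]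
      exact ⟨_, _, _, rfl⟩)

/-- `⟨k, l⟩` -/
def Q2 (R : Rules al be ga z i j k l x₁ x₂ y s) : Subgroup G :=
  ofMul {x | ∃ σ a b : Bool, x = Qt.ev z i j k l ⟨σ, false, false, a, b⟩}
    ⟨false, false, false, by simp [Qt.ev, pw]⟩ (by
      rintro _ ⟨σ, a, b, rfl⟩ _ ⟨σ', a', b', rfl⟩
      rw [evQ_mul R]
      exact ⟨_, _, _, rfl⟩)

theorem isQ1 (R : Rules al be ga z i j k l x₁ x₂ y s) (z1 : z ≠ 1) : IsQ z (Q1 R) := by
  refine IsQ.mk' (i := i) (j := j) R.zz z1 ⟨false, true, false, by simp [Qt.ev, pw]⟩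
    ⟨false, false, true, by simp [Qt.ev, pw]⟩ R.ii R.jj (by coll R) ?_
  rintro _ ⟨σ, a, b, rfl⟩
  have hz1 : z * i = i * z := R.zi.symm
  have hz2 : z * j = j * z := R.zj.symm
  have hz3 : z * (i * j) = i * j * z := by rw [← mul_assoc, hz1, mul_assoc, hz2, mul_assoc]
  rcases σ with _ | _ <;> rcases a with _ | _ <;> rcases b with _ | _ <;>
    simp only [Qt.ev, pw, hz1, hz2, hz3, _root_.cond_false, _root_.mul_one, _root_.true_or, _root_.cond_true, _root_.one_mul, _root_.left_eq_mul, _root_.right_eq_mul, _root_.or_true, _root_.mul_eq_left, _root_.mul_right_inj, _root_.mul_eq_right, _root_.mul_left_inj]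

theorem isQ2 (R : Rules al be ga z i j k l x₁ x₂ y s) (z1 : z ≠ 1) : IsQ z (Q2 R) := by
  refine IsQ.mk' (i := k) (j := l) R.zz z1 ⟨false, true, false, by simp [Qt.ev, pw]⟩
    ⟨false, false, true, by simp [Qt.ev, pw]⟩ R.kk R.ll (by coll R) ?_
  rintro _ ⟨σ, a, b, rfl⟩
  have hz1 : z * k = k * z := R.zk.symm
  have hz2 : z * l = l * z := R.zl.symm
  have hz3 : z * (k * l) = k * l * z := by rw [← mul_assoc, hz1, mul_assoc, hz2, mul_assoc]
  rcases σ with _ | _ <;> rcases a with _ | _ <;> rcases b with _ | _ <;>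
    simp only [Qt.ev, pw, hz1, hz2, hz3, _root_.cond_false, _root_.mul_one, _root_.true_or, _root_.cond_true, _root_.one_mul, _root_.left_eq_mul, _root_.right_eq_mul, _root_.or_true, _root_.mul_eq_left, _root_.mul_right_inj, _root_.mul_eq_right, _root_.mul_left_inj]

theorem ev_mem (h : Case9aa Q z i j k l x₁ x₂ y s) (w : Qt) : w.ev z i j k l ∈ Q := by
  have hz : z ∈ Q := h.large.z_mem
  have hi : i ∈ Q := by rw [h.gen]; exact _root_.Subgroup.subset_closure (by simp)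
  have hj : j ∈ Q := by rw [h.gen]; exact _root_.Subgroup.subset_closure (by simp)
  have hk : k ∈ Q := by rw [h.gen]; exact _root_.Subgroup.subset_closure (by simp)
  have hl : l ∈ Q := by rw [h.gen]; exact _root_.Subgroup.subset_closure (by simp)
  have key : ∀ (b : Bool) (g : G), g ∈ Q → pw b g ∈ Q := by
    intro b g hg
    cases b
    · exact one_mem _
    · exact hg
  exact mul_mem (key _ _ hz) (mul_mem (key _ _ hi) (mul_mem (key _ _ hj) (mul_mem (key _ _ hk) (key _ _ hl))))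

/-- `Q = Q₁ * Q₂` -/
theorem isQQ (h : Case9aa Q z i j k l x₁ x₂ y s) (R : Rules al be ga z i j k l x₁ x₂ y s) :
    IsQQ z (Q1 R) (Q2 R) Q where
  q1 := isQ1 R h.large.z_ne
  q2 := isQ2 R h.large.z_ne
  le1 := by
    rintro _ ⟨σ, a, b, rfl⟩
    exact ev_mem h _
  le2 := by
    rintro _ ⟨σ, a, b, rfl⟩
    exact ev_mem h _
  com := by
    rintro _ ⟨σ, a, b, rfl⟩ _ ⟨σ', a', b', rfl⟩
    rw [evQ_mul R, evQ_mul R]
    congr 1
    cases σ <;> cases σ' <;> cases a <;> cases b <;> cases a' <;> cases b' <;> rfl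
  inf := by
    rintro _ ⟨σ, a, b, rfl⟩ ⟨σ', a', b', h1⟩
    have h2 := evQ_inj h R h1
    injection h2 with h3 h4 h5 h6 h7
    subst h4 h5
    cases σ
    · left; simp [Qt.ev, pw]
    · right; simp [Qt.ev, pw]
  mem := by
    intro r hr
    obtain ⟨w, rfl⟩ := exists_qt h R hr
    refine ⟨_, ⟨w.s, w.a, w.b, rfl⟩, _, ⟨false, w.c, w.d, rfl⟩, ?_⟩
    rw [evQ_mul R]
    congr 1
    obtain ⟨σ, a, b, c, d⟩ := w
    cases σ <;> cases a <;> cases b <;> cases c <;> cases d <;> rfl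

/-- the element `x₁` of order three -/
theorem x₁_facts (h : Case9aa Q z i j k l x₁ x₂ y s) (R : Rules al be ga z i j k l x₁ x₂ y s) :
    x₁ * z = z * x₁ ∧ x₁ * x₁ * x₁ = 1 ∧ (∀ r ∈ Q2 R, x₁ * r = r * x₁) ∧
      ∀ x ∈ Q1 R, x ≠ 1 → x ≠ z → x₁ * x * x₁⁻¹ ≠ x ∧ x₁ * x * x₁⁻¹ ≠ x * z := by
  refine ⟨R.zx, by rw [mul_assoc]; exact R.xxx, ?_, ?_⟩
  · rintro _ ⟨σ, a, b, rfl⟩
    exact ax1 R _
  · rintro _ ⟨σ, a, b, rfl⟩ h1 h2
    have e : x₁ * Qt.ev z i j k l ⟨σ, a, b, false, false⟩ * x₁⁻¹ =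
        (Qt.x1 ⟨σ, a, b, false, false⟩).ev z i j k l := by
      rw [ax1 R, mul_inv_cancel_right]
    have ez : z = Qt.ev z i j k l ⟨true, false, false, false, false⟩ := by simp [Qt.ev, pw]
    constructor
    · intro h3
      rw [e] at h3
      have h4 := evQ_inj h R h3
      injection h4 with h5 h6 h7 h8 h9
      have h6' : b = a := h6
      have h7' : xor a b = b := h7
      subst h6'
      cases b
      · cases σ
        · exact h1 (by simp [Qt.ev, pw])
        · exact h2 (by simp [Qt.ev, pw])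
      · exact absurd h7' (by decide)
    · intro h3
      rw [e] at h3
      nth_rewrite 3 [ez] at h3
      rw [evQ_mul R] at h3
      have h4 := evQ_inj h R h3
      injection h4 with h5 h6 h7 h8 h9
      have h6' : b = xor a false := h6
      have h7' : xor a b = xor b false := h7
      subst h6'
      cases a
      · cases σ
        · exact h1 (by simp [Qt.ev, pw])
        · exact h2 (by simp [Qt.ev, pw])
      · exact absurd h7' (by decide)

/-! ### The Sylow 2-subgroup -/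

/-- `⟨i, j, k, l, y, s⟩` -/
def syl (R : Rules al be ga z i j k l x₁ x₂ y s) : Subgroup G :=
  ofMul {x | ∃ t : T, t.m = C3.o ∧ t.n = C3.o ∧ x = t.ev z i j k l x₁ x₂ y s}
    ⟨T.one, rfl, rfl, ev_one.symm⟩ (by
      rintro _ ⟨t, h1, h2, rfl⟩ _ ⟨u, h3, h4, rfl⟩
      refine ⟨_, ?_, ?_, ev_mul R t u⟩
      · show t.m.add (ng t.e (bif t.f then u.n else u.m)) = C3.o
        rw [h1, h3, h4]
        cases t.e <;> cases t.f <;> rfl
      · show t.n.add (ng t.e (bif t.f then u.m else u.n)) = C3.o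
        rw [h2, h3, h4]
        cases t.e <;> cases t.f <;> rfl)

/-- `t ^ 16` -/
def p16 (al be ga : Bool) (t : T) : T :=
  let t2 := T.mul al be ga t t
  let t4 := T.mul al be ga t2 t2
  let t8 := T.mul al be ga t4 t4
  T.mul al be ga t8 t8

theorem chkP : allB (fun al => allB fun be => allB fun ga =>
    allT (fun t => !(C3.eqb t.m C3.o && C3.eqb t.n C3.o) || T.beq (p16 al be ga t) T.one)) = true := by
  decide +kernel

theorem syl_isPGroup (R : Rules al be ga z i j k l x₁ x₂ y s) : IsPGroup 2 (syl R) := by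
  rintro ⟨x, t, h1, h2, rfl⟩
  refine ⟨4, Subtype.ext ?_⟩
  show (t.ev z i j k l x₁ x₂ y s) ^ 2 ^ 4 = 1
  have h3 := allT_spec (allB_spec (allB_spec (allB_spec chkP al) be) ga) t
  rw [h1, h2, Bool.or_eq_true] at h3
  rcases h3 with h3 | h3
  · exact Bool.noConfusion h3
  · have h4 : p16 al be ga t = T.one := T.eq_of_beq h3
    have h5 : (t.ev z i j k l x₁ x₂ y s) ^ 2 ^ 4 = (p16 al be ga t).ev z i j k l x₁ x₂ y s := by
      have h6 : ∀ X : G, X ^ 2 ^ 4 = ((X * X) * (X * X) * ((X * X) * (X * X))) *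
          ((X * X) * (X * X) * ((X * X) * (X * X))) := fun X => by
        have e1 : X * X = X ^ 2 := (pow_two X).symm
        rw [e1, ← pow_add, ← pow_add, ← pow_add]; norm_num
      simp only [p16]
      rw [← ev_mul R, ← ev_mul R, ← ev_mul R, ← ev_mul R]
      exact h6 _
    rw [h5, h4, ev_one]

theorem syl_card (h : Case9aa Q z i j k l x₁ x₂ y s) (R : Rules al be ga z i j k l x₁ x₂ y s) :
    2 ^ 7 ≤ Nat.card (syl R) := by
  let f : (Bool × Bool × Bool × Bool × Bool) × Bool × Bool → syl R := fun u =>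
    ⟨T.ev z i j k l x₁ x₂ y s ⟨⟨u.1.1, u.1.2.1, u.1.2.2.1, u.1.2.2.2.1, u.1.2.2.2.2⟩, C3.o, C3.o, u.2.1, u.2.2⟩,
      ⟨_, rfl, rfl, rfl⟩⟩
  have hf : Function.Injective f := by
    intro u v huv
    have h1 := ev_inj h R (congrArg Subtype.val huv)
    injection h1 with h2 h3 h4 h5 h6
    injection h2 with g1 g2 g3 g4 g5
    obtain ⟨⟨u1, u2, u3, u4, u5⟩, u6, u7⟩ := u
    obtain ⟨⟨v1, v2, v3, v4, v5⟩, v6, v7⟩ := v
    dsimp only at g1 g2 g3 g4 g5 h5 h6
    rw [g1, g2, g3, g4, g5, h5, h6]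
  have h1 := Nat.card_le_card_of_injective f hf
  have h2 : Nat.card ((Bool × Bool × Bool × Bool × Bool) × Bool × Bool) = 2 ^ 7 := by
    simp [Nat.card_prod, Nat.card_eq_fintype_card]
  rwa [h2] at h1

theorem syl_comm (R : Rules al be ga z i j k l x₁ x₂ y s) {x : G} (hx : x ∈ syl R) : x * z = z * x := by
  obtain ⟨t, -, -, rfl⟩ := hx
  exact ev_comm R t

theorem le_syl (h : Case9aa Q z i j k l x₁ x₂ y s) (R : Rules al be ga z i j k l x₁ x₂ y s) : Q ≤ syl R := by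
  intro x hx
  obtain ⟨w, rfl⟩ := exists_qt h R hx
  exact ⟨qt w, rfl, rfl, (ev_qt w).symm⟩


/-! ### The sheet -/

/-- `C_P(Q) = ⟨z⟩` -/
theorem self' (h : Case9aa Q z i j k l x₁ x₂ y s) (p : G) (hp : p * z = z * p) (hc : ∀ r ∈ Q, p * r = r * p) :
    p = 1 ∨ p = z := h.large.cent p (h.large.self p hp hc) hc

/-- the sheet -/
theorem sheet (h : Case9aa Q z i j k l x₁ x₂ y s) (R : Rules al be ga z i j k l x₁ x₂ y s) :
    Sheet G (syl R) Q z := by
  obtain ⟨d1, d2, d3, d4⟩ := x₁_facts h R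
  refine Sheet.of_QQ (Q₁ := Q1 R) (Q₂ := Q2 R) ?_ (isQQ h R) (self' h) d1 d2 d3 d4
  refine { z2 := R.zz, z1 := h.large.z_ne, zR := h.large.z_mem, RS := le_syl h R,
           zc := fun x hx => syl_comm R hx, uniq := ?_, Rn := h.large.conj_mem, char := ?_ }
  · intro x hx _ hx1 hxc
    rcases self' h x (syl_comm R hx) (fun r hr => (hxc r (le_syl h R hr)).symm) with h1 | h1
    · exact absurd h1 hx1
    · exact h1
  · intro α hα r hr
    have hN : Q.map α.toMonoidHom ≤ Q := by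
      refine U43Tw.le_of_act h.toPlus h.x₁_act h.x₂_act _ ?_ ?_ ?_
      · rintro _ ⟨q, hq, rfl⟩
        rw [mem_centralizer_singleton_iff]
        show α q * z = z * α q
        have h1 := congrArg α (h.large.comm_z q hq)
        rwa [map_mul, map_mul, hα] at h1
      · rintro c hc _ ⟨q, hq, rfl⟩
        rw [mem_centralizer_singleton_iff] at hc
        have hc' : α.symm c * z = z * α.symm c := by
          have h1 := congrArg α.symm hc
          have h2 : α.symm z = z := by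
            rw [MulEquiv.symm_apply_eq]; exact hα.symm
          rwa [map_mul, map_mul, h2] at h1
        refine ⟨_, h.large.conj_mem _ hc' q hq, ?_⟩
        show α (α.symm c * q * (α.symm c)⁻¹) = c * α q * c⁻¹
        rw [map_mul, map_mul, map_inv, MulEquiv.apply_symm_apply]
      · exact (LargeExtra.Base.isPGroup h.large).map _
    exact hN ⟨r, hr, rfl⟩

/-- a Sylow 2-subgroup if `|G| = 2 ^ 7 m` -/
theorem exists_sylow (h : Case9aa Q z i j k l x₁ x₂ y s) (R : Rules al be ga z i j k l x₁ x₂ y s) {m : ℕ}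
    (hm : Odd m) (hcard : Nat.card G = 2 ^ 7 * m) : ∃ S : Sylow 2 G, (S : Subgroup G) = syl R := by
  have : Fact (Nat.Prime 2) := ⟨Nat.prime_two⟩
  have hcop : Nat.Coprime 2 m := Nat.coprime_two_left.2 hm
  have h1 : Nat.card (syl R) ∣ 2 ^ 7 := by
    obtain ⟨n, hn⟩ := IsPGroup.iff_card.1 (syl_isPGroup R)
    have h2 : Nat.card (syl R) ∣ Nat.card G := Subgroup.card_subgroup_dvd_card _
    rw [hcard] at h2
    rw [hn] at h2 ⊢
    exact (Nat.Coprime.pow_left n hcop).dvd_of_dvd_mul_right h2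
  have h2 : Nat.card (syl R) = 2 ^ 7 :=
    le_antisymm (Nat.le_of_dvd (by norm_num) h1) (syl_card h R)
  have hm0 : m ≠ 0 := by rintro rfl; exact absurd hm (by decide)
  have h3 : Nat.card (syl R) = 2 ^ (Nat.card G).factorization 2 := by
    rw [h2, hcard]
    congr 1
    rw [Nat.factorization_mul (by norm_num) hm0, Nat.Prime.factorization_pow Nat.prime_two]
    have h4 : ¬ 2 ∣ m := by
      intro h5
      exact absurd hm (Nat.not_odd_iff_even.2 (even_iff_two_dvd.2 h5))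
    simp [Nat.factorization_eq_zero_of_not_dvd h4]
  exact ⟨Sylow.ofCard (syl R) h3, rfl⟩

/-! ### Irreducibility -/

/-- `C(z)` is irreducible on `Q / ⟨z⟩`. -/
theorem irr (h : Case9aa Q z i j k l x₁ x₂ y s) (R : Rules al be ga z i j k l x₁ x₂ y s) (N : Subgroup G)
    (hN : N ≤ Q) (hn : ∀ g, g * z = z * g → ∀ n ∈ N, g * n * g⁻¹ ∈ N) :
    (∀ n ∈ N, n = 1 ∨ n = z) ∨ N = Q := by
  by_cases hc : ∀ n ∈ N, n = 1 ∨ n = z
  · exact Or.inl hc
  right
  push Not at hc
  obtain ⟨n, hnN, hn1, hnz⟩ := hc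
  -- a noncentral element of `Q₁`
  have hs : s * z = z * s := R.zs
  have h1 : ∃ σ a b, (a || b) = true ∧ Qt.ev z i j k l ⟨σ, a, b, false, false⟩ ∈ N := by
    have key : ∀ w : Qt, w.ev z i j k l ∈ N → (w.a || w.b) = true →
        ∃ σ a b, (a || b) = true ∧ Qt.ev z i j k l ⟨σ, a, b, false, false⟩ ∈ N := by
      intro w hw hab
      have h2 : w.x1.ev z i j k l ∈ N := by
        have h3 := hn x₁ R.zx _ hw
        rwa [ax1 R, mul_inv_cancel_right] at h3
      have h3 : (w.x1.ev z i j k l) * (w.ev z i j k l) ∈ N := mul_mem h2 hw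
      rw [evQ_mul R] at h3
      obtain ⟨σ, a, b, c, d⟩ := w
      refine ⟨(Qt.mul (Qt.x1 ⟨σ, a, b, c, d⟩) ⟨σ, a, b, c, d⟩).s, xor b a, xor (xor a b) b, ?_, ?_⟩
      · have h4 : ∀ a b : Bool, (a || b) = true → (xor b a || xor (xor a b) b) = true := by decide
        exact h4 a b hab
      · have e : Qt.mul (Qt.x1 ⟨σ, a, b, c, d⟩) ⟨σ, a, b, c, d⟩ =
            ⟨(Qt.mul (Qt.x1 ⟨σ, a, b, c, d⟩) ⟨σ, a, b, c, d⟩).s, xor b a, xor (xor a b) b, false, false⟩ := by
          cases c <;> cases d <;> rfl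
        rw [e] at h3
        exact h3
    obtain ⟨w, rfl⟩ := exists_qt h R (hN hnN)
    by_cases hab : (w.a || w.b) = true
    · exact key w hnN hab
    · refine key w.sw ?_ ?_
      · have h3 := hn s hs _ hnN
        rwa [asw R, mul_inv_cancel_right] at h3
      · obtain ⟨σ, a, b, c, d⟩ := w
        by_contra hcd
        have h2 : ¬ (c || d) = true := hcd
        have h3 : ¬ (a || b) = true := hab
        rw [Bool.not_eq_true, Bool.or_eq_false_iff] at h2 h3
        obtain ⟨rfl, rfl⟩ := h2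
        obtain ⟨rfl, rfl⟩ := h3
        cases σ
        · exact hn1 (by simp [Qt.ev, pw])
        · exact hnz (by simp [Qt.ev, pw])
  have hzN : z ∈ N := by
    obtain ⟨σ, a, b, hab, hm⟩ := h1
    have h2 := mul_mem hm hm
    rw [evQ_mul R] at h2
    have e : Qt.mul ⟨σ, a, b, false, false⟩ ⟨σ, a, b, false, false⟩ = ⟨true, false, false, false, false⟩ := by
      cases a <;> cases b
      · exact absurd hab (by decide)
      all_goals cases σ <;> rfl
    rw [e] at h2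
    simpa [Qt.ev, pw] using h2
  have hi : i ∈ N := by
    obtain ⟨σ, a, b, hab, hm⟩ := h1
    have hx : ∀ g ∈ N, x₁ * g * x₁⁻¹ ∈ N := fun g hg => hn x₁ R.zx g hg
    have hm' : Qt.ev z i j k l ⟨false, a, b, false, false⟩ ∈ N := by
      cases σ
      · exact hm
      · have h2 := mul_mem hzN hm
        have e : z * Qt.ev z i j k l ⟨true, a, b, false, false⟩ = Qt.ev z i j k l ⟨false, a, b, false, false⟩ := by
          simp only [Qt.ev, pw, cond_true, cond_false]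
          rw [← mul_assoc, R.zz]
        rwa [e] at h2
    cases a <;> cases b
    · exact absurd hab (by decide)
    · -- `j`
      have h2 : j ∈ N := by simpa [Qt.ev, pw] using hm'
      have h3 := mul_mem (hx _ h2) (inv_mem h2)
      have e : x₁ * j * x₁⁻¹ * j⁻¹ = i := by
        have e1 : x₁ * j * x₁⁻¹ = i * j := h.x₁_act.j
        rw [e1, mul_inv_cancel_right]
      rwa [e] at h3
    · simpa [Qt.ev, pw] using hm'
    · -- `i j`
      have h2 : i * j ∈ N := by simpa [Qt.ev, pw] using hm'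
      have h3 := mul_mem (hx _ h2) (inv_mem h2)
      have e : x₁ * (i * j) * x₁⁻¹ * (i * j)⁻¹ = j := by
        have e1 : x₁ * i * x₁⁻¹ = j := h.x₁_act.i
        have e2 : x₁ * j * x₁⁻¹ = i * j := h.x₁_act.j
        calc x₁ * (i * j) * x₁⁻¹ * (i * j)⁻¹ = (x₁ * i * x₁⁻¹) * (x₁ * j * x₁⁻¹) * (i * j)⁻¹ := by group
          _ = j * (i * j) * (i * j)⁻¹ := by rw [e1, e2]
          _ = j := by rw [mul_inv_cancel_right]
      rw [e] at h3
      have h4 := mul_mem h2 (inv_mem h3)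
      rwa [mul_inv_cancel_right] at h4
  have hj : j ∈ N := by
    have h2 := hn x₁ R.zx _ hi
    have e1 : x₁ * i * x₁⁻¹ = j := h.x₁_act.i
    rwa [e1] at h2
  have hk : k ∈ N := by
    have h2 := hn s hs _ hi
    have e1 : s * i * s⁻¹ = k := h.s_act.i
    rwa [e1] at h2
  have hl : l ∈ N := by
    have h2 := hn s hs _ hj
    have e1 : s * j * s⁻¹ = l := h.s_act.j
    rwa [e1] at h2
  apply le_antisymm hN
  rw [h.gen, closure_le]
  rintro g (rfl | rfl | rfl | rfl)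
  · exact hi
  · exact hj
  · exact hk
  · exact hl

end Cfsg.Agent.OddHalf.D4.Small.NineAA

end

-- merged: Cfsg.Agent.OddHalf.D4.Small.LFourK
section

/-!
# ODD, D4, small Lie odd: the facts `SheetL` for `PSL(4, 3)`
-/

set_option autoImplicit false

namespace Cfsg.Agent.OddHalf.D4.Small.LFourK

open Matrix
open Cfsg.Agent.KFacts.LFourThree
open Cfsg.Agent.ClassicalGeometry.AutPSL
open Cfsg.Agent.LargeExtra.W2
open Cfsg.Agent.LargeExtra.W2.LFour (PslFacts.tr PslFacts.eq_top_of_adj)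

/-- `diag(a J, J)` -/
def J4 (a : F3) : M4 := !![0, a, 0, 0; 2 * a, 0, 0, 0; 0, 0, 0, 1; 0, 0, 2, 0]

def Mp : GL4 := ⟨J4 1, (2 : F3) • J4 1, by decide +kernel, by decide +kernel⟩
def Mm : GL4 := ⟨J4 2, (2 : F3) • J4 2, by decide +kernel, by decide +kernel⟩

theorem coe_Mp : (Mp : M4) = J4 1 := rfl
theorem coe_Mm : (Mm : M4) = J4 2 := rfl

/-! ### The Pfaffian -/

theorem form_apply (a : F3) (A : M4) (r t : Fin 4) : (A * J4 a * Aᵀ) r t =
    a * (A r 0 * A t 1 - A r 1 * A t 0) + (A r 2 * A t 3 - A r 3 * A t 2) := by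
  have h2 : (2 : F3) = -1 := by decide
  rw [Matrix.mul_apply, Fin.sum_univ_four]
  simp only [Matrix.mul_apply, Fin.sum_univ_four, transpose_apply]
  simp only [J4, h2, _root_.Fin.isValue, _root_.neg_mul, _root_.one_mul, _root_.Matrix.of_apply, _root_.Matrix.cons_val', _root_.Matrix.cons_val_zero, _root_.Matrix.cons_val_fin_one, _root_.MulZeroClass.mul_zero, _root_.Matrix.cons_val_one, _root_.mul_neg, _root_.zero_add, _root_.Matrix.cons_val, _root_.add_zero, _root_.mul_one]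
  ring

theorem det_four (A : M4) : A.det =
    (A 0 0 * A 1 1 - A 0 1 * A 1 0) * (A 2 2 * A 3 3 - A 2 3 * A 3 2)
    - (A 0 0 * A 2 1 - A 0 1 * A 2 0) * (A 1 2 * A 3 3 - A 1 3 * A 3 2)
    + (A 0 0 * A 3 1 - A 0 1 * A 3 0) * (A 1 2 * A 2 3 - A 1 3 * A 2 2)
    + (A 1 0 * A 2 1 - A 1 1 * A 2 0) * (A 0 2 * A 3 3 - A 0 3 * A 3 2)
    - (A 1 0 * A 3 1 - A 1 1 * A 3 0) * (A 0 2 * A 2 3 - A 0 3 * A 2 2)
    + (A 2 0 * A 3 1 - A 2 1 * A 3 0) * (A 0 2 * A 1 3 - A 0 3 * A 1 2) := by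
  rw [Matrix.det_succ_row_zero]
  simp only [Fin.sum_univ_succ, Matrix.det_fin_three, Matrix.submatrix_apply, Fin.succAbove, _root_.Nat.succ_eq_add_one, _root_.Nat.reduceAdd, _root_.Fin.isValue, _root_.Fin.succ_zero_eq_one, _root_.Fin.castSucc_zero, _root_.Fin.succ_one_eq_two, _root_.Fin.castSucc_one, _root_.Fin.reduceSucc, _root_.Fin.reduceCastSucc, _root_.Fin.coe_ofNat_eq_mod, _root_.Nat.zero_mod, _root_.pow_zero, _root_.one_mul, _root_.lt_self_iff_false, ↓ _root_.reduceIte, _root_.not_lt_zero, _root_.Fin.val_succ, _root_.Fin.succ_pos, _root_.zero_add, _root_.pow_one, _root_.neg_mul, _root_.Fin.lt_one_iff, _root_.Fin.reduceEq, _root_.even_two, _root_.Even.neg_pow, _root_.one_pow, _root_.Fin.reduceLT, _root_.Finset.univ_unique, _root_.Fin.default_eq_zero, _root_.Fin.val_eq_zero, _root_.ZMod.pow_card, _root_.Finset.sum_neg_distrib, _root_.Finset.sum_singleton]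
  ring

theorem pfaff (a : F3) (A N : M4) (hN : A * J4 a * Aᵀ = N) :
    N 0 1 * N 2 3 - N 0 2 * N 1 3 + N 0 3 * N 1 2 = a * A.det := by
  rw [← hN, det_four]
  simp only [form_apply]
  ring

theorem det_one {a : F3} (ha : a ≠ 0) {A : M4} {c : F3} (hc : c ≠ 0) (h : A * J4 a * Aᵀ = c • J4 a) :
    A.det = 1 := by
  have h1 := pfaff a A _ h
  have h2 : (c • J4 a) 0 1 = c * a := rfl
  have h3 : (c • J4 a) 2 3 = c * 1 := rfl
  have h4 : (c • J4 a) 0 2 = c * 0 := rfl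
  have h5 : (c • J4 a) 0 3 = c * 0 := rfl
  rw [h2, h3, h4, h5] at h1
  generalize A.det = d at h1 ⊢
  generalize (c • J4 a) 1 3 = e at h1
  generalize (c • J4 a) 1 2 = f at h1
  have key : ∀ a c d e f : F3, a ≠ 0 → c ≠ 0 → c * a * (c * 1) - c * 0 * e + c * 0 * f = a * d → d = 1 := by
    decide +kernel
  exact key a c d e f ha hc h1

def lp : SL4 := ⟨!![1, 0, 1, 0; 0, 1, 0, 1; 0, 0, 1, 0; 0, 0, 0, 1], by decide +kernel⟩
def lm : SL4 := ⟨!![1, 0, 1, 0; 0, 1, 0, 2; 0, 0, 1, 0; 0, 0, 0, 1], by decide +kernel⟩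
def rp : SL4 := ⟨!![1, 0, 0, 0; 0, 1, 0, 0; 2, 0, 1, 0; 0, 2, 0, 1], by decide +kernel⟩
def rm : SL4 := ⟨!![1, 0, 0, 0; 0, 1, 0, 0; 2, 0, 1, 0; 0, 1, 0, 1], by decide +kernel⟩
def np : SL4 := ⟨!![1, 0, 1, 0; 0, 1, 0, 1; 1, 0, 2, 0; 0, 1, 0, 2], by decide +kernel⟩
def nm : SL4 := ⟨!![1, 0, 1, 0; 0, 1, 0, 2; 1, 0, 2, 0; 0, 2, 0, 2], by decide +kernel⟩

theorem nice_p : Nice Mp where
  tr := by rw [coe_Mp]; decide +kernel
  sq := by rw [coe_Mp]; decide +kernel
  pf := fun A c hc h => det_one (a := 1) (by decide) hc h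
  inv := ⟨lp, rp, np, by rw [coe_Mp]; decide +kernel, by decide +kernel, Or.inr (by decide +kernel),
    by decide +kernel, by decide +kernel⟩

theorem nice_m : Nice Mm where
  tr := by rw [coe_Mm]; decide +kernel
  sq := by rw [coe_Mm]; decide +kernel
  pf := fun A c hc h => det_one (a := 2) (by decide) hc h
  inv := ⟨lm, rm, nm, by rw [coe_Mm]; decide +kernel, by decide +kernel, Or.inr (by decide +kernel),
    by decide +kernel, by decide +kernel⟩

/-- the reflection `ρ` -/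
def rho : MulAut L := rf Mp

theorem rho_z : rho * MulAut.conj z = rf Mm := by
  have h1 : MulAut.conj z = Auto.lift (Auto.cj (tg eZ)) := (lift_tg eZ).symm
  have h2 : Mp * tinv (tg eZ) = Mm := by
    apply Units.ext
    rw [Units.val_mul, coe_Mp, coe_Mm, coe_tinv]
    have h3 : (((tg eZ)⁻¹ : GL4) : M4) = eZ.1 := by
      have h4 : (tg eZ)⁻¹ = tg eZ := by
        rw [inv_eq_iff_mul_eq_one]
        apply Units.ext
        rw [Units.val_mul, coe_tg, Units.val_one]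
        decide +kernel
      rw [h4, coe_tg]
    rw [h3]
    decide +kernel
  rw [h1, rho, rf, rf, ← map_mul, mul_assoc, itr_cj, ← mul_assoc, ← map_mul, h2]

/-! ### `ρ` is trivial on `C(z)` -/

theorem rho_fix_gen {g : L} (h : g ∈ ({i, j, k, l, x₁, x₂, y, s} : Set L)) : rho g = g := by
  simp only [Set.mem_insert_iff, Set.mem_singleton_iff] at h
  rcases h with rfl | rfl | rfl | rfl | rfl | rfl | rfl | rfl
  · exact rf_eq (by rw [coe_Mp]; decide +kernel)
  · exact rf_eq (by rw [coe_Mp]; decide +kernel)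
  · exact rf_eq (by rw [coe_Mp]; decide +kernel)
  · exact rf_eq (by rw [coe_Mp]; decide +kernel)
  · exact rf_eq (by rw [coe_Mp]; decide +kernel)
  · exact rf_eq (by rw [coe_Mp]; decide +kernel)
  · exact rf_eq' (by rw [coe_Mp]; decide +kernel)
  · exact rf_eq (by rw [coe_Mp]; decide +kernel)

theorem rho_fix {x : L} (h : x * z = z * x) : rho x = x := by
  have h1 : x ∈ Subgroup.closure ({i, j, k, l, x₁, x₂, y, s} : Set L) := by
    rw [← cent_eq]
    exact Subgroup.mem_centralizer_singleton_iff.2 h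
  have h2 : Subgroup.closure ({i, j, k, l, x₁, x₂, y, s} : Set L) ≤
      (rho : L ≃* L).toMonoidHom.eqLocus (MonoidHom.id L) := by
    rw [Subgroup.closure_le]
    intro g hg
    exact rho_fix_gen hg
  exact h2 h1

/-! ### Generation -/

theorem top_of {H : Subgroup L} (hC : ∀ x, x * z = z * x → x ∈ H)
    (h03 : pr (PslFacts.tr 0 3 (by decide) 1) ∈ H) : H = ⊤ := by
  have hm : ∀ A : SL4, (A * eZ = eZ * A ∨ A * eZ = m1 * (eZ * A)) → A ∈ H.comap pr := fun A hA =>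
    hC _ (comm_pr.2 hA)
  have cj : ∀ W A B : SL4, W ∈ H.comap pr → A ∈ H.comap pr → W * A = B * W → B ∈ H.comap pr := by
    intro W A B hW hA h
    have h1 : B = W * A * W⁻¹ := by rw [h, mul_inv_cancel_right]
    rw [h1]
    exact mul_mem (mul_mem hW hA) (inv_mem hW)
  have h1 : H.comap pr = ⊤ := by
    refine PslFacts.eq_top_of_adj _ ?_ ?_ ?_ ?_ ?_ ?_
    · exact hm _ (by decide +kernel)
    · exact hm _ (by decide +kernel)
    · refine cj ⟨!![0, 2, 0, 0; 1, 0, 0, 0; 0, 0, 0, 1; 0, 0, 2, 0], by decide +kernel⟩ _ _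
        (hm _ (by decide +kernel)) h03 (by decide +kernel)
    · refine cj eS _ _ (hm _ (by decide +kernel)) h03 (by decide +kernel)
    · exact hm _ (by decide +kernel)
    · exact hm _ (by decide +kernel)
  rw [eq_top_iff]
  intro x _
  obtain ⟨A, rfl⟩ := pr_surj x
  have h2 : A ∈ H.comap pr := by rw [h1]; exact Subgroup.mem_top _
  exact h2

def ap : SL4 := ⟨!![1, 1, 0, 1; 0, 1, 0, 0; 0, 1, 1, 1; 0, 0, 0, 1], by decide +kernel⟩
def am : SL4 := ⟨!![1, 2, 0, 1; 0, 1, 0, 0; 0, 2, 1, 1; 0, 0, 0, 1], by decide +kernel⟩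
def uu : SL4 := ⟨!![1, 0, 1, 0; 0, 1, 0, 1; 0, 0, 1, 0; 0, 0, 0, 1], by decide +kernel⟩

theorem gen1 (H : Subgroup L) (h0 : ∀ x, x * z = z * x → x ∈ H) (h1 : ∀ x, rho x = x → x ∈ H)
    (h2 : ∀ x, rho (z * x * z⁻¹) = x → x ∈ H) : H = ⊤ := by
  have e23 : pr (PslFacts.tr 2 3 (by decide) 1) ∈ H := h0 _ (comm_pr.2 (by decide +kernel))
  have hp : pr ap ∈ H := h1 _ (rf_eq (by rw [coe_Mp]; decide +kernel))
  have hm : pr am ∈ H := by
    apply h2
    have h3 : rho (z * pr am * z⁻¹) = (rho * MulAut.conj z) (pr am) := rfl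
    rw [h3, rho_z]
    exact rf_eq (by rw [coe_Mm]; decide +kernel)
  apply top_of h0
  have h4 : (PslFacts.tr 0 3 (by decide) 1 : SL4) =
      (PslFacts.tr 2 3 (by decide) 1 * (ap * am)) * (PslFacts.tr 2 3 (by decide) 1 * (ap * am)) := by
    decide +kernel
  rw [h4, map_mul, map_mul, map_mul]
  exact mul_mem (mul_mem e23 (mul_mem hp hm)) (mul_mem e23 (mul_mem hp hm))

theorem gen2 (H : Subgroup L) (h : ∀ r ∈ Q, r * r = 1 → r ≠ 1 → ∀ x, x * r = r * x → x ∈ H) : H = ⊤ := by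
  have h0 : ∀ x, x * z = z * x → x ∈ H := h z Cfsg.Agent.KFacts.LFourThree.z_mem zz z_ne
  have hik : i * k ∈ Q := mul_mem (gen_mem (by simp)) (gen_mem (by simp))
  have hik2 : i * k * (i * k) = 1 := by
    simp only [i, k, ← map_mul]
    exact pr_eq_one_iff.2 (by decide +kernel)
  have hik1 : i * k ≠ 1 := by
    simp only [i, k, ← map_mul]
    rw [Ne, pr_eq_one_iff]
    decide +kernel
  have hu : pr uu ∈ H := by
    refine h _ hik hik2 hik1 _ ?_
    simp only [i, k, ← map_mul]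
    exact pm (by decide +kernel)
  have hc : pr (PslFacts.tr 0 1 (by decide) 1) ∈ H := h0 _ (comm_pr.2 (by decide +kernel))
  apply top_of h0
  have h4 : (PslFacts.tr 0 3 (by decide) 1 : SL4) * uu * PslFacts.tr 0 1 (by decide) 1 =
      PslFacts.tr 0 1 (by decide) 1 * uu := by
    decide +kernel
  have h5 : pr (PslFacts.tr 0 3 (by decide) 1) =
      pr (PslFacts.tr 0 1 (by decide) 1) * pr uu * (pr (PslFacts.tr 0 1 (by decide) 1))⁻¹ * (pr uu)⁻¹ := by
    rw [← map_mul, ← h4, map_mul, map_mul]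
    group
  rw [h5]
  exact mul_mem (mul_mem (mul_mem hc hu) (inv_mem hc)) (inv_mem hu)

/-! ### The automorphisms centralizing the Sylow subgroup -/

theorem comm_of_fix {A : GL4} {E : SL4} (h : Auto.lift (Auto.cj A) (pr E) = pr E) :
    (A : M4) * E.1 = E.1 * A ∨ (A : M4) * E.1 = (2 : F3) • (E.1 * (A : M4)) := by
  have h1 : pr (Auto.cj A E) = pr E := h
  have h2 : (A : M4) * E.1 = (Auto.cj A E).1 * A := by
    have h3 : (Auto.cj A E).1 = (A : M4) * E.1 * ((A⁻¹ : GL4) : M4) := rfl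
    rw [h3, mul_assoc, ← Units.val_mul, inv_mul_cancel, Units.val_one, mul_one]
  rcases pr_eq_iff.1 h1 with h3 | h3
  · left
    rw [h2, h3]
  · right
    rw [h2, h3, m1_val, Matrix.smul_mul]

theorem fix_cj {A : GL4} (hi : Auto.lift (Auto.cj A) i = i) (hj : Auto.lift (Auto.cj A) j = j)
    (hk : Auto.lift (Auto.cj A) k = k) (hl : Auto.lift (Auto.cj A) l = l) :
    Auto.lift (Auto.cj A) = 1 ∨ Auto.lift (Auto.cj A) = MulAut.conj z := by
  have c1 := comm_of_fix hi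
  have c2 := comm_of_fix hj
  have c3 := comm_of_fix hk
  have c4 := comm_of_fix hl
  rw [eI_val] at c1
  rw [eJ_val] at c2
  rw [eK_val] at c3
  rw [eL_val] at c4
  -- `A` commutes with `eZ`
  have hz : (A : M4) * Matrix.diagonal dZ = Matrix.diagonal dZ * (A : M4) := by
    have h1 : Matrix.diagonal dZ = bd I2.1 1 * bd I2.1 1 := by decide +kernel
    rw [h1]
    rcases c1 with c1 | c1
    · rw [← mul_assoc, c1, mul_assoc, c1, mul_assoc]
    · have h2 : (2 : F3) * 2 = 1 := by decide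
      rw [← mul_assoc, c1, Matrix.smul_mul, mul_assoc, c1, Matrix.mul_smul, smul_smul, h2, one_smul, mul_assoc]
  have h2 := bd_of_comm hz
  have hdet : (A : M4).det ≠ 0 := by
    intro h3
    have h4 : ((A : M4) * ((A⁻¹ : GL4) : M4)).det = 1 := by
      rw [← Units.val_mul, mul_inv_cancel, Units.val_one, Matrix.det_one]
    rw [Matrix.det_mul, h3, zero_mul] at h4
    exact zero_ne_one h4
  generalize !![(A : M4) 0 0, (A : M4) 0 1; (A : M4) 1 0, (A : M4) 1 1] = P at h2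
  generalize !![(A : M4) 2 2, (A : M4) 2 3; (A : M4) 3 2, (A : M4) 3 3] = R at h2
  rw [h2] at c1 c2 c3 c4
  rw [h2, bd_det] at hdet
  have hP : P ≠ 0 := by
    rintro rfl
    apply hdet
    rw [Matrix.det_zero, zero_mul]
  have hR : R ≠ 0 := by
    rintro rfl
    apply hdet
    rw [Matrix.det_zero, mul_zero]
  have a1 := bd_comm_cases hR c1
  have a2 := bd_comm_cases hR c2
  have a3 := bd_comm_cases' hP c3
  have a4 := bd_comm_cases' hP c4
  have e1 : ∀ B : SL4, (A : M4) = B.1 → A = tg B := fun B hB => Units.ext hB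
  rcases scal a1 a2 hP with b1 | b1 <;> rcases scal a3 a4 hR with b2 | b2 <;> rw [b1, b2] at h2
  · left
    rw [e1 1 (h2.trans (by decide +kernel)), lift_tg, map_one, map_one]
  · right
    rw [e1 (m1 * eZ) (h2.trans (by decide +kernel)), lift_tg, map_mul, pr_m1, one_mul]
    rfl
  · right
    rw [e1 eZ (h2.trans (by decide +kernel)), lift_tg]
    rfl
  · left
    rw [e1 m1 (h2.trans (by decide +kernel)), lift_tg, pr_m1, map_one]

theorem q_comm {g : L} (h : g ∈ ({i, j, k, l} : Set L)) : rho g = g := by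
  apply rho_fix_gen
  simp only [Set.mem_insert_iff, Set.mem_singleton_iff] at h ⊢
  tauto

theorem four {α : MulAut L} (hα : ∀ g ∈ ({i, j, k, l} : Set L), α g = g) :
    (∀ x, α x = x) ∨ (∀ x, α x = z * x * z⁻¹) ∨ (∀ x, α x = rho x) ∨ ∀ x, α x = rho (z * x * z⁻¹) := by
  rcases forms α with ⟨A, rfl⟩ | ⟨A, rfl⟩
  · rcases fix_cj (hα i (by simp)) (hα j (by simp)) (hα k (by simp)) (hα l (by simp)) with h | h
    · left
      intro x
      rw [h, MulAut.one_apply]
    · right; left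
      intro x
      rw [h, MulAut.conj_apply]
  · have h1 : Auto.lift (Auto.cj A * Auto.itr) * rho = Auto.lift (Auto.cj (A * Mp)) := by
      rw [rho, rf, ← map_mul, mul_assoc, ← mul_assoc Auto.itr, itr_cj, nice_p.tinv_eq, mul_assoc,
        Auto.itr_mul_itr, mul_one, map_mul Auto.cj]
    have h2 : ∀ g ∈ ({i, j, k, l} : Set L), Auto.lift (Auto.cj (A * Mp)) g = g := by
      intro g hg
      rw [← h1, MulAut.mul_apply, q_comm hg, hα g hg]
    have h3 : ∀ x, Auto.lift (Auto.cj A * Auto.itr) x = Auto.lift (Auto.cj (A * Mp)) (rho x) := by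
      intro x
      rw [← h1, MulAut.mul_apply, rho, nice_p.rf_rf]
    rcases fix_cj (h2 i (by simp)) (h2 j (by simp)) (h2 k (by simp)) (h2 l (by simp)) with h | h
    · right; right; left
      intro x
      rw [h3, h, MulAut.one_apply]
    · right; right; right
      intro x
      rw [h3, h, MulAut.conj_apply, map_mul, map_mul, map_inv, rho_fix (x := z) rfl]

/-- **The sheet of `PSL(4, 3)`.** -/
theorem sheetL {al be ga : Bool} (R : LargeExtra.W2.CM.Rules al be ga z i j k l x₁ x₂ y s) :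
    LFour.SheetL L (NineAA.syl R) Q z rho where
  toSheet := NineAA.sheet case9aa R
  refl := nice_p.isRefl
  refl' := by rw [rho_z]; exact nice_m.isRefl
  fixS := fun x hx => rho_fix (NineAA.syl_comm R hx)
  irr := fun N hN hn => NineAA.irr case9aa R N hN hn
  big := by rw [card_Q]; norm_num
  gen1 := gen1
  gen2 := gen2
  four := by
    intro α _ hα
    apply four
    intro g hg
    exact hα g (NineAA.le_syl case9aa R (gen_mem hg))

theorem hasSheetL_L : LFour.HasSheetL L := by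
  obtain ⟨al, be, ga, R⟩ := LargeExtra.W2.CM.rules_of_case case9aa
  obtain ⟨S, hS⟩ := NineAA.exists_sylow case9aa R (m := 47385) (by decide) (by rw [card_L]; norm_num)
  have h := sheetL R
  rw [← hS] at h
  exact LFour.HasSheetL.of_one h

/-- **`L₄(3)`.** -/
theorem hasSheetL {F : Type*} [Field F] [Fintype F] (hF : Fintype.card F = 3) {X : Type*} [Group X]
    (e : X ≃* Matrix.ProjectiveSpecialLinearGroup (Fin 4) F) : LFour.HasSheetL X := by
  obtain ⟨e'⟩ := LFour.PslFacts.psl_congr F hF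
  exact hasSheetL_L.of_equiv (e'.trans e.symm)

end Cfsg.Agent.OddHalf.D4.Small.LFourK

end
end

-- part: OddHalf/D6/QThree/U43AutSp
section
/-!
# ODD half, D6, `q = 3`: `U₄(3)`, the centralizer of a reflection is `PSp₄(3)` (helper218)

`ref_iso`: `C_K(ref b) ≃* PSp 2 F'`, `|F'| = 3`.
-/

set_option autoImplicit false
set_option linter.unusedSectionVars false
set_option linter.unusedTactic false
set_option linter.unreachableTactic false

namespace Cfsg.Agent.OddHalf.D6.QThree.U43AutSp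

open Matrix Cfsg.Agent.OddHalf.D6.QThree.U43Aut Cfsg.Agent.OddHalf.D6.QThree.U43AutRef
open Cfsg.Agent.OddHalf.D6.QThree.U43AutGood
open Cfsg Cfsg.Agent.OddHalf.Small.U43Mat Cfsg.Agent.OddHalf.Small.U43Good
open Cfsg.Agent.LieClassical.HermSiegel Cfsg.Agent.LieClassical.SUBasic
open Cfsg.Agent.ClassicalGeometry.UnitAutBasic (pr pr_surjective)
open Cfsg.Agent.ClassicalGeometry.PSUAutCount Cfsg.Agent.ClassicalGeometry.PSUAutMain
open Cfsg.Agent.OddHalf.D6.QThree.U43Elt Cfsg.Agent.OddHalf.D6.QThree.U43Plus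

variable {F : Type*} [Field F] [CharP F 3]

/-- the index change `Fin 2 ⊕ Fin 2 ≃ Fin 4` -/
def ix : Fin 2 ⊕ Fin 2 ≃ Fin 4 where
  toFun := Sum.elim ![1, 3] ![0, 2]
  invFun := ![Sum.inr 0, Sum.inl 0, Sum.inr 1, Sum.inl 1]
  left_inv := by decide
  right_inv := by decide

/-- the prime field in `F` -/
def io (F : Type*) [Field F] [CharP F 3] : ZMod 3 →+* F := ZMod.castHom (dvd_refl 3) F

/-- the matrix over `F` -/
def rx (A : Matrix (Fin 2 ⊕ Fin 2) (Fin 2 ⊕ Fin 2) (ZMod 3)) : M4 F := Matrix.reindex ix ix (A.map (io F))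

theorem rx_mul (A B : Matrix (Fin 2 ⊕ Fin 2) (Fin 2 ⊕ Fin 2) (ZMod 3)) :
    (rx (A * B) : M4 F) = rx A * rx B := by
  unfold rx
  rw [Matrix.map_mul, Matrix.reindex_apply, Matrix.reindex_apply, Matrix.reindex_apply,
    Matrix.submatrix_mul_equiv]

theorem rx_one : (rx 1 : M4 F) = 1 := by
  unfold rx
  rw [Matrix.map_one _ (map_zero _) (map_one _), Matrix.reindex_apply, Matrix.submatrix_one_equiv]

theorem rx_J : (rx (Matrix.J (Fin 2) (ZMod 3)) : M4 F) = rr 1 := by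
  ext i j
  show io F (Matrix.J (Fin 2) (ZMod 3) (ix.symm i) (ix.symm j)) = rr 1 i j
  (revert i j; simp only [ix, Matrix.J, rr, _root_.Fin.forall_fin_succ, Fin.isValue, _root_.Equiv.symm_mk, _root_.Equiv.coe_fn_mk, _root_.Matrix.of_apply, _root_.Matrix.cons_val', _root_.Matrix.cons_val_fin_one, _root_.Matrix.cons_val_zero, _root_.Matrix.cons_val_succ, _root_.forall_const, _root_.Matrix.fromBlocks_apply₂₂, _root_.Matrix.zero_apply, _root_.map_zero, _root_.Matrix.fromBlocks_apply₂₁, _root_.Matrix.one_apply_eq, _root_.map_one, _root_.ne_eq, _root_.zero_ne_one, _root_.not_false_eq_true, _root_.Matrix.one_apply_ne, _root_.and_self, _root_.Matrix.fromBlocks_apply₁₂, _root_.Matrix.neg_apply, _root_.map_neg, _root_.Matrix.fromBlocks_apply₁₁, _root_.neg_zero, _root_.one_ne_zero, _root_.implies_true])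

theorem rx_transpose (A : Matrix (Fin 2 ⊕ Fin 2) (Fin 2 ⊕ Fin 2) (ZMod 3)) :
    (rx Aᵀ : M4 F) = (rx A)ᵀ := rfl

theorem cube_io (x : ZMod 3) : (io F x) ^ 3 = io F x := by
  rw [← map_pow]
  congr 1
  revert x
  decide

theorem tw_rx (ε : Bool) (A : Matrix (Fin 2 ⊕ Fin 2) (Fin 2 ⊕ Fin 2) (ZMod 3)) :
    tw ε (rx A : M4 F) = rx A := by
  cases ε
  · exact tw_false _
  · ext i j
    exact cube_io _

theorem st_rx (A : Matrix (Fin 2 ⊕ Fin 2) (Fin 2 ⊕ Fin 2) (ZMod 3)) :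
    st (rx A : M4 F) = (rx A)ᵀ := by
  ext i j
  exact cube_io _

theorem det_rx (A : Matrix (Fin 2 ⊕ Fin 2) (Fin 2 ⊕ Fin 2) (ZMod 3)) :
    (rx A : M4 F).det = io F A.det := by
  unfold rx
  rw [Matrix.det_reindex_self, ← RingHom.mapMatrix_apply, ← RingHom.map_det]

theorem rx_inj {A B : Matrix (Fin 2 ⊕ Fin 2) (Fin 2 ⊕ Fin 2) (ZMod 3)} (h : (rx A : M4 F) = rx B) : A = B := by
  have h1 := (Matrix.reindex ix ix).injective h
  ext i j
  exact (io F).injective (congrFun (congrFun h1 i) j)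

/-- the columns: a basis of the fixed points of `λ J φ`, `λ = 1 + a` -/
def TT (a : F) : M4 F := !![1, a, 0, 0; -1 - a, a - 1, 0, 0; 0, 0, 1, a; 0, 0, -1 - a, a - 1]

/-- the inverse of `TT` -/
def TI (a : F) : M4 F := !![-1, a - 1, 0, 0; a, -a - 1, 0, 0; 0, 0, -1, a - 1; 0, 0, a, -a - 1]

section T

variable {a : F} (ha : a ^ 2 = -1)

include ha

theorem TT_TI : TT a * TI a = 1 := by
  have h3 : (3 : F) = 0 := three
  ext i j
  rw [mul_apply, Fin.sum_univ_four]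
  (revert i j; simp only [TT, TI, _root_.Fin.forall_fin_succ, Fin.isValue, _root_.Matrix.of_apply, _root_.Matrix.cons_val', _root_.Matrix.cons_val_zero, _root_.Matrix.cons_val_fin_one, _root_.Matrix.cons_val_one, _root_.Matrix.cons_val, _root_.mul_neg, _root_.mul_one, _root_.MulZeroClass.mul_zero, _root_.add_zero, _root_.Matrix.cons_val_succ, _root_.zero_add, _root_.IsEmpty.forall_iff, _root_.Matrix.one_apply_eq, _root_.one_mul, Nat.reduceAdd, _root_.Fin.succ_zero_eq_one, _root_.ne_eq, _root_.zero_ne_one, _root_.not_false_eq_true, _root_.Matrix.one_apply_ne, _root_.neg_zero, _root_.MulZeroClass.zero_mul, _root_.Fin.succ_one_eq_two, Fin.reduceEq, Fin.reduceSucc, _root_.Fin.succ_ne_zero, _root_.neg_sub, _root_.sub_neg_eq_add, _root_.and_true, _root_.true_and]) <;> (repeat' with_reducible apply And.intro)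
  · linear_combination ((1)) * ha + ((-1)) * h3
  · linear_combination ((-1)) * ha + (0) * h3
  · linear_combination ((1)) * ha + (0) * h3
  · linear_combination ((-2)) * ha + ((1)) * h3
  · linear_combination ((1)) * ha + ((-1)) * h3
  · linear_combination ((-1)) * ha + (0) * h3
  · linear_combination ((1)) * ha + (0) * h3
  · linear_combination ((-2)) * ha + ((1)) * h3

theorem st_TT : st (TT a) * TT a = (-a) • rr 1 := by
  have h3 : (3 : F) = 0 := three
  ext i j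
  rw [mul_apply, Fin.sum_univ_four, st_apply, st_apply, st_apply, st_apply, Matrix.smul_apply]
  (revert i j; simp only [TT, rr, _root_.Fin.forall_fin_succ, Fin.isValue, _root_.Matrix.of_apply, _root_.Matrix.cons_val', _root_.Matrix.cons_val_fin_one, _root_.Matrix.cons_val_zero, _root_.Matrix.cons_val_one, _root_.Matrix.cons_val, _root_.smul_eq_mul, _root_.neg_mul, _root_.mul_one, _root_.MulZeroClass.mul_zero, _root_.add_zero, _root_.Matrix.cons_val_succ, _root_.zero_add, _root_.forall_const, _root_.one_pow, _root_.neg_zero, _root_.one_mul, _root_.ne_eq, _root_.OfNat.ofNat_ne_zero, _root_.not_false_eq_true, _root_.zero_pow, _root_.MulZeroClass.zero_mul, _root_.mul_neg, _root_.neg_neg, _root_.and_true, _root_.true_and]) <;> (repeat' with_reducible apply And.intro)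
  · linear_combination ((5) + (4) * a + (1) * a ^ 2) * ha + ((-1)) * h3
  · linear_combination ((1) + (-2) * a + (-1) * a ^ 2) * ha + ((2) * a) * h3
  · linear_combination ((1) + (3) * a + (-1) * a ^ 2) * ha + ((-2) * a) * h3
  · linear_combination ((4) + (-4) * a + (2) * a ^ 2) * ha + ((-1)) * h3
  · linear_combination ((5) + (4) * a + (1) * a ^ 2) * ha + ((-1)) * h3
  · linear_combination ((1) + (-2) * a + (-1) * a ^ 2) * ha + ((2) * a) * h3
  · linear_combination ((1) + (3) * a + (-1) * a ^ 2) * ha + ((-2) * a) * h3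
  · linear_combination ((4) + (-4) * a + (2) * a ^ 2) * ha + ((-1)) * h3

theorem J_TT : rr 1 * tw true (TT a) = (a - 1) • TT a := by
  have h3 : (3 : F) = 0 := three
  ext i j
  rw [mul_apply, Fin.sum_univ_four, Matrix.smul_apply]
  (revert i j; simp only [TT, rr, tw, _root_.Fin.forall_fin_succ, Fin.isValue, _root_.Matrix.of_apply, _root_.Matrix.cons_val', _root_.Matrix.cons_val_zero, _root_.Matrix.cons_val_fin_one, _root_.cond_true, _root_.Matrix.map_apply, _root_.Matrix.cons_val_one, _root_.Matrix.cons_val, _root_.smul_eq_mul, _root_.one_pow, _root_.mul_one, _root_.ne_eq, _root_.OfNat.ofNat_ne_zero, _root_.not_false_eq_true, _root_.zero_pow, _root_.MulZeroClass.mul_zero, _root_.add_zero, _root_.Matrix.cons_val_succ, _root_.zero_add, _root_.forall_const, _root_.one_mul, _root_.MulZeroClass.zero_mul, _root_.neg_mul, _root_.and_true, _root_.true_and]) <;> (repeat' with_reducible apply And.intro)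
  · linear_combination ((-3) + (-1) * a) * ha + ((1) + (-1) * a) * h3
  · linear_combination ((-4) + (1) * a) * ha + ((1) + (1) * a) * h3
  · linear_combination ((1)) * ha + ((-1)) * h3
  · linear_combination ((-1) + (-1) * a) * ha + ((1) * a) * h3
  · linear_combination ((-3) + (-1) * a) * ha + ((1) + (-1) * a) * h3
  · linear_combination ((-4) + (1) * a) * ha + ((1) + (1) * a) * h3
  · linear_combination ((1)) * ha + ((-1)) * h3
  · linear_combination ((-1) + (-1) * a) * ha + ((1) * a) * h3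

theorem TI_TT : TI a * TT a = 1 := mul_eq_one_comm.1 (TT_TI ha)

/-- unitary: the matrices `T A T⁻¹` -/
theorem un_rx {A : Matrix (Fin 2 ⊕ Fin 2) (Fin 2 ⊕ Fin 2) (ZMod 3)} (hA : A ∈ symplecticGroup (Fin 2) (ZMod 3)) :
    st (TT a * rx A * TI a) * (TT a * rx A * TI a) = 1 := by
  have h1 : (rx A : M4 F)ᵀ * rr 1 * rx A = rr 1 := by
    have h2 := SymplecticGroup.mem_iff.1 (SymplecticGroup.transpose_mem hA)
    rw [transpose_transpose] at h2
    have h3 := congrArg (rx (F := F)) h2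
    rw [rx_mul, rx_mul, rx_J, rx_transpose] at h3
    exact h3
  rw [st_mul, st_mul, st_rx]
  calc st (TI a) * ((rx A : M4 F)ᵀ * st (TT a)) * (TT a * rx A * TI a) =
      st (TI a) * ((rx A : M4 F)ᵀ * (st (TT a) * TT a) * rx A) * TI a := by simp only [mul_assoc]
    _ = st (TI a) * ((-a) • rr 1) * TI a := by
        rw [st_TT ha, Matrix.mul_smul, Matrix.smul_mul, h1]
    _ = st (TI a) * (st (TT a) * TT a) * TI a := by rw [st_TT ha]
    _ = st (TT a * TI a) * (TT a * TI a) := by rw [st_mul]; simp only [mul_assoc]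
    _ = 1 := by rw [TT_TI ha, st_one, one_mul]

theorem det_T {A : Matrix (Fin 2 ⊕ Fin 2) (Fin 2 ⊕ Fin 2) (ZMod 3)} (hA : A ∈ symplecticGroup (Fin 2) (ZMod 3)) :
    (TT a * rx A * TI a).det = 1 := by
  have h1 : (TT a).det * (TI a).det = 1 := by rw [← det_mul, TT_TI ha, det_one]
  rw [det_mul, det_mul, det_rx, SymplecticGroup.det_eq_one hA, map_one, mul_one, h1]

/-- `Sp₄(3) → SU₄(3)` -/
def sp : symplecticGroup (Fin 2) (ZMod 3) →* SU 4 F 3 where
  toFun A := mkSU (TT a * rx A.1 * TI a) (det_T ha A.2) (herm_of_st (un_rx ha A.2))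
  map_one' := by
    apply mat_injective
    rw [mat_mkSU, mat_one]
    show TT a * rx 1 * TI a = 1
    rw [rx_one, mul_one, TT_TI ha]
  map_mul' A B := by
    apply mat_injective
    rw [mat_mkSU, mat_mul, mat_mkSU, mat_mkSU]
    show TT a * rx (A.1 * B.1) * TI a = _
    rw [rx_mul]
    calc TT a * (rx A.1 * rx B.1) * TI a = TT a * rx A.1 * (TI a * TT a) * rx B.1 * TI a := by
          rw [TI_TT ha, mul_one]; simp only [mul_assoc]
      _ = _ := by simp only [mul_assoc]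

theorem mat_sp (A : symplecticGroup (Fin 2) (ZMod 3)) : mat (sp ha A : SU 4 F 3) = TT a * rx A.1 * TI a := rfl

/-- the elements of `Sp₄(3)` commute with `J φ` -/
theorem sp_comm (A : symplecticGroup (Fin 2) (ZMod 3)) :
    rr 1 * tw true (mat (sp ha A : SU 4 F 3)) = mat (sp ha A : SU 4 F 3) * rr 1 := by
  have h1 := J_TT ha
  have h2 : tw true (TT a) * tw true (TI a) = 1 := by rw [← tw_mul, TT_TI ha, tw_one]
  -- `J tw(T) = c T`, so `tw(T)⁻¹ = c⁻¹ ...`
  have h3 : TI a * rr 1 = (a - 1) • tw true (TI a) := by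
    calc TI a * rr 1 = TI a * (rr 1 * (tw true (TT a) * tw true (TI a))) := by rw [h2, mul_one]
      _ = TI a * (rr 1 * tw true (TT a)) * tw true (TI a) := by simp only [mul_assoc]
      _ = (a - 1) • tw true (TI a) := by
          rw [h1, Matrix.mul_smul, TI_TT ha, Matrix.smul_mul, one_mul]
  rw [mat_sp, tw_mul, tw_mul, tw_rx]
  calc rr 1 * (tw true (TT a) * rx A.1 * tw true (TI a)) = (rr 1 * tw true (TT a)) * rx A.1 * tw true (TI a) := by
        simp only [mul_assoc]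
    _ = TT a * rx A.1 * ((a - 1) • tw true (TI a)) := by
        rw [h1, Matrix.smul_mul, Matrix.smul_mul, Matrix.mul_smul]
    _ = TT a * rx A.1 * TI a * rr 1 := by rw [← h3]; simp only [mul_assoc]

omit ha in
/-- the Pfaffian of `g J gᵀ` -/
theorem pf_id (g m : M4 F) (hm : m = g * rr 1 * gᵀ) :
    m 0 1 * m 2 3 - m 0 2 * m 1 3 + m 0 3 * m 1 2 = g.det := by
  have e : ∀ i j, m i j = g i 0 * g j 1 - g i 1 * g j 0 + (g i 2 * g j 3 - g i 3 * g j 2) := by
    intro i j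
    rw [hm, mul_apply, Fin.sum_univ_four]
    simp only [mul_apply, Fin.sum_univ_four, transpose_apply]
    simp only [rr, _root_.Fin.isValue, _root_.Matrix.of_apply, _root_.Matrix.cons_val', _root_.Matrix.cons_val_zero, _root_.Matrix.cons_val_fin_one, _root_.MulZeroClass.mul_zero, _root_.Matrix.cons_val_one, _root_.mul_neg, _root_.mul_one, _root_.zero_add, _root_.Matrix.cons_val, _root_.add_zero, _root_.neg_mul]
    ring
  rw [e, e, e, e, e, e]
  simp only [det_succ_row_zero, Fin.sum_univ_succ, Fin.succAbove, _root_.Fin.isValue, _root_.Nat.succ_eq_add_one, _root_.Nat.reduceAdd, _root_.Matrix.submatrix_apply, _root_.Fin.succ_zero_eq_one, _root_.Matrix.submatrix_submatrix, _root_.Function.comp_apply, _root_.Fin.succ_one_eq_two, _root_.Matrix.det_unique, _root_.Fin.default_eq_zero, _root_.Fin.reduceSucc, _root_.Fin.castSucc_zero, _root_.Fin.coe_ofNat_eq_mod, _root_.Nat.zero_mod, _root_.pow_zero, _root_.one_mul, _root_.lt_self_iff_false,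 ↓ _root_.reduceIte, _root_.Fin.castSucc_one, _root_.Finset.univ_unique, _root_.Fin.val_succ, _root_.Fin.val_eq_zero, _root_.zero_add, _root_.pow_one, _root_.Fin.castSucc_succ, _root_.neg_mul, _root_.Fin.succ_pos, _root_.Finset.sum_neg_distrib, _root_.Finset.sum_singleton, _root_.not_lt_zero, _root_.Fin.reduceCastSucc, _root_.even_two, _root_.Even.neg_pow, _root_.one_pow, _root_.Fin.reduceLT, _root_.Fin.lt_one_iff, _root_.Fin.reduceEq]
  ring

omit ha in
theorem c_sq {g : M4 F} (hg : st g * g = 1) (hd : g.det = 1) {c : F} (hc : c ^ 4 = 1)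
    (h : rr 1 * tw true g = c • (g * rr 1)) : c ^ 2 = 1 := by
  have h1 : tw true g * gᵀ = 1 := by
    have h2 : (tw true g)ᵀ * g = 1 := hg
    have h3 := congrArg transpose (mul_eq_one_comm.1 h2)
    rwa [transpose_mul, transpose_transpose, transpose_one] at h3
  have h2 : (rr 1 : M4 F) = c • (g * rr 1 * gᵀ) := by
    calc (rr 1 : M4 F) = rr 1 * (tw true g * gᵀ) := by rw [h1, mul_one]
      _ = (rr 1 * tw true g) * gᵀ := by rw [mul_assoc]
      _ = c • (g * rr 1 * gᵀ) := by rw [h, Matrix.smul_mul]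
  have h3 : c ^ 3 • (rr 1 : M4 F) = g * rr 1 * gᵀ := by
    conv_lhs => rw [h2]
    rw [smul_smul, ← pow_succ, hc, one_smul]
  have h4 := pf_id g _ h3
  rw [hd] at h4
  simp only [rr, _root_.Fin.isValue, _root_.Matrix.smul_apply, _root_.Matrix.of_apply, _root_.Matrix.cons_val', _root_.Matrix.cons_val_one, _root_.Matrix.cons_val_zero, _root_.Matrix.cons_val_fin_one, _root_.smul_eq_mul, _root_.mul_one, _root_.Matrix.cons_val, _root_.MulZeroClass.mul_zero, _root_.sub_zero, _root_.add_zero] at h4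
  linear_combination h4 - c ^ 2 * hc

omit ha in
theorem exists_io {x : F} (hx : x ^ 3 = x) : ∃ y : ZMod 3, io F y = x := by
  have h1 : x * ((x - 1) * (x + 1)) = 0 := by linear_combination hx
  rcases mul_eq_zero.1 h1 with h | h
  · exact ⟨0, by rw [map_zero, h]⟩
  rcases mul_eq_zero.1 h with h | h
  · exact ⟨1, by rw [map_one]; linear_combination -h⟩
  · exact ⟨-1, by rw [map_neg, map_one]; linear_combination -h⟩

/-- the fixed points of `J φ` in `SU₄(3)` -/
theorem exists_sp {g : SU 4 F 3} (h : rr 1 * tw true (mat g) = mat g * rr 1) : ∃ A, sp ha A = g := by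
  have h1 := J_TT ha
  have hg := st_mat g
  have hmu : (a - 1) ≠ 0 := by
    intro h0
    exact two_ne (F := F) (by linear_combination ha - (a + 1) * h0)
  have ha0 : -a ≠ 0 := by
    intro h0
    exact one_ne_zero (α := F) (by linear_combination ha + a * h0)
  have h2 : tw true (TT a) * tw true (TI a) = 1 := by rw [← tw_mul, TT_TI ha, tw_one]
  have h3 : TI a * rr 1 = (a - 1) • tw true (TI a) := by
    calc TI a * rr 1 = TI a * (rr 1 * (tw true (TT a) * tw true (TI a))) := by rw [h2, mul_one]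
      _ = TI a * (rr 1 * tw true (TT a)) * tw true (TI a) := by simp only [mul_assoc]
      _ = (a - 1) • tw true (TI a) := by
          rw [h1, Matrix.mul_smul, TI_TT ha, Matrix.smul_mul, one_mul]
  obtain ⟨B, hB⟩ : ∃ B : M4 F, B = TI a * mat g * TT a := ⟨_, rfl⟩
  have hgB : mat g * TT a = TT a * B := by
    calc mat g * TT a = (TT a * TI a) * mat g * TT a := by rw [TT_TI ha, one_mul]
      _ = TT a * B := by rw [hB]; simp only [mul_assoc]
  have htw : tw true B = B := by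
    have h4 : (a - 1) • tw true B = (a - 1) • B := by
      calc (a - 1) • tw true B = ((a - 1) • tw true (TI a)) * tw true (mat g) * tw true (TT a) := by
            rw [hB, tw_mul, tw_mul, Matrix.smul_mul, Matrix.smul_mul]
        _ = TI a * (rr 1 * tw true (mat g)) * tw true (TT a) := by rw [← h3]; simp only [mul_assoc]
        _ = TI a * mat g * (rr 1 * tw true (TT a)) := by rw [h]; simp only [mul_assoc]
        _ = (a - 1) • B := by rw [h1, Matrix.mul_smul, hB]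
    exact smul_right_injective _ hmu h4
  have hent : ∀ i j, ∃ y : ZMod 3, io F y = B i j := fun i j => exists_io (congrFun (congrFun htw i) j)
  choose y hy using hent
  obtain ⟨A, hA⟩ : ∃ A : Matrix (Fin 2 ⊕ Fin 2) (Fin 2 ⊕ Fin 2) (ZMod 3), rx A = B := by
    refine ⟨fun i j => y (ix i) (ix j), ?_⟩
    ext i j
    show io F (y (ix (ix.symm i)) (ix (ix.symm j))) = B i j
    rw [Equiv.apply_symm_apply, Equiv.apply_symm_apply, hy]
  have hBJ : Bᵀ * rr 1 * B = rr 1 := by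
    have h5 : st B * ((-a) • rr 1) * B = (-a) • rr 1 := by
      calc st B * ((-a) • rr 1) * B = st B * (st (TT a) * TT a) * B := by rw [st_TT ha]
        _ = st (TT a * B) * (TT a * B) := by rw [st_mul]; simp only [mul_assoc]
        _ = st (mat g * TT a) * (mat g * TT a) := by rw [hgB]
        _ = st (TT a) * (st (mat g) * mat g) * TT a := by rw [st_mul]; simp only [mul_assoc]
        _ = (-a) • rr 1 := by rw [hg, mul_one, st_TT ha]
    have h6 : st B = Bᵀ := congrArg transpose htw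
    rw [h6, Matrix.mul_smul, Matrix.smul_mul] at h5
    exact smul_right_injective _ ha0 h5
  have hAs : A ∈ symplecticGroup (Fin 2) (ZMod 3) := by
    rw [← transpose_transpose A]
    apply SymplecticGroup.transpose_mem
    rw [SymplecticGroup.mem_iff, transpose_transpose]
    apply rx_inj (F := F)
    rw [rx_mul, rx_mul, rx_J, rx_transpose, hA, hBJ]
  refine ⟨⟨A, hAs⟩, ?_⟩
  apply mat_injective
  rw [mat_sp]
  show TT a * rx A * TI a = mat g
  rw [hA, ← hgB, mul_assoc, TT_TI ha, mul_one]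

variable [Fintype F]

/-- `Sp₄(3) → U₄(3)` -/
def spK : symplecticGroup (Fin 2) (ZMod 3) →* PSU 4 F 3 := (pr 4 F 3).comp (sp ha)

theorem spK_range (hF : Fintype.card F = 9) (h1 : (1 : F) ^ 4 = 1) :
    (spK ha).range = fixS (ref hF 1 h1) := by
  apply le_antisymm
  · rintro _ ⟨A, rfl⟩
    exact sa_of hF _ _ (sp_comm ha A)
  · intro x hx
    obtain ⟨g, rfl⟩ := pr_surjective x
    obtain ⟨c, hc, h⟩ := (sa_iff hF _ _ _ _).1 (mem_fixS.1 hx)
    rcases sq_one (c_sq (st_mat g) (det_mat g) hc h) with rfl | rfl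
    · rw [one_smul] at h
      obtain ⟨A, hA⟩ := exists_sp ha h
      exact ⟨A, congrArg _ hA⟩
    · have ha4 := a_pow ha
      have hm : mat (suScalar 3 a ha4 ha4 * g) = a • mat g := by
        rw [mat_mul, mat_def, coe_suScalar]
        ext i j
        rw [diagonal_mul, Matrix.smul_apply, smul_eq_mul]
      obtain ⟨A, hA⟩ := exists_sp ha (g := suScalar 3 a ha4 ha4 * g) (by
        rw [hm, tw_smul, Matrix.mul_smul, h, smul_smul, Matrix.smul_mul]
        congr 1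
        simp only [cond_true]
        linear_combination -a * ha)
      refine ⟨A, ?_⟩
      show pr 4 F 3 (sp ha A) = pr 4 F 3 g
      rw [hA]
      exact (pr_eq_of_mat hm).symm

theorem spK_ker (hF : Fintype.card F = 9) :
    (spK ha).ker = Subgroup.center (symplecticGroup (Fin 2) (ZMod 3)) := by
  ext A
  rw [MonoidHom.mem_ker, LieClassical.SympCenter.mem_center_iff]
  show pr 4 F 3 (sp ha A) = 1 ↔ _
  have key : ∀ c : F, mat (sp ha A : SU 4 F 3) = c • 1 ↔ (rx A.1 : M4 F) = c • 1 := by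
    intro c
    rw [mat_sp]
    constructor
    · intro h
      calc (rx A.1 : M4 F) = TI a * (TT a * rx A.1 * TI a) * TT a := by
            rw [← mul_assoc, ← mul_assoc, TI_TT ha, one_mul, mul_assoc, TI_TT ha, mul_one]
        _ = c • 1 := by rw [h, Matrix.mul_smul, Matrix.smul_mul, mul_one, TI_TT ha]
    · intro h
      rw [h, Matrix.mul_smul, Matrix.smul_mul, mul_one, TT_TI ha]
  have hs : ∀ x : ZMod 3, (rx (x • 1) : M4 F) = io F x • 1 := by
    intro x
    ext i j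
    show io F ((x • (1 : Matrix (Fin 2 ⊕ Fin 2) (Fin 2 ⊕ Fin 2) (ZMod 3))) (ix.symm i) (ix.symm j)) = _
    rw [Matrix.smul_apply, Matrix.smul_apply, smul_eq_mul, smul_eq_mul, map_mul, one_apply, one_apply]
    by_cases hij : i = j
    · rw [if_pos hij, if_pos (by rw [hij]), map_one]
    · rw [if_neg hij, if_neg (fun h => hij (ix.symm.injective h)), map_zero]
  constructor
  · intro h
    rw [← map_one (pr 4 F 3)] at h
    obtain ⟨c, -, hc⟩ := mat_of_pr_eq hF h.symm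
    rw [mat_one, key] at hc
    have h1 : io F (A.1 (Sum.inr 0) (Sum.inr 0)) = c := by
      have := congrFun (congrFun hc 0) 0
      rw [Matrix.smul_apply, one_apply_eq, smul_eq_mul, mul_one] at this
      exact this
    refine ⟨A.1 (Sum.inr 0) (Sum.inr 0), ?_⟩
    apply rx_inj (F := F)
    rw [hc, hs, h1]
  · rintro ⟨x, hx⟩
    rw [← map_one (pr 4 F 3)]
    refine (pr_eq_of_mat (c := io F x) ?_).symm
    rw [mat_one, key, hx, hs]

omit ha in
/-- `C_K(ref 1) = PSp₄(3)` -/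
theorem iso_one (hF : Fintype.card F = 9) (h1 : (1 : F) ^ 4 = 1) :
    Nonempty (fixS (ref hF 1 h1) ≃* PSp 2 (ZMod 3)) := by
  obtain ⟨a, ha⟩ := exists_a hF
  have e1 := QuotientGroup.quotientKerEquivRange (spK ha)
  have e2 : PSp 2 (ZMod 3) ≃* symplecticGroup (Fin 2) (ZMod 3) ⧸ (spK ha).ker :=
    QuotientGroup.quotientMulEquivOfEq (spK_ker ha hF).symm
  have e3 := MulEquiv.subgroupCongr (spK_range ha hF h1)
  exact ⟨((e2.trans e1).trans e3).symm⟩

end T


/-- conjugate automorphisms have isomorphic fixed points -/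
def fixS_conj {K : Type*} [Group K] (α η : MulAut K) : fixS α ≃* fixS (η * α * η⁻¹) where
  toFun x := ⟨η x, by
    show (η * α * η⁻¹) (η x) = η x
    rw [MulAut.mul_apply, MulAut.mul_apply, MulAut.inv_apply_self]
    exact congrArg η x.2⟩
  invFun y := ⟨η⁻¹ y, by
    have h : (η * α * η⁻¹) (y : K) = y := y.2
    rw [MulAut.mul_apply, MulAut.mul_apply] at h
    show α (η⁻¹ y) = η⁻¹ y
    apply η.injective
    rw [h, MulAut.apply_inv_self]⟩
  left_inv x := Subtype.ext (MulAut.inv_apply_self K η x)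
  right_inv y := Subtype.ext (MulAut.apply_inv_self K η y)
  map_mul' x y := Subtype.ext (map_mul η _ _)

section fin

variable [Fintype F]

theorem un_aqb {b : F} (hb : b ^ 4 = 1) : st (aq b) * aq b = 1 := un_diag (by
  intro i; fin_cases i <;> simp [hb])

/-- `ref b` is conjugate to `ref 1` by `diag(1, 1, 1, b)` -/
theorem ref_conj (hF : Fintype.card F = 9) {b : F} (hb : b ^ 4 = 1) (h1 : (1 : F) ^ 4 = 1) :
    sa hF (aq b) (un_aqb hb) false * ref hF 1 h1 * (sa hF (aq b) (un_aqb hb) false)⁻¹ = ref hF b hb := by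
  rw [mul_inv_eq_iff_eq_mul]
  unfold ref
  rw [sa_mul, sa_mul]
  refine (sa_congr hF _ _ _ ?_)
  have hb' : b * b ^ 3 = 1 := by linear_combination hb
  ext i j
  rw [mul_apply, mul_apply, Fin.sum_univ_four, Fin.sum_univ_four]
  (revert i j; simp only [rr, tw, aq, hb', _root_.Fin.forall_fin_succ, Fin.isValue, _root_.Matrix.of_apply, _root_.Matrix.cons_val', _root_.Matrix.cons_val_zero, _root_.Matrix.cons_val_fin_one, _root_.cond_true, _root_.Matrix.map_apply, _root_.Matrix.cons_val_one, _root_.Matrix.cons_val, _root_.cond_false, _root_.Matrix.diagonal_apply_eq, _root_.one_pow, _root_.mul_one, _root_.ne_eq, _root_.one_ne_zero, _root_.not_false_eq_true, _root_.Matrix.diagonal_apply_ne, _root_.OfNat.ofNat_ne_zero, _root_.zero_pow, _root_.MulZeroClass.mul_zero, _root_.add_zero, Fin.reduceEq, _root_.mul_neg, _root_.zero_add, _root_.Matrix.cons_val_succ, _root_.Fin.succ_zero_eq_one, _root_.zero_ne_one, _root_.Fin.succ_one_eq_two,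 Fin.reduceSucc, _root_.IsEmpty.forall_iff, _root_.and_true, _root_.neg_zero, _root_.MulZeroClass.zero_mul, _root_.and_self, _root_.Fin.succ_ne_zero, _root_.zero_eq_neg, _root_.neg_inj, _root_.true_and])

/-- **`C_K(ref b) = PSp₄(3)`** -/
theorem ref_iso (hF : Fintype.card F = 9) {b : F} (hb : b ^ 4 = 1) {F' : Type*} [Field F'] [Fintype F']
    (hF' : Fintype.card F' = 3) : Nonempty (fixS (ref hF b hb) ≃* PSp 2 F') := by
  have h1 : (1 : F) ^ 4 = 1 := one_pow 4
  obtain ⟨e⟩ := iso_one hF h1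
  have e0 := fixS_conj (ref hF 1 h1) (sa hF (aq b) (un_aqb hb) false)
  have e1 : fixS (sa hF (aq b) (un_aqb hb) false * ref hF 1 h1 * (sa hF (aq b) (un_aqb hb) false)⁻¹) ≃*
      fixS (ref hF b hb) := MulEquiv.subgroupCongr (by rw [ref_conj hF hb h1])
  have e2 := Cfsg.Agent.LieClassical.FieldTransfer.pspCongr 2 (Cfsg.Agent.Lib.FieldThree.equivOfCard hF')
  have e3 := Cfsg.Agent.LieClassical.FieldTransfer.pspCongr 2
    (Cfsg.Agent.Lib.FieldThree.equivOfCard (F := ZMod 3) (ZMod.card 3))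
  exact ⟨((e0.trans e1).symm.trans e).trans (e3.trans e2.symm)⟩

end fin

end Cfsg.Agent.OddHalf.D6.QThree.U43AutSp
end

-- part: OddHalf/D6/QThree/U43AutKF
section
/-!
# ODD half, D6, `q = 3`: `U₄(3)`, the facts on `Aut(K)` for `z`, `R` (helper218)

`two_pr`, `full_pr`: `Facts.Two`, `NIFacts.Full` for `z = pr d`, `R = QQ`. `CR z R`: the structure of `C_Aut(R) = D₈`.
-/

set_option autoImplicit false
set_option linter.unusedSectionVars false

namespace Cfsg.Agent.OddHalf.D6.QThree.U43AutKF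

open Matrix Cfsg.Agent.OddHalf.D6.QThree.U43Aut Cfsg.Agent.OddHalf.D6.QThree.U43AutRef
open Cfsg.Agent.OddHalf.D6.QThree.U43AutGood Cfsg.Agent.OddHalf.D6.QThree.U43AutSp
open Cfsg Cfsg.Agent.OddHalf.Small.U43Mat Cfsg.Agent.OddHalf.Small.U43Good
open Cfsg.Agent.LieClassical.HermSiegel Cfsg.Agent.LieClassical.SUBasic
open Cfsg.Agent.ClassicalGeometry.UnitAutBasic (pr pr_surjective)
open Cfsg.Agent.OddHalf.D6.QThree.U43Elt Cfsg.Agent.OddHalf.D6.QThree.U43Plus

/-- the automorphisms trivial on `R` form a group like `D₈` with centre `⟨z⟩`; those of order two outside `⟨z⟩` have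
fixed points `PSp₄(3)` -/
structure CR {K : Type*} [Group K] (z : K) (R : Subgroup K) : Prop where
  sq : ∀ α : MulAut K, (∀ x ∈ R, α x = x) → α * α = 1 ∨ α * α = MulAut.conj z
  cm : ∀ α β : MulAut K, (∀ x ∈ R, α x = x) → (∀ x ∈ R, β x = x) →
    α * β = β * α ∨ α * β = β * α * MulAut.conj z
  un : ∀ α β : MulAut K, (∀ x ∈ R, α x = x) → (∀ x ∈ R, β x = x) → α * α = MulAut.conj z →
    β * β = MulAut.conj z → β = α ∨ β = α * MulAut.conj z
  nc : ∀ α β : MulAut K, (∀ x ∈ R, α x = x) → (∀ x ∈ R, β x = x) → α * α = 1 → β * β = 1 →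
    α ≠ 1 → α ≠ MulAut.conj z → β ≠ 1 → β ≠ MulAut.conj z → α * β = β * α →
    β = α ∨ β = α * MulAut.conj z
  mv : ∀ α : MulAut K, (∀ x ∈ R, α x = x) → α ≠ 1 → α ≠ MulAut.conj z →
    ∃ p, p * z = z * p ∧ MulAut.conj p * α = α * MulAut.conj z * MulAut.conj p
  odd : ∀ α : MulAut K, (∀ x ∈ R, α x = x) → ∀ x, x * z = z * x → Odd (orderOf x) → α x = x
  rf : ∀ α : MulAut K, (∀ x ∈ R, α x = x) → α * α = 1 → α ≠ 1 → α ≠ MulAut.conj z →
    Nonempty (fixS α ≃* PSp 2 (ZMod 3))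

variable {F : Type*} [Field F] [CharP F 3] [Fintype F]

theorem two_pr (hF : Fintype.card F = 9) : Facts.Two (pr 4 F 3 d) (QQ hF) := by
  obtain ⟨i, j, k, l, x₁, x₂, y, s, h, hs, -⟩ := U43Tw.exists_tw (F := F) hF
  have hcls := U43Tw.one_class (F := F) hF
  exact U43Facts.two_of_tw h hs (U43Tw.odd_index (by rw [U43Tw.card_K hF]; norm_num) hcls) hcls

theorem del_congr (hF : Fintype.card F = 9) {b c : F} (hb : b ^ 4 = 1) (hc : c ^ 4 = 1) (h : b = c) :
    del hF b hb = del hF c hc := by subst h; rfl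

theorem ref_congr (hF : Fintype.card F = 9) {b c : F} (hb : b ^ 4 = 1) (hc : c ^ 4 = 1) (h : b = c) :
    ref hF b hb = ref hF c hc := by subst h; rfl

theorem del_mul_d (hF : Fintype.card F = 9) {b : F} (hb : b ^ 4 = 1) :
    del hF b hb * MulAut.conj (pr 4 F 3 d) = del hF (-b) (neg_pow4 hb) := by
  have h1 : (-1 : F) ^ 4 = 1 := by norm_num
  rw [← del_neg hF h1, del_mul]
  exact del_congr hF _ _ (by ring)

theorem sq_pm {b : F} (hb : b ^ 4 = 1) : b ^ 2 = 1 ∨ b ^ 2 = -1 := sq_one (by rw [← pow_mul, hb])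

/-- `ss del b = del b z ss` if `b² = -1` -/
theorem ss_del (hF : Fintype.card F = 9) {b : F} (hb : b ^ 4 = 1) (h : b ^ 2 = -1) :
    MulAut.conj (pr 4 F 3 ss) * del hF b hb =
      del hF b hb * MulAut.conj (pr 4 F 3 d) * MulAut.conj (pr 4 F 3 ss) := by
  rw [conj_eq hF, conj_eq hF]
  unfold del
  rw [sa_mul, sa_mul, sa_mul]
  refine (sa_smul hF _ _ false (c := b) ?_).symm
  simp only [tw_false]
  rw [m_ss, m_d]
  ext i j
  rw [Matrix.smul_apply, mul_apply, mul_apply, Fin.sum_univ_four, Fin.sum_univ_four]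
  (revert i j; simp only [dd, tw, mul_apply, Fin.sum_univ_four, _root_.Fin.forall_fin_succ, Fin.isValue, _root_.Matrix.of_apply, _root_.Matrix.cons_val', _root_.Matrix.cons_val_zero, _root_.Matrix.cons_val_fin_one, _root_.Matrix.cons_val_one, _root_.Matrix.cons_val, _root_.mul_one, _root_.MulZeroClass.mul_zero, _root_.add_zero, _root_.bne_self_eq_false, _root_.cond_false, _root_.Matrix.map_apply, _root_.zero_add, _root_.mul_neg, _root_.neg_mul, _root_.smul_eq_mul, _root_.Matrix.diagonal_apply_eq, _root_.ne_eq, _root_.one_ne_zero, _root_.not_false_eq_true, _root_.Matrix.diagonal_apply_ne, Fin.reduceEq, _root_.neg_zero, _root_.Matrix.cons_val_succ, _root_.Fin.succ_zero_eq_one, _root_.zero_ne_one, _root_.Fin.succ_one_eq_two, Fin.reduceSucc, _root_.IsEmpty.forall_iff, _root_.one_mul, _root_.MulZeroClass.zero_mul, _root_.Fin.succ_ne_zero, _root_.mul_eq_zero, _root_.true_or, _root_.zero_eq_neg, _root_.zero_eq_mul, _root_.or_true,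 _root_.and_true, _root_.true_and]) <;> (repeat' with_reducible apply And.intro)
  all_goals linear_combination h

theorem del_inj (hF : Fintype.card F = 9) {b c : F} (hb : b ^ 4 = 1) (hc : c ^ 4 = 1)
    (h : del hF b hb = del hF c hc) : b = c := by
  obtain ⟨-, k, hk, he⟩ := sa_inj hF _ _ h
  have e1 := congrFun (congrFun he 0) 0
  have e2 := congrFun (congrFun he 2) 2
  simp [dd] at e1 e2
  rw [← e1, one_mul] at e2
  exact e2.symm

theorem cr (hF : Fintype.card F = 9) : CR (pr 4 F 3 d) (QQ hF) := by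
  obtain ⟨a, ha⟩ := exists_a hF
  have n1 : (-1 : F) ^ 4 = 1 := by norm_num
  refine ⟨?_, ?_, ?_, ?_, ?_, ?_, ?_⟩
  · intro α h
    obtain ⟨b, hb, rfl | rfl⟩ := cent_Q hF α h
    · rw [del_mul]
      rcases sq_pm hb with h1 | h1
      · left
        rw [← del_one hF (one_pow 4)]
        exact del_congr hF _ _ (by linear_combination h1)
      · right
        rw [← del_neg hF n1]
        exact del_congr hF _ _ (by linear_combination h1)
    · left; exact ref_sq hF hb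
  · intro α β h h'
    obtain ⟨b, hb, rfl | rfl⟩ := cent_Q hF α h <;> obtain ⟨c, hc, rfl | rfl⟩ := cent_Q hF β h'
    · left
      rw [del_mul, del_mul]
      exact del_congr hF _ _ (mul_comm _ _)
    · rw [del_mul_ref, ref_mul_del, ref_mul_d]
      rcases sq_pm hb with h1 | h1
      · left; exact ref_congr hF _ _ (by linear_combination -b * c * h1)
      · right; exact ref_congr hF _ _ (by linear_combination b * c * h1)
    · rw [del_mul_ref, ref_mul_del, ref_mul_d]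
      rcases sq_pm hc with h1 | h1
      · left; exact ref_congr hF _ _ (by linear_combination b * c * h1)
      · right; exact ref_congr hF _ _ (by linear_combination b * c * h1)
    · rw [ref_mul_ref, ref_mul_ref, del_mul_d]
      rcases sq_pm hb with h1 | h1 <;> rcases sq_pm hc with h2 | h2
      · left; exact del_congr hF _ _ (by linear_combination b * c * h2 - b * c * h1)
      · right; exact del_congr hF _ _ (by linear_combination b * c * h2 + b * c * h1)
      · right; exact del_congr hF _ _ (by linear_combination b * c * h2 + b * c * h1)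
      · left; exact del_congr hF _ _ (by linear_combination b * c * h2 - b * c * h1)
  · intro α β h h' h0 h0'
    obtain ⟨b, hb, rfl | rfl⟩ := cent_Q hF α h
    · obtain ⟨c, hc, rfl | rfl⟩ := cent_Q hF β h'
      · rw [del_mul, ← del_neg hF n1] at h0 h0'
        have h1 := del_inj hF _ _ h0
        have h2 := del_inj hF _ _ h0'
        have h3 : (c - b) * (c + b) = 0 := by linear_combination h2 - h1
        rcases mul_eq_zero.1 h3 with h4 | h4
        · left; exact del_congr hF _ _ (by linear_combination h4)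
        · right
          rw [del_mul_d]
          exact del_congr hF _ _ (by linear_combination h4)
      · exfalso
        rw [ref_sq] at h0'
        exact d_ne hF (conj_inj hF (by rw [← h0', map_one]))
    · exfalso
      rw [ref_sq] at h0
      exact d_ne hF (conj_inj hF (by rw [← h0, map_one]))
  · intro α β h h' h0 h0' h1 h2 h1' h2' hc0
    have key : ∀ {b : F} (hb : b ^ 4 = 1), del hF b hb * del hF b hb = 1 →
        del hF b hb = 1 ∨ del hF b hb = MulAut.conj (pr 4 F 3 d) := by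
      intro b hb h0
      rw [del_mul, ← del_one hF (one_pow 4)] at h0
      have h3 := del_inj hF _ _ h0
      exact del_sq hF hb (by linear_combination h3)
    obtain ⟨b, hb, rfl | rfl⟩ := cent_Q hF α h
    · exfalso
      rcases key hb h0 with h3 | h3
      · exact h1 h3
      · exact h2 h3
    obtain ⟨c, hc, rfl | rfl⟩ := cent_Q hF β h'
    · exfalso
      rcases key hc h0' with h3 | h3
      · exact h1' h3
      · exact h2' h3
    rw [ref_mul_ref, ref_mul_ref] at hc0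
    have h3 := del_inj hF _ _ hc0
    have h4 : (c - b) * (c + b) = 0 := by
      linear_combination -b * c * h3 + b ^ 2 * hc - c ^ 2 * hb
    rcases mul_eq_zero.1 h4 with h5 | h5
    · left; exact ref_congr hF _ _ (by linear_combination h5)
    · right
      rw [ref_mul_d]
      exact ref_congr hF _ _ (by linear_combination h5)
  · intro α h h1 h2
    obtain ⟨b, hb, rfl | rfl⟩ := cent_Q hF α h
    · refine ⟨_, ss_d hF, ss_del hF hb ?_⟩
      rcases sq_pm hb with h3 | h3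
      · exfalso
        rcases del_sq hF hb h3 with h4 | h4
        · exact h1 h4
        · exact h2 h4
      · exact h3
    · exact ⟨_, yy_d hF ha, ref_yy_conj ha hF hb⟩
  · intro α h x hx ho
    exact FrontOut.trivial_of_R (two_pr hF).toBase h hx ho
  · intro α h h0 h1 h2
    obtain ⟨b, hb, rfl | rfl⟩ := cent_Q hF α h
    · exfalso
      rw [del_mul, ← del_one hF (one_pow 4)] at h0
      have h3 := del_inj hF _ _ h0
      rcases del_sq hF hb (by linear_combination h3) with h4 | h4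
      · exact h1 h4
      · exact h2 h4
    · exact ref_iso hF hb (ZMod.card 3)

/-! ### `Case9aa`: the elements of odd order of `C(z)` -/

section odd

open Cfsg.Agent.LargeExtra.W2 Subgroup

variable {G : Type*} [Group G]

theorem odd_step {H : Subgroup G} {s : G} (hn : ∀ h ∈ H, s * h * s⁻¹ ∈ H) (hs : s * s ∈ H) {x : G}
    (hx : x ∈ H ⊔ zpowers s) (ho : Odd (orderOf x)) : x ∈ H := by
  have hn' : ∀ h ∈ H, s⁻¹ * h * s ∈ H := by
    intro h hh
    have h1 := hn _ (mul_mem (mul_mem (inv_mem hs) hh) hs)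
    have e : s * ((s * s)⁻¹ * h * (s * s)) * s⁻¹ = s⁻¹ * h * s := by group
    rwa [e] at h1
  let N : Subgroup G :=
    { carrier := {x | x ∈ H ∨ x * s ∈ H}
      one_mem' := Or.inl (one_mem _)
      mul_mem' := by
        rintro a b (ha | ha) (hb | hb)
        · exact Or.inl (mul_mem ha hb)
        · right
          have := mul_mem ha hb
          rwa [← mul_assoc] at this
        · right
          have h1 := mul_mem ha (hn' _ hb)
          have e : a * s * (s⁻¹ * b * s) = a * b * s := by group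
          rwa [e] at h1
        · left
          have h1 := mul_mem (mul_mem ha (hn' _ hb)) (inv_mem hs)
          have e : a * s * (s⁻¹ * (b * s) * s) * (s * s)⁻¹ = a * b := by group
          rwa [e] at h1
      inv_mem' := by
        rintro a (ha | ha)
        · exact Or.inl (inv_mem ha)
        · right
          have h1 := mul_mem (hn _ (inv_mem ha)) hs
          have e : s * (a * s)⁻¹ * s⁻¹ * (s * s) = a⁻¹ * s := by group
          rwa [e] at h1 }
  have hN : H ⊔ zpowers s ≤ N := by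
    refine sup_le (fun h hh => Or.inl hh) ?_
    rw [zpowers_le]
    exact Or.inr hs
  have hsq : ∀ y ∈ N, y * y ∈ H := by
    rintro y (hy | hy)
    · exact mul_mem hy hy
    · have h1 := mul_mem (mul_mem hy (hn' _ hy)) (inv_mem hs)
      have e : y * s * (s⁻¹ * (y * s) * s) * (s * s)⁻¹ = y * y := by group
      rwa [e] at h1
  obtain ⟨m, hm⟩ := ho
  have h1 : x * (x * x) ^ m = 1 := by
    rw [← pow_two, ← pow_mul, ← pow_succ', ← hm, pow_orderOf_eq_one]
  have h2 := pow_mem (hsq x (hN hx)) m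
  rw [mul_eq_one_iff_eq_inv.1 h1]
  exact inv_mem h2

/-- the elements of odd order of `C(z)` -/
theorem od_of_case {Q : Subgroup G} {z i j k l x₁ x₂ y s : G} (h : Case9aa Q z i j k l x₁ x₂ y s) {x : G}
    (hx : x * z = z * x) (ho : Odd (orderOf x)) : x ∈ _root_.Subgroup.closure {i, j, k, l, x₁, x₂} := by
  have gi : i ∈ _root_.Subgroup.closure ({i, j, k, l, x₁, x₂} : Set G) := _root_.Subgroup.subset_closure (by simp)
  have gj : j ∈ _root_.Subgroup.closure ({i, j, k, l, x₁, x₂} : Set G) := _root_.Subgroup.subset_closure (by simp)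
  have gk : k ∈ _root_.Subgroup.closure ({i, j, k, l, x₁, x₂} : Set G) := _root_.Subgroup.subset_closure (by simp)
  have gl : l ∈ _root_.Subgroup.closure ({i, j, k, l, x₁, x₂} : Set G) := _root_.Subgroup.subset_closure (by simp)
  have g1 : x₁ ∈ _root_.Subgroup.closure ({i, j, k, l, x₁, x₂} : Set G) := _root_.Subgroup.subset_closure (by simp)
  have g2 : x₂ ∈ _root_.Subgroup.closure ({i, j, k, l, x₁, x₂} : Set G) := _root_.Subgroup.subset_closure (by simp)
  have gz : z ∈ _root_.Subgroup.closure ({i, j, k, l, x₁, x₂} : Set G) := h.ii ▸ mul_mem gi gi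
  have hmem : ∀ {H : Subgroup G} {c : G} {S : Set G}, (∀ m ∈ S, c * m * c⁻¹ ∈ H) →
      ∀ m ∈ closure S, c * m * c⁻¹ ∈ H := by
    intro H c S hS m hm
    have : closure S ≤ H.comap (MulAut.conj c).toMonoidHom := (closure_le _).2 hS
    exact this hm
  have ny : ∀ m ∈ _root_.Subgroup.closure ({i, j, k, l, x₁, x₂} : Set G), y * m * y⁻¹ ∈ _root_.Subgroup.closure {i, j, k, l, x₁, x₂} := by
    apply hmem
    rintro m (rfl | rfl | rfl | rfl | rfl | rfl)
    · rw [h.y_act.i]; exact mul_mem gj gz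
    · rw [h.y_act.j]; exact mul_mem gi gz
    · rw [h.y_act.k]; exact mul_mem gl gz
    · rw [h.y_act.l]; exact mul_mem gk gz
    · rw [h.y1]; exact inv_mem g1
    · rw [h.y2]; exact inv_mem g2
  have yy : y * y ∈ _root_.Subgroup.closure ({i, j, k, l, x₁, x₂} : Set G) := by
    rcases h.yy with h1 | h1 <;> rw [h1]
    · exact one_mem _
    · exact gz
  have ss : s * s ∈ _root_.Subgroup.closure ({i, j, k, l, x₁, x₂} : Set G) := by
    rcases h.ss with h1 | h1 <;> rw [h1]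
    · exact one_mem _
    · exact gz
  have hle : _root_.Subgroup.closure ({i, j, k, l, x₁, x₂} : Set G) ≤ _root_.Subgroup.closure {i, j, k, l, x₁, x₂} ⊔ zpowers y := le_sup_left
  have hy : y ∈ _root_.Subgroup.closure ({i, j, k, l, x₁, x₂} : Set G) ⊔ zpowers y := mem_sup_right (mem_zpowers y)
  have ns : ∀ m ∈ _root_.Subgroup.closure ({i, j, k, l, x₁, x₂} : Set G) ⊔ zpowers y,
      s * m * s⁻¹ ∈ _root_.Subgroup.closure ({i, j, k, l, x₁, x₂} : Set G) ⊔ zpowers y := by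
    have key : ∀ m ∈ ({i, j, k, l, x₁, x₂} : Set G),
        s * m * s⁻¹ ∈ _root_.Subgroup.closure ({i, j, k, l, x₁, x₂} : Set G) ⊔ zpowers y := by
      rintro m (rfl | rfl | rfl | rfl | rfl | rfl)
      · rw [h.s_act.i]; exact hle gk
      · rw [h.s_act.j]; exact hle gl
      · rw [h.s_act.k]; exact hle gi
      · rw [h.s_act.l]; exact hle gj
      · rw [h.s1]; exact hle g2
      · rw [h.s2]; exact hle g1
    have key2 : s * y * s⁻¹ ∈ _root_.Subgroup.closure ({i, j, k, l, x₁, x₂} : Set G) ⊔ zpowers y := by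
      rcases h.ys with h1 | h1 <;> rw [h1]
      · exact hy
      · exact mul_mem hy (hle gz)
    intro m hm
    have h1 : _root_.Subgroup.closure ({i, j, k, l, x₁, x₂} : Set G) ⊔ zpowers y ≤
        (_root_.Subgroup.closure ({i, j, k, l, x₁, x₂} : Set G) ⊔ zpowers y).comap (MulAut.conj s).toMonoidHom :=
      sup_le ((closure_le _).2 key) (zpowers_le.2 key2)
    exact h1 hm
  refine odd_step ny yy (odd_step ns (hle ss) ?_ ho) ho
  have h1 : x ∈ centralizer ({z} : Set G) := mem_centralizer_singleton_iff.2 hx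
  rw [h.cent] at h1
  refine (closure_le _).2 ?_ h1
  rintro m (rfl | rfl | rfl | rfl | rfl | rfl | rfl | rfl)
  · exact mem_sup_left (hle gi)
  · exact mem_sup_left (hle gj)
  · exact mem_sup_left (hle gk)
  · exact mem_sup_left (hle gl)
  · exact mem_sup_left (hle g1)
  · exact mem_sup_left (hle g2)
  · exact mem_sup_left hy
  · exact mem_sup_right (mem_zpowers _)

end odd

/-! ### `Out(K)`, `|B̄|` -/

theorem out (hF : Fintype.card F = 9) (α : MulAut (PSU 4 F 3)) :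
    ∃ n : ℕ, α ^ 2 ^ n ∈ (MulAut.conj : PSU 4 F 3 →* MulAut (PSU 4 F 3)).range := by
  obtain ⟨M, hM, ε, rfl⟩ := exists_sa hF α
  refine ⟨3, ?_⟩
  have e : sa hF M hM ε ^ 2 ^ 3 = (sa hF M hM ε * sa hF M hM ε) * (sa hF M hM ε * sa hF M hM ε) *
      ((sa hF M hM ε * sa hF M hM ε) * (sa hF M hM ε * sa hF M hM ε)) := by
    generalize sa hF M hM ε = β
    have : (2 : ℕ) ^ 3 = 8 := rfl
    rw [this]
    simp only [pow_succ, pow_zero, one_mul, mul_assoc]
  have hx : (xor ε ε) = false := by cases ε <;> rfl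
  rw [e, sa_mul, sa_mul, sa_mul]
  set N := M * tw ε M with hN
  have h1 : (M * tw ε M * tw (xor ε ε) (M * tw ε M) *
      tw (xor (xor ε ε) (xor ε ε)) (M * tw ε M * tw (xor ε ε) (M * tw ε M))).det = (1 : M4 F).det := by
    rw [hx, Bool.xor_self, tw_false, tw_false, det_mul, det_mul, det_one]
    have := _root_.Cfsg.Agent.OddHalf.D6.QThree.U43Aut.det_pow (un_mul hM (un_tw ε hM))
    linear_combination this
  have hx2 : (xor (xor (xor ε ε) (xor ε ε)) (xor (xor ε ε) (xor ε ε))) = false := by simp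
  have h11 : st (1 : M4 F) * 1 = 1 := by rw [st_one, one_mul]
  obtain ⟨k, hk⟩ := exists_conj_mul hF h11 (un_mul (un_mul (un_mul hM (un_tw ε hM)) (un_tw (xor ε ε)
    (un_mul hM (un_tw ε hM)))) (un_tw (xor (xor ε ε) (xor ε ε)) (un_mul (un_mul hM (un_tw ε hM))
      (un_tw (xor ε ε) (un_mul hM (un_tw ε hM)))))) false h1
  rw [sa_one hF h11 (c := 1) (by rw [one_smul]), mul_one] at hk
  refine ⟨k, ?_⟩
  rw [hk]
  congr 1
  exact hx2.symm

theorem card_BA (hF : Fintype.card F = 9) :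
    Nat.card {α : MulAut (PSU 4 F 3) // FrontB.BA (QQ hF) α} ≤ 8 := by
  classical
  obtain ⟨a, ha⟩ := exists_a hF
  have hv : ∀ v : Fin 4, (![1, -1, a, -a] : Fin 4 → F) v ^ 4 = 1 := by
    intro v
    have h4 := a_pow ha
    fin_cases v
    · exact one_pow 4
    · exact neg_pow4 (one_pow 4)
    · exact h4
    · exact neg_pow4 h4
  have hd : ∀ v : Fin 4, FrontB.BA (QQ hF) (del hF _ (hv v)) := fun v r hr => del_fix_Q hF (hv v) hr
  have hr : ∀ v : Fin 4, FrontB.BA (QQ hF) (ref hF _ (hv v)) := fun v r hr => ref_fix_Q hF (hv v) hr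
  let f : Bool × Fin 4 → {α : MulAut (PSU 4 F 3) // FrontB.BA (QQ hF) α} := fun p =>
    if p.1 then ⟨del hF _ (hv p.2), hd p.2⟩ else ⟨ref hF _ (hv p.2), hr p.2⟩
  have hf : Function.Surjective f := by
    rintro ⟨α, hα⟩
    obtain ⟨b, hb, hb'⟩ := cent_Q hF α hα
    have h4 : ∃ v : Fin 4, (![1, -1, a, -a] : Fin 4 → F) v = b := by
      rcases four_cases ha hb with rfl | rfl | rfl | rfl
      · exact ⟨0, rfl⟩
      · exact ⟨1, rfl⟩
      · exact ⟨2, rfl⟩
      · exact ⟨3, rfl⟩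
    obtain ⟨v, hv'⟩ := h4
    rcases hb' with rfl | rfl
    · refine ⟨(true, v), Subtype.ext ?_⟩
      exact del_congr hF (hv v) hb hv'
    · refine ⟨(false, v), Subtype.ext ?_⟩
      exact ref_congr hF (hv v) hb hv'
  refine (Nat.card_le_card_of_surjective f hf).trans (le_of_eq ?_)
  rw [Nat.card_eq_fintype_card]
  rfl

theorem z2_del (hF : Fintype.card F = 9) {b : F} (hb : b ^ 4 = 1) (h : b ^ 2 = 1) :
    FrontB.Z2 (pr 4 F 3 d) (del hF b hb) := del_sq hF hb h

theorem cc_aux (hF : Fintype.card F = 9) {b c : F} (hb : b ^ 4 = 1) (hc : c ^ 4 = 1)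
    (h : del hF b hb * ref hF c hc = ref hF c hc * del hF b hb) : b ^ 2 = 1 := by
  have h1 : del hF b hb = ref hF c hc * del hF b hb * ref hF c hc := by
    rw [← h, mul_assoc, ref_sq, mul_one]
  rw [ref_mul_del, ref_mul_ref] at h1
  have h2 := del_inj hF _ _ h1
  linear_combination b * h2 + b ^ 4 * hc + hb

theorem z2_inv (_hF : Fintype.card F = 9) {α β : MulAut (PSU 4 F 3)}
    (h : β = α ∨ β = α * MulAut.conj (pr 4 F 3 d)) : FrontB.Z2 (pr 4 F 3 d) (α⁻¹ * β) := by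
  rcases h with rfl | rfl
  · left; rw [inv_mul_cancel]
  · right; rw [inv_mul_cancel_left]

/-- commuting elements of `B̄` -/
theorem cc (hF : Fintype.card F = 9) (α β : MulAut (PSU 4 F 3)) (hα : FrontB.BA (QQ hF) α)
    (hβ : FrontB.BA (QQ hF) β) (h : α * β = β * α) :
    FrontB.Z2 (pr 4 F 3 d) α ∨ FrontB.Z2 (pr 4 F 3 d) β ∨ FrontB.Z2 (pr 4 F 3 d) (α⁻¹ * β) := by
  obtain ⟨b, hb, rfl | rfl⟩ := cent_Q hF α hα <;> obtain ⟨c, hc, rfl | rfl⟩ := cent_Q hF β hβ
  · rcases sq_pm hb with h1 | h1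
    · exact Or.inl (z2_del hF hb h1)
    rcases sq_pm hc with h2 | h2
    · exact Or.inr (Or.inl (z2_del hF hc h2))
    refine Or.inr (Or.inr (z2_inv hF ?_))
    have h3 : (c - b) * (c + b) = 0 := by linear_combination h2 - h1
    rcases mul_eq_zero.1 h3 with h4 | h4
    · left; exact del_congr hF _ _ (by linear_combination h4)
    · right
      rw [del_mul_d]
      exact del_congr hF _ _ (by linear_combination h4)
  · exact Or.inl (z2_del hF hb (cc_aux hF hb hc h))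
  · exact Or.inr (Or.inl (z2_del hF hc (cc_aux hF hc hb h.symm)))
  · refine Or.inr (Or.inr (z2_inv hF ?_))
    rw [ref_mul_ref, ref_mul_ref] at h
    have h3 := del_inj hF _ _ h
    have h4 : (c - b) * (c + b) = 0 := by
      linear_combination -b * c * h3 + b ^ 2 * hc - c ^ 2 * hb
    rcases mul_eq_zero.1 h4 with h5 | h5
    · left; exact ref_congr hF _ _ (by linear_combination h5)
    · right
      rw [ref_mul_d]
      exact ref_congr hF _ _ (by linear_combination h5)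

/-- **`FrontK` for `U₄(3)`.** -/
theorem exists_front (hF : Fintype.card F = 9) : ∃ i j k l x₁ x₂ : PSU 4 F 3,
    FrontB.FrontK (pr 4 F 3 d) (QQ hF) i j k l x₁ x₂ := by
  obtain ⟨i, j, k, l, x₁, x₂, y, s, h, -, -⟩ := U43Tw.exists_tw (F := F) hF
  have C := cr hF
  have hzR := (two_pr hF).zR
  have hinv : ∀ α : MulAut (PSU 4 F 3), (∀ x ∈ QQ hF, α x = x) → ∀ x ∈ QQ hF, α⁻¹ x = x := by
    intro α hα x hx
    rw [MulAut.inv_apply, MulEquiv.symm_apply_eq, hα x hx]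
  have hzz : MulAut.conj (pr 4 F 3 (d : SU 4 F 3)) * MulAut.conj (pr 4 F 3 d) = 1 := by
    rw [← map_mul, d_sq, map_one]
  have hzn : MulAut.conj (pr 4 F 3 (d : SU 4 F 3)) ≠ 1 := by
    intro h1
    exact d_ne hF (conj_inj hF (by rw [h1, map_one]))
  have hzc : ∀ α : MulAut (PSU 4 F 3), (∀ x ∈ QQ hF, α x = x) →
      α * MulAut.conj (pr 4 F 3 d) = MulAut.conj (pr 4 F 3 d) * α := by
    intro α hα
    ext x
    show α (pr 4 F 3 d * x * (pr 4 F 3 d)⁻¹) = pr 4 F 3 d * α x * (pr 4 F 3 d)⁻¹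
    rw [map_mul, map_mul, map_inv, hα _ hzR]
  refine ⟨i, j, k, l, x₁, x₂, (two_pr hF).toBase, NICase.frame_of_plus h.toPlus h.x₁_act h.x₂_act, h.gen,
    fun x hx ho => od_of_case h.toCase9aa hx ho, ⟨s, mul_inv_eq_iff_eq_mul.1 h.s_act.z, h.s_act.i⟩, out hF,
    card_BA hF, C.sq, ?_, ?_⟩
  · intro α β hα hβ h1 h2
    rcases C.un α β hα hβ h1 h2 with rfl | rfl
    · left; rw [inv_mul_cancel]
    · right; rw [inv_mul_cancel_left]
  · exact cc hF

end Cfsg.Agent.OddHalf.D6.QThree.U43AutKF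
end

-- part: OddHalf/D6/QThree/RowU4
section
-- merged: Cfsg.Agent.OddHalf.D6.QThree.NIB.KFOf
section

/-!
# ODD half, D6, NI with `B`: the fact (K3) on `U₄(3)` (helper801)

`KFK z R`: one class of involutions; `z ∈ O₂(C(u))` iff `u ∈ O₂(C(z))`. `kfk_pr`: `U₄(3)`; `KFK.map`: transport;
`KFK.kf`: `FusB.KF` for `K ≤ G`.
-/

set_option autoImplicit false
set_option linter.unusedSectionVars false
set_option linter.unusedTactic false
set_option linter.unreachableTactic false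

namespace Cfsg.Agent.OddHalf.D6.QThree.NIB.KFOf

open Cfsg
open Cfsg.Agent.OddHalf.D6.QThree.NIFacts

/-- the facts on `K` -/
structure KFK {K : Type*} [Group K] (z : K) (R : Subgroup K) : Prop where
  one : ∀ u : K, u * u = 1 → u ≠ 1 → ∃ k, k * u * k⁻¹ = z
  back : ∀ u ∈ R, u * u = 1 → u ≠ 1 → u ≠ z → ∀ k, k * u * k⁻¹ = z → k * z * k⁻¹ ∈ R
  ex : ∃ u ∈ R, u * u = 1 ∧ u ≠ 1 ∧ u ≠ z

/-! ### transitivity on the involutions of `R - ⟨z⟩` -/

section model

open Cfsg.Agent.LargeExtra.W2.PlusHom (M mi mj mk ml)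
open Cfsg.Agent.LargeExtra.Models Cfsg.Agent.LargeExtra.Pres Cfsg.Agent.LargeExtra.Model
open Cfsg.Agent.OddHalf.D6.QThree.PlusOf

theorem trans_model : ∀ m : M, m * m = 1 → m ≠ 1 → m ≠ zz →
    ∃ n : M, m = n * (mi * mk) * n⁻¹ ∨ m = n * ea (mi * mk) * n⁻¹ ∨ m = n * ea (ea (mi * mk)) * n⁻¹ ∨
      m = n * eb (mi * mk) * n⁻¹ ∨ m = n * ea (eb (mi * mk)) * n⁻¹ ∨ m = n * ea (ea (eb (mi * mk))) * n⁻¹ ∨
      m = n * eb (eb (mi * mk)) * n⁻¹ ∨ m = n * ea (eb (eb (mi * mk))) * n⁻¹ ∨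
      m = n * ea (ea (eb (eb (mi * mk)))) * n⁻¹ := by decide +kernel

theorem trans_model' (m : M) (h1 : m * m = 1) (h2 : m ≠ 1) (h3 : m ≠ zz) :
    ∃ (n : M) (α β : ℕ), m = n * (ea^[α] (eb^[β] (mi * mk))) * n⁻¹ := by
  obtain ⟨n, h | h | h | h | h | h | h | h | h⟩ := trans_model m h1 h2 h3
  exacts [⟨n, 0, 0, h⟩, ⟨n, 1, 0, h⟩, ⟨n, 2, 0, h⟩, ⟨n, 0, 1, h⟩, ⟨n, 1, 1, h⟩, ⟨n, 2, 1, h⟩, ⟨n, 0, 2, h⟩,
    ⟨n, 1, 2, h⟩, ⟨n, 2, 2, h⟩]

variable {G : Type*} [Group G] {z i j k l a b : G}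

theorem iter_a (f : Frame z i j k l a b) (α : ℕ) (m : M) :
    a ^ α * hom f.toQRel m * (a ^ α)⁻¹ = hom f.toQRel (ea^[α] m) := by
  induction α with
  | zero => rw [pow_zero, one_mul, inv_one, mul_one]; rfl
  | succ α ih =>
    rw [Function.iterate_succ_apply', ← f.conj_a, ← ih, pow_succ']
    group

theorem iter_b (f : Frame z i j k l a b) (β : ℕ) (m : M) :
    b ^ β * hom f.toQRel m * (b ^ β)⁻¹ = hom f.toQRel (eb^[β] m) := by
  induction β with
  | zero => rw [pow_zero, one_mul, inv_one, mul_one]; rfl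
  | succ β ih =>
    rw [Function.iterate_succ_apply', ← f.conj_b, ← ih, pow_succ']
    group

/-- `⟨R, a, b⟩` is transitive on the involutions of `R - ⟨z⟩` -/
theorem trans (f : Frame z i j k l a b) {u : G} (hu : u ∈ Subgroup.closure {i, j, k, l}) (uu : u * u = 1)
    (u1 : u ≠ 1) (uz : u ≠ z) : ∃ p, p * z = z * p ∧ p * (i * k) * p⁻¹ = u := by
  have haz : Commute a z := mul_inv_eq_iff_eq_mul.1 f.act_a.z
  have hbz : Commute b z := mul_inv_eq_iff_eq_mul.1 f.act_b.z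
  rw [← hom_range f.toQRel] at hu
  obtain ⟨m, rfl⟩ := hu
  have hz : hom f.toQRel zz = z := hom_zz _
  obtain ⟨n, α, β, e⟩ := trans_model' m (by
    apply hom_injective f.toQRel
    rw [map_mul, uu, map_one]) (fun h => u1 (by rw [h, map_one])) (fun h => uz (by rw [h, hz]))
  have hn : Commute (hom f.toQRel n) z := by
    have h1 : n * zz = zz * n := zz_comm n
    have h2 : hom f.toQRel n * hom f.toQRel zz = hom f.toQRel zz * hom f.toQRel n := by rw [← map_mul, h1, map_mul]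
    rwa [hz] at h2
  refine ⟨hom f.toQRel n * a ^ α * b ^ β, ((hn.mul_left (haz.pow_left α)).mul_left (hbz.pow_left β)).eq, ?_⟩
  have h2 : i * k = hom f.toQRel (mi * mk) := by rw [map_mul, hom_i, hom_k]
  calc hom f.toQRel n * a ^ α * b ^ β * (i * k) * (hom f.toQRel n * a ^ α * b ^ β)⁻¹
      = hom f.toQRel n * (a ^ α * (b ^ β * (i * k) * (b ^ β)⁻¹) * (a ^ α)⁻¹) * (hom f.toQRel n)⁻¹ := by group
    _ = hom f.toQRel m := by
      rw [h2, iter_b f, iter_a f, e, map_mul, map_mul, map_inv]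

end model

/-! ### `KFK` from one pair -/

theorem kfk_of {K : Type*} [Group K] {z i j k l a b : K} {R : Subgroup K} (hb : Facts.Base z R)
    (f : Frame z i j k l a b) (gR : R = Subgroup.closure {i, j, k, l})
    (one : ∀ u : K, u * u = 1 → u ≠ 1 → ∃ k, k * u * k⁻¹ = z) {u₀ k₀ : K} (hu : u₀ ∈ R) (uu : u₀ * u₀ = 1)
    (u1 : u₀ ≠ 1) (uz : u₀ ≠ z) (h1 : k₀ * u₀ * k₀⁻¹ = z) (h2 : k₀ * z * k₀⁻¹ ∈ R) : KFK z R where
  one := one
  ex := ⟨u₀, hu, uu, u1, uz⟩
  back := by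
    intro u hu' uu' u1' uz' k hk
    subst gR
    obtain ⟨p, hp, e⟩ := trans f hu uu u1 uz
    obtain ⟨p', hp', e'⟩ := trans f hu' uu' u1' uz'
    have h3 : u = (p' * p⁻¹) * u₀ * (p' * p⁻¹)⁻¹ := by rw [← e', ← e]; group
    have hc : Commute (k * (p' * p⁻¹) * k₀⁻¹) z := by
      show k * (p' * p⁻¹) * k₀⁻¹ * z = z * (k * (p' * p⁻¹) * k₀⁻¹)
      have h4 : k₀⁻¹ * z = u₀ * k₀⁻¹ := by rw [← h1]; group
      calc k * (p' * p⁻¹) * k₀⁻¹ * z = k * (p' * p⁻¹) * (k₀⁻¹ * z) := by group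
        _ = k * ((p' * p⁻¹) * u₀ * (p' * p⁻¹)⁻¹) * k⁻¹ * (k * (p' * p⁻¹) * k₀⁻¹) := by rw [h4]; group
        _ = z * (k * (p' * p⁻¹) * k₀⁻¹) := by rw [← h3, hk]
    have h5 := hb.nR _ hc.eq _ h2
    have cp : Commute p z := hp
    have cp' : Commute p' z := hp'
    have h6 : (p' * p⁻¹) * z * (p' * p⁻¹)⁻¹ = z := by
      rw [(cp'.mul_left cp.inv_left).eq]; group
    have h7 : k * (p' * p⁻¹) * k₀⁻¹ * (k₀ * z * k₀⁻¹) * (k * (p' * p⁻¹) * k₀⁻¹)⁻¹ = k * z * k⁻¹ := by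
      calc k * (p' * p⁻¹) * k₀⁻¹ * (k₀ * z * k₀⁻¹) * (k * (p' * p⁻¹) * k₀⁻¹)⁻¹ =
          k * ((p' * p⁻¹) * z * (p' * p⁻¹)⁻¹) * k⁻¹ := by group
        _ = k * z * k⁻¹ := by rw [h6]
    rwa [h7] at h5

/-- transport -/
theorem KFK.map {K L : Type*} [Group K] [Group L] {z : K} {R : Subgroup K} (h : KFK z R) (e : K ≃* L) :
    KFK (e z) (R.map e.toMonoidHom) where
  one := by
    intro u uu u1
    obtain ⟨u, rfl⟩ := e.surjective u
    obtain ⟨k, hk⟩ := h.one u (e.injective (by rw [map_mul, uu, map_one])) (fun h1 => u1 (by rw [h1, map_one]))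
    exact ⟨e k, by rw [← map_inv, ← map_mul, ← map_mul, hk]⟩
  back := by
    rintro _ ⟨u, hu, rfl⟩ uu u1 uz k hk
    obtain ⟨k, rfl⟩ := e.surjective k
    have e1 : e.toMonoidHom u = e u := rfl
    rw [e1] at uu u1 uz hk
    refine ⟨k * z * k⁻¹, h.back u hu (e.injective (by rw [map_mul, uu, map_one])) (fun h1 => u1 (by rw [h1, map_one]))
      (fun h1 => uz (by rw [h1])) k (e.injective (by rw [map_mul, map_mul, map_inv, hk])), ?_⟩
    show e (k * z * k⁻¹) = e k * e z * (e k)⁻¹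
    rw [map_mul, map_mul, map_inv]
  ex := by
    obtain ⟨u, hu, uu, u1, uz⟩ := h.ex
    refine ⟨e u, ⟨u, hu, rfl⟩, by rw [← map_mul, uu, map_one], fun h1 => u1 (e.injective (by rw [h1, map_one])),
      fun h1 => uz (e.injective h1)⟩

/-- `FusB.KF` -/
theorem KFK.kf {G : Type*} [Group G] {K : Subgroup G} {z : K} {R : Subgroup K} (h : KFK z R) {t : G}
    (zz : z * z = 1) (z1 : z ≠ 1) (Kt : ∀ k ∈ K, k * t = t * k) : FusB.KF t (z : G) K (R.map K.subtype) where
  zz := congrArg Subtype.val zz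
  z1 := fun h1 => z1 (Subtype.ext h1)
  Kt := Kt
  RK := by
    rintro _ ⟨r, -, rfl⟩
    exact r.2
  one := by
    intro u hu uu u1
    obtain ⟨k, hk⟩ := h.one ⟨u, hu⟩ (Subtype.ext uu) (fun h1 => u1 (congrArg Subtype.val h1))
    exact ⟨k, k.2, congrArg Subtype.val hk⟩
  back := by
    rintro _ ⟨u, hu, rfl⟩ uu u1 uz k hk hku
    have := h.back u hu (Subtype.ext uu) (fun h1 => u1 (by rw [h1]; rfl)) (fun h1 => uz (by rw [h1]; rfl)) ⟨k, hk⟩
      (Subtype.ext hku)
    exact ⟨_, this, rfl⟩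
  ex := by
    obtain ⟨u, hu, uu, u1, uz⟩ := h.ex
    exact ⟨u, ⟨u, hu, rfl⟩, congrArg Subtype.val uu, fun h1 => u1 (Subtype.ext h1), fun h1 => uz (Subtype.ext h1)⟩


/-! ### `U₄(3)` -/

section U43

open Matrix Cfsg.Agent.OddHalf.D6.QThree.U43Aut Cfsg.Agent.OddHalf.D6.QThree.U43AutRef
open Cfsg.Agent.OddHalf.D6.QThree.U43AutGood
open Cfsg.Agent.OddHalf.Small.U43Mat Cfsg.Agent.OddHalf.Small.U43Good
open Cfsg.Agent.LieClassical.HermSiegel Cfsg.Agent.LieClassical.SUBasic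
open Cfsg.Agent.ClassicalGeometry.UnitAutBasic (pr pr_surjective)
open Cfsg.Agent.OddHalf.D6.QThree.U43Elt Cfsg.Agent.OddHalf.D6.QThree.U43Plus

variable {F : Type*} [Field F] [CharP F 3] [Fintype F]

/-- the transposition of the first and the third coordinate -/
def wk : SU 4 F 3 := mkSU !![0, 0, 1, 0; 0, -1, 0, 0; 1, 0, 0, 0; 0, 0, 0, 1]
  (by simp only [det_succ_row_zero, Fin.sum_univ_succ, Fin.succAbove, _root_.Nat.succ_eq_add_one, _root_.Nat.reduceAdd, _root_.Fin.isValue, _root_.Matrix.of_apply, _root_.Matrix.cons_val', _root_.Matrix.cons_val_fin_one, _root_.Matrix.cons_val_zero, _root_.Matrix.submatrix_apply, _root_.Fin.succ_zero_eq_one, _root_.Matrix.cons_val_one, _root_.Matrix.submatrix_submatrix, _root_.Function.comp_apply, _root_.Fin.succ_one_eq_two, _root_.Matrix.cons_val, _root_.Matrix.det_unique, _root_.Fin.default_eq_zero, _root_.Fin.reduceSucc, _root_.Fin.castSucc_zero, _root_.Fin.coe_ofNat_eq_mod, _root_.Nat.zero_mod,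 _root_.pow_zero, _root_.one_mul, _root_.lt_self_iff_false, ↓ _root_.reduceIte, _root_.Fin.castSucc_one, _root_.Finset.univ_unique, _root_.Fin.val_succ, _root_.Fin.val_eq_zero, _root_.zero_add, _root_.pow_one, _root_.Fin.castSucc_succ, _root_.neg_mul, _root_.Fin.succ_pos, _root_.Finset.sum_neg_distrib, _root_.Finset.sum_singleton, _root_.not_lt_zero, _root_.Fin.reduceCastSucc, _root_.even_two, _root_.Even.neg_pow, _root_.one_pow, _root_.Fin.reduceLT, _root_.MulZeroClass.mul_zero, _root_.mul_one, _root_.neg_zero, _root_.add_zero, _root_.Matrix.cons_val_succ, _root_.MulZeroClass.zero_mul, _root_.Fin.lt_one_iff, _root_.Fin.reduceEq, _root_.neg_neg, _root_.Finset.sum_const_zero]) (by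
    intro u v
    simp only [hermForm_apply, Fin.sum_univ_four]
    simp only [mulVec, dotProduct, Fin.sum_univ_four, _root_.Fin.isValue, _root_.Matrix.of_apply, _root_.Matrix.cons_val', _root_.Matrix.cons_val_fin_one, _root_.Matrix.cons_val_zero, _root_.MulZeroClass.zero_mul, _root_.Matrix.cons_val_one, _root_.add_zero, _root_.Matrix.cons_val, _root_.one_mul, _root_.zero_add, _root_.neg_mul, _root_.add_left_inj]
    ring)

theorem m_wk : mat (wk : SU 4 F 3) = !![0, 0, 1, 0; 0, -1, 0, 0; 1, 0, 0, 0; 0, 0, 0, 1] := rfl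

theorem wk_d : pr 4 F 3 (wk : SU 4 F 3) * pr 4 F 3 d = pr 4 F 3 dq * pr 4 F 3 wk := by
  rw [← map_mul, ← map_mul]
  refine pr_eq_of_mat (c := -1) ?_
  rw [mat_mul, mat_mul, m_wk, m_dq, m_d]
  ext i j
  rw [Matrix.smul_apply, mul_apply, mul_apply, Fin.sum_univ_four, Fin.sum_univ_four]
  (revert i j; simp only [_root_.Fin.forall_fin_succ, Fin.isValue, _root_.Matrix.of_apply, _root_.Matrix.cons_val', _root_.Matrix.cons_val_zero, _root_.Matrix.cons_val_fin_one, _root_.Matrix.cons_val_one, _root_.Matrix.cons_val, _root_.smul_eq_mul, _root_.neg_mul, _root_.one_mul, _root_.neg_add_rev, _root_.MulZeroClass.mul_zero, _root_.add_zero, _root_.mul_one, _root_.zero_add, _root_.neg_zero, _root_.Matrix.cons_val_succ, _root_.mul_neg, _root_.neg_neg, _root_.implies_true, _root_.and_self, _root_.and_true])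

theorem wk_dq : pr 4 F 3 (wk : SU 4 F 3) * pr 4 F 3 dq = pr 4 F 3 d * pr 4 F 3 wk := by
  rw [← map_mul, ← map_mul]
  refine pr_eq_of_mat (c := -1) ?_
  rw [mat_mul, mat_mul, m_wk, m_dq, m_d]
  ext i j
  rw [Matrix.smul_apply, mul_apply, mul_apply, Fin.sum_univ_four, Fin.sum_univ_four]
  (revert i j; simp only [_root_.Fin.forall_fin_succ, Fin.isValue, _root_.Matrix.of_apply, _root_.Matrix.cons_val', _root_.Matrix.cons_val_zero, _root_.Matrix.cons_val_fin_one, _root_.Matrix.cons_val_one, _root_.Matrix.cons_val, _root_.smul_eq_mul, _root_.neg_mul, _root_.one_mul, _root_.neg_add_rev, _root_.MulZeroClass.mul_zero, _root_.add_zero, _root_.mul_one, _root_.zero_add, _root_.neg_zero, _root_.Matrix.cons_val_succ, _root_.mul_neg, _root_.neg_neg, _root_.forall_const, _root_.true_and, _root_.and_self, _root_.implies_true])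

theorem ii_eq {a : F} (ha : a ^ 2 = -1) :
    pr 4 F 3 (i1 a ha) * pr 4 F 3 (i2 a ha) = pr 4 F 3 dq * pr 4 F 3 d := by
  rw [← map_mul, ← map_mul]
  refine pr_eq_of_mat (c := -a) ?_
  rw [mat_mul, mat_mul, m_i1, m_i2, m_dq, m_d]
  ext i j
  rw [Matrix.smul_apply, mul_apply, mul_apply, Fin.sum_univ_four, Fin.sum_univ_four]
  fin_cases i <;> fin_cases j <;> simp
  all_goals first | linear_combination -ha | linear_combination ha

theorem dq_mem (hF : Fintype.card F = 9) : pr 4 F 3 (dq : SU 4 F 3) ∈ QQ hF := by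
  obtain ⟨a, ha⟩ := exists_a hF
  have h1 : pr 4 F 3 (i1 a ha) ∈ QQ hF := by
    rw [gen hF ha]; exact Subgroup.subset_closure (by simp)
  have h2 : pr 4 F 3 (i2 a ha) ∈ QQ hF := by
    rw [gen hF ha]; exact Subgroup.subset_closure (by simp)
  have h3 := (U43AutKF.two_pr hF).zR
  have h4 := (QQ hF).mul_mem ((QQ hF).mul_mem h1 h2) ((QQ hF).inv_mem h3)
  rwa [ii_eq ha, mul_inv_cancel_right] at h4

theorem kfk_pr (hF : Fintype.card F = 9) : KFK (pr 4 F 3 d) (QQ hF) := by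
  obtain ⟨i, j, k, l, x₁, x₂, f⟩ := U43AutKF.exists_front (F := F) hF
  have ht := U43AutKF.two_pr (F := F) hF
  refine kfk_of (u₀ := pr 4 F 3 dq) (k₀ := pr 4 F 3 wk) f.toBase f.fr f.gR ?_ (dq_mem hF) ?_ ?_ ?_ ?_ ?_
  · intro u uu u1
    obtain ⟨k, hk⟩ := ht.one u uu u1
    exact ⟨k⁻¹, by rw [← hk]; group⟩
  · rw [← map_mul, dq_sq, map_one]
  · intro h1
    have h2 : pr 4 F 3 d = (pr 4 F 3 (wk : SU 4 F 3))⁻¹ * (pr 4 F 3 dq * pr 4 F 3 wk) := by
      rw [← wk_d]; group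
    rw [h1, one_mul, inv_mul_cancel] at h2
    exact ht.z1 h2
  · intro h1
    obtain ⟨c, -, hc⟩ := mat_of_pr_eq hF h1
    have e0 := congrFun (congrFun hc 0) 0
    have e1 := congrFun (congrFun hc 1) 1
    rw [Matrix.smul_apply, m_d, m_dq] at e0 e1
    simp at e0 e1
    rw [← e0] at e1
    have h3 : (3 : F) = 0 := three
    have h4 : (1 : F) = 0 := by linear_combination h3 - e1
    exact one_ne_zero h4
  · rw [wk_dq, mul_inv_cancel_right]
  · rw [wk_d, mul_inv_cancel_right]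
    exact dq_mem hF

end U43

end Cfsg.Agent.OddHalf.D6.QThree.NIB.KFOf

end

-- merged: Cfsg.Agent.OddHalf.D6.QThree.NIB.FusOf
section

/-!
# ODD half, D6, NI with `B`: the `G`-level inputs of `NIB.End` (helper801; text: #14694 (F), (F_b), (4a), (4b))

`transport`: `FusB.KF` for a component `M ≅ K` of `C(b)`; `fusT_of`: `FusT`; `refTri_of`: `Two.RefTri`.
-/

set_option autoImplicit false

namespace Cfsg.Agent.OddHalf.D6.QThree.NIB.FusOf

open Subgroup Cfsg
open Cfsg.Agent.OddHalf Cfsg.Agent.OddHalf.Iface Cfsg.Agent.OddHalf.D3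
open Cfsg.Agent.OddHalf.D6.QThree.NISide
open Cfsg.Agent.OddHalf.D6.QThree.RefOf
open Cfsg.Agent.OddHalf.D6.QThree.FrontLoc (Loc)

universe u

variable {G : Type u} [Group G]

/-! ### transport to `M ≅ K` -/

/-- `KF t z K R ==> KF b z M R` for `M ≅ K` -/
theorem transport [Finite G] {t z b : G} {K M R : Subgroup G} (k : FusB.KF t z K R) (zR : z ∈ R)
    (pR : IsPGroup 2 R) (RP : ∀ r ∈ R, r * z = z * r)
    (max : ∀ N : Subgroup G, N ≤ K → IsPGroup 2 N → (∀ n ∈ N, n * z = z * n) →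
      (∀ g ∈ K, g * z = z * g → ∀ n ∈ N, g * n * g⁻¹ ∈ N) → N ≤ R)
    (hMb : ∀ m ∈ M, m * b = b * m) (hRM : R ≤ M)
    (nRM : ∀ g ∈ M, g * z = z * g → ∀ r ∈ R, g * r * g⁻¹ ∈ R) (e : K ≃* M) : FusB.KF b z M R := by
  -- `f : K ≃* M` with `f z = z`
  obtain ⟨f, hf⟩ : ∃ f : K ≃* M, ∀ hz : z ∈ K, ((f ⟨z, hz⟩ : M) : G) = z := by
    have hw2 : ((e.symm ⟨z, hRM zR⟩ : K) : G) * (e.symm ⟨z, hRM zR⟩ : K) = 1 := by
      have : e.symm ⟨z, hRM zR⟩ * e.symm ⟨z, hRM zR⟩ = 1 := by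
        rw [← map_mul]
        have : (⟨z, hRM zR⟩ : M) * ⟨z, hRM zR⟩ = 1 := Subtype.ext k.zz
        rw [this, map_one]
      exact congrArg Subtype.val this
    obtain ⟨c, hc, hcw⟩ := k.one _ (e.symm ⟨z, hRM zR⟩).2 hw2 (by
      intro h1
      have h2 : e.symm ⟨z, hRM zR⟩ = 1 := Subtype.ext h1
      have h3 : (⟨z, hRM zR⟩ : M) = 1 := e.symm.injective (by rw [h2, map_one])
      exact k.z1 (congrArg Subtype.val h3))
    refine ⟨(MulAut.conj (⟨c, hc⟩ : K)⁻¹).trans e, fun hz => ?_⟩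
    have h4 : (MulAut.conj (⟨c, hc⟩ : K)⁻¹) ⟨z, hz⟩ = e.symm ⟨z, hRM zR⟩ := by
      rw [MulAut.conj_apply, inv_inv]
      apply Subtype.ext
      have h5 : ∀ w : G, c * w * c⁻¹ = z → c⁻¹ * z * c = w := fun w hw => by rw [← hw]; group
      exact h5 _ hcw
    show ((e ((MulAut.conj (⟨c, hc⟩ : K)⁻¹) ⟨z, hz⟩) : M) : G) = z
    rw [h4, e.apply_symm_apply]
  have hzK : z ∈ K := k.RK zR
  have hfz : f ⟨z, hzK⟩ = ⟨z, hRM zR⟩ := Subtype.ext (hf hzK)
  have hfz' : f.symm ⟨z, hRM zR⟩ = ⟨z, hzK⟩ := by rw [← hfz, f.symm_apply_apply]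
  -- `f⁻¹(R) = R`
  set N : Subgroup G := ((R.subgroupOf M).comap f.toMonoidHom).map K.subtype with hN
  have memN : ∀ x (hx : x ∈ K), x ∈ N ↔ ((f ⟨x, hx⟩ : M) : G) ∈ R := by
    intro x hx
    constructor
    · rintro ⟨y, hy, hyx⟩
      have : y = ⟨x, hx⟩ := Subtype.ext hyx
      rw [← this]; exact hy
    · intro h1
      exact ⟨⟨x, hx⟩, h1, rfl⟩
  have hNK : N ≤ K := by
    rintro _ ⟨y, -, rfl⟩
    exact y.2
  have hNR : N ≤ R := by
    apply max N hNK
    · have h1 : IsPGroup 2 ((R.subgroupOf M).comap f.toMonoidHom) := by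
        have h2 : IsPGroup 2 (R.subgroupOf M) := pR.of_equiv (subgroupOfEquivOfLe hRM).symm
        exact h2.comap_of_injective f.toMonoidHom f.injective
      exact h1.map _
    · rintro _ ⟨y, hy, rfl⟩
      have h1 : ((f y : M) : G) * z = z * (f y : M) := RP _ hy
      have h2 : f (y * ⟨z, hzK⟩) = f (⟨z, hzK⟩ * y) := by
        rw [map_mul, map_mul, hfz]
        exact Subtype.ext h1
      exact congrArg Subtype.val (f.injective h2)
    · rintro g hg hgz _ ⟨y, hy, rfl⟩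
      refine ⟨⟨g, hg⟩ * y * ⟨g, hg⟩⁻¹, ?_, rfl⟩
      have h1 : ((f ⟨g, hg⟩ : M) : G) * z = z * (f ⟨g, hg⟩ : M) := by
        have h2 : f (⟨g, hg⟩ * ⟨z, hzK⟩) = f (⟨z, hzK⟩ * ⟨g, hg⟩) := congrArg f (Subtype.ext hgz)
        rw [map_mul, map_mul, hfz] at h2
        exact congrArg Subtype.val h2
      have h3 := nRM _ (f ⟨g, hg⟩).2 h1 _ hy
      show ((f (⟨g, hg⟩ * y * ⟨g, hg⟩⁻¹) : M) : G) ∈ R
      rw [map_mul, map_mul, map_inv]
      exact h3
  have hcard : Nat.card N = Nat.card R := by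
    have h1 : N = ((R.subgroupOf M).map f.symm.toMonoidHom).map K.subtype := by
      rw [hN]
      congr 1
      ext y
      constructor
      · intro hy
        exact ⟨f y, hy, f.symm_apply_apply y⟩
      · rintro ⟨m, hm, rfl⟩
        show f (f.symm m) ∈ R.subgroupOf M
        rw [f.apply_symm_apply]; exact hm
    rw [h1, Nat.card_congr (((R.subgroupOf M).map f.symm.toMonoidHom).equivMapOfInjective _ K.subtype_injective).toEquiv.symm,
      Nat.card_congr ((R.subgroupOf M).equivMapOfInjective _ f.symm.injective).toEquiv.symm,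
      Nat.card_congr (subgroupOfEquivOfLe hRM).toEquiv]
  have hNeq : N = R := Subgroup.eq_of_le_of_card_ge hNR hcard.ge
  have memR : ∀ x (hx : x ∈ K), x ∈ R ↔ ((f ⟨x, hx⟩ : M) : G) ∈ R := fun x hx => by
    rw [← memN x hx, hNeq]
  have hfs : ∀ m : M, ((f.symm m : K) : G) ∈ R ↔ (m : G) ∈ R := fun m => by
    rw [memR _ (f.symm m).2]
    have : (⟨((f.symm m : K) : G), (f.symm m).2⟩ : K) = f.symm m := rfl
    rw [this, f.apply_symm_apply]
  have hone : ∀ m : M, (m : G) ≠ 1 → ((f.symm m : K) : G) ≠ 1 := by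
    intro m hm h1
    apply hm
    have h2 : f.symm m = 1 := Subtype.ext h1
    have h3 : m = 1 := f.symm.injective (by rw [h2, map_one])
    rw [h3]; rfl
  have hmul : ∀ m : M, (m : G) * m = 1 → ((f.symm m : K) : G) * (f.symm m : K) = 1 := by
    intro m hm
    have h2 : f.symm m * f.symm m = 1 := by
      rw [← map_mul, show m * m = 1 from Subtype.ext hm, map_one]
    exact congrArg Subtype.val h2
  refine ⟨k.zz, k.z1, hMb, hRM, ?_, ?_, k.ex⟩
  · intro u hu uu u1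
    obtain ⟨c, hc, hcu⟩ := k.one _ (f.symm ⟨u, hu⟩).2 (hmul _ uu) (hone _ u1)
    refine ⟨f ⟨c, hc⟩, (f ⟨c, hc⟩).2, ?_⟩
    have h2 : (⟨c, hc⟩ : K) * f.symm ⟨u, hu⟩ * (⟨c, hc⟩ : K)⁻¹ = ⟨z, hzK⟩ := Subtype.ext hcu
    have h3 := congrArg f h2
    rw [map_mul, map_mul, map_inv, f.apply_symm_apply, hfz] at h3
    exact congrArg Subtype.val h3
  · intro u hu uu u1 uz c hc hcu
    have h1 : ((f.symm ⟨u, hRM hu⟩ : K) : G) ∈ R := (hfs _).2 hu
    have h2 : ((f.symm ⟨u, hRM hu⟩ : K) : G) ≠ z := by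
      intro h3
      apply uz
      have h4 : f.symm ⟨u, hRM hu⟩ = ⟨z, hzK⟩ := Subtype.ext h3
      rw [← hfz'] at h4
      exact congrArg Subtype.val (f.symm.injective h4)
    have h3 : (f.symm ⟨c, hc⟩ : K) * f.symm ⟨u, hRM hu⟩ * (f.symm ⟨c, hc⟩ : K)⁻¹ = ⟨z, hzK⟩ := by
      rw [← hfz', ← map_mul, ← map_inv, ← map_mul]
      congr 1
      exact Subtype.ext hcu
    have h4 := k.back _ h1 (hmul _ uu) (hone _ u1) h2 _ (f.symm ⟨c, hc⟩).2 (congrArg Subtype.val h3)
    have h5 : ((f.symm ⟨c, hc⟩ : K) : G) * z * ((f.symm ⟨c, hc⟩ : K) : G)⁻¹ =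
        ((f.symm (⟨c, hc⟩ * ⟨z, hRM zR⟩ * ⟨c, hc⟩⁻¹) : K) : G) := by
      rw [map_mul, map_mul, map_inv, hfz']
      rfl
    rw [h5] at h4
    exact (hfs _).1 h4

/-! ### `FusT` -/

section fus

variable {z : G} {z' t' c a₁ a₂ : ↥(centralizer ({z} : Set G))} {Q₁ Q₂ : Subgroup ↥(centralizer ({z} : Set G))}
  {M R : Subgroup G}

/-- **(F), (F_b)** in `X = C_G(z)` -/
theorem fusT_of (h : HypB z' t' a₁ a₂ Q₁ Q₂) (hz' : (z' : G) = z)
    (hR : ∀ r ∈ R, ∃ x ∈ Q₁, ∃ y ∈ Q₂, r = (x : G) * y) (k : FusB.KF (c : G) z M R) {s : G}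
    (hs : s * (c : G) * s⁻¹ = c * z) (hsR : ∀ r ∈ R, s⁻¹ * r * s ∈ R) : FusT z' c Q₁ Q₂ := by
  obtain ⟨g, u, hgz, hu, uu, u1, uz, hg⟩ := k.fus hs hsR
  obtain ⟨x, hx, y, hy, e⟩ := hR u hu
  have e' : ((x * y : ↥(centralizer ({z} : Set G))) : G) = u := e.symm
  obtain ⟨h1, h2⟩ := FusB.factor h.s₁ h.s₂ h.zz h.z1 h.comm hx hy (Subtype.ext (by
      show ((x * y : ↥(centralizer ({z} : Set G))) : G) * ((x * y : ↥(centralizer ({z} : Set G))) : G) = 1
      rw [e', uu])) (fun h1 => u1 (by rw [← e', h1]; rfl)) (fun h1 => uz (by rw [← e', h1, hz']))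
  refine ⟨⟨g, mem_centralizer_singleton_iff.2 hgz⟩, x, hx, y, hy, h1, h2, Subtype.ext ?_⟩
  show g * (c : G) * g⁻¹ = (c : G) * ((x : G) * y)
  rw [hg, e]

/-- an involution of `R - ⟨z⟩` conjugate to `z` -/
theorem hf_of (h : HypB z' t' a₁ a₂ Q₁ Q₂) (hz' : (z' : G) = z)
    (hR : ∀ r ∈ R, ∃ x ∈ Q₁, ∃ y ∈ Q₂, r = (x : G) * y) (k : FusB.KF (c : G) z M R) :
    ∃ q₁ ∈ Q₁, ∃ q₂ ∈ Q₂, q₁ * q₁ = z' ∧ q₂ * q₂ = z' ∧ ∃ g : G, g * z * g⁻¹ = (q₁ : G) * q₂ := by
  obtain ⟨u, hu, uu, u1, uz⟩ := k.ex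
  obtain ⟨m, -, hm⟩ := k.one u (k.RK hu) uu u1
  obtain ⟨x, hx, y, hy, e⟩ := hR u hu
  have e' : ((x * y : ↥(centralizer ({z} : Set G))) : G) = u := e.symm
  obtain ⟨h1, h2⟩ := FusB.factor h.s₁ h.s₂ h.zz h.z1 h.comm hx hy (Subtype.ext (by
      show ((x * y : ↥(centralizer ({z} : Set G))) : G) * ((x * y : ↥(centralizer ({z} : Set G))) : G) = 1
      rw [e', uu])) (fun h1 => u1 (by rw [← e', h1]; rfl)) (fun h1 => uz (by rw [← e', h1, hz']))
  refine ⟨x, hx, y, hy, h1, h2, m⁻¹, ?_⟩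
  rw [← e, ← hm]
  group

end fus

/-! ### the element `s` -/

section loc

variable {t z : G} {R : Subgroup G} {i j k l a b : G}

open Cfsg.Agent.LargeExtra.W2.PlusHom (M) in
open Cfsg.Agent.OddHalf.D6.QThree.PlusOf in
theorem isPGroup_R (f : NIFacts.Frame z i j k l a b) : IsPGroup 2 (closure ({i, j, k, l} : Set G)) := by
  have hM : IsPGroup 2 M := IsPGroup.of_card (n := 5) (by
    rw [Nat.card_eq_fintype_card]; decide +kernel)
  rw [← hom_range f.toQRel]
  exact hM.of_surjective _ (hom f.toQRel).rangeRestrict_surjective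

/-- `D` is generated by its elements of odd order -/
theorem gen_odd (hl : Loc t z R i j k l a b) : _root_.Subgroup.closure {i, j, k, l, a, b} ≤
    _root_.Subgroup.closure {x | x ∈ _root_.Subgroup.closure {i, j, k, l, a, b} ∧ Odd (orderOf x)} := by
  set D : Subgroup G := _root_.Subgroup.closure {i, j, k, l, a, b} with hD
  set O : Subgroup G := _root_.Subgroup.closure {x | x ∈ D ∧ Odd (orderOf x)} with hO
  have hsub : ∀ x ∈ ({i, j, k, l, a, b} : Set G), x ∈ D := fun x hx => _root_.Subgroup.subset_closure hx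
  have hi : i ∈ D := hsub i (by simp)
  have hj : j ∈ D := hsub j (by simp)
  have hk : k ∈ D := hsub k (by simp)
  have hl' : l ∈ D := hsub l (by simp)
  have ha : a ∈ D := hsub a (by simp)
  have hb : b ∈ D := hsub b (by simp)
  have hodd : ∀ x : G, x * x * x = 1 → Odd (orderOf x) := by
    intro x hx
    have h1 : orderOf x ∣ 3 := orderOf_dvd_of_pow_eq_one (by rw [pow_succ, pow_two]; exact hx)
    exact Odd.of_dvd_nat (by decide) h1
  have ha' : a ∈ O := subset_closure ⟨ha, hodd a hl.a3⟩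
  have hb' : b ∈ O := subset_closure ⟨hb, hodd b hl.b3⟩
  have hcj : ∀ {x y : G}, x ∈ D → y ∈ D → Odd (orderOf y) → x * y * x⁻¹ ∈ O := by
    intro x y hx hy ho
    refine subset_closure ⟨D.mul_mem (D.mul_mem hx hy) (D.inv_mem hx), ?_⟩
    rwa [orderOf_conj]
  have hinv : ∀ {x : G}, x * x * x = 1 → Odd (orderOf x⁻¹) := fun {x} hx => by
    rw [orderOf_inv]; exact hodd x hx
  have hiO : i ∈ O := by
    have h1 : j * i⁻¹ ∈ O := by
      have h2 := O.mul_mem ha' (hcj hi (D.inv_mem ha) (hinv hl.a3))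
      have e : a * (i * a⁻¹ * i⁻¹) = j * i⁻¹ := by rw [← hl.fr.act_a.i]; group
      rwa [e] at h2
    have h3 := O.mul_mem (O.mul_mem ha' h1) (O.inv_mem ha')
    have e : a * (j * i⁻¹) * a⁻¹ = i := by
      calc a * (j * i⁻¹) * a⁻¹ = (a * j * a⁻¹) * (a * i * a⁻¹)⁻¹ := by group
        _ = i := by rw [hl.fr.act_a.j, hl.fr.act_a.i]; group
    rwa [e] at h3
  have hjO : j ∈ O := by
    have := O.mul_mem (O.mul_mem ha' hiO) (O.inv_mem ha')
    rwa [hl.fr.act_a.i] at this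
  have hkO : k ∈ O := by
    have h1 : l * k⁻¹ ∈ O := by
      have h2 := O.mul_mem hb' (hcj hk (D.inv_mem hb) (hinv hl.b3))
      have e : b * (k * b⁻¹ * k⁻¹) = l * k⁻¹ := by rw [← hl.fr.act_b.k]; group
      rwa [e] at h2
    have h3 := O.mul_mem (O.mul_mem hb' h1) (O.inv_mem hb')
    have e : b * (l * k⁻¹) * b⁻¹ = k := by
      calc b * (l * k⁻¹) * b⁻¹ = (b * l * b⁻¹) * (b * k * b⁻¹)⁻¹ := by group
        _ = k := by rw [hl.fr.act_b.l, hl.fr.act_b.k]; group
    rwa [e] at h3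
  have hlO : l ∈ O := by
    have := O.mul_mem (O.mul_mem hb' hkO) (O.inv_mem hb')
    rwa [hl.fr.act_b.k] at this
  rw [hD, closure_le]
  intro x hx
  have hx' : x = i ∨ x = j ∨ x = k ∨ x = l ∨ x = a ∨ x = b := by simpa using hx
  rcases hx' with rfl | rfl | rfl | rfl | rfl | rfl
  exacts [hiO, hjO, hkO, hlO, ha', hb']

/-- an element which normalises `⟨t, z⟩` and fixes `z` normalises `R` -/
theorem norm_R (hl : Loc t z R i j k l a b) {s : G} (hs : s * t * s⁻¹ = t * z) (hsz : s * z * s⁻¹ = z) :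
    ∀ r ∈ R, s⁻¹ * r * s ∈ R := by
  have hzc : ∀ g, g * z = z * g → s⁻¹ * g * s * z = z * (s⁻¹ * g * s) := by
    intro g hg
    have h1 : s * z = z * s := mul_inv_eq_iff_eq_mul.1 hsz
    have c1 : Commute s z := h1
    have c2 : Commute g z := hg
    exact (c1.inv_left.mul_left c2).mul_left c1
  have hst : s⁻¹ * t * s = t * z := by
    have h1 : s * z = z * s := mul_inv_eq_iff_eq_mul.1 hsz
    have h2 : s⁻¹ * z * s = z := by rw [mul_assoc, ← h1, inv_mul_cancel_left]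
    have h3 : s⁻¹ * (t * z) * s = t := by rw [← hs]; group
    have h4 : (s⁻¹ * t * s) * z = t := by
      calc (s⁻¹ * t * s) * z = (s⁻¹ * t * s) * (s⁻¹ * z * s) := by rw [h2]
        _ = s⁻¹ * (t * z) * s := by group
        _ = t := h3
    calc s⁻¹ * t * s = (s⁻¹ * t * s) * z * z⁻¹ := by group
      _ = t * z⁻¹ := by rw [h4]
      _ = t * z := by rw [inv_eq_of_mul_eq_one_right hl.fr.zz]
  -- `s⁻¹` normalises `X`
  have hX : ∀ g, g * t = t * g → g * z = z * g → s⁻¹ * g * s * t = t * (s⁻¹ * g * s) := by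
    intro g hgt hgz
    have c1 : Commute (s⁻¹ * g * s) (t * z) := by
      have c2 : Commute g t := hgt
      show s⁻¹ * g * s * (t * z) = t * z * (s⁻¹ * g * s)
      rw [← hst]
      calc s⁻¹ * g * s * (s⁻¹ * t * s) = s⁻¹ * (g * t) * s := by group
        _ = s⁻¹ * (t * g) * s := by rw [hgt]
        _ = s⁻¹ * t * s * (s⁻¹ * g * s) := by group
    have c3 : Commute (s⁻¹ * g * s) z := hzc g hgz
    have c4 := c1.mul_right c3.inv_right
    rw [mul_inv_cancel_right] at c4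
    exact c4
  have hX' : ∀ g, g * t = t * g → g * z = z * g → s * g * s⁻¹ * t = t * (s * g * s⁻¹) ∧
      s * g * s⁻¹ * z = z * (s * g * s⁻¹) := by
    intro g hgt hgz
    have h1 : s * z = z * s := mul_inv_eq_iff_eq_mul.1 hsz
    have c1 : Commute s z := h1
    have c2 : Commute g z := hgz
    have c3 : Commute (s * g * s⁻¹) z := (c1.mul_left c2).mul_left c1.inv_left
    refine ⟨?_, c3⟩
    have c4 : Commute (s * g * s⁻¹) (t * z) := by
      show s * g * s⁻¹ * (t * z) = t * z * (s * g * s⁻¹)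
      rw [← hs]
      calc s * g * s⁻¹ * (s * t * s⁻¹) = s * (g * t) * s⁻¹ := by group
        _ = s * (t * g) * s⁻¹ := by rw [hgt]
        _ = s * t * s⁻¹ * (s * g * s⁻¹) := by group
    have c5 := c4.mul_right c3.inv_right
    rw [mul_inv_cancel_right] at c5
    exact c5
  set D : Subgroup G := _root_.Subgroup.closure {i, j, k, l, a, b} with hD
  have hDz : ∀ d ∈ D, d * z = z * d := by
    have h1 : D ≤ centralizer ({z} : Set G) := by
      rw [hD, closure_le]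
      intro x hx
      have hx' : x = i ∨ x = j ∨ x = k ∨ x = l ∨ x = a ∨ x = b := by simpa using hx
      rw [SetLike.mem_coe, mem_centralizer_singleton_iff]
      rcases hx' with rfl | rfl | rfl | rfl | rfl | rfl
      exacts [hl.fr.iz, hl.fr.jz, hl.fr.kz, hl.fr.lz, mul_inv_eq_iff_eq_mul.1 hl.fr.act_a.z,
        mul_inv_eq_iff_eq_mul.1 hl.fr.act_b.z]
    exact fun d hd => mem_centralizer_singleton_iff.1 (h1 hd)
  have hsD : ∀ d ∈ D, s⁻¹ * d * s ∈ D := by
    have h1 : D ≤ D.comap (MulAut.conj s⁻¹).toMonoidHom := by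
      refine (gen_odd hl).trans ((closure_le _).2 ?_)
      rintro x ⟨hx, ho⟩
      show s⁻¹ * x * s⁻¹⁻¹ ∈ D
      rw [inv_inv]
      refine hl.od _ (hX x (hl.Dt x hx) (hDz x hx)) (hzc x (hDz x hx)) ?_
      have : orderOf (s⁻¹ * x * s) = orderOf x := by
        have h2 := orderOf_conj s⁻¹ x
        rwa [inv_inv] at h2
      rwa [this]
    intro d hd
    have h2 : s⁻¹ * d * s⁻¹⁻¹ ∈ D := h1 hd
    rwa [inv_inv] at h2
  have hRD : R ≤ D := by
    rw [hl.gR, hD]
    exact _root_.Subgroup.closure_mono (by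
      intro x hx
      simp only [Set.mem_insert_iff, Set.mem_singleton_iff] at hx ⊢
      (clear * - hx; itauto))
  have hRp : IsPGroup 2 R := by rw [hl.gR]; exact isPGroup_R hl.fr
  have h1 := hl.max (R.map (MulAut.conj s⁻¹).toMonoidHom) (by
    rintro _ ⟨r, hr, rfl⟩
    have h2 := hsD r (hRD hr)
    show s⁻¹ * r * s⁻¹⁻¹ ∈ D
    rwa [inv_inv]) (hRp.map _) (by
    rintro g hgt hgz _ ⟨r, hr, rfl⟩
    obtain ⟨h3, h4⟩ := hX' g hgt hgz
    refine ⟨(s * g * s⁻¹) * r * (s * g * s⁻¹)⁻¹, hl.nR _ h3 h4 r hr, ?_⟩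
    show s⁻¹ * ((s * g * s⁻¹) * r * (s * g * s⁻¹)⁻¹) * s⁻¹⁻¹ = g * (s⁻¹ * r * s⁻¹⁻¹) * g⁻¹
    group)
  intro r hr
  have h2 := h1 ⟨r, hr, rfl⟩
  have h3 : s⁻¹ * r * s⁻¹⁻¹ ∈ R := h2
  rwa [inv_inv] at h3

end loc

/-! ### the trichotomy -/

/-- **`RefTri`** -/
theorem refTri_of (C : Ctx G) (hS : Pump.SpOrd.{u}) {K : Subgroup G} (S : Std G K)
    (hK : Nat.card K < 6065280)
    (hN : ∀ b : G, orderOf b = 2 → ∀ L : Subgroup G, CompOf b L → ¬ NI3.HasY ↥L)
    (hU : ∃ (F : Type) (_ : Field F) (_ : Fintype F), Fintype.card F = 9 ∧ Nonempty (K ≃* PSU 4 F 3))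
    {zK : K} {RK : Subgroup K} (hb : Facts.Base zK RK) (kf : KFOf.KFK zK RK) {t : G}
    (Kt : ∀ x ∈ K, x * t = t * x) (nR : ∀ g, g * t = t * g → g * (zK : G) = zK * g →
      ∀ r ∈ RK.map K.subtype, g * r * g⁻¹ ∈ RK.map K.subtype) {D : Subgroup G}
    {z' t' a₁ a₂ : ↥(centralizer ({(zK : G)} : Set G))} {Q₁ Q₂ : Subgroup ↥(centralizer ({(zK : G)} : Set G))}
    (h : HypB z' t' a₁ a₂ Q₁ Q₂) (hz' : (z' : G) = zK) (ht' : (t' : G) = t)
    (hR : ∀ r ∈ RK.map K.subtype, ∃ x ∈ Q₁, ∃ y ∈ Q₂, r = (x : G) * y)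
    (hQ₁ : ∀ q ∈ Q₁, (q : G) ∈ D) (hQ₂ : ∀ q ∈ Q₂, (q : G) ∈ D) (h₁ : (a₁ : G) ∈ D) (h₂ : (a₂ : G) ∈ D)
    (hdata : ∀ b, Refl z' t' Q₁ Q₂ b → ∃ (L : Subgroup G) (F : Type) (_ : Field F) (_ : Fintype F),
      Data t zK (b : G) D (RK.map K.subtype) L F)
    (hmv : ∀ b, Refl z' t' Q₁ Q₂ b → ∃ p : G, p * t = t * p ∧ p * (zK : G) = zK * p ∧ p * (b : G) * p⁻¹ = b * zK) :
    Two.RefTri z' t' Q₁ Q₂ := by
  have := C.fin
  intro b hbr
  obtain ⟨L, F, i1, i2, hD⟩ := hdata b hbr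
  rcases hD.tri C hS S (by omega) (hN b hD.b_ord) with h1 | ⟨M, hM, hLM, hMt, hc, E, i3, i4, hE, ⟨e⟩⟩ |
    ⟨M, hM, hLM, hMt, hc, E, i3, i4, hE, ⟨e⟩⟩ | ⟨M, hM, hMt, A⟩
  · -- `L* = PSp₄(3)`
    left
    intro v hvb hv1 hv2 hv
    refine hD.noV h1 (v := (v : G)) (congrArg Subtype.val hvb) ?_ ?_
    · intro r hr
      obtain ⟨x, hx, y, hy, rfl⟩ := hR r hr
      have c1 : Commute v x := hv1 x hx
      have c2 : Commute v y := hv2 y hy
      exact congrArg Subtype.val (c1.mul_right c2).eq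
    · have h2 : (t' : G) * v * (t' : G)⁻¹ = v * (z' : G) := congrArg Subtype.val hv
      rw [hz', ht'] at h2
      exact h2
  · -- `L* = U₄(3)`
    right; left
    obtain ⟨F', i5, i6, hF', ⟨e'⟩⟩ := hU
    have hFE : Fintype.card F' = Fintype.card E := by rw [hF', hE]
    have k1 := kf.kf hb.zz hb.z1 Kt
    have k2 : FusB.KF (b : G) (zK : G) M (RK.map K.subtype) := by
      refine transport k1 ⟨zK, hb.zR, rfl⟩ (hb.pR.map _) ?_ ?_ ?_ ?_ ?_
        ((e'.trans (LieClassical.FieldTransfer.psuCongr 4 3 (FiniteField.ringEquivOfCardEq hFE))).trans e.symm)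
      · rintro _ ⟨r, hr, rfl⟩
        exact congrArg Subtype.val (hb.RP r hr)
      · intro N hNK hN2 hNz hNn n hn
        have h1 := hb.max (N.subgroupOf K) (hN2.of_equiv (subgroupOfEquivOfLe hNK).symm)
          (fun n hn => Subtype.ext (hNz n hn)) (fun g hg n hn => hNn g g.2 (congrArg Subtype.val hg) n hn)
        exact ⟨⟨n, hNK hn⟩, h1 hn, rfl⟩
      · intro m hm
        exact mem_centralizer_singleton_iff.1 (hM.le hm)
      · exact (hD.RD.trans hD.DL).trans hLM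
      · intro g hg hgz
        refine hD.norm_R ?_
        exact hD.norm_of_le C hS S (by omega) hM hLM hMt (mem_centralizer_singleton_iff.1 (hM.le hg)) hgz
    obtain ⟨p, hpt, hpz, hp⟩ := hmv b hbr
    refine fusT_of h hz' hR k2 hp ?_
    intro r hr
    have h1 := nR p⁻¹ (show Commute p t from hpt).inv_left.eq (show Commute p (zK : G) from hpz).inv_left.eq r hr
    rwa [inv_inv] at h1
  · exfalso
    obtain ⟨e2⟩ := Cfsg.Agent.LargeExtra.W2.LFour.PslFacts.psl_congr E hE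
    have h2 : Nat.card (Matrix.ProjectiveSpecialLinearGroup (Fin 4) E) = 6065280 := by
      rw [Nat.card_congr e2.symm.toEquiv, Cfsg.Agent.LargeExtra.W2.LFour.PslFacts.card_psl]
    rw [Nat.card_congr e.toEquiv, h2] at hc
    omega
  · right; right
    exact DiagOf.diag A (congrArg Subtype.val hb.zz) (fun h1 => hb.z1 (Subtype.ext h1)) hz' ht' rfl h.s₁ h.s₂ h.oa₁
      h.oa₂ hQ₁ hQ₂ h₁ h₂

end Cfsg.Agent.OddHalf.D6.QThree.NIB.FusOf

end

-- merged: Cfsg.Agent.OddHalf.D6.QThree.NIB.KU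
section

/-!
# ODD half, D6, `q = 3`: the reflections of `U₄(3)` (helper801, from helper218's `U43AutKF.CR`)

`Mv z R`: `α ∈ B̄ - ⟨z⟩` is conjugate to `α z` under `C_K(z)`. `rf_pr`, `mv_pr`: `U₄(3)`; `rf_map`, `mv_map`: transport.
-/

set_option autoImplicit false

namespace Cfsg.Agent.OddHalf.D6.QThree.NIB.KU

open Subgroup Cfsg
open Cfsg.Agent.OddHalf.D6.QThree.FrontB (BA Z2)
open Cfsg.Agent.OddHalf.D6.QThree.RefData
open Cfsg.Agent.OddHalf.D6.QThree.U43AutGood (fixS)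
open Cfsg.Agent.OddHalf.D6.QThree.U43AutKF (CR)
open Cfsg.Agent.OddHalf.D6.QThree.FactsOut (congr_apply' congr_conj)

/-- `α ∈ B̄ - ⟨z⟩` is conjugate to `α z` under `C_K(z)` -/
def Mv {K : Type*} [Group K] (z : K) (R : Subgroup K) : Prop :=
  ∀ α : MulAut K, BA R α → ¬ Z2 z α → ∃ p, p * z = z * p ∧ α p = z * p

/-! ### from `CR` -/

/-- `fixO α = fixS α`, if the fixed subgroup is simple of order divisible by 3 -/
theorem fixO_eq {K : Type*} [Group K] [Finite K] {α : MulAut K} (hs : IsSimpleGroup (fixS α))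
    (h3 : 3 ∣ Nat.card (fixS α)) : fixO α = fixS α := by
  have hle : fixO α ≤ fixS α := fun x hx => fix_of_mem hx
  apply le_antisymm hle
  have hn : ((fixO α).subgroupOf (fixS α)).Normal := by
    refine ⟨fun x hx g => ?_⟩
    have h1 : fixO α ≤ (fixO α).comap (MulAut.conj (g : K)).toMonoidHom := by
      refine (closure_le _).2 ?_
      rintro y ⟨hy, ho⟩
      refine _root_.Subgroup.subset_closure ⟨?_, ?_⟩
      · show α ((g : K) * y * (g : K)⁻¹) = (g : K) * y * (g : K)⁻¹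
        rw [map_mul, map_mul, map_inv, hy, show α (g : K) = g from g.2]
      · show Odd (orderOf ((MulAut.conj (g : K)).toMonoidHom y))
        rw [orderOf_injective (MulAut.conj (g : K)).toMonoidHom (MulAut.conj (g : K)).injective y]
        exact ho
    exact h1 hx
  rcases hn.eq_bot_or_eq_top with h1 | h1
  · exfalso
    have : Fact (Nat.Prime 3) := ⟨Nat.prime_three⟩
    obtain ⟨x, hx⟩ := exists_prime_orderOf_dvd_card' 3 h3
    have h2 : x ∈ (fixO α).subgroupOf (fixS α) := by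
      refine subset_closure ⟨x.2, ?_⟩
      show Odd (orderOf (x : K))
      rw [Subgroup.orderOf_coe, hx]
      decide
    rw [h1, mem_bot] at h2
    rw [h2, orderOf_one] at hx
    norm_num at hx
  · exact subgroupOf_eq_top.1 h1

theorem rf_of {K : Type*} [Group K] [Finite K] {z : K} {R : Subgroup K} (C : CR z R) : Rf z R := by
  intro α hα hαα hZ
  obtain ⟨e⟩ := C.rf α hα hαα (fun h => hZ (Or.inl h)) (fun h => hZ (Or.inr h))
  have h3 : Fintype.card (ZMod 3) = 3 := ZMod.card 3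
  have hs : IsSimpleGroup (fixS α) := by
    have := Cfsg.Agent.S0270.result (F := ZMod 3) 2 le_rfl (fun _ => h3.ge)
    exact e.isSimpleGroup_congr.2 this
  have hc : Nat.card (fixS α) = 25920 := by
    rw [Nat.card_congr e.toEquiv, Pump.card_psp_three h3]
  refine ⟨ZMod 3, inferInstance, inferInstance, h3, ?_⟩
  rw [fixO_eq hs (by rw [hc]; norm_num)]
  exact ⟨e⟩

theorem conj_inj' {K : Type*} [Group K] (hZ : center K = ⊥) {x y : K} (h : MulAut.conj x = MulAut.conj y) :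
    x = y := by
  have h1 : y⁻¹ * x ∈ center K := by
    rw [mem_center_iff]
    intro g
    have h2 := DFunLike.congr_fun h g
    rw [MulAut.conj_apply, MulAut.conj_apply] at h2
    calc g * (y⁻¹ * x) = y⁻¹ * (y * g * y⁻¹) * x := by group
      _ = y⁻¹ * (x * g * x⁻¹) * x := by rw [h2]
      _ = y⁻¹ * x * g := by group
  rw [hZ, mem_bot] at h1
  exact (inv_mul_eq_one.1 h1).symm

theorem mv_of {K : Type*} [Group K] {z : K} {R : Subgroup K} (hZ : center K = ⊥) (zz : z * z = 1) (C : CR z R) :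
    Mv z R := by
  intro α hα hZ2
  have hzz : MulAut.conj z * MulAut.conj z = 1 := by rw [← map_mul, zz, map_one]
  obtain ⟨p, hp, hpα⟩ := C.mv α⁻¹ (fun x hx => by rw [MulAut.inv_apply, MulEquiv.symm_apply_eq, hα x hx])
    (fun h2 => hZ2 (Or.inl (inv_eq_one.1 h2)))
    (fun h2 => hZ2 (Or.inr (by rw [← inv_inv α, h2, inv_eq_iff_mul_eq_one, hzz])))
  refine ⟨p, hp, ?_⟩
  apply conj_inj' hZ
  have e : MulAut.conj (α p) = α * MulAut.conj p * α⁻¹ := by
    ext x
    show α p * x * (α p)⁻¹ = α (p * α⁻¹ x * p⁻¹)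
    rw [map_mul, map_mul, map_inv, MulAut.apply_inv_self]
  rw [e, mul_assoc, hpα, map_mul, ← mul_assoc, ← mul_assoc, mul_inv_cancel, one_mul]

/-! ### transport -/

section map

variable {K L : Type*} [Group K] [Group L] {z : K} {R : Subgroup K}

theorem ba_iff (e : K ≃* L) {α : MulAut K} : BA (R.map e.toMonoidHom) (MulAut.congr e α) ↔ BA R α := by
  constructor
  · intro h r hr
    have h1 := h (e r) ⟨r, hr, rfl⟩
    rw [congr_apply'] at h1
    exact e.injective h1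
  · rintro h _ ⟨r, hr, rfl⟩
    show MulAut.congr e α (e r) = e r
    rw [congr_apply', h r hr]

theorem z2_iff (e : K ≃* L) {α : MulAut K} : Z2 (e z) (MulAut.congr e α) ↔ Z2 z α := by
  constructor
  · rintro (h | h)
    · left
      apply (MulAut.congr e).injective
      rw [h, map_one]
    · right
      apply (MulAut.congr e).injective
      rw [h, congr_conj]
  · rintro (h | h)
    · left; rw [h, map_one]
    · right; rw [h, congr_conj]

theorem mv_map (h : Mv z R) (e : K ≃* L) : Mv (e z) (R.map e.toMonoidHom) := by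
  intro β hβ hβ2
  obtain ⟨α, rfl⟩ := (MulAut.congr e).surjective β
  obtain ⟨p, hp, hpα⟩ := h α ((ba_iff e).1 hβ) (fun h1 => hβ2 ((z2_iff e).2 h1))
  exact ⟨e p, by rw [← map_mul, hp, map_mul], by rw [congr_apply', hpα, map_mul]⟩

theorem rf_map (h : Rf z R) (e : K ≃* L) : Rf (e z) (R.map e.toMonoidHom) := by
  intro β hβ hββ hβ2
  obtain ⟨α, rfl⟩ := (MulAut.congr e).surjective β
  obtain ⟨F, i1, i2, hF, ⟨f⟩⟩ := h α ((ba_iff e).1 hβ) (by
    apply (MulAut.congr e).injective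
    rw [map_mul, hββ, map_one]) (fun h1 => hβ2 ((z2_iff e).2 h1))
  refine ⟨F, i1, i2, hF, ?_⟩
  have h1 : fixO (MulAut.congr e α) = (fixO α).map e.toMonoidHom := by
    rw [fixO, fixO, MonoidHom.map_closure]
    congr 1
    ext y
    obtain ⟨x, rfl⟩ := e.surjective y
    constructor
    · rintro ⟨hx, ho⟩
      refine ⟨x, ⟨?_, ?_⟩, rfl⟩
      · rw [congr_apply'] at hx
        exact e.injective hx
      · rwa [show orderOf (e x) = orderOf x from orderOf_injective e.toMonoidHom e.injective x] at ho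
    · rintro ⟨x', ⟨hx, ho⟩, hxx⟩
      have e1 : x' = x := e.injective hxx
      rw [← e1]
      refine ⟨?_, ?_⟩
      · rw [congr_apply', hx]
      · rwa [show orderOf (e x') = orderOf x' from orderOf_injective e.toMonoidHom e.injective x']
  rw [h1]
  exact ⟨((fixO α).equivMapOfInjective e.toMonoidHom e.injective).symm.trans f⟩

end map

/-! ### `U₄(3)` -/

section U43

open Cfsg.Agent.OddHalf.Small.U43Mat Cfsg.Agent.OddHalf.Small.U43Good
open Cfsg.Agent.ClassicalGeometry.UnitAutBasic (pr pr_surjective)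
open Cfsg.Agent.OddHalf.D6.QThree.U43Plus

variable {F : Type*} [Field F] [CharP F 3] [Fintype F]

theorem center_pr (hF : Fintype.card F = 9) : center (PSU 4 F 3) = ⊥ := by
  rw [eq_bot_iff]
  intro x hx
  rw [mem_bot]
  apply U43AutRef.conj_one hF
  intro y
  rw [mem_center_iff.1 hx y]

theorem rf_pr (hF : Fintype.card F = 9) : Rf (pr 4 F 3 d) (QQ hF) := by
  have : Finite (PSU 4 F 3) := inferInstance
  exact rf_of (U43AutKF.cr hF)

theorem mv_pr (hF : Fintype.card F = 9) : Mv (pr 4 F 3 d) (QQ hF) :=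
  mv_of (center_pr hF) (U43AutKF.two_pr hF).zz (U43AutKF.cr hF)

end U43

end Cfsg.Agent.OddHalf.D6.QThree.NIB.KU

end

-- merged: Cfsg.Agent.OddHalf.D6.QThree.NIB.RowU
section

/-!
# ODD half, D6, `U₄(3)` with an outer part, NI with `B`: the end, from `HypB` (helper801)

`data`: `RefOf.Data` for every reflection; `fusT`, `hf`, `refTri`: the inputs of `NIB.End.noComp`;
`false_of_hypB`: the contradiction.
-/

set_option autoImplicit false

namespace Cfsg.Agent.OddHalf.D6.QThree.NIB.RowU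

open Subgroup Cfsg
open Cfsg.Agent.OddHalf Cfsg.Agent.OddHalf.Iface
open Cfsg.Agent.OddHalf.D6.QThree.FrontB (BA Z2 FrontK Out)
open Cfsg.Agent.OddHalf.D6.QThree.FrontLoc (Loc up)
open Cfsg.Agent.OddHalf.D6.QThree.RefData (KH DD Rf)

universe u

variable {G : Type u} [Group G] {K : Subgroup G} {t : G} {z : K} {R : Subgroup K} {i j k l a b : K}

theorem odd_of_cube {H : Type*} [Group H] {x : H} (h : x * x * x = 1) : Odd (orderOf x) := by
  have h1 : orderOf x ∣ 3 := orderOf_dvd_of_pow_eq_one (by rw [pow_succ, pow_two]; exact h)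
  exact Odd.of_dvd_nat (by decide) h1

theorem kh (f : FrontK z R i j k l a b) (L : Loc t (z : G) (R.map K.subtype) (i : G) j k l a b) :
    KH z R i j k l a b :=
  KH.of_K f (odd_of_cube (Subtype.ext L.a3)) (odd_of_cube (Subtype.ext L.b3))

/-- a reflection does not act on `K` as an element of `⟨z⟩` -/
theorem refl_K (O : Out K t (z : G)) (L : Loc t (z : G) (R.map K.subtype) (i : G) j k l a b)
    {x : ↥(centralizer ({(z : G)} : Set G))} (hx : Refl (up (z : G) z rfl) (up (z : G) t L.comm) L.frX.Q₁ L.frX.Q₂ x) :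
    (x : G) * t = t * x ∧ (∀ r ∈ R, (x : G) * r = r * x) ∧ (x : G) * x = 1 ∧
      (¬ ∀ y ∈ K, (x : G) * y = y * x) ∧ ¬ ∀ y ∈ K, ((x : G) * z) * y = y * ((x : G) * z) := by
  obtain ⟨h1, h2, h3⟩ := hx
  obtain ⟨h4, h5⟩ := (L.Bt_iff x).1 h1
  have h6 : ¬ FrontLoc.T4 t (z : G) (x : G) := fun h => h3 ((L.T4_iff x).2 h)
  have hxx : (x : G) * x = 1 := congrArg Subtype.val h2
  have hzx : (x : G) * z = z * x := mem_centralizer_singleton_iff.1 x.2
  have hzz : (z : G) * z = 1 := L.fr.zz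
  refine ⟨h4, fun r hr => h5 r ⟨r, hr, rfl⟩, hxx, fun h => h6 ?_, fun h => h6 ?_⟩
  · rcases O.cK x h4 (fun y hy => (h y hy).symm) with h7 | h7
    · exact Or.inl h7
    · exact Or.inr (Or.inr (Or.inl h7))
  · have c1 : Commute (x : G) t := h4
    have c2 : Commute (z : G) t := O.Kt z z.2
    rcases O.cK (x * z) (c1.mul_left c2).eq (fun y hy => (h y hy).symm) with h7 | h7
    · right; left
      calc (x : G) = (x * z) * (z : G)⁻¹ := by group
        _ = z := by rw [h7, one_mul, inv_eq_of_mul_eq_one_right hzz]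
    · right; right; right
      calc (x : G) = (x * z) * (z : G)⁻¹ := by group
        _ = t * z := by rw [h7, inv_eq_of_mul_eq_one_right hzz]

/-- **the position of every reflection** -/
theorem data (O : Out K t (z : G)) (f : FrontK z R i j k l a b)
    (L : Loc t (z : G) (R.map K.subtype) (i : G) j k l a b) (rf : Rf z R)
    {x : ↥(centralizer ({(z : G)} : Set G))} (hx : Refl (up (z : G) z rfl) (up (z : G) t L.comm) L.frX.Q₁ L.frX.Q₂ x) :
    ∃ (E : Subgroup G) (F : Type) (_ : Field F) (_ : Fintype F),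
      RefOf.Data t (z : G) (x : G) ((DD i j k l a b).map K.subtype) (R.map K.subtype) E F := by
  obtain ⟨h1, h2, h3, h4, h5⟩ := refl_K O L hx
  obtain ⟨E, F, i1, i2, hD, -⟩ := RefData.data O.tt O.t1 O.Kt O.nK (kh f L) rf h3 h1 h2 h4 h5
  exact ⟨E, F, i1, i2, hD⟩

/-- every reflection `x` is conjugate to `xz` -/
theorem move (O : Out K t (z : G)) (L : Loc t (z : G) (R.map K.subtype) (i : G) j k l a b) (mv : KU.Mv z R)
    {x : ↥(centralizer ({(z : G)} : Set G))} (hx : Refl (up (z : G) z rfl) (up (z : G) t L.comm) L.frX.Q₁ L.frX.Q₂ x) :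
    ∃ p : G, p * t = t * p ∧ p * (z : G) = z * p ∧ p * (x : G) * p⁻¹ = x * z := by
  obtain ⟨h1, h2, h3, h4, h5⟩ := refl_K O L hx
  have hzx : (x : G) * z = z * x := mem_centralizer_singleton_iff.1 x.2
  have hzz : (z : G) * z = 1 := L.fr.zz
  have hzi : (z : G)⁻¹ = z := inv_eq_of_mul_eq_one_right hzz
  have hxn := O.nK x h1
  have hα : ∀ y : K, ((K.normalizerMonoidHom ⟨x, hxn⟩ y : K) : G) = x * y * (x : G)⁻¹ := fun _ => rfl
  obtain ⟨p, hp, hpx⟩ := mv (K.normalizerMonoidHom ⟨x, hxn⟩) (fun r hr => Subtype.ext (by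
      rw [hα, h2 r hr, mul_inv_cancel_right])) (by
    rintro (h | h)
    · apply h4
      intro y hy
      have h6 := hα ⟨y, hy⟩
      rw [h] at h6
      have h7 : y = x * y * (x : G)⁻¹ := h6
      exact (eq_mul_inv_iff_mul_eq.1 h7).symm
    · apply h5
      intro y hy
      have h6 := hα ⟨y, hy⟩
      rw [h] at h6
      have h7 : (z : G) * y * (z : G)⁻¹ = x * y * (x : G)⁻¹ := h6
      have h8 : (x : G) * y = z * y * (z : G)⁻¹ * x := by rw [h7]; group
      calc (x : G) * z * y = z * (x * y) := by rw [hzx, mul_assoc]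
        _ = z * (z * y * (z : G)⁻¹ * x) := by rw [h8]
        _ = (z * z) * y * ((z : G)⁻¹ * x) := by group
        _ = y * (x * z) := by rw [hzz, hzi, one_mul, hzx])
  refine ⟨p, O.Kt p p.2, congrArg Subtype.val hp, ?_⟩
  have h6 := hα p
  rw [hpx] at h6
  have h7 : (z : G) * p = x * p * (x : G)⁻¹ := h6
  have h8 : (z : G) * p * x = x * p := eq_mul_inv_iff_mul_eq.1 h7
  calc (p : G) * x * (p : G)⁻¹ = (z : G)⁻¹ * (z * p * x) * (p : G)⁻¹ := by group
    _ = (z : G)⁻¹ * (x * p) * (p : G)⁻¹ := by rw [h8]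
    _ = (z : G)⁻¹ * x := by group
    _ = x * z := by rw [hzi, hzx]

theorem hR (L : Loc t (z : G) (R.map K.subtype) (i : G) j k l a b) :
    ∀ r ∈ R.map K.subtype, ∃ x ∈ L.frX.Q₁, ∃ y ∈ L.frX.Q₂, r = (x : G) * y := by
  intro r hr
  obtain ⟨x, hx, y, hy, e⟩ := L.exists_mulR hr
  have hX : ∀ r ∈ R.map K.subtype, r * z = z * r := fun r hr => L.Dz r (L.RD hr)
  exact ⟨up (z : G) x (hX x (L.Q₁R hx)), (L.mem₁ _).2 hx, up (z : G) y (hX y (L.Q₂R hy)), (L.mem₂ _).2 hy, e⟩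

variable {a₁ a₂ : ↥(centralizer ({(z : G)} : Set G))}

/-- (F) -/
theorem fusT (O : Out K t (z : G)) (L : Loc t (z : G) (R.map K.subtype) (i : G) j k l a b) (kf : KFOf.KFK z R)
    (h : HypB (up (z : G) z rfl) (up (z : G) t L.comm) a₁ a₂ L.frX.Q₁ L.frX.Q₂) :
    FusT (up (z : G) z rfl) (up (z : G) t L.comm) L.frX.Q₁ L.frX.Q₂ := by
  obtain ⟨s, hs, hsz⟩ := L.s
  exact FusOf.fusT_of h rfl (hR L) (kf.kf (Subtype.ext L.fr.zz) (fun e => L.fr.z1 (congrArg Subtype.val e)) O.Kt) hs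
    (FusOf.norm_R L hs hsz)

theorem hf (O : Out K t (z : G)) (L : Loc t (z : G) (R.map K.subtype) (i : G) j k l a b) (kf : KFOf.KFK z R)
    (h : HypB (up (z : G) z rfl) (up (z : G) t L.comm) a₁ a₂ L.frX.Q₁ L.frX.Q₂) :
    ∃ q₁ ∈ L.frX.Q₁, ∃ q₂ ∈ L.frX.Q₂, q₁ * q₁ = up (z : G) z rfl ∧ q₂ * q₂ = up (z : G) z rfl ∧
      ∃ g : G, g * z * g⁻¹ = (q₁ : G) * q₂ :=
  FusOf.hf_of (c := up (z : G) t L.comm) h rfl (hR L) (kf.kf (t := t) (Subtype.ext L.fr.zz) (fun e => L.fr.z1 (congrArg Subtype.val e)) O.Kt)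

theorem refTri (C : Ctx G) (hS : Pump.SpOrd.{u}) (S : Std G K) (hN : ∀ b : G, orderOf b = 2 → ∀ L : Subgroup G, CompOf b L → ¬ NI3.HasY ↥L)
    (hU : ∃ (F : Type) (_ : Field F) (_ : Fintype F), Fintype.card F = 9 ∧ Nonempty (K ≃* PSU 4 F 3))
    (O : Out K t (z : G)) (f : FrontK z R i j k l a b) (L : Loc t (z : G) (R.map K.subtype) (i : G) j k l a b)
    (kf : KFOf.KFK z R) (rf : Rf z R) (mv : KU.Mv z R)
    (h : HypB (up (z : G) z rfl) (up (z : G) t L.comm) a₁ a₂ L.frX.Q₁ L.frX.Q₂) (h₁ : (a₁ : G) = a)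
    (h₂ : (a₂ : G) = b) : Two.RefTri (up (z : G) z rfl) (up (z : G) t L.comm) L.frX.Q₁ L.frX.Q₂ := by
  have hRD : R.map K.subtype ≤ (DD i j k l a b).map K.subtype := Subgroup.map_mono (kh f L).RD
  have hcard : Nat.card K = 3265920 := by
    obtain ⟨F, _, _, hF, ⟨e⟩⟩ := hU
    have : Fact (Nat.Prime 3) := ⟨Nat.prime_three⟩
    have : CharP F 3 := charP_of_card_eq_prime_pow (f := 2) (by rw [hF]; norm_num)
    rw [Nat.card_congr e.toEquiv, U43Tw.card_K hF]; norm_num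
  refine FusOf.refTri_of C hS S (by rw [hcard]; norm_num) hN hU f.toBase kf O.Kt L.nR
    (D := (DD i j k l a b).map K.subtype) h rfl rfl (hR L) ?_ ?_ ?_ ?_ (fun x hx => data O f L rf hx)
    (fun x hx => move O L mv hx)
  · intro q hq
    exact hRD (L.Q₁R ((L.mem₁ q).1 hq))
  · intro q hq
    exact hRD (L.Q₂R ((L.mem₂ q).1 hq))
  · rw [h₁]
    exact ⟨a, _root_.Subgroup.subset_closure (by simp), rfl⟩
  · rw [h₂]
    exact ⟨b, _root_.Subgroup.subset_closure (by simp), rfl⟩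

/-- **NI with `B`, `K = U₄(3)`** -/
theorem false_of_hypB (hGW : SylowSp4.Hyps.GW.{u}) (I : Intr2.{u}) (hS : CaseM.IntrSign.{u}) (C : Ctx G)
    (hcy : ∀ K : Subgroup G, Std0 G K → PRankLE 2 1 ↥(centralizer (K : Set G)) → Cyc K) (hSp : Pump.SpOrd.{u})
    (S : Std G K) (hN : ∀ b : G, orderOf b = 2 → ∀ L : Subgroup G, CompOf b L → ¬ NI3.HasY ↥L)
    (hU : ∃ (F : Type) (_ : Field F) (_ : Fintype F), Fintype.card F = 9 ∧ Nonempty (K ≃* PSU 4 F 3))
    (O : Out K t (z : G)) (f : FrontK z R i j k l a b) (L : Loc t (z : G) (R.map K.subtype) (i : G) j k l a b)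
    (kf : KFOf.KFK z R) (rf : Rf z R) (mv : KU.Mv z R)
    (h : HypB (up (z : G) z rfl) (up (z : G) t L.comm) a₁ a₂ L.frX.Q₁ L.frX.Q₂) (h₁ : (a₁ : G) = a)
    (h₂ : (a₂ : G) = b) : False :=
  End.noComp hGW I hS C hcy (orderOf_eq_prime (by rw [pow_two]; exact L.fr.zz) L.fr.z1) rfl h (hf O L kf h)
    (fusT O L kf h) (refTri C hSp S hN hU O f L kf rf mv h h₁ h₂)

end Cfsg.Agent.OddHalf.D6.QThree.NIB.RowU

end

-- merged: Cfsg.Agent.OddHalf.D6.QThree.NIB.NF
section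

/-!
# ODD half, D6, `q = 3`, NI with `B`: the field `HypB.nF` (helper135)

If `R = Q₁ Q₂` centralises every component of `X = C_G(z)`, and an involution `q₁ q₂` of `R` is conjugate to `z`, then
`X` has no component: a component of maximal order has, by `L`-balance, a bigger one (`grow`, helper911's `DirG.grow`
with weaker hypotheses).
-/

set_option autoImplicit false

namespace Cfsg.Agent.OddHalf.D6.QThree.NIB.NF

open Subgroup Cfsg
open Cfsg.Agent.OddHalf
open Cfsg.Agent.SignalizersComponents.Components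
open Cfsg.Agent.OddHalf.D6.QThree.NISide

/-- the two factors meet in `⟨z⟩` -/
theorem prod_ne {X : Type*} [Group X] {z t a₁ a₂ : X} {Q₁ Q₂ : Subgroup X} (zz : z * z = 1) (z1 : z ≠ 1)
    (s₁ : Side z t a₁ Q₁ Q₂) (s₂ : Side z t a₂ Q₂ Q₁) (comm : ∀ x ∈ Q₁, ∀ y ∈ Q₂, x * y = y * x)
    {x y : X} (hx : x ∈ Q₁) (hy : y ∈ Q₂) (hxx : x * x = z) (e : x * y = 1 ∨ x * y = z) : False := by
  have hx2 : x ∈ Q₂ := by
    rcases e with e | e
    · rw [eq_inv_of_mul_eq_one_left e]; exact Q₂.inv_mem hy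
    · have : x = z * y⁻¹ := by rw [← e, mul_inv_cancel_right]
      rw [this]; exact Q₂.mul_mem s₂.zQ (Q₂.inv_mem hy)
  have hx1 : x ≠ 1 := by
    rintro rfl
    rw [one_mul] at hxx; exact z1 hxx.symm
  have hxz : x ≠ z := by
    rintro rfl
    rw [zz] at hxx; exact z1 hxx.symm
  exact s₁.act x hx hx1 hxz (comm _ (s₁.aQ x hx) x hx2).symm

universe u

variable {G : Type u} [Group G]

/-- a component of `X` which centralises `Q₁ Q₂` is smaller than some other component -/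
theorem grow [Finite G] (hb : D3.Plug.Bal G) {z : G} (hz : orderOf z = 2)
    {z' t' a₁ a₂ : ↥(centralizer ({z} : Set G))} (hz' : (z' : G) = z)
    {Q₁ Q₂ : Subgroup ↥(centralizer ({z} : Set G))} (s₁ : Side z' t' a₁ Q₁ Q₂) (s₂ : Side z' t' a₂ Q₂ Q₁)
    (comm : ∀ x ∈ Q₁, ∀ y ∈ Q₂, x * y = y * x)
    (elem : ∀ W : Subgroup ↥(centralizer ({z} : Set G)), W.Normal → (∀ w ∈ W, w * w = 1) → ∀ w ∈ W, w = 1 ∨ w = z')
    (zM : ∀ M : Subgroup ↥(centralizer ({z} : Set G)), IsComponent M → z' ∈ M)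
    {q₁ q₂ : ↥(centralizer ({z} : Set G))} (hq₁ : q₁ ∈ Q₁) (hq₂ : q₂ ∈ Q₂) (hqq₁ : q₁ * q₁ = z')
    (hqq₂ : q₂ * q₂ = z') {g : G} (hg : g * z * g⁻¹ = (q₁ : G) * q₂)
    (L : Subgroup ↥(centralizer ({z} : Set G))) (hL : IsComponent L)
    (hL₁ : ∀ m ∈ L, ∀ x ∈ Q₁, m * x = x * m) (hL₂ : ∀ m ∈ L, ∀ x ∈ Q₂, m * x = x * m) :
    ∃ L' : Subgroup ↥(centralizer ({z} : Set G)), IsComponent L' ∧ Nat.card L < Nat.card L' := by
  have zz : z' * z' = 1 := by
    apply Subtype.ext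
    show (z' : G) * z' = 1
    rw [hz', ← pow_two, ← hz, pow_orderOf_eq_one]
  have z1 : z' ≠ 1 := by
    intro e
    rw [e] at hz'
    have : z = 1 := hz'.symm
    rw [this, orderOf_one] at hz
    exact absurd hz (by norm_num)
  set y : (centralizer ({z} : Set G)) := q₁ * q₂ with hy
  have hyy : y * y = 1 := by
    calc y * y = q₁ * (q₂ * q₁) * q₂ := by rw [hy]; group
      _ = q₁ * (q₁ * q₂) * q₂ := by rw [← comm q₁ hq₁ q₂ hq₂]
      _ = (q₁ * q₁) * (q₂ * q₂) := by group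
      _ = 1 := by rw [hqq₁, hqq₂, zz]
  have hy1 : y ≠ 1 := fun e => prod_ne zz z1 s₁ s₂ comm hq₁ hq₂ hqq₁ (Or.inl e)
  have hyz : y ≠ z' := fun e => prod_ne zz z1 s₁ s₂ comm hq₁ hq₂ hqq₁ (Or.inr e)
  have hyo : orderOf (y : G) = 2 := by
    rw [Subgroup.orderOf_coe]
    exact orderOf_eq_prime (by rw [pow_two, hyy]) hy1
  have hyL : ∀ m ∈ L, m * y = y * m := by
    intro m hm
    have c1 : Commute m q₁ := hL₁ m hm q₁ hq₁
    have c2 : Commute m q₂ := hL₂ m hm q₂ hq₂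
    exact (c1.mul_right c2).eq
  have hyL' : (y : G) ∈ centralizer ((L.map (centralizer ({z} : Set G)).subtype : Subgroup G) : Set G) := by
    rw [mem_centralizer_iff]
    rintro _ ⟨m, hm, rfl⟩
    exact congrArg Subtype.val (hyL m hm)
  have hzy : z * (y : G) = y * z := (mem_centralizer_singleton_iff.1 y.2).symm
  obtain ⟨D, hD, hcase⟩ := D3.Plug.exists_pump hb hz (D3.comp_map hL) hyo hzy hyL'
  have hD' := hD.conj g⁻¹
  have e1 : g⁻¹ * (y : G) * g⁻¹⁻¹ = z := by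
    have : (y : G) = g * z * g⁻¹ := hg.symm
    rw [this]; group
  rw [e1] at hD'
  have hyD : (y : G) ∈ D := by
    have h1 : z' ∈ (D3.cj g⁻¹ D).subgroupOf (centralizer ({z} : Set G)) := zM _ hD'.comp
    rw [mem_subgroupOf, hz', D3.mem_cj] at h1
    have e2 : g⁻¹⁻¹ * z * g⁻¹ = (y : G) := by rw [inv_inv, hg]; rfl
    rwa [e2] at h1
  refine ⟨(D3.cj g⁻¹ D).subgroupOf (centralizer ({z} : Set G)), hD'.comp, ?_⟩
  have hc1 : Nat.card ↥((D3.cj g⁻¹ D).subgroupOf (centralizer ({z} : Set G))) = Nat.card D := by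
    rw [Nat.card_congr (Subgroup.subgroupOfEquivOfLe hD'.le).toEquiv, D3.card_cj]
  have hc2 : Nat.card ↥(L.map (centralizer ({z} : Set G)).subtype) = Nat.card L :=
    Nat.card_congr (L.equivMapOfInjective _ (centralizer ({z} : Set G)).subtype_injective).toEquiv.symm
  rw [hc1, ← hc2]
  rcases hcase with e | hlt | ⟨h4, -, h6⟩
  · exfalso
    have hyLm : y ∈ L := by
      have h1 : (y : G) ∈ L.map (centralizer ({z} : Set G)).subtype := by rw [e]; exact hyD
      obtain ⟨y0, hy0, e0⟩ := h1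
      have : y0 = y := Subtype.ext e0
      rwa [this] at hy0
    have hyl : ∀ x ∈ layer ↥(centralizer ({z} : Set G)), y * x = x * y := by
      intro x hx
      have h1 : layer ↥(centralizer ({z} : Set G)) ≤ centralizer ({y} : Set ↥(centralizer ({z} : Set G))) := by
        rw [layer_le_iff]
        intro K hK k hk
        rw [mem_centralizer_singleton_iff]
        by_cases e : K = L
        · subst e; exact hyL k hk
        · exact Cfsg.Agent.Cit.Comp.comm_of_ne hK hL e hk hyLm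
      exact (mem_centralizer_singleton_iff.1 (h1 hx)).symm
    have hLn : (layer ↥(centralizer ({z} : Set G))).Normal := layer_normal ↥(centralizer ({z} : Set G))
    let W : Subgroup ↥(centralizer ({z} : Set G)) :=
      { carrier := {w | w ∈ layer ↥(centralizer ({z} : Set G)) ∧ (∀ x ∈ layer ↥(centralizer ({z} : Set G)), w * x = x * w) ∧ w * w = 1}
        one_mem' := ⟨one_mem _, fun x _ => by rw [one_mul, mul_one], one_mul 1⟩
        mul_mem' := by
          rintro a b ⟨ha, ha', haa⟩ ⟨hb, hb', hbb⟩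
          refine ⟨mul_mem ha hb, fun x hx => ?_, ?_⟩
          · have c1 : Commute a x := ha' x hx
            have c2 : Commute b x := hb' x hx
            exact (c1.mul_left c2).eq
          · calc a * b * (a * b) = a * (b * a) * b := by group
              _ = a * (a * b) * b := by rw [ha' b hb]
              _ = (a * a) * (b * b) := by group
              _ = 1 := by rw [haa, hbb, one_mul]
        inv_mem' := by
          rintro a ⟨ha, ha', haa⟩
          have e : a⁻¹ = a := inv_eq_of_mul_eq_one_right haa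
          rw [e]
          exact ⟨ha, ha', haa⟩ }
    have hWn : W.Normal := by
      refine ⟨?_⟩
      rintro w ⟨hw, hw', hww⟩ g
      refine ⟨hLn.conj_mem w hw g, fun x hx => ?_, ?_⟩
      · have h1 : g⁻¹ * x * g ∈ layer ↥(centralizer ({z} : Set G)) := by
          have := hLn.conj_mem x hx g⁻¹
          rwa [inv_inv] at this
        have h2 := hw' _ h1
        calc g * w * g⁻¹ * x = g * (w * (g⁻¹ * x * g)) * g⁻¹ := by group
          _ = g * ((g⁻¹ * x * g) * w) * g⁻¹ := by rw [h2]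
          _ = x * (g * w * g⁻¹) := by group
      · calc g * w * g⁻¹ * (g * w * g⁻¹) = g * (w * w) * g⁻¹ := by group
          _ = 1 := by rw [hww]; group
    rcases elem W hWn (fun w hw => hw.2.2) y ⟨component_le_layer hL hyLm, hyl, hyy⟩ with e | e
    · exact hy1 e
    · exact hyz e
  · exact lt_of_le_of_ne (Subgroup.card_le_of_le hlt.le)
      fun e => hlt.ne (Subgroup.eq_of_le_of_card_ge hlt.le e.ge)
  · exfalso
    obtain ⟨d, hd, hzd⟩ := h6 z ⟨z', zM L hL, hz'⟩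
    apply h4
    have h7 : D3.Comp (y : G) (D3.cj z D) := hD.conj_of_comm hzy
    have h8 : D3.cj z D ≤ centralizer (D : Set G) := h7.comm hD h4
    have h9 : D3.cj (z * d * z⁻¹) D = D := D3.cj_eq_of_mem_centralizer (h8 (D3.conj_mem_cj hd))
    conv_lhs => rw [hzd]
    rw [← D3.cj_cj, h9]
    exact D3.cj_eq_of_mem hd

/-- **the field `HypB.nF`**: `R` does not centralise all the components -/
theorem nF_of [Finite G] (hb : D3.Plug.Bal G) {z : G} (hz : orderOf z = 2)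
    {z' t' a₁ a₂ : ↥(centralizer ({z} : Set G))} (hz' : (z' : G) = z)
    {Q₁ Q₂ : Subgroup ↥(centralizer ({z} : Set G))} (s₁ : Side z' t' a₁ Q₁ Q₂) (s₂ : Side z' t' a₂ Q₂ Q₁)
    (comm : ∀ x ∈ Q₁, ∀ y ∈ Q₂, x * y = y * x)
    (elem : ∀ W : Subgroup ↥(centralizer ({z} : Set G)), W.Normal → (∀ w ∈ W, w * w = 1) → ∀ w ∈ W, w = 1 ∨ w = z')
    (zM : ∀ M : Subgroup ↥(centralizer ({z} : Set G)), IsComponent M → z' ∈ M)
    {q₁ q₂ : ↥(centralizer ({z} : Set G))} (hq₁ : q₁ ∈ Q₁) (hq₂ : q₂ ∈ Q₂) (hqq₁ : q₁ * q₁ = z')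
    (hqq₂ : q₂ * q₂ = z') {g : G} (hg : g * z * g⁻¹ = (q₁ : G) * q₂)
    (hex : ∃ M : Subgroup ↥(centralizer ({z} : Set G)), IsComponent M)
    (hall : ∀ M : Subgroup ↥(centralizer ({z} : Set G)), IsComponent M →
      (∀ x ∈ Q₁, ∀ m ∈ M, x * m = m * x) ∧ ∀ x ∈ Q₂, ∀ m ∈ M, x * m = m * x) : False := by
  obtain ⟨M, hM⟩ := hex
  have key : ∀ n : ℕ, ∀ L : Subgroup ↥(centralizer ({z} : Set G)), IsComponent L →
      Nat.card ↥(centralizer ({z} : Set G)) ≤ Nat.card L + n → False := by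
    intro n
    induction n with
    | zero =>
      intro L hL hc
      obtain ⟨L', -, hlt⟩ := grow hb hz hz' s₁ s₂ comm elem zM hq₁ hq₂ hqq₁ hqq₂ hg L hL
        (fun m hm x hx => ((hall L hL).1 x hx m hm).symm) (fun m hm x hx => ((hall L hL).2 x hx m hm).symm)
      have := card_le_card_group L'
      omega
    | succ n ih =>
      intro L hL hc
      obtain ⟨L', hL', hlt⟩ := grow hb hz hz' s₁ s₂ comm elem zM hq₁ hq₂ hqq₁ hqq₂ hg L hL
        (fun m hm x hx => ((hall L hL).1 x hx m hm).symm) (fun m hm x hx => ((hall L hL).2 x hx m hm).symm)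
      exact ih L' hL' (by omega)
  exact key _ M hM (Nat.le_add_left _ _)

end Cfsg.Agent.OddHalf.D6.QThree.NIB.NF

end

-- merged: Cfsg.Agent.OddHalf.D6.QThree.U43AutEnv
section

/-!
# ODD half, D6, `q = 3`: `U₄(3)`, the sign of `C(t)` and the fields of `TransferMu.Env` (helper218)

`K` normal in `C(t)`, `e : K ≃* PSU 4 F 3`. `mu = -1` on the elements of `C(t)` acting as semilinear
automorphisms; `al` = field of `TransferMu.Env`; `cyc`: if `mu = 1` then `C(t) / K C(K)` is cyclic.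
-/

set_option autoImplicit false
set_option linter.unusedSectionVars false

namespace Cfsg.Agent.OddHalf.D6.QThree.U43AutEnv

open Subgroup Cfsg Cfsg.Agent.OddHalf.D6.QThree.U43Aut Cfsg.Agent.OddHalf.D6.QThree.U43AutRef
open Cfsg.Agent.OddHalf.D6.QThree.U43AutGood Cfsg.Agent.OddHalf.D6.QThree.TransferMu
open Cfsg.Agent.OddHalf.Small.U43Mat Cfsg.Agent.OddHalf.Small.U43Good
open Cfsg.Agent.ClassicalGeometry.UnitAutBasic (pr pr_surjective)

section lift

variable {G : Type*} [Group G] {K C : Subgroup G} {L : Type*} [Group L]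

/-- the action of `C` on `K`, transported to `L` -/
noncomputable def ac (e : K ≃* L) (hn : ∀ g ∈ C, ∀ x ∈ K, g * x * g⁻¹ ∈ K) : C →* MulAut L :=
  (MulAut.congr e).toMonoidHom.comp (K.normalizerMonoidHom.comp (inclusion (show C ≤ normalizer (K : Set G) from
    fun g hg => mem_normalizer_iff.2 fun x => ⟨fun hx => hn g hg x hx, fun hx => by
      have := hn g⁻¹ (C.inv_mem hg) _ hx
      rwa [show g⁻¹ * (g * x * g⁻¹) * g⁻¹⁻¹ = x by group] at this⟩)))

variable {e : K ≃* L} {hn : ∀ g ∈ C, ∀ x ∈ K, g * x * g⁻¹ ∈ K}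

/-- the elements of `K` -/
theorem ac_spec (g : C) (x : L) : (e.symm (ac e hn g x) : G) = g * (e.symm x : G) * (g : G)⁻¹ := by
  show ((e.symm (e (K.normalizerMonoidHom _ (e.symm x))) : K) : G) = _
  rw [e.symm_apply_apply]
  rfl

theorem ac_eq {g : C} {x y : L} (h : (e.symm y : G) = g * (e.symm x : G) * (g : G)⁻¹) : ac e hn g x = y := by
  apply e.symm.injective
  apply Subtype.ext
  rw [ac_spec, h]

theorem ac_of_mem {g : C} {k : L} (h : (g : G) = e.symm k) : ac e hn g = MulAut.conj k := by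
  ext x
  apply ac_eq
  rw [MulAut.conj_apply, map_mul, map_mul, map_inv, h]
  rfl

theorem ac_one {g : C} : ac e hn g = 1 ↔ ∀ k ∈ K, (g : G) * k = k * g := by
  constructor
  · intro h k hk
    have h1 := ac_spec (e := e) (hn := hn) g (e ⟨k, hk⟩)
    rw [h, MulAut.one_apply, e.symm_apply_apply] at h1
    rw [← mul_inv_eq_iff_eq_mul]
    exact h1.symm
  · intro h
    ext x
    apply ac_eq
    rw [h _ (e.symm x).2, mul_inv_cancel_right]
    rfl

end lift

section main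

variable {G : Type*} [Group G] {K : Subgroup G} {t : G} {F : Type*} [Field F] [CharP F 3] [Fintype F]

theorem lift_good (hF : Fintype.card F = 9) (e : K ≃* PSU 4 F 3) (Kt : ∀ x ∈ K, x * t = t * x)
    (hn : ∀ g ∈ centralizer ({t} : Set G), ∀ x ∈ K, g * x * g⁻¹ ∈ K) {y : centralizer ({t} : Set G)}
    {v p : PSU 4 F 3} {S : Subgroup (PSU 4 F 3)} (h : GoodK (ac e hn y) v p S) :
    Good t K (y : G) (e.symm v) (e.symm p) (S.map (K.subtype.comp e.symm.toMonoidHom)) := by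
  obtain ⟨α, hα⟩ : ∃ α, α = ac e hn y := ⟨_, rfl⟩
  rw [← hα] at h
  have sp : ∀ x : PSU 4 F 3, (e.symm (α x) : G) = y * (e.symm x : G) * (y : G)⁻¹ := fun x => by
    rw [hα]; exact ac_spec y x
  have spf : ∀ x : PSU 4 F 3, α x = x → (e.symm x : G) * y = y * e.symm x := by
    intro x hx
    have h1 := sp x
    rw [hx] at h1
    calc (e.symm x : G) * y = (y * (e.symm x : G) * (y : G)⁻¹) * y := by rw [← h1]
      _ = y * e.symm x := by group
  have spf' : ∀ x : PSU 4 F 3, (e.symm x : G) * y = y * e.symm x → α x = x := by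
    intro x hx
    apply e.symm.injective
    apply Subtype.ext
    rw [sp, ← hx, mul_inv_cancel_right]
  have hyt : (y : G) * t = t * y := mem_centralizer_singleton_iff.1 y.2
  have hmem : ∀ s ∈ S.map (K.subtype.comp e.symm.toMonoidHom), ∃ x ∈ S, s = e.symm x := by
    rintro _ ⟨x, hx, rfl⟩
    exact ⟨x, hx, rfl⟩
  have mmem : ∀ x ∈ S, (e.symm x : G) ∈ S.map (K.subtype.comp e.symm.toMonoidHom) :=
    fun x hx => ⟨x, hx, rfl⟩
  refine { yt := hyt, yy := ?_, vv := ?_, v1 := ?_, vc := ?_, pK := (e.symm p).2, py := ?_, pv := ?_,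
           SK := ?_, Sy := ?_, pS := h.pS.map _, max := ?_, vS := mmem _ h.vS, vs := ?_, cen := ?_ }
  · intro k hk
    obtain ⟨x, hx⟩ := e.symm.surjective ⟨k, hk⟩
    have hx' : (e.symm x : G) = k := congrArg Subtype.val hx
    have h1 := sp (α x)
    rw [sp x] at h1
    have h2 : α (α x) = x := by
      rw [← MulAut.mul_apply, h.aa, MulAut.one_apply]
    rw [h2, hx'] at h1
    calc (y : G) * y * k = (y * (y * k * (y : G)⁻¹) * (y : G)⁻¹) * (y * y) := by group
      _ = k * (y * y) := by rw [← h1]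
  · have := congrArg (fun x => (e.symm x : G)) h.vv
    simpa only [_root_.map_mul, _root_.Subgroup.coe_mul, _root_.map_one, _root_.OneMemClass.coe_one] using this
  · intro h1
    apply h.v1
    apply e.symm.injective
    apply Subtype.ext
    rw [h1, map_one]
    rfl
  · have h1 : (fixS α).map (K.subtype.comp e.symm.toMonoidHom) ≤ K ⊓ centralizer {(y : G)} := by
      rintro _ ⟨x, hx, rfl⟩
      exact ⟨(e.symm x).2, mem_centralizer_singleton_iff.2 (spf x hx)⟩
    have h2 := mem_map_of_mem (K.subtype.comp e.symm.toMonoidHom) h.vc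
    rw [map_commutator] at h2
    exact commutator_mono h1 h1 h2
  · -- `p y p⁻¹ = y v`
    have h1 : MulAut.conj (α.symm p) = MulAut.conj (v * p) := by
      ext x
      have h2 := congrArg (fun f : MulAut (PSU 4 F 3) => f x) h.py
      simp only [MulAut.mul_apply, MulAut.conj_apply] at h2
      apply α.injective
      rw [MulAut.conj_apply, MulAut.conj_apply, map_mul, map_mul, map_inv, MulEquiv.apply_symm_apply, h2]
      congr 1
      group
    have h3 := conj_inj hF h1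
    have h4 : p = α (v * p) := by rw [← h3, MulEquiv.apply_symm_apply]
    have h5 : (e.symm p : G) = y * ((e.symm v : G) * e.symm p) * (y : G)⁻¹ := by
      have := sp (v * p)
      rw [← h4] at this
      simpa only [map_mul, Subgroup.coe_mul] using this
    have h6 : (e.symm p : G) * y = y * ((e.symm v : G) * e.symm p) := by
      rw [← eq_mul_inv_iff_mul_eq]; exact h5
    rw [h6]
    group
  · have := congrArg (fun x => (e.symm x : G)) h.pv
    simp only [map_mul, Subgroup.coe_mul] at this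
    rw [this, mul_inv_cancel_right]
  · intro s hs
    obtain ⟨x, hx, rfl⟩ := hmem s hs
    exact (e.symm x).2
  · intro s hs
    obtain ⟨x, hx, rfl⟩ := hmem s hs
    exact spf x (h.Sf x hx)
  · intro P hP hSP hPK hPy x hx
    have h1 := h.max (P.comap (K.subtype.comp e.symm.toMonoidHom)) (hP.comap_of_injective _ (by
      intro a b hab
      exact e.symm.injective (Subtype.ext hab))) (fun a ha => hSP (mmem a ha))
      (fun a ha => spf' a (hPy _ ha))
    refine ⟨e ⟨x, hPK hx⟩, h1 ?_, ?_⟩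
    · show ((e.symm (e ⟨x, hPK hx⟩) : K) : G) ∈ P
      rw [e.symm_apply_apply]; exact hx
    · show ((e.symm (e ⟨x, hPK hx⟩) : K) : G) = x
      rw [e.symm_apply_apply]
  · intro s hs
    obtain ⟨x, hx, rfl⟩ := hmem s hs
    have := congrArg (fun x => (e.symm x : G)) (h.vs x hx)
    simpa only [map_mul, Subgroup.coe_mul] using this
  · intro u huu hut huy huS
    obtain ⟨w, hw⟩ : ∃ w : centralizer ({t} : Set G), (w : G) = u := ⟨⟨u, mem_centralizer_singleton_iff.2 hut⟩, rfl⟩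
    have hwy : w * y = y * w := Subtype.ext (by
      show (w : G) * y = y * w
      rw [hw]; exact huy)
    have hvt : (e.symm v : G) * t = t * e.symm v := Kt _ (e.symm v).2
    obtain ⟨v', hv'⟩ : ∃ v' : centralizer ({t} : Set G), (v' : G) = e.symm v :=
      ⟨⟨_, mem_centralizer_singleton_iff.2 hvt⟩, rfl⟩
    have hacv : ac e hn v' = MulAut.conj v := ac_of_mem hv'
    have key := h.cen (ac e hn w) (by rw [hα, ← map_mul, ← map_mul, hwy]) (by
      intro s hs
      apply ac_eq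
      rw [hw, ← huS _ (mmem s hs), mul_inv_cancel_right])
    rcases key with h1 | h1 | h1 | h1
    · left
      rw [ac_one, hw] at h1
      exact h1
    · right; left
      have h2 : ac e hn (v' * w) = 1 := by
        rw [map_mul, hacv, h1, ← map_mul, h.vv, map_one]
      rw [ac_one] at h2
      intro k hk
      have := h2 k hk
      rwa [Subgroup.coe_mul, hv', hw] at this
    · right; right; left
      have h2 : ac e hn (y⁻¹ * w) = 1 := by
        rw [map_mul, map_inv, h1, hα, inv_mul_cancel]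
      rw [ac_one] at h2
      intro k hk
      have := h2 k hk
      rwa [Subgroup.coe_mul, Subgroup.coe_inv, hw] at this
    · right; right; right
      have h2 : ac e hn ((y * v')⁻¹ * w) = 1 := by
        rw [map_mul, map_inv, map_mul, h1, hacv, hα, inv_mul_cancel]
      rw [ac_one] at h2
      intro k hk
      have := h2 k hk
      rwa [Subgroup.coe_mul, Subgroup.coe_inv, Subgroup.coe_mul, hw, hv'] at this

/-- the sign of `C(t)` -/
noncomputable def mu (hF : Fintype.card F = 9) (e : K ≃* PSU 4 F 3)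
    (hn : ∀ g ∈ centralizer ({t} : Set G), ∀ x ∈ K, g * x * g⁻¹ ∈ K) : centralizer ({t} : Set G) →* ℤˣ :=
  (sgn hF).comp (ac e hn)

theorem muK (hF : Fintype.card F = 9) (e : K ≃* PSU 4 F 3)
    (hn : ∀ g ∈ centralizer ({t} : Set G), ∀ x ∈ K, g * x * g⁻¹ ∈ K) (x : G) (hx : x * t = t * x)
    (hxK : x ∈ K) : mu hF e hn ⟨x, mem_centralizer_singleton_iff.2 hx⟩ = 1 := by
  show sgn hF (ac e hn _) = 1
  rw [ac_of_mem (k := e ⟨x, hxK⟩) (by rw [e.symm_apply_apply]), sgn_conj]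

theorem muC (hF : Fintype.card F = 9) (e : K ≃* PSU 4 F 3)
    (hn : ∀ g ∈ centralizer ({t} : Set G), ∀ x ∈ K, g * x * g⁻¹ ∈ K) (x : G) (hx : x * t = t * x)
    (hxK : ∀ k ∈ K, x * k = k * x) : mu hF e hn ⟨x, mem_centralizer_singleton_iff.2 hx⟩ = 1 := by
  show sgn hF (ac e hn _) = 1
  rw [ac_one.2 hxK, map_one]

/-- **the field `al` of `TransferMu.Env`** -/
theorem al (hF : Fintype.card F = 9) (e : K ≃* PSU 4 F 3) (Kt : ∀ x ∈ K, x * t = t * x)
    (hn : ∀ g ∈ centralizer ({t} : Set G), ∀ x ∈ K, g * x * g⁻¹ ∈ K) {z : G} (hzK : z ∈ K) (hzz : z * z = 1)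
    (hz1 : z ≠ 1) (y : G) (hy : y * t = t * y)
    (hmu : mu hF e hn ⟨y, mem_centralizer_singleton_iff.2 hy⟩ = -1) :
    ∃ k ∈ K, ∃ (v p : G) (S : Subgroup G), Good t K (k * y) v p S ∧ ∃ l ∈ K, l * z * l⁻¹ = v := by
  obtain ⟨k, v, p, S, hg, hv⟩ := exists_good hF _ hmu
  have hkt : (e.symm k : G) * t = t * e.symm k := Kt _ (e.symm k).2
  obtain ⟨k', hk'⟩ : ∃ k' : centralizer ({t} : Set G), (k' : G) = e.symm k :=
    ⟨⟨_, mem_centralizer_singleton_iff.2 hkt⟩, rfl⟩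
  have h1 : ac e hn (k' * ⟨y, mem_centralizer_singleton_iff.2 hy⟩) =
      MulAut.conj k * ac e hn ⟨y, mem_centralizer_singleton_iff.2 hy⟩ := by
    rw [map_mul, ac_of_mem hk']
  rw [← h1] at hg
  have h2 := lift_good hF e Kt hn hg
  rw [Subgroup.coe_mul, hk'] at h2
  refine ⟨_, (e.symm k).2, _, _, _, h2, ?_⟩
  obtain ⟨g, hgz⟩ := U43Tw.one_class hF (e ⟨z, hzK⟩) (by rw [← map_mul, ← map_one e]; congr 1; exact Subtype.ext hzz)
    (fun h => hz1 (by
      have := e.injective (h.trans (map_one e).symm)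
      exact congrArg Subtype.val this))
  refine ⟨((e.symm g⁻¹ :) : K), (e.symm g⁻¹).2, ?_⟩
  have h3 : e.symm (g⁻¹ * e ⟨z, hzK⟩ * g⁻¹⁻¹) = e.symm v := by
    rw [← hgz, hv]
    congr 1
    group
  rw [map_mul, map_mul, e.symm_apply_apply, map_inv e.symm g⁻¹] at h3
  exact congrArg Subtype.val h3

end main

/-! ### The determinant of the linear automorphisms -/

section det

open Matrix

variable {F : Type*} [Field F] [CharP F 3] [Fintype F]

/-- the determinant of a matrix of an automorphism -/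
noncomputable def dt (hF : Fintype.card F = 9) (α : MulAut (PSU 4 F 3)) : F :=
  (ty_spec hF α).choose.det

theorem dt_sa (hF : Fintype.card F = 9) {M : M4 F} (hM : st M * M = 1) (ε : Bool) :
    dt hF (sa hF M hM ε) = M.det := by
  obtain ⟨h1, h2⟩ := (ty_spec hF (sa hF M hM ε)).choose_spec
  obtain ⟨-, c, hc, h3⟩ := sa_inj hF hM h1 h2
  show (ty_spec hF (sa hF M hM ε)).choose.det = _
  rw [h3, det_smul, Fintype.card_fin, hc, one_mul]

/-- a group of linear automorphisms is cyclic modulo the inner ones -/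
theorem cyc (hF : Fintype.card F = 9) {X : Type*} [Group X] (φ : X →* MulAut (PSU 4 F 3))
    (h : ∀ x, sgn hF (φ x) = 1) : ∃ y, ∀ x, ∃ (i : ℤ) (k : PSU 4 F 3), φ x = MulAut.conj k * φ y ^ i := by
  have hlin : ∀ α : MulAut (PSU 4 F 3), sgn hF α = 1 → ∃ (M : M4 F) (hM : st M * M = 1), α = sa hF M hM false := by
    intro α hα
    obtain ⟨M, hM, ε, rfl⟩ := exists_sa hF α
    rw [sgn_sa] at hα
    cases ε
    · exact ⟨M, hM, rfl⟩
    · exact absurd hα (by decide)
  let δ : X →* F :=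
    { toFun := fun x => dt hF (φ x)
      map_one' := by
        rw [map_one, ← sa_one hF (M := 1) (by rw [st_one, one_mul]) (c := 1) (by rw [one_smul]), dt_sa, det_one]
      map_mul' := fun x y => by
        obtain ⟨M, hM, hx⟩ := hlin _ (h x)
        obtain ⟨N, hN, hy⟩ := hlin _ (h y)
        rw [map_mul, hx, hy, sa_mul, dt_sa, dt_sa, dt_sa, tw_false, det_mul] }
  let δ' : X →* Fˣ := δ.toHomUnits
  obtain ⟨⟨_, y, rfl⟩, hy⟩ := IsCyclic.exists_generator (α := δ'.range)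
  refine ⟨y, fun x => ?_⟩
  obtain ⟨i, hi⟩ := hy ⟨δ' x, x, rfl⟩
  have h1 : δ' y ^ i = δ' x := congrArg Subtype.val hi
  have h2 : δ (y ^ i) = δ x := by
    have h3 : δ' (y ^ i) = δ' x := by rw [map_zpow, h1]
    exact congrArg Units.val h3
  obtain ⟨M, hM, hx⟩ := hlin _ (h x)
  obtain ⟨N, hN, hyi⟩ := hlin _ (h (y ^ i))
  have h3 : M.det = N.det := by
    have h4 : dt hF (φ (y ^ i)) = dt hF (φ x) := h2
    rw [hx, hyi, dt_sa, dt_sa] at h4
    exact h4.symm
  obtain ⟨k, hk⟩ := exists_conj_mul hF hN hM false h3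
  refine ⟨i, k, ?_⟩
  rw [← map_zpow, hyi, hk, hx]

end det


end Cfsg.Agent.OddHalf.D6.QThree.U43AutEnv

end

-- merged: Cfsg.Agent.OddHalf.D6.QThree.FrontBU
section

/-!
# ODD half, D6, `q = 3`: the front end for `K = U₄(3)`, any `|Q|`, any outer part (helper948; text: helper801 #12978
(0), (1), (2); K-facts: helper218; transfer: helper696; cyclic case: helper868)

`exists_out`: `Ctx G`, `Std G K`, `Cyc K`, `K ≃* PSU 4 F 3` give an involution `t` with `Out K t z`.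
-/

set_option autoImplicit false

namespace Cfsg.Agent.OddHalf.D6.QThree.FrontBU

open Subgroup Cfsg Cfsg.Agent.OddHalf.Front.FE Cfsg.Agent.OddHalf.Front Cfsg.Agent.OddHalf.D8.GlueE
open Cfsg.Agent.OddHalf.Front.Cyclic (mem_M KQ conjK conjK' conjQ inv_comm mul_comm' M_unique)
open Cfsg.Agent.OddHalf.D6.QThree.FrontB

universe u

section

variable {F : Type*} [Field F] [CharP F 3] [Fintype F]

/-- (K1) for `K ≃* U₄(3)` -/
theorem k1 (hF : Fintype.card F = 9) {K : Type*} [Group K] [Finite K] (e : K ≃* PSU 4 F 3) (S : Sylow 2 K) :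
    ∃ z ∈ S, z ≠ 1 ∧ (∀ x ∈ S, x * z = z * x) ∧
      ∀ α : MulAut K, (∀ x ∈ S, α x = x) → α = 1 ∨ α = MulAut.conj z := by
  have hfin : Finite (PSU 4 F 3) := Finite.of_equiv K e.toEquiv
  obtain ⟨z, hzS, -, hz1, hzc, hz⟩ := U43AutRef.kone_sylow hF (S.mapSurjective (f := e.toMonoidHom) e.surjective)
  have hmem : ∀ x ∈ S, e x ∈ (S.mapSurjective (f := e.toMonoidHom) e.surjective : Subgroup (PSU 4 F 3)) :=
    fun x hx => ⟨x, hx, rfl⟩
  obtain ⟨w, hw, hwz⟩ := hzS
  have hwz' : e w = z := hwz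
  refine ⟨w, hw, fun h => hz1 (by rw [← hwz', h, map_one]), ?_, ?_⟩
  · intro x hx
    apply e.injective
    rw [map_mul, map_mul, hwz']
    exact hzc _ (hmem x hx)
  · intro α hα
    have h1 := hz (MulAut.congr e α) (by
      rintro _ ⟨x, hx, rfl⟩
      show e (α (e.symm (e x))) = e x
      rw [e.symm_apply_apply, hα x hx])
    rcases h1 with h1 | h1
    · left
      ext x
      have h2 := congrArg (fun f : MulAut (PSU 4 F 3) => f (e x)) h1
      apply e.injective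
      have h3 : e (α (e.symm (e x))) = e x := h2
      rwa [e.symm_apply_apply] at h3
    · right
      ext x
      have h2 := congrArg (fun f : MulAut (PSU 4 F 3) => f (e x)) h1
      apply e.injective
      have h3 : e (α (e.symm (e x))) = z * e x * z⁻¹ := h2
      rw [e.symm_apply_apply] at h3
      rw [h3, MulAut.conj_apply, map_mul, map_mul, map_inv, hwz']

end

variable {F : Type*} [Field F] [CharP F 3] [Fintype F] {G : Type u} [Group G]

/-- **the front end for `K = U₄(3)`** -/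
theorem exists_out (hF : Fintype.card F = 9) (hG : Iface.Ctx G) {K : Subgroup G} (hK : Iface.Std G K)
    (hC : Iface.Cyc K) (e : K ≃* PSU 4 F 3) {z : K} {R : Subgroup K} (hb : Facts.Base z R)
    (out : ∀ α : MulAut K, ∃ n : ℕ, α ^ 2 ^ n ∈ (MulAut.conj : K →* MulAut K).range) :
    ∃ t : G, Out K t (z : G) := by
  have hfin := hG.fin
  have hcen : center K = ⊥ := by
    rw [eq_bot_iff]
    intro x hx
    rw [mem_bot]
    apply e.injective
    rw [map_one]
    apply U43AutRef.conj_one hF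
    intro y
    obtain ⟨w, rfl⟩ := e.surjective y
    rw [← map_mul, ← map_mul, mem_center_iff.1 hx w]
  obtain ⟨t, q, st⟩ := exists_start hG hK hC hcen
  have hG1 := commutator_eq_top hG
  have hG2 := index_ne_two hG
  -- (K1) for the Sylow subgroups containing `R`
  have key : ∀ S : Sylow 2 K, R ≤ S → (∀ x ∈ S, x * z = z * x) → ∀ α : MulAut K, (∀ x ∈ S, α x = x) →
      α = 1 ∨ α = MulAut.conj z := by
    intro S hRS hSz α hα
    obtain ⟨w, hwS, hw1, hwc, hw⟩ := k1 hF e S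
    have hwz : w = z := by
      rcases hb.cR w (hSz w hwS) (fun r hr => (hwc r (hRS hr)).symm) with h | h
      · exact absurd h hw1
      · exact h
    rw [← hwz]
    exact hw α hα
  obtain ⟨T, S, B, hRS, hSz, hTS⟩ := exists_FB st hb out (by
    intro S hRS hSz α hα
    rcases key S hRS hSz α hα with h | h
    · rw [h, one_mul]
    · rw [h, ← map_mul, hb.zz, map_one])
  have T1s : FB.T1 K T (z : G) := by
    intro y hy hc
    have hyt := B.tc y hy
    have h1 := key S hRS hSz (K.normalizerMonoidHom ⟨y, st.nK y hyt⟩) (by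
      intro x hx
      apply Subtype.ext
      rw [nmh_apply, ← hc x ((hTS x).2 hx) x.2]
      group)
    rcases h1 with h1 | h1
    · left
      intro k hk
      have h2 := congrArg (fun f : MulAut K => ((f ⟨k, hk⟩ : K) : G)) h1
      simp only [MulAut.one_apply] at h2
      rw [nmh_apply] at h2
      have h3 : y * k * y⁻¹ = k := h2
      rwa [mul_inv_eq_iff_eq_mul] at h3
    · right
      intro k hk
      have h2 := exists_of_conj (st.nK y hyt) h1 k hk
      have hzi : (z : G)⁻¹ = z := inv_eq_of_mul_eq_one_right B.zz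
      rw [hzi] at h2
      exact h2.symm
  refine ⟨t, B.out hG1 (B.frame T1s) ?_⟩
  -- `T` is not a Sylow subgroup of `G`
  have hn : ∀ g ∈ centralizer ({t} : Set G), ∀ x ∈ K, g * x * g⁻¹ ∈ K := fun g hg x hx =>
    conjK st.toStart0 (mem_centralizer_singleton_iff.1 hg) hx
  by_cases hmu : ∃ y, U43AutEnv.mu hF e hn y = -1
  · intro S'
    refine TransferMu.Env.not_sylow (K := K) (μ := U43AutEnv.mu hF e hn)
      { toFrame := B.frame T1s
        Kt := B.Kt
        Kn := fun g hg x hx => conjK st.toStart0 hg hx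
        Kc := fun x hx hc => st.cen x hx (fun y hy => (hc y hy).symm)
        uniq := ?_
        muK := fun x hx hxK => U43AutEnv.muK hF e hn x hx hxK
        muC := fun x hx hxK => U43AutEnv.muC hF e hn x hx hxK
        al := fun y hy _ h => U43AutEnv.al hF e B.Kt hn z.2 B.zz B.z1 y hy h } hG2 hmu S'
    intro c hct hcK hcc
    by_cases h : c = 1
    · exact Or.inl h
    · exact Or.inr (B.uniq (B.cK c hct (fun x hx => (hcK x hx).symm)) hcc h)
  · push Not at hmu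
    have hmu1 : ∀ y, U43AutEnv.mu hF e hn y = 1 := fun y => (Int.units_eq_one_or _).resolve_right (hmu y)
    have hTC : T ≤ centralizer ({t} : Set G) := fun x hx => mem_centralizer_singleton_iff.2 (B.tc x hx)
    obtain ⟨y, hy⟩ := U43AutEnv.cyc hF (X := T) ((U43AutEnv.ac e hn).comp (inclusion hTC)) (fun x => hmu1 _)
    refine fun S' => B.not_sylow_cyc hG1 T1s ⟨y, y.2, ?_⟩ S'
    intro x hx
    obtain ⟨i, k, hk⟩ := hy ⟨x, hx⟩
    -- `w = k⁻¹ x y⁻ⁱ` centralises `K`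
    set x' : centralizer ({t} : Set G) := inclusion hTC ⟨x, hx⟩ with hx'
    set y' : centralizer ({t} : Set G) := inclusion hTC y with hy'
    have hk' : U43AutEnv.ac e hn x' = MulAut.conj k * U43AutEnv.ac e hn y' ^ i := hk
    set k' : centralizer ({t} : Set G) := ⟨e.symm k, mem_centralizer_singleton_iff.2 (B.Kt _ (e.symm k).2)⟩ with hk'd
    have hak : U43AutEnv.ac e hn k' = MulAut.conj k := U43AutEnv.ac_of_mem rfl
    have h1 : U43AutEnv.ac e hn (k'⁻¹ * x' * (y' ^ i)⁻¹) = 1 := by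
      rw [map_mul, map_mul, map_inv, map_inv, map_zpow, hak, hk']
      group
    have h2 := U43AutEnv.ac_one.1 h1
    set w : G := ((k'⁻¹ * x' * (y' ^ i)⁻¹ : centralizer ({t} : Set G)) : G) with hw
    have hwt : w * t = t * w := mem_centralizer_singleton_iff.1 (k'⁻¹ * x' * (y' ^ i)⁻¹).2
    have hwq : w ∈ zpowers q := B.cK w hwt (fun k hk => (h2 k hk).symm)
    have hkK : ((e.symm k : K) : G) ∈ K := (e.symm k).2
    have hx2 : x = (e.symm k : G) * w * (y : G) ^ i := by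
      have e1 : w = (e.symm k : G)⁻¹ * x * ((y : G) ^ i)⁻¹ := by
        rw [hw]
        rfl
      rw [e1]; group
    -- `s = y⁻ⁱ k yⁱ`
    have hyt : (y : G) ^ i * t = t * (y : G) ^ i := (show Commute (y : G) t from B.tc y y.2).zpow_left i
    obtain ⟨j, hj⟩ := mem_zpowers_iff.1 (by
      have := conjQ st.toStart0 (inv_comm hyt) hwq
      rwa [inv_inv] at this : ((y : G) ^ i)⁻¹ * w * (y : G) ^ i ∈ zpowers q)
    have hqT : q ∈ T := B.zpowers_le_T (mem_zpowers q)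
    have hs : ((y : G) ^ i)⁻¹ * (e.symm k : G) * (y : G) ^ i ∈ K := conjK' st.toStart0 hyt hkK
    have hxe : x = (y : G) ^ i * q ^ j * (((y : G) ^ i)⁻¹ * (e.symm k : G) * (y : G) ^ i) := by
      have hc := B.QK w hwq _ hkK
      rw [hj]
      calc x = (e.symm k : G) * w * (y : G) ^ i := hx2
        _ = w * (e.symm k : G) * (y : G) ^ i := by rw [hc]
        _ = (y : G) ^ i * (((y : G) ^ i)⁻¹ * w * (y : G) ^ i) *
            (((y : G) ^ i)⁻¹ * (e.symm k : G) * (y : G) ^ i) := by group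
    refine ⟨i, j, _, ?_, hs, hxe⟩
    have h3 : ((y : G) ^ i)⁻¹ * (e.symm k : G) * (y : G) ^ i = ((y : G) ^ i * q ^ j)⁻¹ * x := by
      rw [hxe]; group
    rw [h3]
    exact T.mul_mem (T.inv_mem (T.mul_mem (T.zpow_mem y.2 i) (T.zpow_mem hqT j))) hx

end Cfsg.Agent.OddHalf.D6.QThree.FrontBU

end

-- merged: Cfsg.Agent.OddHalf.D6.QThree.FrontKMap
section

/-!
# ODD half, D6, `q = 3`: transport of `FrontK` along an isomorphism (helper948)
-/

set_option autoImplicit false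

namespace Cfsg.Agent.OddHalf.D6.QThree.FrontB

open Subgroup Facts
open Cfsg.Agent.OddHalf.D6.QThree.FactsOut (congr_apply' congr_conj)

variable {K L : Type*} [Group K] [Group L]

theorem BA_congr (e : K ≃* L) {R : Subgroup K} {α : MulAut K} :
    BA (R.map e.toMonoidHom) (MulAut.congr e α) ↔ BA R α := by
  constructor
  · intro h r hr
    have h1 := h (e r) ((tr_mem e).2 hr)
    rw [congr_apply'] at h1
    exact e.injective h1
  · rintro h _ ⟨r, hr, rfl⟩
    show MulAut.congr e α (e r) = e r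
    rw [congr_apply', h r hr]

theorem Z2_congr (e : K ≃* L) {z : K} {α : MulAut K} : Z2 (e z) (MulAut.congr e α) ↔ Z2 z α := by
  constructor
  · rintro (h | h)
    · exact Or.inl ((MulAut.congr e).injective (by rw [h, map_one]))
    · exact Or.inr ((MulAut.congr e).injective (by rw [h, congr_conj]))
  · rintro (h | h)
    · left; rw [h, map_one]
    · right; rw [h, congr_conj]

theorem FrontK.map {z : K} {R : Subgroup K} {i j k l a b : K} (h : FrontK z R i j k l a b) (e : K ≃* L) :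
    FrontK (e z) (R.map e.toMonoidHom) (e i) (e j) (e k) (e l) (e a) (e b) where
  toBase := h.toBase.map e
  fr := h.fr.map e.toMonoidHom e.injective
  gR := by
    rw [h.gR, MonoidHom.map_closure]
    congr 1
    simp only [Set.image_insert_eq, _root_.MulEquiv.toMonoidHom_eq_coe, _root_.MonoidHom.coe_coe, _root_.Set.image_singleton]
  od := by
    intro y hy ho
    obtain ⟨x, rfl⟩ := e.surjective y
    have h1 := h.od x ((tr_comm e).1 hy) (by rwa [tr_order] at ho)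
    have h2 : (_root_.Subgroup.closure {i, j, k, l, a, b}).map e.toMonoidHom = _root_.Subgroup.closure {e i, e j, e k, e l, e a, e b} := by
      rw [MonoidHom.map_closure]
      congr 1
      simp only [Set.image_insert_eq, _root_.MulEquiv.toMonoidHom_eq_coe, _root_.MonoidHom.coe_coe, _root_.Set.image_singleton]
    rw [← h2, tr_mem]
    exact h1
  sw := by
    obtain ⟨p, hp, hpi⟩ := h.sw
    exact ⟨e p, (tr_comm e).2 hp, by rw [tr_conj, hpi]⟩
  out := by
    intro β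
    obtain ⟨α, rfl⟩ := (MulAut.congr e).surjective β
    obtain ⟨n, g, hg⟩ := h.out α
    exact ⟨n, e g, by rw [← map_pow, ← hg, congr_conj]⟩
  card := by
    refine le_trans (le_of_eq ?_) h.card
    exact (Nat.card_congr ((MulAut.congr e).toEquiv.subtypeEquiv fun α => (BA_congr e (α := α)).symm)).symm
  sq := by
    intro β hβ
    obtain ⟨α, rfl⟩ := (MulAut.congr e).surjective β
    rw [← map_mul, Z2_congr]
    exact h.sq α ((BA_congr e).1 hβ)
  uq := by
    intro β γ hβ hγ h1 h2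
    obtain ⟨α, rfl⟩ := (MulAut.congr e).surjective β
    obtain ⟨δ, rfl⟩ := (MulAut.congr e).surjective γ
    rw [← map_inv, ← map_mul, Z2_congr]
    refine h.uq α δ ((BA_congr e).1 hβ) ((BA_congr e).1 hγ) ?_ ?_
    · apply (MulAut.congr e).injective
      rw [map_mul, h1, congr_conj]
    · apply (MulAut.congr e).injective
      rw [map_mul, h2, congr_conj]
  cc := by
    intro β γ hβ hγ h1
    obtain ⟨α, rfl⟩ := (MulAut.congr e).surjective β
    obtain ⟨δ, rfl⟩ := (MulAut.congr e).surjective γ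
    rw [← map_inv, ← map_mul, Z2_congr, Z2_congr, Z2_congr]
    refine h.cc α δ ((BA_congr e).1 hβ) ((BA_congr e).1 hγ) ?_
    apply (MulAut.congr e).injective
    rw [map_mul, map_mul, h1]

end Cfsg.Agent.OddHalf.D6.QThree.FrontB

end

-- merged: Cfsg.Agent.OddHalf.D6.QThree.EndSymB
section

/-!
# ODD half, D6, `q = 3`: the end, part 2: `t ∈ O₂(C_G(z))` (helper253, bb #15179 (iii))

`Hyp.not_mem_false`, `Hyp.false`: `EndSym.Hyp` is contradictory.
-/

set_option autoImplicit false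

namespace Cfsg.Agent.OddHalf.D6.QThree.EndSymB

open Subgroup Cfsg Module
open Cfsg.Agent.Co2Type.Quad Cfsg.Agent.LargeExtra.Base Cfsg.Agent.LargeExtra.TwoCentral
  Cfsg.Agent.LargeExtra.Dickson
open Cfsg.Agent.OddHalf.D6.QThree.Diag (Pos DiagAt)
open Cfsg.Agent.OddHalf.D6.QThree.EndSym

variable {G : Type*} [Group G]

/-- the image of `v ↦ t v + v` is the space perpendicular to the fixed space -/
theorem exists_act_add {F : Subgroup G} {z : G} [Finite F] (L : Large F z)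
    (t : centralizer ({z} : Set G)) (tt : (t : G) * t = 1) {a : L.V}
    (ha : ∀ v, L.act t v = v → L.b v a = 0) : ∃ v, L.act t v + v = a := by
  have := finiteDim L
  have hff : ∀ v, L.act t (L.act t v) = v := by
    intro v
    have h1 : L.act (t * t) v = v := by
      have : t * t = 1 := Subtype.ext tt
      rw [this, map_one]; rfl
    rw [map_mul] at h1
    exact h1
  let N : L.V →ₗ[ZMod 2] L.V := (L.act t).toLinearMap + LinearMap.id
  have hN : ∀ v, N v = L.act t v + v := fun v => rfl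
  have hrefl : L.b.IsRefl := fun v w hvw => by rw [L.b_comm]; exact hvw
  have hnd : L.b.Nondegenerate := ⟨fun v hv => L.b_nondeg hv, fun v hv => L.b_nondeg fun w => by
    rw [L.b_comm]; exact hv w⟩
  have h1 : a ∈ LinearMap.range N := by
    rw [← LinearMap.BilinForm.orthogonal_orthogonal hnd hrefl (LinearMap.range N)]
    intro v hv
    apply ha
    have h2 : ∀ u, L.b (N u) v = 0 := fun u => hv _ ⟨u, rfl⟩
    have h3 : L.act t v + v = 0 := by
      apply L.b_nondeg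
      intro u
      have h4 := h2 (L.act t u)
      rw [hN, map_add, LinearMap.add_apply, hff] at h4
      have h5 : L.b (L.act t v) u = L.b (L.act t u) v := by
        rw [L.b_comm, ← L.b_act t u (L.act t v), hff]
      rw [map_add, LinearMap.add_apply, h5, L.b_comm v u, add_comm]
      exact h4
    calc L.act t v = L.act t v + (v + v) := by rw [L.add_self, add_zero]
      _ = v := by rw [← add_assoc, h3, zero_add]
  obtain ⟨v, hv⟩ := h1
  exact ⟨v, by rw [← hN]; exact hv⟩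

namespace Hyp

variable {t z : G} {D R F : Subgroup G}

/-- the situation `t ∉ F`: a reflection `b = f⁻¹ f^t ∈ F` -/
theorem exists_ref [Finite G] (h : Hyp t z D R F) (htF : t ∉ F) :
    ∃ b ∈ F, ∃ f ∈ F, b = f⁻¹ * (t * f * t⁻¹) ∧ b * t = t * b ∧ (∀ r ∈ R, b * r = r * b) ∧ b * b = 1 ∧
      ¬ Four t z b ∧
      ∀ y ∈ F, y * t = t * y → (∀ r ∈ R, y * r = r * y) → y = 1 ∨ y = z ∨ y = b ∨ y = b * z := by
  have hRF := h.R_le
  have htz : Commute t z := h.comm
  have htzF : t * z ∉ F := fun h1 => htF (by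
    have := F.mul_mem h1 h.L.z_mem
    rwa [mul_assoc, h.zz, mul_one] at this)
  have hfour : ∀ x ∈ F, Four t z x → x = 1 ∨ x = z := by
    rintro x hx (h1 | h1 | h1 | h1)
    · exact Or.inl h1
    · exact Or.inr h1
    · exact absurd (h1 ▸ hx) htF
    · exact absurd (h1 ▸ hx) htzF
  have htF' : ∀ f ∈ F, t * f * t⁻¹ ∈ F := fun f hf => h.L.conj_mem t h.comm f hf
  -- the element `a`
  obtain ⟨a, haF, hat, hac, ha1, haz⟩ : ∃ a ∈ F, a * t = t * a ∧
      (∀ y ∈ F, y * t = t * y → a * y = y * a) ∧ a ≠ 1 ∧ a ≠ z := by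
    by_contra hcon
    push Not at hcon
    apply h.lam (dick h.L)
    refine D8.Lam.dick_of_nondeg h.L ⟨t, mem_centralizer_singleton_iff.2 h.comm⟩ h.tt htF ?_
    intro x hx hxt hc
    by_contra h1
    push Not at h1
    exact h1.2 (hcon x hx hxt hc h1.1)
  have haR : ∀ r ∈ R, a * r = r * a := fun r hr => hac r (hRF hr) (h.Dt r (h.RD hr))
  have haF4 : ¬ Four t z a := fun h1 => by
    rcases hfour a haF h1 with h2 | h2
    exacts [ha1 h2, haz h2]
  have hY : ∀ y ∈ F, y * t = t * y → (∀ r ∈ R, y * r = r * y) → y = 1 ∨ y = z ∨ y = a ∨ y = a * z := by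
    intro y hy hyt hyR
    rcases h.kb a y hat haR hyt hyR (hac y hy hyt) haF4 with h1 | h1
    · rcases hfour y hy h1 with h2 | h2
      · exact Or.inl h2
      · exact Or.inr (Or.inl h2)
    · rcases hfour (a⁻¹ * y) (F.mul_mem (F.inv_mem haF) hy) h1 with h2 | h2
      · exact Or.inr (Or.inr (Or.inl (inv_mul_eq_one.1 h2).symm))
      · exact Or.inr (Or.inr (Or.inr (inv_mul_eq_iff_eq_mul.1 h2)))
  -- the map `f ↦ f⁻¹ f^t`
  have gF : ∀ f ∈ F, f⁻¹ * (t * f * t⁻¹) ∈ F := fun f hf => F.mul_mem (F.inv_mem hf) (htF' f hf)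
  have gc : ∀ f ∈ F, ∀ c ∈ F, c * t = t * c → c * (f⁻¹ * (t * f * t⁻¹)) = (f⁻¹ * (t * f * t⁻¹)) * c := by
    intro f hf c hc hct
    refine comm_gamma h.L hc hf h.comm (Or.inl ?_)
    rw [← hct]; group
  have gR : ∀ f ∈ F, ∀ r ∈ R, (f⁻¹ * (t * f * t⁻¹)) * r = r * (f⁻¹ * (t * f * t⁻¹)) :=
    fun f hf r hr => (gc f hf r (hRF hr) (h.Dt r (h.RD hr))).symm
  have gi : ∀ f, t * (f⁻¹ * (t * f * t⁻¹)) * t⁻¹ = (f⁻¹ * (t * f * t⁻¹))⁻¹ := by
    intro f
    calc t * (f⁻¹ * (t * f * t⁻¹)) * t⁻¹ = (t * f * t⁻¹)⁻¹ * ((t * t) * f * (t * t)⁻¹) := by group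
      _ = (f⁻¹ * (t * f * t⁻¹))⁻¹ := by rw [h.tt]; group
  -- `a` is in the image
  obtain ⟨f, hf, hfa⟩ : ∃ f ∈ F, f⁻¹ * (t * f * t⁻¹) = a ∨ f⁻¹ * (t * f * t⁻¹) = a * z := by
    by_contra hno
    push Not at hno
    obtain ⟨f₀, hf₀, hg1, hgz⟩ : ∃ f ∈ F, f⁻¹ * (t * f * t⁻¹) ≠ 1 ∧ f⁻¹ * (t * f * t⁻¹) ≠ z := by
      by_contra hcon
      push Not at hcon
      apply htF
      apply h.L.mem_of_act ⟨t, mem_centralizer_singleton_iff.2 h.comm⟩
      ext v
      obtain ⟨⟨f, hf⟩, rfl⟩ := h.L.pr_surjective v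
      rw [h.L.act_pr]
      show _ = h.L.pr ⟨f, hf⟩
      rw [h.L.pr_eq_pr, h.L.conjQ_coe]
      show t * f * t⁻¹ = f ∨ t * f * t⁻¹ = f * z
      by_cases h1 : f⁻¹ * (t * f * t⁻¹) = 1
      · exact Or.inl (inv_mul_eq_one.1 h1).symm
      · exact Or.inr (inv_mul_eq_iff_eq_mul.1 (hcon f hf h1))
    obtain ⟨g, hg⟩ : ∃ g, g = f₀⁻¹ * (t * f₀ * t⁻¹) := ⟨_, rfl⟩
    have hgF : g ∈ F := by rw [hg]; exact gF f₀ hf₀
    have hgi : t * g * t⁻¹ = g⁻¹ := by rw [hg]; exact gi f₀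
    have hgg : g * g = z := by
      rcases h.L.sq g hgF with h1 | h1
      · exfalso
        have h2 : g⁻¹ = g := inv_eq_of_mul_eq_one_right h1
        rw [h2, mul_inv_eq_iff_eq_mul] at hgi
        have h3 := hY g hgF hgi.symm (by rw [hg]; exact gR f₀ hf₀)
        rw [hg] at h3
        rcases h3 with h3 | h3 | h3 | h3
        · exact hg1 h3
        · exact hgz h3
        · exact (hno f₀ hf₀).1 h3
        · exact (hno f₀ hf₀).2 h3
      · exact h1
    have hgz' : Commute g z := h.L.comm_z g hgF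
    have hginv : g⁻¹ = g * z := by
      apply inv_eq_of_mul_eq_one_right
      rw [← mul_assoc, hgg, h.zz]
    have hag : Commute a g := by rw [hg]; exact gc f₀ hf₀ a haF hat
    have hfix : ∀ w ∈ F, (t * w * t⁻¹ = w ∨ t * w * t⁻¹ = w * z) → w * a = a * w := by
      intro w hw h1
      rcases h1 with h1 | h1
      · rw [mul_inv_eq_iff_eq_mul] at h1
        exact (hac w hw h1.symm).symm
      · have h2 : (w * g) * t = t * (w * g) := by
          have h3 : t * (w * g) * t⁻¹ = w * g := by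
            calc t * (w * g) * t⁻¹ = (t * w * t⁻¹) * (t * g * t⁻¹) := by group
              _ = w * (z * g) * z := by rw [h1, hgi, hginv]; group
              _ = w * (g * z) * z := by rw [hgz'.eq]
              _ = w * g * (z * z) := by group
              _ = w * g := by rw [h.zz, mul_one]
          rw [mul_inv_eq_iff_eq_mul] at h3
          exact h3.symm
        have h4 : Commute a (w * g) := hac _ (F.mul_mem hw hgF) h2
        have h5 := h4.mul_right hag.inv_right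
        rw [mul_inv_cancel_right] at h5
        exact h5.symm.eq
    obtain ⟨v, hv⟩ := exists_act_add h.L ⟨t, mem_centralizer_singleton_iff.2 h.comm⟩ h.tt
      (a := h.L.pr ⟨a, haF⟩) (by
      intro v hv
      obtain ⟨⟨w, hw⟩, rfl⟩ := h.L.pr_surjective v
      rw [h.L.act_pr, h.L.pr_eq_pr, h.L.conjQ_coe] at hv
      exact (h.L.b_pr _ _).2 (hfix w hw hv))
    obtain ⟨⟨w, hw⟩, rfl⟩ := h.L.pr_surjective v
    rw [h.L.act_pr, ← h.L.pr_mul, h.L.pr_eq_pr] at hv
    have h1 : t * w * t⁻¹ * w = a ∨ t * w * t⁻¹ * w = a * z := hv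
    -- `w⁻¹ w^t = w^t w` modulo `⟨z⟩`
    have h2 : h.L.pr (⟨w, hw⟩⁻¹ * ⟨t * w * t⁻¹, htF' w hw⟩) = h.L.pr ⟨a, haF⟩ := by
      rw [h.L.pr_mul, h.L.pr_inv, h.L.neg_eq, add_comm, ← h.L.pr_mul, h.L.pr_eq_pr]
      exact h1
    rw [h.L.pr_eq_pr] at h2
    rcases h2 with h3 | h3
    · exact (hno w hw).1 h3
    · exact (hno w hw).2 h3
  -- `b`
  obtain ⟨b, hb⟩ : ∃ b, b = f⁻¹ * (t * f * t⁻¹) := ⟨_, rfl⟩
  rw [← hb] at hfa
  have hbF : b ∈ F := by rw [hb]; exact gF f hf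
  have haz' : Commute a z := h.L.comm_z a haF
  have hbt : b * t = t * b := by
    rcases hfa with h1 | h1 <;> rw [h1]
    · exact hat
    · exact ((show Commute a t from hat).mul_left htz.symm).eq
  have hbR : ∀ r ∈ R, b * r = r * b := by rw [hb]; exact gR f hf
  have hbb : b * b = 1 := by
    have h1 : t * b * t⁻¹ = b⁻¹ := by rw [hb]; exact gi f
    have h2 : t * b * t⁻¹ = b := by rw [← hbt]; group
    rw [h2] at h1
    rw [eq_inv_iff_mul_eq_one] at h1
    exact h1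
  refine ⟨b, hbF, f, hf, hb, hbt, hbR, hbb, ?_, ?_⟩
  · intro h1
    rcases hfour b hbF h1 with h2 | h2 <;> rcases hfa with h3 | h3
    · exact ha1 (h3.symm.trans h2)
    · apply haz
      have h4 : a * z = 1 := h3.symm.trans h2
      rw [mul_eq_one_iff_eq_inv, h.zi] at h4
      exact h4
    · exact haz (h3.symm.trans h2)
    · apply ha1
      have h4 : a * z = z := h3.symm.trans h2
      exact mul_eq_right.1 h4
  · intro y hy hyt hyR
    rcases hY y hy hyt hyR with h1 | h1 | h1 | h1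
    · exact Or.inl h1
    · exact Or.inr (Or.inl h1)
    · rcases hfa with h3 | h3
      · right; right; left; rw [h1, h3]
      · right; right; right; rw [h1, h3, mul_assoc, h.zz, mul_one]
    · rcases hfa with h3 | h3
      · right; right; right; rw [h1, h3]
      · right; right; left; rw [h1, h3]

/-- **`t ∈ F`** -/
theorem not_mem_false [Finite G] (h : Hyp t z D R F) (htF : t ∉ F) : False := by
  have hRF := h.R_le
  obtain ⟨b, hbF, f, hf, hbf, hbt, hbR, hbb, hb4, hY⟩ := exists_ref h htF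
  have hb1 : b ≠ 1 := fun e => hb4 (Or.inl e)
  have hbz : b ≠ z := fun e => hb4 (Or.inr (Or.inl e))
  have hbzc : Commute b z := h.L.comm_z b hbF
  have htz : Commute t z := h.comm
  -- `D` is normal in `C(b) ∩ C(z)`
  have hn : ∀ g, g * b = b * g → g * z = z * g → ∀ d ∈ D, g * d * g⁻¹ ∈ D := by
    rcases h.ref b hbt hbR hbb hb4 with h1 | ⟨M, L, h1⟩
    · exact h1
    · exact (h.diag_false h1).elim
  -- `D` centralises `t^g`, `g ∈ C(b) ∩ C(z)`
  have hDt : ∀ g, g * b = b * g → g * z = z * g → ∀ d ∈ D, d * (g * t * g⁻¹) = (g * t * g⁻¹) * d := by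
    intro g hgb hgz d hd
    have cb : Commute g b := hgb
    have cz : Commute g z := hgz
    have h1 := hn g⁻¹ cb.inv_left.eq cz.inv_left.eq d hd
    rw [inv_inv] at h1
    have h2 := h.Dt _ h1
    calc d * (g * t * g⁻¹) = g * ((g⁻¹ * d * g) * t) * g⁻¹ := by group
      _ = g * (t * (g⁻¹ * d * g)) * g⁻¹ := by rw [h2]
      _ = (g * t * g⁻¹) * d := by group
  obtain ⟨g₀, r, hgz, hr, hr1, hrz, hgt⟩ := h.fus
  have hrF := hRF hr
  have hrt : Commute r t := h.Dt r (h.RD hr)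
  have cgz : Commute g₀ z := hgz
  -- `D` does not centralise `r`
  have hrD : ¬ ∀ d ∈ D, d * r = r * d := by
    intro h1
    rcases h.cR r (h.RD hr) (fun s hs => (h1 s (h.RD hs)).symm) with h2 | h2
    · exact hr1 h2
    · exact hrz h2
  -- `b^g ∈ {b, b z}`
  have hgb : g₀ * b * g₀⁻¹ = b ∨ g₀ * b * g₀⁻¹ = b * z := by
    obtain ⟨f', hf'⟩ : ∃ f', f' = g₀ * f * g₀⁻¹ := ⟨_, rfl⟩
    have hf'F : f' ∈ F := by rw [hf']; exact h.L.conj_mem g₀ hgz f hf
    obtain ⟨y, hy⟩ : ∃ y, y = f'⁻¹ * (t * f' * t⁻¹) := ⟨_, rfl⟩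
    have hyF : y ∈ F := by
      rw [hy]; exact F.mul_mem (F.inv_mem hf'F) (h.L.conj_mem t h.comm f' hf'F)
    have hyz : Commute y z := h.L.comm_z y hyF
    -- `g b g⁻¹ = y` or `y z`
    have e : g₀ * b * g₀⁻¹ = f'⁻¹ * (t * (r * f' * r⁻¹) * t⁻¹) := by
      calc g₀ * b * g₀⁻¹ = (g₀ * f * g₀⁻¹)⁻¹ * ((g₀ * t * g₀⁻¹) * (g₀ * f * g₀⁻¹) * (g₀ * t * g₀⁻¹)⁻¹) := by
            rw [hbf]; group
        _ = f'⁻¹ * ((t * r) * f' * (t * r)⁻¹) := by rw [hgt, ← hf']
        _ = f'⁻¹ * (t * (r * f' * r⁻¹) * t⁻¹) := by group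
    have e2 : g₀ * b * g₀⁻¹ = y ∨ g₀ * b * g₀⁻¹ = y * z := by
      rcases h.L.comm r hrF f' hf'F with h1 | h1
      · left
        rw [e, h1, hy]; group
      · right
        have h2 : r * f' * r⁻¹ = f' * z := by
          have crz : Commute r z := h.L.comm_z r hrF
          rw [h1]
          calc f' * r * z * r⁻¹ = f' * (r * z) * r⁻¹ := by group
            _ = f' * z := by rw [crz.eq]; group
        rw [e, h2, hy]
        calc f'⁻¹ * (t * (f' * z) * t⁻¹) = f'⁻¹ * (t * f' * (z * t⁻¹)) := by group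
          _ = f'⁻¹ * (t * f' * (t⁻¹ * z)) := by rw [htz.symm.inv_right.eq]
          _ = f'⁻¹ * (t * f' * t⁻¹) * z := by group
    have e3 : (g₀ * b * g₀⁻¹) * (g₀ * b * g₀⁻¹) = 1 := by
      calc (g₀ * b * g₀⁻¹) * (g₀ * b * g₀⁻¹) = g₀ * (b * b) * g₀⁻¹ := by group
        _ = 1 := by rw [hbb]; group
    have hyy : y * y = 1 := by
      rcases e2 with h1 | h1
      · rwa [h1] at e3
      · rw [h1] at e3
        calc y * y = y * y * (z * z) := by rw [h.zz, mul_one]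
          _ = y * (y * z) * z := by group
          _ = y * (z * y) * z := by rw [hyz.eq]
          _ = (y * z) * (y * z) := by group
          _ = 1 := e3
    have hyi : t * y * t⁻¹ = y⁻¹ := by
      rw [hy]
      calc t * (f'⁻¹ * (t * f' * t⁻¹)) * t⁻¹ = (t * f' * t⁻¹)⁻¹ * ((t * t) * f' * (t * t)⁻¹) := by group
        _ = (f'⁻¹ * (t * f' * t⁻¹))⁻¹ := by rw [h.tt]; group
    have hyt : y * t = t * y := by
      rw [inv_eq_of_mul_eq_one_right hyy, mul_inv_eq_iff_eq_mul] at hyi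
      exact hyi.symm
    have hyR : ∀ s ∈ R, y * s = s * y := by
      intro s hs
      have h1 := comm_gamma h.L (hRF hs) hf'F h.comm (Or.inl (show t * s * t⁻¹ = s by
        have c := h.Dt s (h.RD hs)
        rw [← c]; group))
      rw [hy]; exact h1.symm
    have hc1 : g₀ * b * g₀⁻¹ ≠ 1 := fun e => hb1 (conj_eq_one_iff.1 e)
    have hcz : g₀ * b * g₀⁻¹ ≠ z := by
      intro e'
      apply hbz
      calc b = g₀⁻¹ * (g₀ * b * g₀⁻¹) * g₀ := by group
        _ = g₀⁻¹ * z * g₀ := by rw [e']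
        _ = z := by rw [cgz.inv_left.eq]; group
    rcases hY y hyF hyt hyR with h1 | h1 | h1 | h1 <;> rcases e2 with h2 | h2 <;> rw [h1] at h2
    · exact absurd h2 hc1
    · rw [one_mul] at h2; exact absurd h2 hcz
    · exact absurd h2 hcz
    · rw [h.zz] at h2; exact absurd h2 hc1
    · exact Or.inl h2
    · exact Or.inr h2
    · exact Or.inr h2
    · left; rw [h2, mul_assoc, h.zz, mul_one]
  rcases hgb with hgb | hgb
  · -- `g₀` commutes with `b`
    rw [mul_inv_eq_iff_eq_mul] at hgb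
    apply hrD
    intro d hd
    have h1 := hDt g₀ hgb hgz d hd
    rw [hgt] at h1
    have c1 : Commute d (t * r) := h1
    have c2 : Commute d t := h.Dt d hd
    have c3 := c2.inv_right.mul_right c1
    rwa [inv_mul_cancel_left] at c3
  · -- `b^g₀ = b z`
    have hDb : ∀ d ∈ D, b * d = d * b := h.cRD b hbt hbR
    have hbase : ∀ c ∈ D, g₀ * (c * r * c⁻¹) * g₀⁻¹ ∈ F ∧
        ∀ d ∈ D, d * (r * (g₀ * (c * r * c⁻¹) * g₀⁻¹)) = (r * (g₀ * (c * r * c⁻¹) * g₀⁻¹)) * d := by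
      intro c hc
      have hcz : Commute c z := h.Dz c hc
      have hct : Commute c t := h.Dt c hc
      have hcb : Commute c b := (hDb c hc).symm
      refine ⟨h.L.conj_mem g₀ hgz _ (h.L.conj_mem c hcz _ hrF), ?_⟩
      intro d hd
      obtain ⟨x, hx⟩ : ∃ x, x = g₀ * (c * g₀ * c⁻¹) := ⟨_, rfl⟩
      have hxz : Commute x z := by
        rw [hx]; exact cgz.mul_left ((hcz.mul_left cgz).mul_left hcz.inv_left)
      have hxb : x * b = b * x := by
        rw [← mul_inv_eq_iff_eq_mul, hx]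
        calc g₀ * (c * g₀ * c⁻¹) * b * (g₀ * (c * g₀ * c⁻¹))⁻¹
            = g₀ * (c * (g₀ * (c⁻¹ * b * c) * g₀⁻¹) * c⁻¹) * g₀⁻¹ := by group
          _ = g₀ * (c * (g₀ * b * g₀⁻¹) * c⁻¹) * g₀⁻¹ := by
              rw [hcb.inv_left.eq, inv_mul_cancel_right]
          _ = g₀ * (c * (b * z) * c⁻¹) * g₀⁻¹ := by rw [hgb]
          _ = g₀ * (b * z) * g₀⁻¹ := by rw [(hcb.mul_right hcz).eq, mul_inv_cancel_right]
          _ = (g₀ * b * g₀⁻¹) * (g₀ * z * g₀⁻¹) := by group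
          _ = b * z * z := by rw [hgb, cgz.eq, mul_inv_cancel_right]
          _ = b := by rw [mul_assoc, h.zz, mul_one]
      have h1 := hDt x hxb hxz.eq d hd
      have e : x * t * x⁻¹ = t * (r * (g₀ * (c * r * c⁻¹) * g₀⁻¹)) := by
        rw [hx]
        calc g₀ * (c * g₀ * c⁻¹) * t * (g₀ * (c * g₀ * c⁻¹))⁻¹
            = g₀ * (c * (g₀ * (c⁻¹ * t * c) * g₀⁻¹) * c⁻¹) * g₀⁻¹ := by group
          _ = g₀ * (c * (g₀ * t * g₀⁻¹) * c⁻¹) * g₀⁻¹ := by
              rw [hct.inv_left.eq, inv_mul_cancel_right]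
          _ = g₀ * ((c * t) * r * c⁻¹) * g₀⁻¹ := by rw [hgt]; group
          _ = (g₀ * t * g₀⁻¹) * (g₀ * (c * r * c⁻¹) * g₀⁻¹) := by rw [hct.eq]; group
          _ = t * (r * (g₀ * (c * r * c⁻¹) * g₀⁻¹)) := by rw [hgt]; group
      rw [e] at h1
      have c1 : Commute d (t * (r * (g₀ * (c * r * c⁻¹) * g₀⁻¹))) := h1
      have c2 : Commute d t := h.Dt d hd
      have c3 := c2.inv_right.mul_right c1
      rwa [inv_mul_cancel_left] at c3
    obtain ⟨c, hc, hcyc⟩ := h.cyc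
    obtain ⟨hF0, h0⟩ := hbase 1 D.one_mem
    obtain ⟨hF1, h1⟩ := hbase c hc
    obtain ⟨hF2, h2⟩ := hbase (c * c) (D.mul_mem hc hc)
    obtain ⟨u₀, hu₀⟩ : ∃ u, u = g₀ * (1 * r * 1⁻¹) * g₀⁻¹ := ⟨_, rfl⟩
    obtain ⟨u₁, hu₁⟩ : ∃ u, u = g₀ * (c * r * c⁻¹) * g₀⁻¹ := ⟨_, rfl⟩
    obtain ⟨u₂, hu₂⟩ : ∃ u, u = g₀ * (c * c * r * (c * c)⁻¹) * g₀⁻¹ := ⟨_, rfl⟩
    rw [← hu₀] at hF0 h0
    rw [← hu₁] at hF1 h1
    rw [← hu₂] at hF2 h2
    have hprod : u₀ * u₁ * u₂ = 1 ∨ u₀ * u₁ * u₂ = z := by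
      have e : u₀ * u₁ * u₂ = g₀ * (r * (c * r * c⁻¹) * (c * c * r * (c * c)⁻¹)) * g₀⁻¹ := by
        rw [hu₀, hu₁, hu₂]; group
      rw [e]
      rcases hcyc r hr with h3 | h3
      · left; rw [h3]; group
      · right; rw [h3, cgz.eq, mul_inv_cancel_right]
    -- the product of the three elements `r u_i` is `r` modulo `⟨z⟩`
    have hV : h.L.pr (⟨r, hrF⟩ * ⟨u₀, hF0⟩ * (⟨r, hrF⟩ * ⟨u₁, hF1⟩) * (⟨r, hrF⟩ * ⟨u₂, hF2⟩)) =
        h.L.pr ⟨r, hrF⟩ := by
      have h3 : h.L.pr (⟨u₀, hF0⟩ * ⟨u₁, hF1⟩ * ⟨u₂, hF2⟩) = 0 := by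
        rw [h.L.pr_eq_zero]; exact hprod
      simp only [h.L.pr_mul] at h3 ⊢
      have h4 := h.L.add_self (h.L.pr ⟨r, hrF⟩)
      calc _ = (h.L.pr ⟨u₀, hF0⟩ + h.L.pr ⟨u₁, hF1⟩ + h.L.pr ⟨u₂, hF2⟩) +
            (h.L.pr ⟨r, hrF⟩ + h.L.pr ⟨r, hrF⟩) + h.L.pr ⟨r, hrF⟩ := by abel
        _ = h.L.pr ⟨r, hrF⟩ := by rw [h3, h4, zero_add, zero_add]
    rw [h.L.pr_eq_pr] at hV
    have hV' : r * u₀ * (r * u₁) * (r * u₂) = r ∨ r * u₀ * (r * u₁) * (r * u₂) = r * z := hV
    apply hrD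
    intro d hd
    have c0 : Commute d (r * u₀) := h0 d hd
    have c1 : Commute d (r * u₁) := h1 d hd
    have c2 : Commute d (r * u₂) := h2 d hd
    have c3 := (c0.mul_right c1).mul_right c2
    rcases hV' with h5 | h5
    · rw [h5] at c3; exact c3
    · rw [h5] at c3
      have c4 : Commute d z := h.Dz d hd
      have c5 := c3.mul_right c4
      rwa [mul_assoc, h.zz, mul_one] at c5

/-- **the hypotheses are contradictory** -/
theorem false [Finite G] (h : Hyp t z D R F) : False := by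
  by_cases htF : t ∈ F
  · exact h.mem_false htF
  · exact not_mem_false h htF

end Hyp

end Cfsg.Agent.OddHalf.D6.QThree.EndSymB

end

-- merged: Cfsg.Agent.OddHalf.D6.QThree.FrontInstE
section

/-!
# ODD half, D6, `q = 3`, `U₄(3)` with an outer part: the hypotheses of the end (helper135, for helper948)

`exists_yt`: the data for the y-trick from `Facts.Two`; `endSym`: `EndSym.Hyp` from `FrontLoc.Loc`; `false_of_loc`.
-/

set_option autoImplicit false

namespace Cfsg.Agent.OddHalf.D6.QThree.FrontInstE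

open Subgroup Cfsg
open Cfsg.Agent.Co2Type.Quad Cfsg.Agent.LargeExtra.Model Cfsg.Agent.LargeExtra.Pres
open Cfsg.Agent.LargeExtra.Models Cfsg.Agent.LargeExtra.W2
open Cfsg.Agent.LargeExtra.W2.PlusHom (M)
open Cfsg.Agent.OddHalf.D6.QThree.PlusOf
open Cfsg.Agent.OddHalf.D6.QThree.NIFacts
open Cfsg.Agent.OddHalf.D6.QThree.FrontLoc (Loc T4)
open Cfsg.Agent.OddHalf.D6.QThree.FrontLoc.Loc (Rf)
open Cfsg.Agent.OddHalf.D6.QThree.EndSym (Four YT)
open Cfsg.Agent.OddHalf.D6.QThree.Diag (DiagAt)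

/-- `m m^d m^(d²) ∈ ⟨z⟩` -/
theorem cyc_M : ∀ m : M, m * ea (eb m) * ea (eb (ea (eb m))) = 1 ∨ m * ea (eb m) * ea (eb (ea (eb m))) = zz := by
  decide +kernel

/-! ### the data for the y-trick -/

/-- an automorphism centralising `R` moves an element of `C_K(z)` at most by `z` -/
theorem aut_move {K : Type*} [Group K] {z : K} {R : Subgroup K} (f : Facts.Base z R) {α : MulAut K}
    (hα : ∀ r ∈ R, α r = r) {v : K} (hv : v * z = z * v) : α v = v ∨ α v = v * z := by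
  have hz : α z = z := hα z f.zR
  have hαv : α v * z = z * α v := by
    have := congrArg α hv
    rwa [map_mul, map_mul, hz] at this
  have c1 : Commute v z := hv
  have c2 : Commute (α v) z := hαv
  rcases f.cR (v⁻¹ * α v) (c1.inv_left.mul_left c2) (by
    intro r hr
    have h1 := hα _ (f.nR v hv r hr)
    rw [map_mul, map_mul, map_inv, hα r hr] at h1
    calc v⁻¹ * α v * r = v⁻¹ * (α v * r * (α v)⁻¹) * α v := by group
      _ = v⁻¹ * (v * r * v⁻¹) * α v := by rw [h1]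
      _ = r * (v⁻¹ * α v) := by group) with h | h
  · left
    exact (inv_mul_eq_one.1 h).symm
  · right
    rw [← h]; group

section

variable {G : Type*} [Group G]

/-- **the data for the y-trick** from the facts `Two` on `K` -/
theorem exists_yt {K : Subgroup G} {t : G} {z : K} {R : Subgroup K} (Kt : ∀ x ∈ K, x * t = t * x)
    (nK : ∀ g, g * t = t * g → g ∈ normalizer (K : Set G)) (f : Facts.Two z R) :
    ∃ v k h, YT t (z : G) (R.map K.subtype) v k h := by
  obtain ⟨v, k, hvv, hvz, hkz, hkR, hex⟩ := f.ex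
  have hzz := f.zz
  have hvzz : v * z * (v * z) = 1 := by
    calc v * z * (v * z) = v * (z * v) * z := by group
      _ = v * (v * z) * z := by rw [hvz]
      _ = (v * v) * (z * z) := by group
      _ = 1 := by rw [hvv, hzz, one_mul]
  obtain ⟨h₀, hh₀, hh⟩ := hex z f.zR hvzz
  have hmap : ∀ x : K, (x : G) ∈ R.map K.subtype ↔ x ∈ R := fun x => FrontOut.mem_map
  refine ⟨v, k, (h₀⁻¹ : K),
    { vt := Kt v v.2
      kt := Kt k k.2
      ht := Kt _ (h₀⁻¹).2
      vv := congrArg Subtype.val hvv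
      vz := congrArg Subtype.val hvz
      hz := congrArg Subtype.val (show Commute h₀ z from hh₀).inv_left.eq
      kv := congrArg Subtype.val hkz
      hv := ?_
      vB := ?_
      kF := ?_ }⟩
  · have h1 : h₀⁻¹ * v * h₀⁻¹⁻¹ = v * z := by
      calc h₀⁻¹ * v * h₀⁻¹⁻¹ = h₀⁻¹ * (h₀ * (v * z) * h₀⁻¹) * h₀⁻¹⁻¹ := by rw [hh]
        _ = v * z := by group
    exact congrArg Subtype.val h1
  · intro y hyt hyR
    set α := K.normalizerMonoidHom ⟨y, nK y hyt⟩ with hα
    have hap : ∀ c : K, ((α c : K) : G) = y * c * y⁻¹ := fun c => Cfsg.Agent.OddHalf.D8.GlueE.nmh_apply _ c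
    have h1 : ∀ r ∈ R, α r = r := by
      intro r hr
      apply Subtype.ext
      rw [hap, hyR r ((hmap r).2 hr), mul_inv_cancel_right]
    have hvz' : (v : G) * z = z * v := congrArg Subtype.val hvz
    have hyz : y * (z : G) = z * y := hyR z ((hmap z).2 f.zR)
    have hzz' : (z : G) * z = 1 := congrArg Subtype.val hzz
    rcases aut_move f.toBase h1 hvz with h2 | h2
    · left
      have h3 : y * (v : G) * y⁻¹ = v := by rw [← hap, h2]
      have h4 : y * (v : G) = v * y := mul_inv_eq_iff_eq_mul.1 h3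
      rw [← h4, mul_inv_cancel_right]
    · right
      have h3 : y * (v : G) * y⁻¹ = v * z := by rw [← hap, h2]; rfl
      have h4 : y * (v : G) = v * z * y := mul_inv_eq_iff_eq_mul.1 h3
      have h5 : (v : G) * y = y * v * z := by
        calc (v : G) * y = v * (z * z) * y := by rw [hzz', mul_one]
          _ = (v * z) * (z * y) := by group
          _ = (v * z) * (y * z) := by rw [hyz]
          _ = (v * z * y) * z := by group
          _ = y * v * z := by rw [← h4]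
      calc (v : G) * y * (v : G)⁻¹ = y * (v * z) * (v : G)⁻¹ := by rw [h5]; group
        _ = y * (z * v) * (v : G)⁻¹ := by rw [hvz']
        _ = y * z := by group
  · intro N hN2 hNt hNz hNn hk
    apply hkR
    have h1 : (N.subgroupOf K) ≤ R := by
      apply f.max _ (hN2.comap_of_injective K.subtype K.subtype_injective)
      · intro n hn
        exact Subtype.ext (hNz n hn)
      · intro g hg n hn
        exact hNn g (Kt g g.2) (congrArg Subtype.val hg) n hn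
    exact h1 (show ((k⁻¹ * z * k : K) : G) ∈ N from hk)

variable {t z : G} {R F : Subgroup G} {i j k l a b : G}

/-- **the hypotheses of the end** -/
theorem endSym [Finite G] (L : Loc t z R i j k l a b) (LF : Large F z)
    (ref : ∀ c, Rf t z R c → (∀ g, g * c = c * g → g * z = z * g → ∀ d ∈ _root_.Subgroup.closure ({i, j, k, l, a, b} : Set G),
      g * d * g⁻¹ ∈ _root_.Subgroup.closure ({i, j, k, l, a, b} : Set G)) ∨
      ∃ M N : Subgroup G, DiagAt t z c (_root_.Subgroup.closure {i, j, k, l, a, b}) M N)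
    (fus : ∃ g r, g * z = z * g ∧ r ∈ R ∧ r ≠ 1 ∧ r ≠ z ∧ g * t * g⁻¹ = t * r)
    (yt : ∃ v k h, YT t z R v k h) : EndSym.Hyp t z (_root_.Subgroup.closure {i, j, k, l, a, b}) R F where
  toPos := L.pos
  t1 := L.t1
  tz := L.tz
  L := LF
  nD := L.nD
  nX := L.nR
  max := L.max
  irr := by
    intro N hNR hN
    by_cases h : ∃ n ∈ N, n ≠ 1 ∧ n ≠ z
    · obtain ⟨n, hn, h1, h2⟩ := h
      exact Or.inr (L43.EndCard.irr L hNR hN hn h1 h2)
    · left
      intro n hn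
      by_contra h1
      rw [not_or] at h1
      exact h ⟨n, hn, h1⟩
  cRD := fun x hx hr => L.BD x ⟨hx, hr⟩
  kb := by
    intro x y hx hxR hy hyR hxy hx4
    rcases L.Bcc x y ⟨hx, hxR⟩ ⟨hy, hyR⟩ hxy with h | h | h
    · exact absurd h hx4
    · exact Or.inl h
    · exact Or.inr h
  cyc := by
    refine ⟨a * b, mul_mem (_root_.Subgroup.subset_closure (by simp)) (_root_.Subgroup.subset_closure (by simp)), ?_⟩
    intro r hr
    rw [L.gR, ← hom_range L.fr.toQRel] at hr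
    obtain ⟨m, rfl⟩ := hr
    have key : ∀ x : M, a * b * hom L.fr.toQRel x * (a * b)⁻¹ = hom L.fr.toQRel (ea (eb x)) := by
      intro x
      calc a * b * hom L.fr.toQRel x * (a * b)⁻¹ = a * (b * hom L.fr.toQRel x * b⁻¹) * a⁻¹ := by group
        _ = hom L.fr.toQRel (ea (eb x)) := by rw [L.fr.conj_b, L.fr.conj_a]
    have key2 : a * b * (a * b) * hom L.fr.toQRel m * (a * b * (a * b))⁻¹ =
        hom L.fr.toQRel (ea (eb (ea (eb m)))) := by
      calc a * b * (a * b) * hom L.fr.toQRel m * (a * b * (a * b))⁻¹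
          = a * b * (a * b * hom L.fr.toQRel m * (a * b)⁻¹) * (a * b)⁻¹ := by group
        _ = hom L.fr.toQRel (ea (eb (ea (eb m)))) := by rw [key, key]
    rw [key, key2, ← map_mul, ← map_mul]
    rcases cyc_M m with h | h
    · left; rw [h, map_one]
    · right; rw [h, hom_zz]
  ref := fun c hct hcR hcc hc4 => ref c ⟨⟨hct, hcR⟩, hcc, hc4⟩
  fus := fus
  yt := yt
  lam := by
    intro lam h
    have h1 : _root_.commutator ↥(centralizer ({z} : Set G)) ≤ lam.ker := Abelianization.commutator_subset_ker lam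
    have h2 : lam _ = 1 := h1 L.tH
    rw [h] at h2
    exact absurd h2 (by decide)

end

end Cfsg.Agent.OddHalf.D6.QThree.FrontInstE

end

-- merged: Cfsg.Agent.OddHalf.D6.QThree.EndSymG
section

/-!
# ODD half, D6, `q = 3`: the end, `G`-level wrapper (helper253)

`symplectic`: `X` finite, `O(X) = 1`, no components, every elementary abelian normal 2-subgroup of `X` in `⟨z⟩`:
`F*(X)` is of symplectic type.
`large`: `X = C_G(z)` in the frame `Ctx G`: `F*(C(z))` is extraspecial (S1758), as `Large`.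
`false_of`: the end of row `U₄(3)`.
-/

set_option autoImplicit false
set_option linter.style.haveILetI false

namespace Cfsg.Agent.OddHalf.D6.QThree.EndSymG

open Subgroup Cfsg
open Cfsg.Agent.Co2Type.Quad

/-- an abelian normal 2-subgroup is cyclic -/
theorem cyclic {X : Type*} [Group X] [Finite X] {z : X} {W : Subgroup X} (hp : IsPGroup 2 W) (hn : W.Normal)
    (hab : ∀ a ∈ W, ∀ b ∈ W, a * b = b * a)
    (elem : ∀ V : Subgroup X, V.Normal → (∀ w ∈ V, w * w = 1) → ∀ w ∈ V, w = 1 ∨ w = z) : IsCyclic W := by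
  classical
  letI : CommGroup W := { (inferInstance : Group W) with mul_comm := fun a b => Subtype.ext (hab a a.2 b b.2) }
  haveI : Fact (Nat.Prime 2) := ⟨Nat.prime_two⟩
  refine Cfsg.Agent.Transfer.PGroupNormal.isCyclic_of_card_ker_pow_le (p := 2) hp ?_
  let W1 : Subgroup X :=
    { carrier := {x | x ∈ W ∧ x * x = 1}
      one_mem' := ⟨W.one_mem, one_mul 1⟩
      mul_mem' := by
        rintro x y ⟨hx, hx2⟩ ⟨hy, hy2⟩
        refine ⟨W.mul_mem hx hy, ?_⟩
        calc x * y * (x * y) = x * (y * x) * y := by group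
          _ = x * x * (y * y) := by rw [hab y hy x hx]; group
          _ = 1 := by rw [hx2, hy2, one_mul]
      inv_mem' := by
        rintro x ⟨hx, hx2⟩
        refine ⟨W.inv_mem hx, ?_⟩
        rw [← mul_inv_rev, hx2, inv_one] }
  have hW1 : W1.Normal := ⟨by
    rintro x ⟨hx, hx2⟩ g
    refine ⟨hn.conj_mem x hx g, ?_⟩
    calc g * x * g⁻¹ * (g * x * g⁻¹) = g * (x * x) * g⁻¹ := by group
      _ = 1 := by rw [hx2]; group⟩
  have hk : ∀ x : (powMonoidHom 2 : W →* W).ker, ((x : W) : X) = 1 ∨ ((x : W) : X) = z := by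
    intro x
    have h1 : ((x : W)) ^ 2 = 1 := x.2
    rw [pow_two] at h1
    exact elem W1 hW1 (fun w hw => hw.2) (x : W) ⟨(x : W).2, congrArg Subtype.val h1⟩
  let f : (powMonoidHom 2 : W →* W).ker → Bool := fun x => decide (((x : W) : X) = 1)
  have hf : Function.Injective f := by
    intro x y hxy
    have h1 : (((x : W) : X) = 1) ↔ (((y : W) : X) = 1) := by
      have := hxy
      simpa [f] using this
    apply Subtype.ext
    apply Subtype.ext
    rcases hk x with h2 | h2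
    · rw [h2, h1.1 h2]
    · rcases hk y with h3 | h3
      · rw [h3, h1.2 h3]
      · rw [h2, h3]
  have h4 := Nat.card_le_card_of_injective f hf
  rwa [Nat.card_eq_fintype_card (α := Bool), Fintype.card_bool] at h4

/-- **symplectic type** -/
theorem symplectic {X : Type*} [Group X] [Finite X] {z : X} (hO : pPrimeCore 2 X = ⊥)
    (hE : ∀ M : Subgroup X, ¬ IsComponent M)
    (elem : ∀ V : Subgroup X, V.Normal → (∀ w ∈ V, w * w = 1) → ∀ w ∈ V, w = 1 ∨ w = z) :
    IsOfSymplecticType ↥(generalizedFittingSubgroup X) := by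
  haveI : Fact (Nat.Prime 2) := ⟨Nat.prime_two⟩
  have hl : layer X = ⊥ := by
    rw [eq_bot_iff]
    exact sSup_le fun K hK => absurd hK (hE K)
  have h1 := (Cfsg.Agent.SignalizersComponents.PConstrained.centralizer_pCore_le_iff_layer_eq_bot 2 hO).2 hl
  rw [Cfsg.Agent.SignalizersComponents.CharP.genFitting_eq_pCore_iff.2 h1]
  have hQn : (pCore 2 X).Normal := Cfsg.Agent.Lib.Cores.pCore_normal 2
  have hQp : IsPGroup 2 (pCore 2 X) := Cfsg.Agent.Lib.Cores.pCore_isPGroup 2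
  generalize pCore 2 X = Q at hQn hQp
  refine ⟨hQp, ?_⟩
  intro A hA hab
  have hA2 : (A.map Q.subtype).Normal := ConjAct.normal_of_characteristic_of_normal
  have h1 := cyclic (W := A.map Q.subtype) (z := z) ?_ hA2 ?_ elem
  · have e1 := A.equivMapOfInjective _ Q.subtype_injective
    exact isCyclic_of_surjective _ e1.symm.surjective
  · apply hQp.to_le
    rintro _ ⟨y, -, rfl⟩
    exact y.2
  · rintro _ ⟨a, ha, rfl⟩ _ ⟨b, hb, rfl⟩
    have h2 : (⟨a, ha⟩ : A) * ⟨b, hb⟩ = ⟨b, hb⟩ * ⟨a, ha⟩ := hab.is_comm.comm _ _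
    exact congrArg (fun y : A => ((y : Q) : X)) h2

universe u

variable {G : Type u} [Group G]

/-- **symplectic type**, `G`-level -/
theorem symplecticG (C : Iface.Ctx G) {z : G} (hz : orderOf z = 2)
    (hE : ∀ M : Subgroup ↥(centralizer ({z} : Set G)), ¬ IsComponent M)
    (hW : ∀ W : Subgroup G, (∀ w ∈ W, w * z = z * w) → (∀ w ∈ W, w * w = 1) →
      (∀ g, g * z = z * g → ∀ w ∈ W, g * w * g⁻¹ ∈ W) → ∀ w ∈ W, w = 1 ∨ w = z) :
    IsOfSymplecticType ↥(generalizedFittingSubgroup ↥(centralizer ({z} : Set G))) := by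
  have hfin := C.fin
  have hzz : (⟨z, mem_centralizer_singleton_iff.2 rfl⟩ : ↥(centralizer ({z} : Set G))) = ⟨z,
    mem_centralizer_singleton_iff.2 rfl⟩ := rfl
  refine symplectic (z := ⟨z, mem_centralizer_singleton_iff.2 rfl⟩) (Soft.core_eq_bot (C.bal _ hz)) hE ?_
  intro V hV hs w hw
  have h1 := hW (V.map (centralizer ({z} : Set G)).subtype) ?_ ?_ ?_ w ⟨w, hw, rfl⟩
  · rcases h1 with h1 | h1
    · exact Or.inl (Subtype.ext h1)
    · exact Or.inr (Subtype.ext h1)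
  · rintro _ ⟨y, -, rfl⟩
    exact mem_centralizer_singleton_iff.1 y.2
  · rintro _ ⟨y, hy, rfl⟩
    exact congrArg Subtype.val (hs y hy)
  · rintro g hg _ ⟨y, hy, rfl⟩
    exact ⟨(⟨g, mem_centralizer_singleton_iff.2 hg⟩ * y * ⟨g, mem_centralizer_singleton_iff.2 hg⟩⁻¹ :),
      hV.conj_mem y hy _, rfl⟩

/-- **`F*(C(z))` is extraspecial**, by S1758 -/
theorem extraspecialG (R58 : Small.Excl.Rows) (h58 : D8.HS.Elim.P1758.{u}) (C : Iface.Ctx G) {z : G}
    (hz : orderOf z = 2) (hE : ∀ M : Subgroup ↥(centralizer ({z} : Set G)), ¬ IsComponent M)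
    (hW : ∀ W : Subgroup G, (∀ w ∈ W, w * z = z * w) → (∀ w ∈ W, w * w = 1) →
      (∀ g, g * z = z * g → ∀ w ∈ W, g * w * g⁻¹ ∈ W) → ∀ w ∈ W, w = 1 ∨ w = z) :
    IsExtraspecial 2 ↥(generalizedFittingSubgroup ↥(centralizer ({z} : Set G))) := by
  by_contra hcon
  exact D8.HS.Elim.false_of_symplectic R58 h58 C hz (symplecticG C hz hE hW) hcon

/-- **the end of row `U₄(3)`** -/
theorem false_of (R58 : Small.Excl.Rows) (h58 : D8.HS.Elim.P1758.{u}) (C : Iface.Ctx G) {t z : G}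
    {D R : Subgroup G} (hz : orderOf z = 2)
    (hE : ∀ M : Subgroup ↥(centralizer ({z} : Set G)), ¬ IsComponent M)
    (hW : ∀ W : Subgroup G, (∀ w ∈ W, w * z = z * w) → (∀ w ∈ W, w * w = 1) →
      (∀ g, g * z = z * g → ∀ w ∈ W, g * w * g⁻¹ ∈ W) → ∀ w ∈ W, w = 1 ∨ w = z)
    (h : ∀ F : Subgroup G, Large F z → EndSym.Hyp t z D R F) : False := by
  have hfin := C.fin
  exact EndSymB.Hyp.false
    (h _ (Cfsg.Agent.LargeExtra.Base.large_of_genFitting z hz (extraspecialG R58 h58 C hz hE hW)))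

end Cfsg.Agent.OddHalf.D6.QThree.EndSymG

end

-- merged: Cfsg.Agent.OddHalf.D6.QThree.RowU4
section

/-!
# ODD half, D6, `q = 3`: the row `U₄(3)` (helper948)

`row`: the field `u4` of `D6.Cut.Three`.
-/

set_option autoImplicit false

namespace Cfsg.Agent.OddHalf.D6.QThree.RowU4

open Subgroup Cfsg Cfsg.Agent.OddHalf Cfsg.Agent.OddHalf.Iface
open Cfsg.Agent.OddHalf.D6.QThree.FrontB (BA Z2 FrontK Out)
open Cfsg.Agent.OddHalf.D6.QThree.FrontLoc (Loc Bt T4 up az bz)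
open Cfsg.Agent.OddHalf.D6.QThree.RefData (KH DD Rf)
open Cfsg.Agent.SignalizersComponents.Components
open Cfsg.Agent.Co2Type.Quad

universe u

/-- the facts on `K = U₄(3)` -/
structure KU {K : Type*} [Group K] (z : K) (R : Subgroup K) (i j k l a b : K) : Prop where
  f : FrontK z R i j k l a b
  two : Facts.Two z R
  rf : Rf z R
  kf : NIB.KFOf.KFK z R
  mv : NIB.KU.Mv z R

theorem exists_KU {K : Type*} [Group K] {F : Type*} [Field F] [CharP F 3] [Fintype F] (hF : Fintype.card F = 9)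
    (e : K ≃* PSU 4 F 3) : ∃ (z : K) (R : Subgroup K) (i j k l a b : K), KU z R i j k l a b := by
  obtain ⟨i, j, k, l, a, b, f⟩ := U43AutKF.exists_front hF
  exact ⟨_, _, _, _, _, _, _, _, f.map e.symm, (U43AutKF.two_pr hF).map e.symm,
    NIB.KU.rf_map (NIB.KU.rf_pr hF) e.symm, (NIB.KFOf.kfk_pr hF).map e.symm, NIB.KU.mv_map (NIB.KU.mv_pr hF) e.symm⟩

variable {G : Type u} [Group G] {K : Subgroup G} {t : G} {z : K} {R : Subgroup K} {i j k l a b : K}

/-- **the position of a reflection** -/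
theorem data (O : Out K t (z : G)) (f : FrontK z R i j k l a b)
    (L : Loc t (z : G) (R.map K.subtype) (i : G) j k l a b) (rf : Rf z R) {c : G}
    (hc : FrontLoc.Loc.Rf t (z : G) (R.map K.subtype) c) :
    ∃ (E : Subgroup G) (F : Type) (_ : Field F) (_ : Fintype F),
      RefOf.Data t (z : G) c (_root_.Subgroup.closure {(i : G), (j : G), (k : G), (l : G), (a : G), (b : G)}) (R.map K.subtype) E F := by
  have hcz : c * z = z * c := hc.1.2 z L.zR
  obtain ⟨E, F, i1, i2, h⟩ := NIB.RowU.data O f L rf (x := up (z : G) c hcz)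
    ⟨(L.Bt_iff _).2 hc.1, Subtype.ext hc.2.1, fun h => hc.2.2 ((L.T4_iff _).1 h)⟩
  refine ⟨E, F, i1, i2, ?_⟩
  rw [FrontLoc.closure_map]
  exact h

theorem ord_two {c : G}
    (hc : FrontLoc.Loc.Rf t (z : G) (R.map K.subtype) c) : orderOf c = 2 :=
  orderOf_eq_prime (by rw [pow_two]; exact hc.2.1) fun h => hc.2.2 (Or.inl h)

theorem refE (C : Ctx G) (hSp : Pump.SpOrd.{u}) (S : Std G K) (hK : Nat.card K ≤ 6531840)
    (hN : ∀ b : G, orderOf b = 2 → ∀ L : Subgroup G, CompOf b L → ¬ NI3.HasY ↥L)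
    (O : Out K t (z : G)) (f : FrontK z R i j k l a b)
    (L : Loc t (z : G) (R.map K.subtype) (i : G) j k l a b) (rf : Rf z R) {c : G}
    (hc : FrontLoc.Loc.Rf t (z : G) (R.map K.subtype) c) :
    (∀ g, g * c = c * g → g * (z : G) = z * g →
      ∀ d ∈ _root_.Subgroup.closure ({(i : G), (j : G), (k : G), (l : G), (a : G), (b : G)} : Set G),
      g * d * g⁻¹ ∈ _root_.Subgroup.closure ({(i : G), (j : G), (k : G), (l : G), (a : G), (b : G)} : Set G)) ∨
      ∃ M L' : Subgroup G,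
        Diag.DiagAt t (z : G) c (_root_.Subgroup.closure {(i : G), (j : G), (k : G), (l : G), (a : G), (b : G)}) M L' := by
  obtain ⟨E, F, _, _, h⟩ := data O f L rf hc
  rcases h.main C hSp S hK (hN c (ord_two hc)) with h1 | ⟨M, L', -, -, h1⟩
  · exact Or.inl h1
  · exact Or.inr ⟨M, L', h1⟩

theorem refD (C : Ctx G) (hSp : Pump.SpOrd.{u}) (S : Std G K) (hK : Nat.card K ≤ 6531840)
    (hN : ∀ b : G, orderOf b = 2 → ∀ L : Subgroup G, CompOf b L → ¬ NI3.HasY ↥L)
    (O : Out K t (z : G)) (f : FrontK z R i j k l a b)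
    (L : Loc t (z : G) (R.map K.subtype) (i : G) j k l a b) (rf : Rf z R) {c : G}
    (hc : FrontLoc.Loc.Rf t (z : G) (R.map K.subtype) c) :
    NIB.RefD t (z : G) c (_root_.Subgroup.closure {(i : G), (j : G), (k : G), (l : G), (a : G), (b : G)}) := by
  rcases refE C hSp S hK hN O f L rf hc with h1 | h1
  · left
    apply Diag.sn_of_conj
    rintro g ⟨hg1, hg2⟩ d hd
    exact h1 g (mem_centralizer_singleton_iff.1 hg1) (mem_centralizer_singleton_iff.1 hg2) d hd
  · exact Or.inr h1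

/-- **no components in `C_G(z)`** -/
theorem noComp (hGW : SylowSp4.Hyps.GW.{u}) (I : Intr2.{u}) (hS : CaseM.IntrSign.{u}) (C : Ctx G)
    (hcy : ∀ K : Subgroup G, Std0 G K → PRankLE 2 1 ↥(centralizer (K : Set G)) → Cyc K) (hSp : Pump.SpOrd.{u})
    (S : Std G K) (hK : Nat.card K ≤ 6531840)
    (hN : ∀ b : G, orderOf b = 2 → ∀ L : Subgroup G, CompOf b L → ¬ NI3.HasY ↥L)
    (hU : ∃ (F : Type) (_ : Field F) (_ : Fintype F), Fintype.card F = 9 ∧ Nonempty (K ≃* PSU 4 F 3))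
    (O : Out K t (z : G)) (h : KU z R i j k l a b) (L : Loc t (z : G) (R.map K.subtype) (i : G) j k l a b) :
    ∀ M : Subgroup ↥(centralizer ({(z : G)} : Set G)), ¬ IsComponent M := by
  intro M₀ hM₀
  have hfin := C.fin
  have hz : orderOf (z : G) = 2 := orderOf_eq_prime (by rw [pow_two]; exact L.fr.zz) L.fr.z1
  refine NIB.RowU.false_of_hypB hGW I hS C hcy hSp S hN hU O h.f L h.kf h.rf h.mv
    (L.hypB C (fun c hc => refD C hSp S hK hN O h.f L h.rf hc) ?_) rfl rfl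
  intro P hel zM hall F hF hF2 hQ
  -- an involution of `R - ⟨z⟩` conjugate to `z`
  have k := h.kf.kf (t := t) (Subtype.ext L.fr.zz) (fun e => L.fr.z1 (congrArg Subtype.val e)) O.Kt
  obtain ⟨v, hv, vv, v1, vz⟩ := k.ex
  obtain ⟨m, -, hm⟩ := k.one v (k.RK hv) vv v1
  obtain ⟨x, hx, y, hy, e⟩ := NIB.RowU.hR L v hv
  have e' : ((x * y : ↥(centralizer ({(z : G)} : Set G))) : G) = v := e.symm
  obtain ⟨h1, h2⟩ := NIB.FusB.factor P.s₁ P.s₂ P.zz P.z1 P.comm hx hy (Subtype.ext (by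
      show ((x * y : ↥(centralizer ({(z : G)} : Set G))) : G) *
        ((x * y : ↥(centralizer ({(z : G)} : Set G))) : G) = 1
      rw [e', vv])) (fun h1 => v1 (by rw [← e', h1]; rfl)) (fun h1 => vz (by rw [← e', h1]))
  have hm' : m⁻¹ * (z : G) * m⁻¹⁻¹ = v := by rw [← hm]; group
  exact NIB.NF.nF_of C.bal hz rfl P.s₁ P.s₂ P.comm hel zM hx hy h1 h2 (hm'.trans e) ⟨M₀, hM₀⟩ hall

/-- **the contradiction** -/
theorem false_of (hGW : SylowSp4.Hyps.GW.{u}) (I : Intr2.{u}) (hS : CaseM.IntrSign.{u}) (C : Ctx G)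
    (hcy : ∀ K : Subgroup G, Std0 G K → PRankLE 2 1 ↥(centralizer (K : Set G)) → Cyc K) (hSp : Pump.SpOrd.{u})
    (R58 : Small.Excl.Rows) (h58 : D8.HS.Elim.P1758.{u}) (S : Std G K) (hK : Nat.card K ≤ 6531840)
    (hN : ∀ b : G, orderOf b = 2 → ∀ L : Subgroup G, CompOf b L → ¬ NI3.HasY ↥L)
    (hU : ∃ (F : Type) (_ : Field F) (_ : Fintype F), Fintype.card F = 9 ∧ Nonempty (K ≃* PSU 4 F 3))
    (O : Out K t (z : G)) (h : KU z R i j k l a b) (L : Loc t (z : G) (R.map K.subtype) (i : G) j k l a b) :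
    False := by
  have hfin := C.fin
  have hz : orderOf (z : G) = 2 := orderOf_eq_prime (by rw [pow_two]; exact L.fr.zz) L.fr.z1
  have H : DiagEnd.Hyp t (z : G) (_root_.Subgroup.closure {(i : G), (j : G), (k : G), (l : G), (a : G), (b : G)}) (R.map K.subtype)
      (closure {(i : G), (j : G), (a : G)}) :=
    L.hyp C fun c hc => NIB.RefD.ref (refD C hSp S hK hN O h.f L h.rf hc) FrontLoc.Loc.JD (Diag.sn_of_conj L.nJ)
  obtain ⟨s, hs, hsz⟩ := L.s
  have κ := h.kf.kf (t := t) (Subtype.ext L.fr.zz) (fun e => L.fr.z1 (congrArg Subtype.val e)) O.Kt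
  obtain ⟨g, r, hgz, hr, rr, r1, rz, hg⟩ := κ.fus hs (NIB.FusOf.norm_R L hs hsz)
  exact EndSymG.false_of (t := t)
    (D := _root_.Subgroup.closure {(i : G), (j : G), (k : G), (l : G), (a : G), (b : G)}) (R := R.map K.subtype) R58 h58 C hz (noComp hGW I hS C hcy hSp S hK hN hU O h L)
    (fun W h1 h2 h3 => H.le_of_normal h1 h2 h3) fun F hF =>
      FrontInstE.endSym L hF (fun c hc => refE C hSp S hK hN O h.f L h.rf hc) ⟨g, r, hgz, hr, r1, rz, hg⟩
        (FrontInstE.exists_yt O.Kt O.nK h.two)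

/-- **The row `U₄(3)`** (the field `u4` of `D6.Cut.Three`) -/
theorem row (hGW : SylowSp4.Hyps.GW.{u}) (I : Intr2.{u}) (hS : CaseM.IntrSign.{u})
    (hcy : ∀ (G : Type u) [Group G], Ctx G → ∀ K : Subgroup G, Std0 G K → PRankLE 2 1 ↥(centralizer (K : Set G)) →
      Cyc K) (hSp : Pump.SpOrd.{u}) (R58 : Small.Excl.Rows) (h58 : D8.HS.Elim.P1758.{u}) (hN : NI3.NoThree.{u}) :
    D6.Cut.Row.{u} (fun X _ => ∃ (F : Type) (_ : Field F) (_ : Fintype F), Fintype.card F = 9 ∧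
      Nonempty (X ≃* PSU 4 F 3)) := by
  intro G _ C K S hC _ hX
  have hfin := C.fin
  obtain ⟨F, _, _, hF, ⟨e⟩⟩ := id hX
  have : Fact (Nat.Prime 3) := ⟨Nat.prime_three⟩
  have : CharP F 3 := charP_of_card_eq_prime_pow (f := 2) (by rw [hF]; norm_num)
  have hcard : Nat.card K ≤ 6531840 := by
    rw [Nat.card_congr e.toEquiv, U43Tw.card_K hF]; norm_num
  obtain ⟨z, R, i, j, k, l, a, b, h⟩ := exists_KU hF e
  obtain ⟨t, O⟩ := FrontBU.exists_out hF C S hC e h.f.toBase h.f.out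
  obtain ⟨a', b', f', L⟩ := FrontLoc.exists_loc O h.f
  exact false_of hGW I hS C (hcy G C) hSp R58 h58 S hcard (fun b hb L hL => hN G C b L hb hL) hX O
    ⟨f', h.two, h.rf, h.kf, h.mv⟩ L

end Cfsg.Agent.OddHalf.D6.QThree.RowU4

end
end

private theorem dce_78cab342750f : _root_.True := by
  try have : _root_.True := by simp only [_root_.Cfsg.Agent.OddHalf.D4.Small.NineAA.qt.eq_1]
  try have : _root_.True := by simp only [_root_.Cfsg.Agent.OddHalf.D4.Small.LFourK.rf.eq_1]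
  try have : _root_.True := by simp only [_root_.Cfsg.Agent.OddHalf.D6.QThree.RefData.fixO.eq_1]
  try have : _root_.True := by simp only [_root_.Cfsg.Agent.OddHalf.D4.Small.LFourK.J4.eq_1]
  try have : _root_.True := by simp only [_root_.Cfsg.Agent.OddHalf.D6.QThree.U43AutSp.TT.eq_1]
  try have : _root_.True := by simp only [_root_.Cfsg.Agent.OddHalf.D6.QThree.U43AutSp.TI.eq_1]
  try have : _root_.True := by simp only [_root_.Cfsg.Agent.OddHalf.D4.Small.LFourK.rho.eq_1]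
  try have : _root_.True := by simp only [_root_.Cfsg.Agent.OddHalf.D6.QThree.PlusOf.hom.congr_simp]
  try have : _root_.True := by simp only [_root_.Cfsg.Agent.OddHalf.D6.QThree.U43AutSp.rx.congr_simp]
  try have : _root_.True := by simp only [_root_.Cfsg.Agent.OddHalf.D6.QThree.U43AutEnv.mu.congr_simp]
  try have : _root_.True := by simp only [_root_.Cfsg.Agent.LargeExtra.W2.LFour.PslFacts.tr.congr_simp]
  try have : _root_.True := by simp only [_root_.Cfsg.Agent.OddHalf.D6.QThree.U43AutSp.io.congr_simp]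
  try have : _root_.True := by simp only [_root_.Cfsg.Agent.OddHalf.D4.Small.NineAA.p16.eq_1]
  try have : _root_.True := by simp only [_root_.Cfsg.Agent.OddHalf.D6.QThree.U43AutSp.ix.eq_1]
  try have : _root_.True := by simp only [_root_.Cfsg.Agent.OddHalf.D6.QThree.U43AutEnv.ac.congr_simp]
  exact _root_.True.intro
end
end
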